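import Mathlib
import Cfsg.Prelude

set_option autoImplicit false

namespace Cfsg.Agent.H9SURoot

open Polynomial

/-- a field with `q` elements embedded in a field with `q ^ 2` elements as the fixed points of the
`q`-th power map -/
theorem exists_field {F : Type*} [Field F] [Fintype F] {q : ℕ} (hF : Fintype.card F = q ^ 2) :
    ∃ (L : Type) (_ : Field L) (_ : Fintype L) (ι : L →+* F), Fintype.card L = q ∧
      (∀ l, (ι l) ^ q = ι l) ∧ ∀ f : F, f ^ q = f → ∃ l, ι l = f := by
  classical
  obtain ⟨p, hp⟩ := CharP.exists F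
  haveI : Fact p.Prime := ⟨CharP.char_is_prime F p⟩
  have hpp : p.Prime := Fact.out
  letI : Algebra (ZMod p) F := ZMod.algebra F p
  have hd := FiniteField.pow_finrank_eq_card p F
  obtain ⟨d, hdd⟩ : ∃ d, d = Module.finrank (ZMod p) F := ⟨_, rfl⟩
  rw [← hdd, hF] at hd
  have hq2 : 2 ≤ q := by
    have h1 : 1 < Fintype.card F := Fintype.one_lt_card
    rw [hF] at h1
    by_contra hq
    push Not at hq
    interval_cases q <;> simp at h1
  have hqdvd : q ∣ p ^ d := by
    rw [hd]
    exact dvd_pow_self q (by norm_num)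
  obtain ⟨f, _, hqf⟩ := (Nat.dvd_prime_pow hpp).mp hqdvd
  have hf0 : f ≠ 0 := by
    rintro rfl
    rw [pow_zero] at hqf
    omega
  have hdf : d = 2 * f := by
    rw [hqf, ← pow_mul] at hd
    have := Nat.pow_right_injective hpp.two_le hd
    omega
  have hdvd : Module.finrank (ZMod p) (GaloisField p f) ∣ Module.finrank (ZMod p) F := by
    rw [GaloisField.finrank p hf0, ← hdd, hdf]
    exact dvd_mul_left f 2
  obtain ⟨φ⟩ := FiniteField.nonempty_algHom_of_finrank_dvd hdvd
  haveI : Fintype (GaloisField p f) := Fintype.ofFinite _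
  have hcardL : Fintype.card (GaloisField p f) = q := by
    rw [← Nat.card_eq_fintype_card, GaloisField.card p f hf0, hqf]
  refine ⟨GaloisField p f, inferInstance, inferInstance, φ.toRingHom, hcardL, ?_, ?_⟩
  · intro l
    show (φ l) ^ q = φ l
    rw [← map_pow, ← hcardL, FiniteField.pow_card]
  · intro x hx
    have hne : (X ^ q - X : F[X]) ≠ 0 := FiniteField.X_pow_card_sub_X_ne_zero F (by omega)
    have hdeg : (X ^ q - X : F[X]).natDegree = q :=
      FiniteField.X_pow_card_sub_X_natDegree_eq F (by omega)
    have hsub : (Finset.univ.image φ : Finset F) ⊆ (X ^ q - X : F[X]).roots.toFinset := by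
      intro y hy
      obtain ⟨l, _, rfl⟩ := Finset.mem_image.mp hy
      rw [Multiset.mem_toFinset, mem_roots hne, IsRoot.def, eval_sub, eval_pow, eval_X, ← map_pow,
        ← hcardL, FiniteField.pow_card, sub_self]
    have hcard : (X ^ q - X : F[X]).roots.toFinset.card ≤ (Finset.univ.image φ : Finset F).card := by
      rw [Finset.card_image_of_injective _ (show Function.Injective (⇑φ) from φ.toRingHom.injective),
        Finset.card_univ, hcardL]
      calc (X ^ q - X : F[X]).roots.toFinset.card ≤ (X ^ q - X : F[X]).roots.card :=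
            Multiset.toFinset_card_le _
        _ ≤ (X ^ q - X : F[X]).natDegree := card_roots' _
        _ = q := hdeg
    have heq := Finset.eq_of_subset_of_card_le hsub hcard
    have hx' : x ∈ (X ^ q - X : F[X]).roots.toFinset := by
      rw [Multiset.mem_toFinset, mem_roots hne, IsRoot.def, eval_sub, eval_pow, eval_X, hx, sub_self]
    rw [← heq] at hx'
    obtain ⟨l, _, hl⟩ := Finset.mem_image.mp hx'
    exact ⟨l, hl⟩

end Cfsg.Agent.H9SURoot
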