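import Mathlib
import Cfsg.Agent.Lib.Helper3.HigF1

set_option autoImplicit false
set_option linter.unusedSectionVars false
set_option linter.style.haveILetI false

/-!
Suzuki 2-groups, part 1 (field part): twisted conjugation of additive maps of a finite field of
characteristic two, and a family separating two Frobenius-twisted characters.
-/

namespace Cfsg.Agent.H9SZ

open Cfsg.Agent.Lib.Helper3.Hig Polynomial

/-- number theory: `1 + 2^s = 2^t + 2^j` -/
theorem nt_eq {s t j : ℕ} (h : 1 + 2 ^ s = 2 ^ t + 2 ^ j) :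
    (s = 0 ∧ t = 0 ∧ j = 0) ∨ (t = 0 ∧ s = j) ∨ (j = 0 ∧ s = t) := by
  rcases Nat.eq_zero_or_pos s with hs | hs
  · subst hs
    have ht : 2 ^ t = 1 := by
      have h1 : 1 ≤ 2 ^ t := Nat.one_le_two_pow
      have h2 : 1 ≤ 2 ^ j := Nat.one_le_two_pow
      rw [pow_zero] at h; omega
    have hj : 2 ^ j = 1 := by
      have h1 : 1 ≤ 2 ^ t := Nat.one_le_two_pow
      have h2 : 1 ≤ 2 ^ j := Nat.one_le_two_pow
      rw [pow_zero] at h; omega
    left
    refine ⟨rfl, ?_, ?_⟩
    · exact (Nat.pow_eq_one.mp ht).resolve_left (by norm_num)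
    · exact (Nat.pow_eq_one.mp hj).resolve_left (by norm_num)
  · have hse : 2 ∣ 2 ^ s := dvd_pow_self 2 (by omega)
    rcases Nat.eq_zero_or_pos t with ht | ht
    · subst ht
      right; left
      refine ⟨rfl, ?_⟩
      have : 2 ^ s = 2 ^ j := by rw [pow_zero] at h; omega
      exact Nat.pow_right_injective (le_refl 2) this
    · rcases Nat.eq_zero_or_pos j with hj | hj
      · subst hj
        right; right
        refine ⟨rfl, ?_⟩
        have : 2 ^ s = 2 ^ t := by rw [pow_zero] at h; omega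
        exact Nat.pow_right_injective (le_refl 2) this
      · exfalso
        have hte : 2 ∣ 2 ^ t := dvd_pow_self 2 (by omega)
        have hje : 2 ∣ 2 ^ j := dvd_pow_self 2 (by omega)
        omega

/-- number theory: the congruence version -/
theorem nt_modEq {n s t j : ℕ} (hn : 1 ≤ n) (hs : s < n) (ht : t < n) (hj : j < n)
    (h : 1 + 2 ^ s ≡ 2 ^ t + 2 ^ j [MOD 2 ^ n - 1]) :
    (s = 0 ∧ t = 0 ∧ j = 0) ∨ (t = 0 ∧ s = j) ∨ (j = 0 ∧ s = t) := by
  apply nt_eq
  obtain ⟨m, rfl⟩ : ∃ m, n = m + 1 := ⟨n - 1, by omega⟩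
  have b : ∀ r, r < m + 1 → 2 ^ r ≤ 2 ^ m := fun r hr =>
    Nat.pow_le_pow_right (by norm_num) (by omega)
  have hs' := b s hs
  have ht' := b t ht
  have hj' := b j hj
  have e : 2 ^ (m + 1) = 2 * 2 ^ m := by rw [pow_succ]; ring
  have h1s : 1 ≤ 2 ^ s := Nat.one_le_two_pow
  have h1t : 1 ≤ 2 ^ t := Nat.one_le_two_pow
  have h1j : 1 ≤ 2 ^ j := Nat.one_le_two_pow
  have h1m : 1 ≤ 2 ^ m := Nat.one_le_two_pow
  rcases le_total (1 + 2 ^ s) (2 ^ t + 2 ^ j) with hle | hle
  · have hd := (Nat.modEq_iff_dvd' hle).mp h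
    have hlt : 2 ^ t + 2 ^ j - (1 + 2 ^ s) < 2 ^ (m + 1) - 1 := by omega
    have := Nat.eq_zero_of_dvd_of_lt hd hlt
    omega
  · have hd := (Nat.modEq_iff_dvd' hle).mp h.symm
    have hlt : 1 + 2 ^ s - (2 ^ t + 2 ^ j) < 2 ^ (m + 1) - 1 := by omega
    have := Nat.eq_zero_of_dvd_of_lt hd hlt
    omega

/-- final number theoretic conclusion -/
theorem nt_final {n i j t : ℕ} (hi : i < n) (hj : j < n) (ht : t < n)
    (h : 1 + 2 ^ ((i + t) % n) ≡ 2 ^ t + 2 ^ j [MOD 2 ^ n - 1]) : i = j := by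
  have hn : 1 ≤ n := by omega
  have hs : (i + t) % n < n := Nat.mod_lt _ (by omega)
  rcases nt_modEq hn hs ht hj h with ⟨h1, h2, h3⟩ | ⟨h1, h2⟩ | ⟨h1, h2⟩
  · subst h2
    rw [add_zero, Nat.mod_eq_of_lt hi] at h1
    omega
  · subst h1
    rw [add_zero, Nat.mod_eq_of_lt hi] at h2
    exact h2
  · subst h1
    rcases lt_or_ge (i + t) n with hlt | hge
    · rw [Nat.mod_eq_of_lt hlt] at h2
      omega
    · have : (i + t) % n = i + t - n := by
        rw [Nat.mod_eq_sub_mod hge, Nat.mod_eq_of_lt (by omega)]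
      rw [this] at h2
      omega

variable {F : Type*} [Field F] [Fintype F] [CharP F 2]

/-- twisted conjugation of a self-map of the field -/
def tw (k : F) (f : F → F) : F → F := fun u => k * f (k⁻¹ * u)

/-- the multiplier `k^(1 - 2^i)` -/
def mu (i : ℕ) (k : F) : F := k * (k⁻¹) ^ (2 ^ i)

theorem mu_mul (i : ℕ) (k k' : F) : mu i (k * k') = mu i k * mu i k' := by
  unfold mu
  rw [mul_inv, mul_pow]
  ring

theorem mu_one (i : ℕ) : mu i (1 : F) = 1 := by
  unfold mu
  rw [inv_one, one_pow, one_mul]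

theorem mu_pow (i : ℕ) (k : F) (l : ℕ) : mu i (k ^ l) = mu i k ^ l := by
  induction l with
  | zero => rw [pow_zero, pow_zero, mu_one]
  | succ l ih => rw [pow_succ, pow_succ, mu_mul, ih]

theorem tw_linFun {n : ℕ} (c : Fin n → F) (k : F) :
    tw k (linFun c) = linFun (fun i => c i * mu (i : ℕ) k) := by
  funext u
  unfold tw linFun mu
  rw [Finset.mul_sum]
  apply Finset.sum_congr rfl
  intro i _
  rw [mul_pow]
  ring

theorem tw_add (k : F) (f g : F → F) : tw k (f + g) = tw k f + tw k g := by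
  funext u
  simp only [tw, Pi.add_apply, mul_add]

theorem tw_zero (k : F) : tw k (0 : F → F) = 0 := by
  funext u
  simp only [tw, Pi.zero_apply, mul_zero]

theorem tw_sum {ι : Type*} (s : Finset ι) (k : ι → F) (f : F → F) (u : F) :
    (∑ l ∈ s, tw (k l) f) u = ∑ l ∈ s, tw (k l) f u := by
  rw [Finset.sum_apply]

theorem linFun_add_coeff' {n : ℕ} (c c' : Fin n → F) :
    linFun (c + c') = linFun c + linFun c' := by
  funext u
  unfold linFun
  rw [Pi.add_apply, ← Finset.sum_add_distrib]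
  apply Finset.sum_congr rfl
  intro i _
  rw [Pi.add_apply, add_mul]

theorem linFun_zero_coeff {n : ℕ} : linFun (0 : Fin n → F) = 0 := by
  funext u
  unfold linFun
  simp

theorem linFun_neg_coeff {n : ℕ} (c : Fin n → F) : linFun (-c) = -linFun c := by
  funext u
  unfold linFun
  rw [Pi.neg_apply, ← Finset.sum_neg_distrib]
  apply Finset.sum_congr rfl
  intro i _
  rw [Pi.neg_apply, neg_mul]

theorem linFun_sum_coeff {n : ℕ} {ι : Type*} (s : Finset ι) (c : ι → Fin n → F) :
    linFun (∑ l ∈ s, c l) = ∑ l ∈ s, linFun (c l) := by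
  classical
  induction s using Finset.induction_on with
  | empty => simp [linFun_zero_coeff]
  | insert a s ha ih => rw [Finset.sum_insert ha, Finset.sum_insert ha, linFun_add_coeff', ih]

theorem pow_two_pow_add_mul {n : ℕ} (hF : Fintype.card F = 2 ^ n) (x : F) (r d : ℕ) :
    x ^ 2 ^ (r + n * d) = x ^ 2 ^ r := by
  induction d with
  | zero => rw [mul_zero, add_zero]
  | succ d ih =>
    have : r + n * (d + 1) = (r + n * d) + n := by ring
    rw [this, pow_add, pow_mul, ih, ← pow_mul, mul_comm, pow_mul, ← hF, FiniteField.pow_card]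

theorem pow_two_pow_mod {n : ℕ} (hF : Fintype.card F = 2 ^ n) (x : F) (r : ℕ) :
    x ^ 2 ^ r = x ^ 2 ^ (r % n) := by
  conv_lhs => rw [← Nat.mod_add_div r n]
  exact pow_two_pow_add_mul hF x _ _

end Cfsg.Agent.H9SZ
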