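import Mathlib
import Cfsg.Agent.Lib.Helper9.SZ1

set_option autoImplicit false
set_option linter.unusedSectionVars false
set_option linter.style.haveILetI false

/-!
Suzuki 2-groups, part 2 (field part): the separating family and the injectivity of the elements
of an irreducible twisted-invariant group of additive maps.
-/

namespace Cfsg.Agent.H9SZ

open Cfsg.Agent.Lib.Helper3.Hig Polynomial

variable {F : Type*} [Field F] [Fintype F] [CharP F 2]

/-- the Frobenius-orbit polynomial -/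
noncomputable def orbPoly (n : ℕ) (α : F) : F[X] := ∏ t ∈ Finset.range n, (X - C (α ^ 2 ^ t))

theorem orbPoly_map_frob {n : ℕ} (hF : Fintype.card F = 2 ^ n) (α : F) :
    (orbPoly n α).map (frobenius F 2) = orbPoly n α := by
  unfold orbPoly
  rw [Polynomial.map_prod]
  have h1 : ∀ t ∈ Finset.range n,
      (X - C (α ^ 2 ^ t) : F[X]).map (frobenius F 2) = X - C (α ^ 2 ^ (t + 1)) := by
    intro t _
    rw [Polynomial.map_sub, Polynomial.map_X, Polynomial.map_C, frobenius_def, ← pow_mul,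
      ← pow_succ]
  rw [Finset.prod_congr rfl h1]
  have h2 := Finset.prod_range_succ (fun t => (X - C (α ^ 2 ^ t) : F[X])) n
  have h3 := Finset.prod_range_succ' (fun t => (X - C (α ^ 2 ^ t) : F[X])) n
  have h4 : (X - C (α ^ 2 ^ n) : F[X]) = X - C (α ^ 2 ^ 0) := by
    rw [pow_zero, pow_one, ← hF, FiniteField.pow_card]
  rw [h2, h4] at h3
  exact (mul_right_cancel₀ (X_sub_C_ne_zero _) h3).symm

theorem orbPoly_coeff {n : ℕ} (hF : Fintype.card F = 2 ^ n) (α : F) (l : ℕ) :
    (orbPoly n α).coeff l = 0 ∨ (orbPoly n α).coeff l = 1 := by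
  have h := congrArg (fun p => p.coeff l) (orbPoly_map_frob hF α)
  simp only [Polynomial.coeff_map, frobenius_def] at h
  have : (orbPoly n α).coeff l * ((orbPoly n α).coeff l - 1) = 0 := by
    rw [mul_sub, mul_one, ← sq, h, sub_self]
  rcases mul_eq_zero.mp this with h0 | h1
  · exact Or.inl h0
  · exact Or.inr (sub_eq_zero.mp h1)

theorem orbPoly_eval {n : ℕ} (hF : Fintype.card F = 2 ^ n) (α x : F) :
    (orbPoly n α).eval x = ∑ l ∈ (orbPoly n α).support, x ^ l := by
  rw [Polynomial.eval_eq_sum, Polynomial.sum_def]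
  apply Finset.sum_congr rfl
  intro l hl
  rcases orbPoly_coeff hF α l with h0 | h1
  · exact absurd h0 (Polynomial.mem_support_iff.mp hl)
  · rw [h1, one_mul]

theorem orbPoly_eval_prod (n : ℕ) (α x : F) :
    (orbPoly n α).eval x = ∏ t ∈ Finset.range n, (x - α ^ 2 ^ t) := by
  unfold orbPoly
  rw [Polynomial.eval_prod]
  apply Finset.prod_congr rfl
  intro t _
  rw [Polynomial.eval_sub, Polynomial.eval_X, Polynomial.eval_C]

/-- the separating family -/
theorem exists_family {n : ℕ} (hF : Fintype.card F = 2 ^ n) {i j : ℕ} (hi : i < n) (hj : j < n)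
    (hij : i ≠ j) :
    ∃ (s : Finset ℕ) (a : F), a ≠ 0 ∧ ∑ l ∈ s, mu i (a ^ l) = 0 ∧ ∑ l ∈ s, mu j (a ^ l) ≠ 0 := by
  classical
  obtain ⟨g, hg⟩ := IsCyclic.exists_generator (α := Fˣ)
  have hord : orderOf g = 2 ^ n - 1 := by
    rw [orderOf_eq_card_of_forall_mem_zpowers hg, Nat.card_eq_fintype_card, Fintype.card_units, hF]
  have ha : (g : F) ≠ 0 := g.ne_zero
  refine ⟨(orbPoly n (mu i (g : F))).support, (g : F), ha, ?_, ?_⟩
  · have e : ∑ l ∈ (orbPoly n (mu i (g : F))).support, mu i ((g : F) ^ l) =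
        (orbPoly n (mu i (g : F))).eval (mu i (g : F)) := by
      rw [orbPoly_eval hF]
      apply Finset.sum_congr rfl
      intro l _
      rw [mu_pow]
    rw [e, orbPoly_eval_prod]
    apply Finset.prod_eq_zero (Finset.mem_range.mpr (show 0 < n by omega))
    rw [pow_zero, pow_one, sub_self]
  · have e : ∑ l ∈ (orbPoly n (mu i (g : F))).support, mu j ((g : F) ^ l) =
        (orbPoly n (mu i (g : F))).eval (mu j (g : F)) := by
      rw [orbPoly_eval hF]
      apply Finset.sum_congr rfl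
      intro l _
      rw [mu_pow]
    rw [e, orbPoly_eval_prod, Finset.prod_ne_zero_iff]
    intro t ht heq
    rw [Finset.mem_range] at ht
    have hβ : mu j (g : F) = mu i (g : F) ^ 2 ^ t := sub_eq_zero.mp heq
    apply hij
    have e1 : (g : F) ^ (1 + 2 ^ (i + t)) = (g : F) ^ (2 ^ t + 2 ^ j) := by
      have h0 := congrArg (fun z => z * ((g : F) ^ 2 ^ j * (g : F) ^ 2 ^ (i + t))) hβ
      simp only [mu] at h0
      have hL : (g : F) * (g : F)⁻¹ ^ 2 ^ j * ((g : F) ^ 2 ^ j * (g : F) ^ 2 ^ (i + t)) =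
          (g : F) * (g : F) ^ 2 ^ (i + t) := by
        rw [inv_pow]
        field_simp
      have hR : ((g : F) * (g : F)⁻¹ ^ 2 ^ i) ^ 2 ^ t *
          ((g : F) ^ 2 ^ j * (g : F) ^ 2 ^ (i + t)) = (g : F) ^ 2 ^ t * (g : F) ^ 2 ^ j := by
        rw [mul_pow, ← pow_mul, ← pow_add, inv_pow]
        field_simp
      rw [pow_add (g : F) 1 (2 ^ (i + t)), pow_add (g : F) (2 ^ t) (2 ^ j), pow_one, ← hL, ← hR]
      exact h0
    have e2 : (g : F) ^ (1 + 2 ^ ((i + t) % n)) = (g : F) ^ (2 ^ t + 2 ^ j) := by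
      rw [pow_add (g : F) 1 (2 ^ ((i + t) % n)), ← pow_two_pow_mod hF, ← pow_add]
      exact e1
    have e3 : g ^ (1 + 2 ^ ((i + t) % n)) = g ^ (2 ^ t + 2 ^ j) := by
      apply Units.ext
      rw [Units.val_pow_eq_pow_val, Units.val_pow_eq_pow_val]
      exact e2
    have e4 := pow_eq_pow_iff_modEq.mp e3
    rw [hord] at e4
    exact nt_final hi hj ht e4

end Cfsg.Agent.H9SZ
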