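import Mathlib
import Cfsg.Agent.Lib.Helper9.SZ2

set_option autoImplicit false
set_option linter.unusedSectionVars false
set_option linter.style.haveILetI false

/-!
Suzuki 2-groups, part 3 (field part): the elements of an irreducible twisted-invariant group of
additive maps are injective.
-/

namespace Cfsg.Agent.H9SZ

open Cfsg.Agent.Lib.Helper3.Hig Polynomial

variable {F : Type*} [Field F] [Fintype F] [CharP F 2]

theorem monomial_injective {c : F} (hc : c ≠ 0) (i : ℕ) :
    Function.Injective (fun u : F => c * u ^ 2 ^ i) := by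
  haveI : Fact (Nat.Prime 2) := ⟨Nat.prime_two⟩
  intro u v h
  have h1 : u ^ 2 ^ i = v ^ 2 ^ i := mul_left_cancel₀ hc h
  have h2 : (u - v) ^ 2 ^ i = 0 := by rw [sub_pow_char_pow, h1, sub_self]
  exact sub_eq_zero.mp (pow_eq_zero_iff (by positivity) |>.mp h2)

theorem injective_of_irreducible {n : ℕ} (hF : Fintype.card F = 2 ^ n)
    (V : AddSubgroup (F → F))
    (hadd : ∀ f ∈ V, ∀ u v, f (u + v) = f u + f v)
    (hinv : ∀ k : F, k ≠ 0 → ∀ f ∈ V, tw k f ∈ V)
    (hirr : ∀ W : AddSubgroup (F → F), W ≤ V →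
      (∀ k : F, k ≠ 0 → ∀ f ∈ W, tw k f ∈ W) → W = ⊥ ∨ W = V)
    {f : F → F} (hf : f ∈ V) (hf0 : f ≠ 0) : Function.Injective f := by
  classical
  obtain ⟨c, hc⟩ := exists_linFun hF f (hadd f hf)
  have hfc : f = linFun c := funext hc
  by_cases h2 : ∃ i j : Fin n, i ≠ j ∧ c i ≠ 0 ∧ c j ≠ 0
  · exfalso
    obtain ⟨i, j, hij, hci, hcj⟩ := h2
    let W : AddSubgroup (F → F) :=
      { carrier := {h | h ∈ V ∧ ∃ c' : Fin n → F, c' i = 0 ∧ h = linFun c'}
        zero_mem' := ⟨V.zero_mem, 0, rfl, linFun_zero_coeff.symm⟩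
        add_mem' := by
          rintro a b ⟨ha, ca, hca, rfl⟩ ⟨hb, cb, hcb, rfl⟩
          refine ⟨V.add_mem ha hb, ca + cb, ?_, (linFun_add_coeff' ca cb).symm⟩
          rw [Pi.add_apply, hca, hcb, add_zero]
        neg_mem' := by
          rintro a ⟨ha, ca, hca, rfl⟩
          refine ⟨V.neg_mem ha, -ca, ?_, (linFun_neg_coeff ca).symm⟩
          rw [Pi.neg_apply, hca, neg_zero] }
    have hWV : W ≤ V := fun h hh => hh.1
    have hWinv : ∀ k : F, k ≠ 0 → ∀ h ∈ W, tw k h ∈ W := by
      rintro k hk h ⟨hh, c', hc', rfl⟩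
      refine ⟨hinv k hk _ hh, fun i' => c' i' * mu (i' : ℕ) k, ?_, tw_linFun c' k⟩
      show c' i * mu (i : ℕ) k = 0
      rw [hc', zero_mul]
    have hfW : f ∉ W := by
      rintro ⟨-, c', hc', he⟩
      have : c = c' := linFun_injective hF (fun u => by rw [← hfc, he])
      exact hci (this ▸ hc')
    rcases hirr W hWV hWinv with hbot | htop
    · obtain ⟨s, a, ha, hs0, hs1⟩ :=
        exists_family hF i.2 j.2 (fun e => hij (Fin.ext e))
      have hg : ∑ l ∈ s, tw (a ^ l) f =
          linFun (fun i' : Fin n => c i' * ∑ l ∈ s, mu (i' : ℕ) (a ^ l)) := by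
        have e1 : ∀ l ∈ s, tw (a ^ l) f = linFun (fun i' : Fin n => c i' * mu (i' : ℕ) (a ^ l)) := by
          intro l _
          rw [hfc, tw_linFun]
        rw [Finset.sum_congr rfl e1, ← linFun_sum_coeff]
        congr 1
        funext i'
        rw [Finset.sum_apply, Finset.mul_sum]
      have hgV : ∑ l ∈ s, tw (a ^ l) f ∈ V :=
        V.sum_mem (fun l _ => hinv _ (pow_ne_zero l ha) f hf)
      have hgW : ∑ l ∈ s, tw (a ^ l) f ∈ W := by
        refine ⟨hgV, _, ?_, hg⟩
        show c i * ∑ l ∈ s, mu (i : ℕ) (a ^ l) = 0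
        rw [hs0, mul_zero]
      rw [hbot, AddSubgroup.mem_bot] at hgW
      have h0 : (fun i' : Fin n => c i' * ∑ l ∈ s, mu (i' : ℕ) (a ^ l)) = 0 := by
        apply linFun_injective hF
        intro u
        rw [← hg, hgW, linFun_zero_coeff]
      have := congrFun h0 j
      simp only [Pi.zero_apply] at this
      rcases mul_eq_zero.mp this with h | h
      · exact hcj h
      · exact hs1 h
    · exact hfW (htop ▸ hf)
  · push Not at h2
    have hex : ∃ i₀ : Fin n, c i₀ ≠ 0 := by
      by_contra hne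
      push Not at hne
      apply hf0
      rw [hfc]
      have : c = 0 := funext hne
      rw [this, linFun_zero_coeff]
    obtain ⟨i₀, hi₀⟩ := hex
    have hmono : f = fun u : F => c i₀ * u ^ 2 ^ (i₀ : ℕ) := by
      funext u
      rw [hc u]
      unfold linFun
      apply Finset.sum_eq_single i₀
      · intro b _ hb
        rw [h2 i₀ b (Ne.symm hb) hi₀, zero_mul]
      · intro h
        exact absurd (Finset.mem_univ _) h
    rw [hmono]
    exact monomial_injective hi₀ _

end Cfsg.Agent.H9SZ
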