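import Mathlib
import Cfsg.Agent.Lib.Helper3.Hig8

set_option autoImplicit false
set_option linter.unusedSectionVars false
set_option linter.style.haveILetI false

/-!
Suzuki 2-groups, part 5: invariant subgroups, restriction of the action, fixed points.
-/

namespace Cfsg.Agent.H9SZ

open Cfsg.Agent.Lib.Helper3.Hig
open scoped commutatorElement

universe u v

variable {K : Type v} [Group K] {P : Type u} [Group P]

/-- a subgroup invariant under the action -/
def Inv (φ : K →* MulAut P) (H : Subgroup P) : Prop := ∀ k, ∀ x ∈ H, φ k x ∈ H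

theorem Inv.mem_iff {φ : K →* MulAut P} {H : Subgroup P} (hH : Inv φ H) (k : K) (x : P) :
    φ k x ∈ H ↔ x ∈ H := by
  constructor
  · intro hx
    have := hH k⁻¹ _ hx
    rwa [← MulAut.mul_apply, ← map_mul, inv_mul_cancel, map_one] at this
  · exact hH k x

theorem inv_top (φ : K →* MulAut P) : Inv φ ⊤ := fun _ _ _ => Subgroup.mem_top _

theorem Inv.inf {φ : K →* MulAut P} {H H' : Subgroup P} (hH : Inv φ H) (hH' : Inv φ H') :
    Inv φ (H ⊓ H') := fun k x hx =>
  Subgroup.mem_inf.mpr ⟨hH k x (Subgroup.mem_inf.mp hx).1, hH' k x (Subgroup.mem_inf.mp hx).2⟩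

theorem Inv.sup {φ : K →* MulAut P} {H H' : Subgroup P} (hH : Inv φ H) (hH' : Inv φ H') :
    Inv φ (H ⊔ H') := by
  intro k x hx
  have : H ⊔ H' ≤ (H ⊔ H').comap ((φ k : P ≃* P) : P →* P) := by
    apply sup_le
    · intro y hy
      exact Subgroup.mem_comap.mpr ((le_sup_left : H ≤ H ⊔ H') (hH k y hy))
    · intro y hy
      exact Subgroup.mem_comap.mpr ((le_sup_right : H' ≤ H ⊔ H') (hH' k y hy))
  exact this hx

theorem Inv.centralizer {φ : K →* MulAut P} {H : Subgroup P} (hH : Inv φ H) :
    Inv φ (Subgroup.centralizer (H : Set P)) := by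
  intro k x hx
  rw [Subgroup.mem_centralizer_iff] at hx ⊢
  intro y hy
  have hy' : φ k⁻¹ y ∈ H := hH k⁻¹ y hy
  have e : φ k (φ k⁻¹ y) = y := by
    rw [← MulAut.mul_apply, ← map_mul, mul_inv_cancel, map_one]; rfl
  have := congrArg (φ k) (hx _ hy')
  rwa [map_mul, map_mul, e] at this

/-- the restriction of the action to an invariant subgroup -/
def resHom (φ : K →* MulAut P) (H : Subgroup P) (hH : Inv φ H) : K →* MulAut ↥H where
  toFun k :=
    { toFun := fun z => ⟨φ k z, hH k z z.2⟩
      invFun := fun z => ⟨φ k⁻¹ z, hH k⁻¹ z z.2⟩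
      left_inv := by
        intro z
        apply Subtype.ext
        show φ k⁻¹ (φ k z) = z
        rw [← MulAut.mul_apply, ← map_mul, inv_mul_cancel, map_one]
        rfl
      right_inv := by
        intro z
        apply Subtype.ext
        show φ k (φ k⁻¹ z) = z
        rw [← MulAut.mul_apply, ← map_mul, mul_inv_cancel, map_one]
        rfl
      map_mul' := by
        intro a b
        apply Subtype.ext
        show φ k (a * b) = φ k a * φ k b
        rw [map_mul] }
  map_one' := by
    ext z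
    show φ 1 z = z
    rw [map_one]
    rfl
  map_mul' k k' := by
    ext z
    show φ (k * k') z = φ k (φ k' z)
    rw [map_mul]
    rfl

theorem resHom_apply (φ : K →* MulAut P) (H : Subgroup P) (hH : Inv φ H) (k : K) (z : H) :
    ((resHom φ H hH k z : H) : P) = φ k z := rfl

variable {φ : K →* MulAut P} (h : Reg φ)

include h in
/-- the restricted action is again regular on the involutions -/
theorem reg_res (H : Subgroup P) (hH : Inv φ H) (hZ : h.Zs ≤ H) : Reg (resHom φ H hH) := by
  haveI := h.fin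
  refine ⟨h.comm, inferInstance, h.two.to_subgroup H, ?_, ?_⟩
  · obtain ⟨x, y, hxy, hx1, hx2, hy1, hy2⟩ := h.many
    refine ⟨⟨x, hZ hx2⟩, ⟨y, hZ hy2⟩, ?_, ?_, ?_, ?_, ?_⟩
    · intro e; exact hxy (congrArg Subtype.val e)
    · intro e; exact hx1 (congrArg Subtype.val e)
    · exact Subtype.ext hx2
    · intro e; exact hy1 (congrArg Subtype.val e)
    · exact Subtype.ext hy2
  · intro x y hx1 hx2 hy1 hy2
    have hx1' : (x : P) ≠ 1 := fun e => hx1 (Subtype.ext e)
    have hy1' : (y : P) ≠ 1 := fun e => hy1 (Subtype.ext e)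
    have hx2' : (x : P) * x = 1 := congrArg Subtype.val hx2
    have hy2' : (y : P) * y = 1 := congrArg Subtype.val hy2
    obtain ⟨k, hk, huniq⟩ := h.reg x y hx1' hx2' hy1' hy2'
    refine ⟨k, Subtype.ext hk, ?_⟩
    intro k' hk'
    exact huniq k' (congrArg Subtype.val hk')

include h in
/-- in the non-abelian case the centre consists of the elements of order at most two -/
theorem center_le_Zs (hna : ∃ x y : P, x * y ≠ y * x) : Subgroup.center P ≤ h.Zs := by
  intro c hc
  by_contra hne
  obtain ⟨x, y, hxy⟩ := hna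
  exact hxy (abelian_of_central_four _ P φ rfl h ⟨c, hc, hne⟩ x y)

include h in
/-- the acting group is not trivial -/
theorem exists_ne_one : ∃ k : K, k ≠ 1 := by
  obtain ⟨x, y, hxy, hx1, hx2, hy1, hy2⟩ := h.many
  obtain ⟨k, hk, -⟩ := h.reg x y hx1 hx2 hy1 hy2
  refine ⟨k, ?_⟩
  rintro rfl
  apply hxy
  rw [← hk, map_one]
  rfl

include h in
/-- lifting of fixed points: an element fixed modulo an abelian invariant subgroup lies in it -/
theorem mem_of_fixed_mod (A : Subgroup P) (hA : Inv φ A) (hab : ∀ a ∈ A, ∀ b ∈ A, a * b = b * a)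
    {k : K} (hk : k ≠ 1) {x : P} (hx : x⁻¹ * φ k x ∈ A) : x ∈ A := by
  haveI := h.fin
  let θ : A → A := fun c => ⟨c * (φ k c)⁻¹, A.mul_mem c.2 (A.inv_mem (hA k c c.2))⟩
  have hθ : Function.Injective θ := by
    intro c c' e
    have e' : (c : P) * (φ k c)⁻¹ = c' * (φ k c')⁻¹ := congrArg Subtype.val e
    have hfix : φ k ((c' : P)⁻¹ * c) = (c' : P)⁻¹ * c := by
      rw [map_mul, map_inv]
      have h1 := hab _ c.2 _ (A.inv_mem (hA k c c.2))
      have h2 : (c : P) = c' * (φ k c')⁻¹ * φ k c := by rw [← e', inv_mul_cancel_right]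
      have h3 := hab _ (A.inv_mem (hA k c' c'.2)) _ (hA k c c.2)
      calc (φ k c')⁻¹ * φ k c = (c' : P)⁻¹ * (c' * (φ k c')⁻¹ * φ k c) := by group
        _ = (c' : P)⁻¹ * c := by rw [← h2]
    by_contra hne
    have hne' : (c' : P)⁻¹ * c ≠ 1 := by
      intro e1
      apply hne
      apply Subtype.ext
      have := congrArg (fun z => (c' : P) * z) e1
      simpa using this
    exact hk (h.fixed hfix hne')
  obtain ⟨c, hc⟩ := (Finite.injective_iff_surjective.mp hθ) ⟨x⁻¹ * φ k x, hx⟩
  have hc' : (c : P) * (φ k c)⁻¹ = x⁻¹ * φ k x := congrArg Subtype.val hc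
  have hfix : φ k (x * c) = x * c := by
    rw [map_mul]
    have : φ k x = x * (c * (φ k c)⁻¹) := by rw [hc', mul_inv_cancel_left]
    rw [this]
    group
  by_cases h1 : x * c = 1
  · have : x = (c : P)⁻¹ := eq_inv_of_mul_eq_one_left h1
    rw [this]
    exact A.inv_mem c.2
  · exact absurd (h.fixed hfix h1) hk

end Cfsg.Agent.H9SZ
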