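import Mathlib
import Cfsg.Agent.Lib.Helper9.SZ5

set_option autoImplicit false
set_option linter.unusedSectionVars false
set_option linter.style.haveILetI false

/-!
Suzuki 2-groups, part 6: the second centre, the subgroup of squares, and the subgroup `N`.
-/

namespace Cfsg.Agent.H9SZ

open Cfsg.Agent.Lib.Helper3.Hig
open scoped commutatorElement

universe u v

/-- a non-trivial normal subgroup of a finite `p`-group contains a non-trivial central element -/
theorem exists_central_mem_of_normal {G : Type*} [Group G] [Finite G] {p : ℕ} [Fact p.Prime]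
    (hG : IsPGroup p G) (X : Subgroup G) [X.Normal] (hX : X ≠ ⊥) :
    ∃ x ∈ X, x ≠ 1 ∧ x ∈ Subgroup.center G := by
  have hGc : IsPGroup p (ConjAct G) := hG
  have hdvd : p ∣ Nat.card X := by
    rcases (hG.to_subgroup X).card_eq_or_dvd with h1 | h1
    · exact absurd (Subgroup.card_eq_one.mp h1) hX
    · exact h1
  have hfix : (1 : X) ∈ MulAction.fixedPoints (ConjAct G) X := by
    intro g
    exact smul_one g
  obtain ⟨b, hb, hne⟩ := hGc.exists_fixed_point_of_prime_dvd_card_of_fixed_point (α := X) hdvd hfix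
  refine ⟨b, b.2, ?_, ?_⟩
  · intro e
    exact hne (Subtype.ext e.symm)
  · rw [Subgroup.mem_center_iff]
    intro g
    have := congrArg Subtype.val (hb (ConjAct.toConjAct g))
    rw [ConjAct.Subgroup.val_conj_smul, ConjAct.toConjAct_smul] at this
    calc g * (b : G) = (g * b * g⁻¹) * g := by group
      _ = b * g := by rw [this]

variable {K : Type v} [Group K] {P : Type u} [Group P]

variable {φ : K →* MulAut P} (h : Reg φ)

/-- the second centre -/
def Z2 : Subgroup P where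
  carrier := {g | ∀ y, ⁅g, y⁆ ∈ h.Zs}
  one_mem' := by
    intro y
    rw [commutatorElement_one_left]
    exact one_mem _
  mul_mem' := by
    intro a b ha hb y
    rw [comm_mul_left_of_central (h.Zs_le_center (hb y))]
    exact mul_mem (hb y) (ha y)
  inv_mem' := by
    intro a ha y
    have e : ⁅a⁻¹, y⁆ = a⁻¹ * ⁅a, y⁆⁻¹ * a := by
      simp only [commutatorElement_def]; group
    have hc := h.Zs_le_center (inv_mem (ha y))
    show ⁅a⁻¹, y⁆ ∈ h.Zs
    rw [e, (Subgroup.mem_center_iff.mp hc) a⁻¹, inv_mul_cancel_right]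
    exact inv_mem (ha y)

theorem mem_Z2 {g : P} : g ∈ Z2 h ↔ ∀ y, ⁅g, y⁆ ∈ h.Zs := Iff.rfl

theorem Zs_le_Z2 : h.Zs ≤ Z2 h := by
  intro z hz y
  rw [comm_eq_one_of_central (h.Zs_le_center hz)]
  exact one_mem _

theorem comm_central {g : P} (hg : g ∈ Z2 h) (y : P) : ⁅g, y⁆ ∈ Subgroup.center P :=
  h.Zs_le_center (hg y)

theorem comm_sq {g : P} (hg : g ∈ Z2 h) (y : P) : ⁅g, y⁆ * ⁅g, y⁆ = 1 := hg y

theorem comm_mul_left {g g' : P} (hg : g ∈ Z2 h) (hg' : g' ∈ Z2 h) (y : P) :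
    ⁅g * g', y⁆ = ⁅g, y⁆ * ⁅g', y⁆ := by
  rw [comm_mul_left_of_central (comm_central h hg' y)]
  exact (Subgroup.mem_center_iff.mp (comm_central h hg y) _)

theorem comm_mul_right {g : P} (hg : g ∈ Z2 h) (y y' : P) :
    ⁅g, y * y'⁆ = ⁅g, y⁆ * ⁅g, y'⁆ :=
  comm_mul_right_of_central (comm_central h hg y')

theorem comm_one_right (g : P) : ⁅g, (1 : P)⁆ = 1 := commutatorElement_one_right g

theorem comm_inv_right {g : P} (hg : g ∈ Z2 h) (y : P) : ⁅g, y⁻¹⁆ = ⁅g, y⁆ := by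
  have e : ⁅g, y * y⁻¹⁆ = ⁅g, y⁆ * ⁅g, y⁻¹⁆ := comm_mul_right h hg y y⁻¹
  rw [mul_inv_cancel, comm_one_right] at e
  have e2 := comm_sq h hg y
  calc ⁅g, y⁻¹⁆ = (⁅g, y⁆ * ⁅g, y⁆) * ⁅g, y⁻¹⁆ := by rw [e2, one_mul]
    _ = ⁅g, y⁆ * (⁅g, y⁆ * ⁅g, y⁻¹⁆) := by rw [mul_assoc]
    _ = ⁅g, y⁆ := by rw [← e, mul_one]

theorem comm_inv_left {g : P} (hg : g ∈ Z2 h) (y : P) : ⁅g⁻¹, y⁆ = ⁅g, y⁆ := by
  have e : ⁅g * g⁻¹, y⁆ = ⁅g, y⁆ * ⁅g⁻¹, y⁆ := comm_mul_left h hg ((Z2 h).inv_mem hg) y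
  rw [mul_inv_cancel, commutatorElement_one_left] at e
  have e2 := comm_sq h hg y
  calc ⁅g⁻¹, y⁆ = (⁅g, y⁆ * ⁅g, y⁆) * ⁅g⁻¹, y⁆ := by rw [e2, one_mul]
    _ = ⁅g, y⁆ * (⁅g, y⁆ * ⁅g⁻¹, y⁆) := by rw [mul_assoc]
    _ = ⁅g, y⁆ := by rw [← e, mul_one]

/-- squares centralize the second centre -/
theorem comm_sq_right {g : P} (hg : g ∈ Z2 h) (y : P) : ⁅g, y * y⁆ = 1 := by
  rw [comm_mul_right h hg, comm_sq h hg]

/-- the commutator with a fixed element of the second centre, as a homomorphism to `Zs` -/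
def commHom {g : P} (hg : g ∈ Z2 h) : P →* h.Zs :=
  MonoidHom.mk' (fun y => ⟨⁅g, y⁆, hg y⟩) (by
    intro a b
    apply Subtype.ext
    exact comm_mul_right h hg a b)

theorem comm_comm_right {g : P} (hg : g ∈ Z2 h) (y y' : P) : ⁅g, ⁅y, y'⁆⁆ = 1 := by
  have e : commHom h hg ⁅y, y'⁆ = ⁅commHom h hg y, commHom h hg y'⁆ := map_commutatorElement _ _ _
  have e2 : ⁅commHom h hg y, commHom h hg y'⁆ = 1 := by
    rw [commutatorElement_eq_one_iff_mul_comm]
    apply Subtype.ext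
    exact (Subgroup.mem_center_iff.mp (h.Zs_le_center (commHom h hg y').2) _)
  rw [e2] at e
  exact congrArg Subtype.val e

theorem map_comm (k : K) (a b : P) : φ k ⁅a, b⁆ = ⁅φ k a, φ k b⁆ := map_commutatorElement _ _ _

theorem inv_Zs : Inv φ h.Zs := fun k _ hx => h.map_mem_Zs k hx

theorem inv_Z2 : Inv φ (Z2 h) := by
  intro k g hg y
  have e : ⁅φ k g, y⁆ = φ k ⁅g, φ k⁻¹ y⁆ := by
    rw [map_comm, ← MulAut.mul_apply, ← map_mul, mul_inv_cancel, map_one]
    rfl
  rw [e]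
  exact h.map_mem_Zs k (hg _)

instance Z2_normal : (Z2 h).Normal := by
  constructor
  intro g hg x y
  have e : ⁅x * g * x⁻¹, y⁆ = x * ⁅g, x⁻¹ * y * x⁆ * x⁻¹ := by
    simp only [commutatorElement_def]; group
  rw [e]
  exact (Reg.Zs_normal h).conj_mem _ (hg _) x

/-- the subgroup generated by the squares -/
def Sq (P : Type u) [Group P] : Subgroup P := Subgroup.closure {z | ∃ x : P, x * x = z}

theorem sq_mem_Sq (x : P) : x * x ∈ Sq P := Subgroup.subset_closure ⟨x, rfl⟩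

theorem inv_Sq (φ : K →* MulAut P) : Inv φ (Sq P) := by
  intro k x hx
  have : Sq P ≤ (Sq P).comap ((φ k : P ≃* P) : P →* P) := by
    unfold Sq
    rw [Subgroup.closure_le]
    rintro _ ⟨y, rfl⟩
    show φ k (y * y) ∈ Subgroup.closure {z | ∃ x : P, x * x = z}
    rw [map_mul]
    exact Subgroup.subset_closure ⟨φ k y, rfl⟩
  exact this hx

instance Sq_normal : (Sq P).Normal := by
  constructor
  intro n hn g
  have : Sq P ≤ (Sq P).comap ((MulAut.conj g : P ≃* P) : P →* P) := by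
    unfold Sq
    rw [Subgroup.closure_le]
    rintro _ ⟨y, rfl⟩
    show MulAut.conj g (y * y) ∈ Subgroup.closure {z | ∃ x : P, x * x = z}
    rw [map_mul]
    exact Subgroup.subset_closure ⟨MulAut.conj g y, rfl⟩
  have h2 := this hn
  rw [Subgroup.mem_comap] at h2
  simpa [MulAut.conj_apply] using h2

/-- squares centralize the second centre (subgroup version) -/
theorem Sq_le_centralizer_Z2 : Sq P ≤ Subgroup.centralizer (Z2 h : Set P) := by
  unfold Sq
  rw [Subgroup.closure_le]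
  rintro _ ⟨y, rfl⟩
  rw [SetLike.mem_coe, Subgroup.mem_centralizer_iff]
  intro g hg
  have e := comm_sq_right h hg y
  rw [commutatorElement_eq_one_iff_mul_comm] at e
  exact e

theorem Zs_le_centralizer (H : Subgroup P) : h.Zs ≤ Subgroup.centralizer (H : Set P) := by
  intro z hz
  rw [Subgroup.mem_centralizer_iff]
  intro g _
  exact (Subgroup.mem_center_iff.mp (h.Zs_le_center hz) g)

/-- the subgroup `N`: the part of the second centre inside the squares (times `Zs`) -/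
def NN : Subgroup P := Z2 h ⊓ (Sq P ⊔ h.Zs)

theorem NN_le_Z2 : NN h ≤ Z2 h := inf_le_left

theorem Zs_le_NN : h.Zs ≤ NN h := le_inf (Zs_le_Z2 h) le_sup_right

theorem inv_NN : Inv φ (NN h) := (inv_Z2 h).inf ((inv_Sq φ).sup (inv_Zs h))

instance NN_normal : (NN h).Normal := by
  unfold NN
  infer_instance

theorem NN_le_centralizer : NN h ≤ Subgroup.centralizer (NN h : Set P) := by
  have h1 : Sq P ⊔ h.Zs ≤ Subgroup.centralizer (Z2 h : Set P) :=
    sup_le (Sq_le_centralizer_Z2 h) (Zs_le_centralizer h _)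
  have h2 : Subgroup.centralizer (Z2 h : Set P) ≤ Subgroup.centralizer (NN h : Set P) :=
    Subgroup.centralizer_le (NN_le_Z2 h)
  exact inf_le_right.trans (h1.trans h2)

theorem NN_comm {a b : P} (ha : a ∈ NN h) (hb : b ∈ NN h) : a * b = b * a := by
  have := (Subgroup.mem_centralizer_iff.mp (NN_le_centralizer h ha)) b hb
  exact this.symm

include h in
/-- `N` is strictly bigger than `Zs` as soon as some fourth power is not trivial -/
theorem exists_mem_NN_not_Zs {x₀ : P} (hx₀ : (x₀ * x₀) * (x₀ * x₀) ≠ 1) :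
    ∃ a ∈ NN h, a * a ≠ 1 := by
  haveI := h.fin
  haveI : Fact (Nat.Prime 2) := ⟨Nat.prime_two⟩
  let Q := P ⧸ h.Zs
  have hQ : IsPGroup 2 Q := h.two.to_quotient h.Zs
  let X : Subgroup Q := (Sq P ⊔ h.Zs).map (QuotientGroup.mk' h.Zs)
  haveI : X.Normal := Subgroup.Normal.map inferInstance _ (QuotientGroup.mk'_surjective _)
  have hX : X ≠ ⊥ := by
    intro e
    have h1 : (QuotientGroup.mk' h.Zs) (x₀ * x₀) ∈ X :=
      Subgroup.mem_map_of_mem _ (le_sup_left (a := Sq P) (sq_mem_Sq x₀))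
    rw [e, Subgroup.mem_bot, QuotientGroup.mk'_apply, QuotientGroup.eq_one_iff] at h1
    exact hx₀ h1
  obtain ⟨x, hxX, hx1, hxc⟩ := exists_central_mem_of_normal hQ X hX
  obtain ⟨a, haS, rfl⟩ := Subgroup.mem_map.mp hxX
  refine ⟨a, Subgroup.mem_inf.mpr ⟨?_, haS⟩, ?_⟩
  · intro y
    have e : (QuotientGroup.mk' h.Zs) ⁅a, y⁆ = 1 := by
      rw [map_commutatorElement, commutatorElement_eq_one_iff_mul_comm]
      exact ((Subgroup.mem_center_iff.mp hxc) _).symm
    rwa [QuotientGroup.mk'_apply, QuotientGroup.eq_one_iff] at e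
  · intro e
    apply hx1
    rw [QuotientGroup.mk'_apply, QuotientGroup.eq_one_iff]
    exact e

end Cfsg.Agent.H9SZ
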