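import Mathlib
import Cfsg.Agent.Lib.Helper9.SZ6

set_option autoImplicit false
set_option linter.unusedSectionVars false
set_option linter.style.haveILetI false

/-!
Suzuki 2-groups, part 7: the centralizer `C` of `N` is abelian, and `P/C` is elementary abelian.
-/

namespace Cfsg.Agent.H9SZ

open Cfsg.Agent.Lib.Helper3.Hig
open scoped commutatorElement

universe u v

variable {K : Type v} [Group K] {P : Type u} [Group P]

variable {φ : K →* MulAut P} (h : Reg φ)

include h in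
/-- squares of elements of the second centre are central, hence of order at most two -/
theorem sq_mem_Zs_of_mem_Z2 (hna : ∃ x y : P, x * y ≠ y * x) {g : P} (hg : g ∈ Z2 h) :
    g * g ∈ h.Zs := by
  apply center_le_Zs h hna
  rw [Subgroup.mem_center_iff]
  intro y
  have e : ⁅g * g, y⁆ = 1 := by
    rw [comm_mul_left h hg hg, comm_sq h hg]
  rw [commutatorElement_eq_one_iff_mul_comm] at e
  exact e.symm

/-- squaring on `N` is onto `Zs` -/
theorem exists_sqrt_in_NN (hna : ∃ x y : P, x * y ≠ y * x) {a₀ : P} (ha₀ : a₀ ∈ NN h)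
    (ha₀2 : a₀ * a₀ ≠ 1) {z : P} (hz : z ∈ h.Zs) : ∃ n ∈ NN h, n * n = z := by
  by_cases hz1 : z = 1
  · exact ⟨1, one_mem _, by rw [hz1, one_mul]⟩
  have hz0 : (a₀ * a₀) * (a₀ * a₀) = 1 := sq_mem_Zs_of_mem_Z2 h hna (NN_le_Z2 h ha₀)
  obtain ⟨k, hk, -⟩ := h.reg (a₀ * a₀) z ha₀2 hz0 hz1 hz
  exact ⟨φ k a₀, inv_NN h k a₀ ha₀, by rw [← map_mul, hk]⟩

/-- the centralizer of `N` -/
def CC : Subgroup P := Subgroup.centralizer (NN h : Set P)

theorem inv_CC : Inv φ (CC h) := (inv_NN h).centralizer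

instance CC_normal : (CC h).Normal := by
  unfold CC
  infer_instance

theorem NN_le_CC : NN h ≤ CC h := NN_le_centralizer h

theorem Zs_le_CC : h.Zs ≤ CC h := (Zs_le_NN h).trans (NN_le_CC h)

theorem mem_CC_iff {g : P} : g ∈ CC h ↔ ∀ n ∈ NN h, n * g = g * n := Subgroup.mem_centralizer_iff

/-- the elements of `C` of order at most four lie in `N` -/
theorem mem_NN_of_mem_CC (hna : ∃ x y : P, x * y ≠ y * x) {a₀ : P} (ha₀ : a₀ ∈ NN h)
    (ha₀2 : a₀ * a₀ ≠ 1) {g : P} (hg : g ∈ CC h) (hg4 : (g * g) * (g * g) = 1) : g ∈ NN h := by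
  obtain ⟨n, hn, hnn⟩ := exists_sqrt_in_NN h hna ha₀ ha₀2 (z := g * g) hg4
  have hc : n * g = g * n := (mem_CC_iff h).mp hg n hn
  have hc' : n⁻¹ * g = g * n⁻¹ := by
    calc n⁻¹ * g = n⁻¹ * (g * n) * n⁻¹ := by group
      _ = n⁻¹ * (n * g) * n⁻¹ := by rw [hc]
      _ = g * n⁻¹ := by group
  have e : (g * n⁻¹) * (g * n⁻¹) = 1 := by
    calc (g * n⁻¹) * (g * n⁻¹) = g * (n⁻¹ * g) * n⁻¹ := by group
      _ = g * (g * n⁻¹) * n⁻¹ := by rw [hc']
      _ = (g * g) * (n * n)⁻¹ := by group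
      _ = 1 := by rw [hnn, mul_inv_cancel]
  have h1 : g * n⁻¹ ∈ NN h := Zs_le_NN h e
  have h2 : g = (g * n⁻¹) * n := by group
  rw [h2]
  exact mul_mem h1 hn

include h in
/-- `C` is abelian -/
theorem CC_comm (hna : ∃ x y : P, x * y ≠ y * x) {a₀ : P} (ha₀ : a₀ ∈ NN h)
    (ha₀2 : a₀ * a₀ ≠ 1) {a b : P} (ha : a ∈ CC h) (hb : b ∈ CC h) : a * b = b * a := by
  have hR := reg_res h (CC h) (inv_CC h) (Zs_le_CC h)
  have hc : ∃ c ∈ Subgroup.center ↥(CC h), c * c ≠ 1 := by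
    refine ⟨⟨a₀, NN_le_CC h ha₀⟩, ?_, ?_⟩
    · rw [Subgroup.mem_center_iff]
      intro g
      apply Subtype.ext
      exact ((mem_CC_iff h).mp g.2 a₀ ha₀).symm
    · intro e
      exact ha₀2 (congrArg Subtype.val e)
  have := abelian_of_central_four _ ↥(CC h) (resHom φ (CC h) (inv_CC h)) rfl hR hc ⟨a, ha⟩ ⟨b, hb⟩
  exact congrArg Subtype.val this

theorem sq_mem_CC (y : P) : y * y ∈ CC h := by
  rw [mem_CC_iff]
  intro n hn
  have e := comm_sq_right h (NN_le_Z2 h hn) y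
  rwa [commutatorElement_eq_one_iff_mul_comm] at e

theorem comm_mem_CC (y y' : P) : ⁅y, y'⁆ ∈ CC h := by
  rw [mem_CC_iff]
  intro n hn
  have e := comm_comm_right h (NN_le_Z2 h hn) y y'
  rwa [commutatorElement_eq_one_iff_mul_comm] at e

/-- every subgroup containing `C` is normal -/
theorem normal_of_CC_le {H : Subgroup P} (hH : CC h ≤ H) : H.Normal := by
  constructor
  intro n hn g
  have e : g * n * g⁻¹ = ⁅g, n⁆ * n := by
    rw [commutatorElement_def]; group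
  rw [e]
  exact mul_mem (hH (comm_mem_CC h g n)) hn

include h in
/-- an element centralizing `N` modulo nothing: `C` is a proper subgroup -/
theorem exists_not_mem_CC (hna : ∃ x y : P, x * y ≠ y * x) {a₀ : P} (ha₀ : a₀ ∈ NN h)
    (ha₀2 : a₀ * a₀ ≠ 1) : ∃ x : P, x ∉ CC h := by
  by_contra hall
  push Not at hall
  apply ha₀2
  apply center_le_Zs h hna
  rw [Subgroup.mem_center_iff]
  intro g
  exact ((mem_CC_iff h).mp (hall g) a₀ ha₀).symm

end Cfsg.Agent.H9SZ
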