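import Mathlib
import Cfsg.Agent.Lib.Helper9.SZ7
import Cfsg.Agent.Lib.Helper9.SZ3

set_option autoImplicit false
set_option linter.unusedSectionVars false
set_option linter.style.haveILetI false

/-!
Suzuki 2-groups, part 8: the field attached to `Zs` and the additive maps `Δ x` describing the
action of `P` on `N`.
-/

namespace Cfsg.Agent.H9SZ

open Cfsg.Agent.Lib.Helper3.Hig
open scoped commutatorElement

universe u v

variable {K : Type v} [Group K] {P : Type u} [Group P]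

variable {φ : K →* MulAut P}

instance finZs (h : Reg φ) : Finite ↥h.Zs := by
  haveI := h.fin
  infer_instance

/-- the data used throughout: non-commutativity, an element of `N` outside `Zs`, an involution -/
structure Dat (h : Reg φ) where
  hna : ∃ x y : P, x * y ≠ y * x
  a₀ : P
  ha₀ : a₀ ∈ NN h
  ha₀2 : a₀ * a₀ ≠ 1
  t : P
  ht1 : t ≠ 1
  ht2 : t * t = 1

namespace Dat

variable {h : Reg φ} (d : Dat h)

/-- the regular module `Zs` -/
def M : RegMod K ↥h.Zs where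
  ψ := h.zsHom
  t := ⟨d.t, d.ht2⟩
  comm := h.comm
  acomm := by
    intro a b
    apply Subtype.ext
    exact (Subgroup.mem_center_iff.mp (h.central b.2) a)
  ht := fun e => d.ht1 (congrArg Subtype.val e)
  inj := by
    intro k k' e
    exact h.apply_eq_apply d.ht1 (congrArg Subtype.val e)
  surj := by
    intro a ha
    have ha1 : (a : P) ≠ 1 := fun e => ha (Subtype.ext e)
    obtain ⟨k, hk, -⟩ := h.reg d.t a d.ht1 d.ht2 ha1 a.2
    exact ⟨k, Subtype.ext hk⟩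

/-- the field -/
abbrev F : Type v := d.M.W

theorem two_eq_zero : (2 : d.F) = 0 := by
  have e : (1 : d.F) + 1 = 0 := by
    apply d.M.e.injective
    rw [RegMod.e_add', RegMod.e_zero]
    exact Subtype.ext (d.M.e 1).2
  rw [← one_add_one_eq_two, e]

instance charP : CharP d.F 2 := CharTwo.of_one_ne_zero_of_two_eq_zero one_ne_zero d.two_eq_zero

theorem card_F : ∃ n : ℕ, Fintype.card d.F = 2 ^ n := by
  haveI : Fact (Nat.Prime 2) := ⟨Nat.prime_two⟩
  obtain ⟨n, hn⟩ := IsPGroup.iff_card.mp (h.two.to_subgroup h.Zs)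
  exact ⟨n, by rw [RegMod.card_W, hn]⟩

/-- coordinates of an element of `Zs` (zero outside) -/
noncomputable def cz (y : P) : d.F := by
  classical
  exact if hy : y ∈ h.Zs then d.M.co ⟨y, hy⟩ else 0

theorem cz_of_mem {y : P} (hy : y ∈ h.Zs) : d.cz y = d.M.co ⟨y, hy⟩ := by
  unfold cz
  rw [dif_pos hy]

theorem cz_mul {a b : P} (ha : a ∈ h.Zs) (hb : b ∈ h.Zs) : d.cz (a * b) = d.cz a + d.cz b := by
  rw [d.cz_of_mem ha, d.cz_of_mem hb, d.cz_of_mem (mul_mem ha hb), ← RegMod.co_mul]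
  rfl

theorem cz_one : d.cz (1 : P) = 0 := by
  rw [d.cz_of_mem (one_mem _)]
  exact d.M.co_one

theorem cz_eq_zero_iff {a : P} (ha : a ∈ h.Zs) : d.cz a = 0 ↔ a = 1 := by
  rw [d.cz_of_mem ha, RegMod.co_eq_zero_iff]
  constructor
  · intro e; exact congrArg Subtype.val e
  · intro e; exact Subtype.ext e

theorem cz_map (k : K) {a : P} (ha : a ∈ h.Zs) : d.cz (φ k a) = d.M.coe k * d.cz a := by
  rw [d.cz_of_mem ha, d.cz_of_mem (h.map_mem_Zs k ha), ← RegMod.co_ψ]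
  rfl

/-- the element of `Zs` with given coordinate -/
noncomputable def ez (w : d.F) : P := (d.M.e w : P)

theorem ez_mem (w : d.F) : d.ez w ∈ h.Zs := (d.M.e w).2

theorem cz_ez (w : d.F) : d.cz (d.ez w) = w := by
  rw [d.cz_of_mem (d.ez_mem w)]
  exact d.M.e.symm_apply_apply w

theorem ez_cz {a : P} (ha : a ∈ h.Zs) : d.ez (d.cz a) = a := by
  rw [d.cz_of_mem ha]
  unfold ez
  rw [RegMod.e_co]

theorem cz_injective {a b : P} (ha : a ∈ h.Zs) (hb : b ∈ h.Zs) (e : d.cz a = d.cz b) : a = b := by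
  rw [← d.ez_cz ha, ← d.ez_cz hb, e]

/-- a square root in `N` -/
noncomputable def rootN (w : d.F) : P :=
  Classical.choose (exists_sqrt_in_NN h d.hna d.ha₀ d.ha₀2 (d.ez_mem w))

theorem rootN_mem (w : d.F) : d.rootN w ∈ NN h :=
  (Classical.choose_spec (exists_sqrt_in_NN h d.hna d.ha₀ d.ha₀2 (d.ez_mem w))).1

theorem rootN_sq (w : d.F) : d.rootN w * d.rootN w = d.ez w :=
  (Classical.choose_spec (exists_sqrt_in_NN h d.hna d.ha₀ d.ha₀2 (d.ez_mem w))).2

/-- the additive map describing the action of `x` on `N` -/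
noncomputable def Δ (x : P) : d.F → d.F := fun w => d.cz ⁅d.rootN w, x⁆

include d in
theorem sq_mem_Zs {n : P} (hn : n ∈ NN h) : n * n ∈ h.Zs :=
  sq_mem_Zs_of_mem_Z2 h d.hna (NN_le_Z2 h hn)

include d in
theorem comm_mem_Zs {n : P} (hn : n ∈ NN h) (x : P) : ⁅n, x⁆ ∈ h.Zs := NN_le_Z2 h hn x

include d in
/-- elements of `N` with the same square have the same commutators -/
theorem comm_eq_of_sq_eq {n n' : P} (hn : n ∈ NN h) (hn' : n' ∈ NN h) (e : n * n = n' * n')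
    (x : P) : ⁅n, x⁆ = ⁅n', x⁆ := by
  have hc : n * n' = n' * n := NN_comm h hn hn'
  have hz : (n * n'⁻¹) * (n * n'⁻¹) = 1 := by
    have hc' : n'⁻¹ * n = n * n'⁻¹ := by
      calc n'⁻¹ * n = n'⁻¹ * (n * n') * n'⁻¹ := by group
        _ = n'⁻¹ * (n' * n) * n'⁻¹ := by rw [hc]
        _ = n * n'⁻¹ := by group
    calc (n * n'⁻¹) * (n * n'⁻¹) = n * (n'⁻¹ * n) * n'⁻¹ := by group
      _ = n * (n * n'⁻¹) * n'⁻¹ := by rw [hc']
      _ = (n * n) * (n' * n')⁻¹ := by group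
      _ = 1 := by rw [e, mul_inv_cancel]
  have hzZ : n * n'⁻¹ ∈ h.Zs := hz
  have e2 : n = (n * n'⁻¹) * n' := by group
  rw [e2, comm_mul_left h (Zs_le_Z2 h hzZ) (NN_le_Z2 h hn'),
    comm_eq_one_of_central (h.Zs_le_center hzZ), one_mul]

theorem Δ_cz_sq {n : P} (hn : n ∈ NN h) (x : P) : d.Δ x (d.cz (n * n)) = d.cz ⁅n, x⁆ := by
  unfold Δ
  congr 1
  apply d.comm_eq_of_sq_eq (d.rootN_mem _) hn
  rw [d.rootN_sq, d.ez_cz (d.sq_mem_Zs hn)]

theorem Δ_add (x : P) (w w' : d.F) : d.Δ x (w + w') = d.Δ x w + d.Δ x w' := by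
  have hn := d.rootN_mem w
  have hn' := d.rootN_mem w'
  have hsq : (d.rootN w * d.rootN w') * (d.rootN w * d.rootN w') = d.ez w * d.ez w' := by
    have hc := NN_comm h hn hn'
    calc (d.rootN w * d.rootN w') * (d.rootN w * d.rootN w')
        = d.rootN w * (d.rootN w' * d.rootN w) * d.rootN w' := by group
      _ = d.rootN w * (d.rootN w * d.rootN w') * d.rootN w' := by rw [hc]
      _ = (d.rootN w * d.rootN w) * (d.rootN w' * d.rootN w') := by group
      _ = d.ez w * d.ez w' := by rw [d.rootN_sq, d.rootN_sq]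
  have e1 : w + w' = d.cz ((d.rootN w * d.rootN w') * (d.rootN w * d.rootN w')) := by
    rw [hsq, d.cz_mul (d.ez_mem w) (d.ez_mem w'), d.cz_ez, d.cz_ez]
  rw [e1, d.Δ_cz_sq (mul_mem hn hn'), comm_mul_left h (NN_le_Z2 h hn) (NN_le_Z2 h hn'),
    d.cz_mul (d.comm_mem_Zs hn x) (d.comm_mem_Zs hn' x)]
  rfl

theorem Δ_mul (x y : P) : d.Δ (x * y) = d.Δ x + d.Δ y := by
  funext w
  show d.cz ⁅d.rootN w, x * y⁆ = d.cz ⁅d.rootN w, x⁆ + d.cz ⁅d.rootN w, y⁆
  have hn := d.rootN_mem w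
  rw [comm_mul_right h (NN_le_Z2 h hn), d.cz_mul (d.comm_mem_Zs hn x) (d.comm_mem_Zs hn y)]

theorem Δ_one : d.Δ (1 : P) = 0 := by
  funext w
  show d.cz ⁅d.rootN w, (1 : P)⁆ = 0
  rw [commutatorElement_one_right, d.cz_one]

theorem Δ_inv (x : P) : d.Δ x⁻¹ = -d.Δ x := by
  have e : d.Δ (x * x⁻¹) = d.Δ x + d.Δ x⁻¹ := d.Δ_mul x x⁻¹
  rw [mul_inv_cancel, d.Δ_one] at e
  exact (neg_eq_of_add_eq_zero_right e.symm).symm

theorem Δ_map (k : K) (x : P) : d.Δ (φ k x) = tw (d.M.coe k) (d.Δ x) := by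
  funext w
  have hn := d.rootN_mem w
  set m : P := φ k⁻¹ (d.rootN w) with hm
  have hmN : m ∈ NN h := inv_NN h k⁻¹ _ hn
  have hkm : φ k m = d.rootN w := by
    rw [hm, ← MulAut.mul_apply, ← map_mul, mul_inv_cancel, map_one]
    rfl
  have e1 : d.cz (m * m) = (d.M.coe k)⁻¹ * w := by
    have : m * m = φ k⁻¹ (d.ez w) := by rw [hm, ← map_mul, d.rootN_sq]
    rw [this, d.cz_map k⁻¹ (d.ez_mem w), d.cz_ez]
    rfl
  show d.cz ⁅d.rootN w, φ k x⁆ = d.M.coe k * d.Δ x ((d.M.coe k)⁻¹ * w)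
  rw [← e1, d.Δ_cz_sq hmN, ← d.cz_map k (d.comm_mem_Zs hmN x), map_comm, hkm]

theorem Δ_eq_zero_iff (x : P) : d.Δ x = 0 ↔ x ∈ CC h := by
  constructor
  · intro e
    rw [mem_CC_iff]
    intro n hn
    have e1 : d.cz ⁅n, x⁆ = 0 := by
      rw [← d.Δ_cz_sq hn, e]
      rfl
    have e2 := (d.cz_eq_zero_iff (d.comm_mem_Zs hn x)).mp e1
    rwa [commutatorElement_eq_one_iff_mul_comm] at e2
  · intro hx
    funext w
    show d.cz ⁅d.rootN w, x⁆ = 0
    have : ⁅d.rootN w, x⁆ = 1 := by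
      rw [commutatorElement_eq_one_iff_mul_comm]
      exact (mem_CC_iff h).mp hx _ (d.rootN_mem w)
    rw [this, d.cz_one]

theorem sq_eq_one_of_injective {x : P} (hinj : Function.Injective (d.Δ x)) {n : P}
    (hn : n ∈ NN h) (hnx : ⁅n, x⁆ = 1) : n * n = 1 := by
  have e1 : d.Δ x (d.cz (n * n)) = d.Δ x 0 := by
    rw [d.Δ_cz_sq hn, hnx, d.cz_one]
    have : d.Δ x 0 = d.Δ x (0 + 0) := by rw [add_zero]
    have h2 := d.Δ_add x 0 0
    rw [add_zero] at h2
    have h3 : d.Δ x 0 = 0 := by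
      have := congrArg (fun z => z - d.Δ x 0) h2
      simpa using this.symm
    rw [h3]
  exact (d.cz_eq_zero_iff (d.sq_mem_Zs hn)).mp (hinj e1)

end Dat

end Cfsg.Agent.H9SZ
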