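import Mathlib
import Cfsg.Agent.Lib.Helper9.SZ8

set_option autoImplicit false
set_option linter.unusedSectionVars false
set_option linter.style.haveILetI false

/-!
Suzuki 2-groups, part 9: elements of a minimal invariant subgroup above `C` act injectively on
`N / Zs`.
-/

namespace Cfsg.Agent.H9SZ

open Cfsg.Agent.Lib.Helper3.Hig
open scoped commutatorElement

universe u v

variable {K : Type v} [Group K] {P : Type u} [Group P]

variable {φ : K →* MulAut P} {h : Reg φ}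

theorem sq_eq_one_of_minimal (d : Dat h) (M' : Subgroup P) (hM' : Inv φ M') (hCM : CC h ≤ M')
    (hmin : ∀ H : Subgroup P, Inv φ H → CC h ≤ H → H ≤ M' → H = CC h ∨ H = M')
    {x : P} (hx : x ∈ M') (hxC : x ∉ CC h) {n : P} (hn : n ∈ NN h) (hnx : ⁅n, x⁆ = 1) :
    n * n = 1 := by
  classical
  obtain ⟨nn, hF⟩ := d.card_F
  let V : AddSubgroup (d.F → d.F) :=
    { carrier := {f | ∃ y ∈ M', f = d.Δ y}
      zero_mem' := ⟨1, one_mem _, d.Δ_one.symm⟩
      add_mem' := by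
        rintro _ _ ⟨y, hy, rfl⟩ ⟨y', hy', rfl⟩
        exact ⟨y * y', mul_mem hy hy', (d.Δ_mul y y').symm⟩
      neg_mem' := by
        rintro _ ⟨y, hy, rfl⟩
        exact ⟨y⁻¹, inv_mem hy, (d.Δ_inv y).symm⟩ }
  have hadd : ∀ f ∈ V, ∀ u v, f (u + v) = f u + f v := by
    rintro _ ⟨y, -, rfl⟩ u v
    exact d.Δ_add y u v
  have hinv : ∀ k : d.F, k ≠ 0 → ∀ f ∈ V, tw k f ∈ V := by
    rintro k hk _ ⟨y, hy, rfl⟩
    rcases d.M.cases k with rfl | ⟨k', rfl⟩
    · exact absurd rfl hk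
    · exact ⟨φ k' y, hM' k' y hy, (d.Δ_map k' y).symm⟩
  have hirr : ∀ W : AddSubgroup (d.F → d.F), W ≤ V →
      (∀ k : d.F, k ≠ 0 → ∀ f ∈ W, tw k f ∈ W) → W = ⊥ ∨ W = V := by
    intro W hWV hWinv
    let H : Subgroup P :=
      { carrier := {y | y ∈ M' ∧ d.Δ y ∈ W}
        one_mem' := ⟨one_mem _, by rw [d.Δ_one]; exact W.zero_mem⟩
        mul_mem' := by
          rintro a b ⟨ha, ha'⟩ ⟨hb, hb'⟩
          exact ⟨mul_mem ha hb, by rw [d.Δ_mul]; exact W.add_mem ha' hb'⟩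
        inv_mem' := by
          rintro a ⟨ha, ha'⟩
          exact ⟨inv_mem ha, by rw [d.Δ_inv]; exact W.neg_mem ha'⟩ }
    have hHinv : Inv φ H := by
      rintro k y ⟨hy, hy'⟩
      refine ⟨hM' k y hy, ?_⟩
      rw [d.Δ_map]
      exact hWinv _ (d.M.coe_ne_zero k) _ hy'
    have hCH : CC h ≤ H := by
      intro y hy
      refine ⟨hCM hy, ?_⟩
      rw [(d.Δ_eq_zero_iff y).mpr hy]
      exact W.zero_mem
    have hHM : H ≤ M' := fun y hy => hy.1
    rcases hmin H hHinv hCH hHM with hH | hH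
    · left
      rw [eq_bot_iff]
      intro f hf
      obtain ⟨y, hy, rfl⟩ := hWV hf
      have hyH : y ∈ H := ⟨hy, hf⟩
      rw [hH] at hyH
      rw [AddSubgroup.mem_bot]
      exact (d.Δ_eq_zero_iff y).mpr hyH
    · right
      apply le_antisymm hWV
      intro f hf
      obtain ⟨y, hy, rfl⟩ := hf
      have hyH : y ∈ H := by rw [hH]; exact hy
      exact hyH.2
  have hxV : d.Δ x ∈ V := ⟨x, hx, rfl⟩
  have hx0 : d.Δ x ≠ 0 := fun e => hxC ((d.Δ_eq_zero_iff x).mp e)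
  have hinj := injective_of_irreducible hF V hadd hinv hirr hxV hx0
  exact d.sq_eq_one_of_injective hinj hn hnx

end Cfsg.Agent.H9SZ
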