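import Mathlib
import Cfsg.Agent.Lib.Helper9.SZ9

set_option autoImplicit false
set_option linter.unusedSectionVars false
set_option linter.style.haveILetI false

/-!
Suzuki 2-groups, part 10: the centralizer of `N` is `N`.
-/

namespace Cfsg.Agent.H9SZ

open Cfsg.Agent.Lib.Helper3.Hig
open scoped commutatorElement

universe u v

variable {K : Type v} [Group K] {P : Type u} [Group P]

variable {φ : K →* MulAut P} {h : Reg φ}

/-- existence of a minimal invariant subgroup strictly above a given invariant proper subgroup -/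
theorem exists_minimal_above [Finite P] (φ : K →* MulAut P) (C : Subgroup P) (hC : C ≠ ⊤) :
    ∃ M' : Subgroup P, Inv φ M' ∧ C < M' ∧
      ∀ H : Subgroup P, Inv φ H → C ≤ H → H ≤ M' → H = C ∨ H = M' := by
  classical
  let S : Set (Subgroup P) := {H | Inv φ H ∧ C < H}
  have hne : S.Nonempty := ⟨⊤, inv_top φ, lt_top_iff_ne_top.mpr hC⟩
  obtain ⟨M', hM'S, hM'min⟩ := WellFounded.has_min (wellFounded_lt (α := Subgroup P)) S hne
  refine ⟨M', hM'S.1, hM'S.2, ?_⟩
  intro H hH hCH hHM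
  by_cases e : H = C
  · exact Or.inl e
  · right
    have hlt : C < H := lt_of_le_of_ne hCH (Ne.symm e)
    have := hM'min H ⟨hH, hlt⟩
    exact le_antisymm hHM (by
      by_contra hnle
      exact this (lt_of_le_of_ne hHM (fun e2 => hnle (e2 ▸ le_refl _))))

/-- an element of a `2`-group whose fourth power is not trivial has a power of order eight -/
theorem exists_order_eight (h2 : IsPGroup 2 P) {c : P} (hc : (c * c) * (c * c) ≠ 1) :
    ∃ m : ℕ, ((c ^ m * c ^ m) * (c ^ m * c ^ m)) ≠ 1 ∧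
      ((c ^ m * c ^ m) * (c ^ m * c ^ m)) * ((c ^ m * c ^ m) * (c ^ m * c ^ m)) = 1 := by
  obtain ⟨s, hs⟩ := (IsPGroup.iff_orderOf.mp h2) c
  have h4 : ∀ g : P, (g * g) * (g * g) = g ^ 4 := by
    intro g; simp only [pow_succ, pow_zero, one_mul, mul_assoc]
  have hs3 : 3 ≤ s := by
    by_contra hlt
    apply hc
    rw [h4]
    have : orderOf c ∣ 4 := by
      rw [hs]
      have : s ≤ 2 := by omega
      exact (pow_dvd_pow 2 this)
    exact orderOf_dvd_iff_pow_eq_one.mp this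
  refine ⟨2 ^ (s - 3), ?_, ?_⟩
  · rw [h4, ← pow_mul]
    apply pow_ne_one_of_lt_orderOf (by positivity)
    rw [hs]
    have e : 2 ^ s = 2 ^ (s - 3) * 8 := by
      rw [show (8 : ℕ) = 2 ^ 3 by norm_num, ← pow_add]
      congr 1; omega
    rw [e]
    have : 0 < 2 ^ (s - 3) := by positivity
    omega
  · have h8 : ∀ g : P, ((g * g) * (g * g)) * ((g * g) * (g * g)) = g ^ 8 := by
      intro g; simp only [pow_succ, pow_zero, one_mul, mul_assoc]
    rw [h8, ← pow_mul]
    have e : 2 ^ (s - 3) * 8 = 2 ^ s := by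
      rw [show (8 : ℕ) = 2 ^ 3 by norm_num, ← pow_add]
      congr 1; omega
    rw [e, ← hs, pow_orderOf_eq_one]

theorem CC_eq_NN (d : Dat h) : CC h = NN h := by
  haveI := h.fin
  apply le_antisymm _ (NN_le_CC h)
  intro c₀ hc₀
  by_contra hc₀N
  have hc₀4 : (c₀ * c₀) * (c₀ * c₀) ≠ 1 := fun e =>
    hc₀N (mem_NN_of_mem_CC h d.hna d.ha₀ d.ha₀2 hc₀ e)
  obtain ⟨m, hm4, hm8⟩ := exists_order_eight h.two hc₀4
  set c₁ : P := c₀ ^ m with hc₁
  have hc₁C : c₁ ∈ CC h := pow_mem hc₀ m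
  have hab : ∀ a ∈ CC h, ∀ b ∈ CC h, a * b = b * a := fun a ha b hb =>
    CC_comm h d.hna d.ha₀ d.ha₀2 ha hb
  set b₁ : P := c₁ * c₁ with hb₁
  have hb₁C : b₁ ∈ CC h := mul_mem hc₁C hc₁C
  have hb₁N : b₁ ∈ NN h := mem_NN_of_mem_CC h d.hna d.ha₀ d.ha₀2 hb₁C hm8
  -- every element of `N` is a square in `C`
  have claimA : ∀ n ∈ NN h, ∃ c ∈ CC h, c * c = n := by
    intro n hn
    by_cases hn2 : n * n = 1
    · obtain ⟨m', hm', hmm⟩ := exists_sqrt_in_NN h d.hna d.ha₀ d.ha₀2 (z := n) hn2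
      exact ⟨m', NN_le_CC h hm', hmm⟩
    · have hnZ : n * n ∈ h.Zs := d.sq_mem_Zs hn
      have hbZ : b₁ * b₁ ∈ h.Zs := d.sq_mem_Zs hb₁N
      obtain ⟨k, hk, -⟩ := h.reg (b₁ * b₁) (n * n) hm4 hbZ hn2 hnZ
      set b' : P := φ k b₁ with hb'
      have hb'N : b' ∈ NN h := inv_NN h k _ hb₁N
      have hb'sq : b' * b' = n * n := by rw [hb', ← map_mul, hk]
      have hcomm : n * b'⁻¹ = b'⁻¹ * n := NN_comm h hn (inv_mem hb'N)
      have hz : (n * b'⁻¹) * (n * b'⁻¹) = 1 := by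
        calc (n * b'⁻¹) * (n * b'⁻¹) = n * (b'⁻¹ * n) * b'⁻¹ := by group
          _ = n * (n * b'⁻¹) * b'⁻¹ := by rw [hcomm]
          _ = (n * n) * (b' * b')⁻¹ := by group
          _ = 1 := by rw [hb'sq, mul_inv_cancel]
      obtain ⟨m', hm', hmm⟩ := exists_sqrt_in_NN h d.hna d.ha₀ d.ha₀2 (z := n * b'⁻¹) hz
      have hm'C : m' ∈ CC h := NN_le_CC h hm'
      have hkc : φ k c₁ ∈ CC h := inv_CC h k _ hc₁C
      refine ⟨m' * φ k c₁, mul_mem hm'C hkc, ?_⟩
      have e1 := hab _ hkc _ hm'C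
      have e2 : φ k c₁ * φ k c₁ = b' := by rw [hb', hb₁, map_mul]
      calc m' * φ k c₁ * (m' * φ k c₁) = m' * (φ k c₁ * m') * φ k c₁ := by group
        _ = m' * (m' * φ k c₁) * φ k c₁ := by rw [e1]
        _ = (m' * m') * (φ k c₁ * φ k c₁) := by group
        _ = (n * b'⁻¹) * b' := by rw [hmm, e2]
        _ = n := by group
  -- a minimal invariant subgroup above `C`
  obtain ⟨x₀, hx₀⟩ := exists_not_mem_CC h d.hna d.ha₀ d.ha₀2
  have hCtop : CC h ≠ ⊤ := fun e => hx₀ (e ▸ Subgroup.mem_top _)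
  obtain ⟨M', hM'inv, hCM, hmin⟩ := exists_minimal_above φ (CC h) hCtop
  obtain ⟨x, hxM, hxC⟩ := SetLike.exists_of_lt hCM
  -- every element of `M' \\ C` inverts `N`
  have claimB : ∀ y ∈ M', y ∉ CC h → ∀ n ∈ NN h, ⁅n, y⁆ = n * n := by
    intro y hyM hyC n hn
    obtain ⟨c, hcC, hcn⟩ := claimA n hn
    set b : P := ⁅c, y⁆ with hb
    have hτc : y * c * y⁻¹ ∈ CC h := (CC_normal h).conj_mem c hcC y
    have hbC : b ∈ CC h := by
      have : b = c * (y * c * y⁻¹)⁻¹ := by rw [hb, commutatorElement_def]; group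
      rw [this]
      exact mul_mem hcC (inv_mem hτc)
    have hτ : y * c * y⁻¹ = b⁻¹ * c := by rw [hb, commutatorElement_def]; group
    have hyy : (y * y) * c * (y * y)⁻¹ = c := by
      have := hab _ (sq_mem_CC h y) _ hcC
      rw [this, mul_inv_cancel_right]
    have hτb : y * b * y⁻¹ = b⁻¹ := by
      have e1 : (y * y) * c * (y * y)⁻¹ = y * (y * c * y⁻¹) * y⁻¹ := by group
      rw [e1, hτ] at hyy
      have e2 : y * (b⁻¹ * c) * y⁻¹ = (y * b * y⁻¹)⁻¹ * (y * c * y⁻¹) := by group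
      rw [e2, hτ] at hyy
      have e3 : (y * b * y⁻¹)⁻¹ * b⁻¹ = 1 := by
        have := congrArg (fun z => z * c⁻¹) hyy
        simp only [mul_inv_cancel] at this
        rw [← this]; group
      have e4 : (y * b * y⁻¹)⁻¹ = b := by
        have := congrArg (fun z => z * b) e3
        simpa using this
      exact inv_eq_iff_eq_inv.mp e4
    have hbx : ⁅b, y⁆ = b * b := by
      rw [commutatorElement_def]
      have : b * y * b⁻¹ * y⁻¹ = b * (y * b * y⁻¹)⁻¹ := by group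
      rw [this, hτb, inv_inv]
    have hnx : ⁅n, y⁆ = b * b := by
      rw [← hcn, commutatorElement_def]
      have e1 : c * c * y * (c * c)⁻¹ * y⁻¹ = c * c * ((y * c * y⁻¹)⁻¹ * (y * c * y⁻¹)⁻¹) := by
        group
      rw [e1, hτ]
      have hcb := hab _ hcC _ hbC
      have e2 : (b⁻¹ * c)⁻¹ = c⁻¹ * b := by group
      rw [e2]
      calc c * c * (c⁻¹ * b * (c⁻¹ * b)) = c * (b * c⁻¹) * b := by group
        _ = c * (c⁻¹ * b) * b := by
          have : b * c⁻¹ = c⁻¹ * b := by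
            calc b * c⁻¹ = c⁻¹ * (c * b) * c⁻¹ := by group
              _ = c⁻¹ * (b * c) * c⁻¹ := by rw [hcb]
              _ = c⁻¹ * b := by group
          rw [this]
        _ = b * b := by group
    have hbb4 : (b * b) * (b * b) = 1 := by
      rw [← hnx]
      exact d.comm_mem_Zs hn y
    have hbN : b ∈ NN h := mem_NN_of_mem_CC h d.hna d.ha₀ d.ha₀2 hbC hbb4
    have hprod : ⁅b * n⁻¹, y⁆ = 1 := by
      rw [comm_mul_left h (NN_le_Z2 h hbN) (NN_le_Z2 h (inv_mem hn)),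
        comm_inv_left h (NN_le_Z2 h hn), hbx, hnx]
      exact hbb4
    have hsq := sq_eq_one_of_minimal d M' hM'inv hCM.le hmin hyM hyC
      (mul_mem hbN (inv_mem hn)) hprod
    have hcomm : n⁻¹ * b = b * n⁻¹ := NN_comm h (inv_mem hn) hbN
    have hbn : b * b = n * n := by
      have e1 : (b * n⁻¹) * (b * n⁻¹) = (b * b) * (n * n)⁻¹ := by
        calc (b * n⁻¹) * (b * n⁻¹) = b * (n⁻¹ * b) * n⁻¹ := by group
          _ = b * (b * n⁻¹) * n⁻¹ := by rw [hcomm]
          _ = (b * b) * (n * n)⁻¹ := by group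
      rw [e1] at hsq
      exact mul_inv_eq_one.mp hsq
    rw [hnx, hbn]
  -- contradiction from the fixed points
  obtain ⟨k, hk⟩ := exists_ne_one h
  have hkx : x⁻¹ * φ k x ∈ CC h := by
    rw [mem_CC_iff]
    intro n hn
    have hkxM : φ k x ∈ M' := hM'inv k x hxM
    have hkxC : φ k x ∉ CC h := fun e => hxC ((inv_CC h).mem_iff k x |>.mp e)
    have e1 := claimB x hxM hxC n hn
    have e2 := claimB (φ k x) hkxM hkxC n hn
    have e3 : ⁅n, x⁻¹ * φ k x⁆ = 1 := by
      rw [comm_mul_right h (NN_le_Z2 h hn), comm_inv_right h (NN_le_Z2 h hn), e1, e2]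
      exact d.sq_mem_Zs hn
    rwa [commutatorElement_eq_one_iff_mul_comm] at e3
  exact hxC (mem_of_fixed_mod h (CC h) (inv_CC h) hab hk hkx)

end Cfsg.Agent.H9SZ
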