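import Mathlib
import Cfsg.Agent.Lib.Helper9.SZ10

set_option autoImplicit false
set_option linter.unusedSectionVars false
set_option linter.style.haveILetI false
set_option linter.unusedSimpArgs false

/-!
Suzuki 2-groups, part 11: commutators of a minimal invariant subgroup above `N` with elements whose
square lies in `Zs`.
-/

namespace Cfsg.Agent.H9SZ

open Cfsg.Agent.Lib.Helper3.Hig
open scoped commutatorElement

universe u v

variable {K : Type v} [Group K] {P : Type u} [Group P]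

variable {φ : K →* MulAut P} {h : Reg φ}

theorem comm_sq_identity (x y : P) : ⁅x * x, y⁆ = ⁅⁅x, y⁆, x⁆⁻¹ * ⁅x, y⁆ * ⁅x, y⁆ := by
  simp only [commutatorElement_def, mul_inv_rev, inv_inv, mul_assoc, inv_mul_cancel_left,
    mul_inv_cancel_left]

theorem comm_mem_NN (d : Dat h) (x y : P) : ⁅x, y⁆ ∈ NN h := by
  rw [← CC_eq_NN d]
  exact comm_mem_CC h x y

theorem sq_mem_NN (d : Dat h) (x : P) : x * x ∈ NN h := by
  rw [← CC_eq_NN d]
  exact sq_mem_CC h x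

theorem comm_swap_inv (x y : P) : ⁅y, x⁆ = ⁅x, y⁆⁻¹ := (commutatorElement_inv x y).symm

/-- if `x * x` is central then `⁅⁅x,y⁆, x⁆ = ⁅x,y⁆ ^ 2` -/
theorem pair_left (d : Dat h) {x : P} (hx : x * x ∈ h.Zs) (y : P) :
    ⁅⁅x, y⁆, x⁆ = ⁅x, y⁆ * ⁅x, y⁆ := by
  have e1 : ⁅x * x, y⁆ = 1 := comm_eq_one_of_central (h.Zs_le_center hx)
  rw [comm_sq_identity] at e1
  have e2 : ⁅⁅x, y⁆, x⁆⁻¹ * (⁅x, y⁆ * ⁅x, y⁆) = 1 := by rw [← mul_assoc]; exact e1
  have e3 := inv_mul_eq_one.mp e2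
  exact e3

/-- both elements with central squares -/
theorem pair_right (d : Dat h) {y : P} (hy : y * y ∈ h.Zs) (x : P) :
    ⁅⁅x, y⁆, y⁆ = ⁅x, y⁆ * ⁅x, y⁆ := by
  have hw : ⁅x, y⁆ ∈ NN h := comm_mem_NN d x y
  have e1 := pair_left d hy x
  rw [comm_swap_inv x y, comm_inv_left h (NN_le_Z2 h hw)] at e1
  rw [e1]
  have hz : ⁅x, y⁆ * ⁅x, y⁆ ∈ h.Zs := d.sq_mem_Zs hw
  have : ⁅x, y⁆⁻¹ * ⁅x, y⁆⁻¹ = (⁅x, y⁆ * ⁅x, y⁆)⁻¹ := by group
  rw [this, h.inv_eq_self hz]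

/-- the squared commutator with a fixed element is a homomorphism to `Zs` -/
theorem sqcomm_mul (d : Dat h) (y x x' : P) :
    ⁅x * x', y⁆ * ⁅x * x', y⁆ = (⁅x, y⁆ * ⁅x, y⁆) * (⁅x', y⁆ * ⁅x', y⁆) := by
  have hw : ⁅x, y⁆ ∈ NN h := comm_mem_NN d x y
  have hw' : ⁅x', y⁆ ∈ NN h := comm_mem_NN d x' y
  have e1 : ⁅x * x', y⁆ = ⁅x, ⁅x', y⁆⁆ * (⁅x', y⁆ * ⁅x, y⁆) := by
    simp only [commutatorElement_def, mul_inv_rev, inv_inv, mul_assoc, inv_mul_cancel_left,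
      mul_inv_cancel_left]
  have hz : ⁅x, ⁅x', y⁆⁆ ∈ h.Zs := by
    rw [comm_swap_inv]
    exact inv_mem (d.comm_mem_Zs hw' x)
  have hzc := Subgroup.mem_center_iff.mp (h.Zs_le_center hz)
  have hzz : ⁅x, ⁅x', y⁆⁆ * ⁅x, ⁅x', y⁆⁆ = 1 := hz
  have hc : ⁅x', y⁆ * ⁅x, y⁆ = ⁅x, y⁆ * ⁅x', y⁆ := NN_comm h hw' hw
  rw [e1]
  set z := ⁅x, ⁅x', y⁆⁆
  set a := ⁅x, y⁆
  set b := ⁅x', y⁆
  calc z * (b * a) * (z * (b * a)) = z * ((b * a) * z) * (b * a) := by group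
    _ = z * (z * (b * a)) * (b * a) := by rw [hzc (b * a)]
    _ = (z * z) * ((b * a) * (b * a)) := by group
    _ = (a * b) * (a * b) := by rw [hzz, one_mul, hc]
    _ = a * (b * a) * b := by group
    _ = a * (a * b) * b := by rw [hc]
    _ = a * a * (b * b) := by group

/-- the key counting lemma -/
theorem comm_mem_Zs_of_minimal (d : Dat h) (M' : Subgroup P) (hM' : Inv φ M') (hNM : NN h ≤ M')
    (hmin : ∀ H : Subgroup P, Inv φ H → NN h ≤ H → H ≤ M' → H = NN h ∨ H = M')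
    (hTP : ∀ x ∈ M', x * x ∈ h.Zs) {y : P} (hy : y * y ∈ h.Zs) {x₁ : P} (hx₁ : x₁ ∈ M') :
    ⁅x₁, y⁆ * ⁅x₁, y⁆ = 1 := by
  classical
  haveI := h.fin
  have hCN : CC h = NN h := CC_eq_NN d
  have hmin' : ∀ H : Subgroup P, Inv φ H → CC h ≤ H → H ≤ M' → H = CC h ∨ H = M' := by
    rw [hCN]; exact hmin
  have hab : ∀ a ∈ NN h, ∀ b ∈ NN h, a * b = b * a := fun a ha b hb => NN_comm h ha hb
  by_contra hne
  -- `y ∉ N`
  have hyN : y ∉ NN h := by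
    intro hyN
    apply hne
    have : ⁅x₁, y⁆ = ⁅y, x₁⁆⁻¹ := comm_swap_inv y x₁
    rw [this]
    exact inv_mem (d.comm_mem_Zs hyN x₁)
  set s : P → P := fun x => ⁅x, y⁆ * ⁅x, y⁆ with hs
  have hsmul : ∀ x x', s (x * x') = s x * s x' := fun x x' => sqcomm_mul d y x x'
  have hsZ : ∀ x, s x ∈ h.Zs := fun x => d.sq_mem_Zs (comm_mem_NN d x y)
  -- Step 3
  have step3 : ∀ x ∈ M', ∀ x' ∈ M', s x = s x' → s x ≠ 1 → x⁻¹ * x' ∈ NN h := by
    intro x hx x' hx' hss hs1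
    by_contra hnot
    have hw : ⁅x, y⁆ ∈ NN h := comm_mem_NN d x y
    have hw' : ⁅x', y⁆ ∈ NN h := comm_mem_NN d x' y
    have e1 : ⁅⁅x, y⁆, x⁆ = ⁅x, y⁆ * ⁅x, y⁆ := pair_left d (hTP x hx) y
    have e2 : ⁅⁅x', y⁆, x'⁆ = ⁅x', y⁆ * ⁅x', y⁆ := pair_left d (hTP x' hx') y
    have e3 : ⁅⁅x, y⁆, x'⁆ = ⁅⁅x', y⁆, x'⁆ := d.comm_eq_of_sq_eq hw hw' hss x'
    have e4 : ⁅⁅x, y⁆, x⁻¹ * x'⁆ = 1 := by
      rw [comm_mul_right h (NN_le_Z2 h hw), comm_inv_right h (NN_le_Z2 h hw), e1, e3, e2]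
      have : s x * s x' = 1 := by rw [← hss]; exact hsZ x
      exact this
    have hnotC : x⁻¹ * x' ∉ CC h := by rw [hCN]; exact hnot
    have := sq_eq_one_of_minimal d M' hM' (hCN ▸ hNM) hmin' (mul_mem (inv_mem hx) hx') hnotC hw e4
    exact hs1 this
  -- Step 4
  have hx₁N : x₁ ∉ NN h := by
    intro hx₁N
    apply hne
    exact d.comm_mem_Zs hx₁N y
  have step4 : ∀ x ∈ M', x ∉ NN h → s x ≠ 1 := by
    intro x hx hxN hsx
    have e : s (x₁ * x) = s x₁ := by rw [hsmul, hsx, mul_one]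
    have := step3 x₁ hx₁ (x₁ * x) (mul_mem hx₁ hx) e.symm hne
    rw [inv_mul_cancel_left] at this
    exact hxN this
  -- Step 5
  let f : K → {z : P // z ≠ 1 ∧ z * z = 1} := fun k =>
    ⟨s (φ k x₁), step4 _ (hM' k x₁ hx₁) (fun e => hx₁N ((inv_NN h).mem_iff k x₁ |>.mp e)),
      hsZ _⟩
  have hf : Function.Injective f := by
    intro k k' e
    have e' : s (φ k x₁) = s (φ k' x₁) := congrArg Subtype.val e
    have hmem := step3 _ (hM' k x₁ hx₁) _ (hM' k' x₁ hx₁) e'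
      (step4 _ (hM' k x₁ hx₁) (fun e => hx₁N ((inv_NN h).mem_iff k x₁ |>.mp e)))
    by_contra hkk
    have hk1 : k⁻¹ * k' ≠ 1 := by
      intro e1
      apply hkk
      have := congrArg (fun z => k * z) e1
      exact (by simpa using this : k' = k).symm
    have hmem2 : x₁⁻¹ * φ (k⁻¹ * k') x₁ ∈ NN h := by
      have := inv_NN h k⁻¹ _ hmem
      rw [map_mul, map_inv, ← MulAut.mul_apply, ← map_mul, inv_mul_cancel, map_one,
        ← MulAut.mul_apply, ← map_mul] at this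
      exact this
    exact hx₁N (mem_of_fixed_mod h (NN h) (inv_NN h) hab hk1 hmem2)
  obtain ⟨t, ht1, ht2⟩ := h.exists_involution
  have hbij := h.orbit_bijective ht1 ht2
  haveI := h.finite_K
  have hfsurj : Function.Surjective f := by
    let g := (Equiv.ofBijective _ hbij).symm
    have hgf : Function.Injective (g ∘ f) := g.injective.comp hf
    have := Finite.injective_iff_surjective.mp hgf
    intro z
    obtain ⟨k, hk⟩ := this (g z)
    exact ⟨k, g.injective hk⟩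
  -- Step 6: `y` inverts `N`
  have step6 : ∀ n ∈ NN h, ⁅n, y⁆ = n * n := by
    intro n hn
    by_cases hn2 : n * n = 1
    · rw [hn2]
      exact comm_eq_one_of_central (h.Zs_le_center hn2)
    · obtain ⟨k, hk⟩ := hfsurj ⟨n * n, hn2, d.sq_mem_Zs hn⟩
      have hk' : s (φ k x₁) = n * n := congrArg Subtype.val hk
      have hw : ⁅φ k x₁, y⁆ ∈ NN h := comm_mem_NN d _ y
      have e1 : ⁅⁅φ k x₁, y⁆, y⁆ = ⁅φ k x₁, y⁆ * ⁅φ k x₁, y⁆ := pair_right d hy _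
      have e2 : ⁅n, y⁆ = ⁅⁅φ k x₁, y⁆, y⁆ := d.comm_eq_of_sq_eq hn hw hk'.symm y
      rw [e2, e1]
      exact hk'
  -- Step 7
  obtain ⟨k, hk⟩ := exists_ne_one h
  have hky : y⁻¹ * φ k y ∈ NN h := by
    rw [← hCN, mem_CC_iff]
    intro n hn
    have e1 := step6 n hn
    have e2 : ⁅n, φ k y⁆ = n * n := by
      have hm : φ k⁻¹ n ∈ NN h := inv_NN h k⁻¹ n hn
      have e3 := step6 _ hm
      have e4 := congrArg (φ k) e3
      rw [map_comm, map_mul, ← MulAut.mul_apply, ← map_mul, mul_inv_cancel, map_one] at e4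
      exact e4
    have e3 : ⁅n, y⁻¹ * φ k y⁆ = 1 := by
      rw [comm_mul_right h (NN_le_Z2 h hn), comm_inv_right h (NN_le_Z2 h hn), e1, e2]
      exact d.sq_mem_Zs hn
    rwa [commutatorElement_eq_one_iff_mul_comm] at e3
  exact hyN (mem_of_fixed_mod h (NN h) (inv_NN h) hab hk hky)

end Cfsg.Agent.H9SZ
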