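import Mathlib

set_option autoImplicit false
set_option linter.unusedSectionVars false
set_option linter.style.haveILetI false

/-!
Suzuki 2-groups, part 4: Maschke's theorem for a group of odd order acting on an abelian group of
exponent two.
-/

namespace Cfsg.Agent.H9SZ

/-- a retraction onto a subgroup of an abelian group of exponent two -/
theorem exists_retraction {V : Type*} [CommGroup V] (hexp : ∀ v : V, v * v = 1) (U : Subgroup V) :
    ∃ π : V →* V, (∀ v, π v ∈ U) ∧ ∀ u ∈ U, π u = u := by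
  classical
  letI : Module (ZMod 2) (Additive V) := AddCommGroup.zmodModule (n := 2) (by
    intro x
    rw [two_nsmul]
    exact congrArg Additive.ofMul (hexp x.toMul))
  let U' : Submodule (ZMod 2) (Additive V) :=
    AddSubgroup.toZModSubmodule 2 (Subgroup.toAddSubgroup U)
  have hmem : ∀ x : Additive V, x ∈ U' ↔ x.toMul ∈ U := fun x => Iff.rfl
  obtain ⟨g, hg⟩ := LinearMap.exists_leftInverse_of_injective U'.subtype (Submodule.ker_subtype U')
  let π0 : Additive V →+ Additive V := (U'.subtype.comp g).toAddMonoidHom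
  refine ⟨MonoidHom.toAdditive.symm π0, ?_, ?_⟩
  · intro v
    exact (g (Additive.ofMul v)).2
  · intro u hu
    have := LinearMap.congr_fun hg (⟨Additive.ofMul u, hu⟩ : U')
    have h2 : g (Additive.ofMul u) = ⟨Additive.ofMul u, hu⟩ := this
    show ((g (Additive.ofMul u) : U') : Additive V).toMul = u
    rw [h2]
    rfl

/-- Maschke's theorem for a group of odd order acting on an abelian group of exponent two -/
theorem maschke_two {V : Type*} [CommGroup V] {K : Type*} [Group K] [Finite K]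
    (hK : Odd (Nat.card K)) (ρ : K →* MulAut V) (hexp : ∀ v : V, v * v = 1)
    (U : Subgroup V) (hU : ∀ k, ∀ u ∈ U, ρ k u ∈ U) :
    ∃ W : Subgroup V, (∀ k, ∀ w ∈ W, ρ k w ∈ W) ∧ U ⊓ W = ⊥ ∧ U ⊔ W = ⊤ := by
  classical
  haveI : Fintype K := Fintype.ofFinite K
  obtain ⟨π, hπU, hπid⟩ := exists_retraction hexp U
  let avg : V →* V :=
    { toFun := fun v => ∏ k : K, ρ k (π (ρ k⁻¹ v))
      map_one' := by simp
      map_mul' := by
        intro a b
        simp only [map_mul]
        exact Finset.prod_mul_distrib }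
  have havg : ∀ v, avg v = ∏ k : K, ρ k (π (ρ k⁻¹ v)) := fun v => rfl
  have havgU : ∀ v, avg v ∈ U := fun v => Subgroup.prod_mem _ (fun k _ => hU k _ (hπU _))
  have hodd : ∀ u : V, u ^ Nat.card K = u := by
    intro u
    obtain ⟨m, hm⟩ := hK
    rw [hm, pow_succ, pow_mul, pow_two, hexp, one_pow, one_mul]
  have havgid : ∀ u ∈ U, avg u = u := by
    intro u hu
    rw [havg]
    have : ∀ k : K, ρ k (π (ρ k⁻¹ u)) = u := by
      intro k
      rw [hπid _ (hU k⁻¹ u hu), ← MulAut.mul_apply, ← map_mul, mul_inv_cancel, map_one]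
      rfl
    rw [Finset.prod_congr rfl (fun k _ => this k), Finset.prod_const, Finset.card_univ,
      ← Nat.card_eq_fintype_card]
    exact hodd u
  have hequiv : ∀ (g : K) (v : V), avg (ρ g v) = ρ g (avg v) := by
    intro g v
    rw [havg, havg, map_prod]
    apply Fintype.prod_equiv (Equiv.mulLeft g⁻¹)
    intro k
    show ρ k (π (ρ k⁻¹ (ρ g v))) = ρ g (ρ (g⁻¹ * k) (π (ρ (g⁻¹ * k)⁻¹ v)))
    have e1 : ρ g (ρ (g⁻¹ * k) (π (ρ (g⁻¹ * k)⁻¹ v))) = ρ k (π (ρ (g⁻¹ * k)⁻¹ v)) := by
      rw [← MulAut.mul_apply, ← map_mul, mul_inv_cancel_left]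
    have e2 : ρ (g⁻¹ * k)⁻¹ v = ρ k⁻¹ (ρ g v) := by
      rw [← MulAut.mul_apply, ← map_mul, mul_inv_rev, inv_inv]
    rw [e1, e2]
  refine ⟨avg.ker, ?_, ?_, ?_⟩
  · intro k w hw
    rw [MonoidHom.mem_ker] at hw ⊢
    rw [hequiv, hw, map_one]
  · rw [eq_bot_iff]
    intro v hv
    obtain ⟨hvU, hvW⟩ := Subgroup.mem_inf.mp hv
    rw [MonoidHom.mem_ker] at hvW
    rw [Subgroup.mem_bot, ← havgid v hvU, hvW]
  · rw [eq_top_iff]
    intro v _
    have h1 : v = avg v * ((avg v)⁻¹ * v) := by rw [mul_inv_cancel_left]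
    rw [h1]
    apply Subgroup.mul_mem_sup (havgU v)
    rw [MonoidHom.mem_ker, map_mul, map_inv, havgid _ (havgU v), inv_mul_cancel]

end Cfsg.Agent.H9SZ
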