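import Mathlib
import Cfsg.Agent.Lib.Helper9.SZ11
import Cfsg.Agent.Lib.Helper9.SZ4

set_option autoImplicit false
set_option linter.unusedSectionVars false
set_option linter.style.haveILetI false
set_option linter.unusedSimpArgs false

/-!
Suzuki 2-groups, part 12: invariant complements modulo `N` and the main theorem: a non-abelian
group acted on regularly on its involutions has exponent four.
-/

namespace Cfsg.Agent.H9SZ

open Cfsg.Agent.Lib.Helper3.Hig
open scoped commutatorElement Pointwise

universe u v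

variable {K : Type v} [Group K] {P : Type u} [Group P]

variable {φ : K →* MulAut P}

theorem map_eq_of_inv {N : Subgroup P} (hN : Inv φ N) (k : K) :
    N.map ((φ k : P ≃* P) : P →* P) = N := by
  apply le_antisymm
  · rintro _ ⟨x, hx, rfl⟩
    exact hN k x hx
  · intro x hx
    refine ⟨(φ k).symm x, ?_, (φ k).apply_symm_apply x⟩
    have : (φ k).symm x = φ k⁻¹ x := by
      rw [map_inv]; rfl
    rw [this]
    exact hN k⁻¹ x hx

/-- the induced action on the quotient by an invariant normal subgroup -/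
noncomputable def quotAct (N : Subgroup P) [N.Normal] (hN : Inv φ N) : K →* MulAut (P ⧸ N) where
  toFun k := QuotientGroup.congr N N (φ k) (map_eq_of_inv hN k)
  map_one' := by
    ext x
    induction x using QuotientGroup.induction_on with
    | H x =>
      rw [QuotientGroup.congr_mk, map_one]
      rfl
  map_mul' k k' := by
    ext x
    induction x using QuotientGroup.induction_on with
    | H x =>
      rw [QuotientGroup.congr_mk, map_mul, MulAut.mul_apply, MulAut.mul_apply]
      erw [QuotientGroup.congr_mk]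
      rfl

theorem quotAct_mk (N : Subgroup P) [N.Normal] (hN : Inv φ N) (k : K) (x : P) :
    quotAct N hN k (QuotientGroup.mk x) = QuotientGroup.mk (φ k x) :=
  QuotientGroup.congr_mk _ _ _ (map_eq_of_inv hN k) x

/-- invariant complements modulo an invariant normal subgroup with elementary abelian quotient -/
theorem exists_inv_complement (h : Reg φ) (N : Subgroup P) [N.Normal] (hN : Inv φ N)
    (hab : ∀ a b : P, ⁅a, b⁆ ∈ N) (hsq : ∀ a : P, a * a ∈ N)
    (R : Subgroup P) (hR : Inv φ R) (hNR : N ≤ R) :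
    ∃ M'' : Subgroup P, Inv φ M'' ∧ N ≤ M'' ∧ M'' ⊓ R = N ∧ M'' ⊔ R = ⊤ := by
  classical
  haveI := h.fin
  haveI := h.finite_K
  letI : CommGroup (P ⧸ N) :=
    { (inferInstance : Group (P ⧸ N)) with
      mul_comm := by
        intro a b
        induction a using QuotientGroup.induction_on with
        | H a =>
          induction b using QuotientGroup.induction_on with
          | H b =>
            rw [← commutatorElement_eq_one_iff_mul_comm]
            have : (⁅(QuotientGroup.mk a : P ⧸ N), (QuotientGroup.mk b : P ⧸ N)⁆) =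
                QuotientGroup.mk ⁅a, b⁆ := by
              simp only [commutatorElement_def, QuotientGroup.mk_mul, QuotientGroup.mk_inv]
            rw [this, QuotientGroup.eq_one_iff]
            exact hab a b }
  have hexp : ∀ v : P ⧸ N, v * v = 1 := by
    intro v
    induction v using QuotientGroup.induction_on with
    | H a =>
      rw [← QuotientGroup.mk_mul, QuotientGroup.eq_one_iff]
      exact hsq a
  let ρ := quotAct N hN
  let U : Subgroup (P ⧸ N) := R.map (QuotientGroup.mk' N)
  have hU : ∀ k, ∀ u ∈ U, ρ k u ∈ U := by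
    rintro k _ ⟨r, hr, rfl⟩
    refine ⟨φ k r, hR k r hr, ?_⟩
    rw [QuotientGroup.mk'_apply, QuotientGroup.mk'_apply]
    exact (quotAct_mk N hN k r).symm
  obtain ⟨W, hWinv, hUW, hUW'⟩ := maschke_two h.odd_card_K ρ hexp U hU
  refine ⟨W.comap (QuotientGroup.mk' N), ?_, ?_, ?_, ?_⟩
  · intro k a ha
    rw [Subgroup.mem_comap, QuotientGroup.mk'_apply] at ha ⊢
    rw [← quotAct_mk N hN k a]
    exact hWinv k _ ha
  · intro n hn
    rw [Subgroup.mem_comap, QuotientGroup.mk'_apply, (QuotientGroup.eq_one_iff n).mpr hn]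
    exact one_mem _
  · apply le_antisymm
    · intro a ha
      obtain ⟨ha1, ha2⟩ := Subgroup.mem_inf.mp ha
      rw [Subgroup.mem_comap] at ha1
      have : (QuotientGroup.mk' N) a ∈ U ⊓ W :=
        Subgroup.mem_inf.mpr ⟨Subgroup.mem_map_of_mem _ ha2, ha1⟩
      rw [hUW, Subgroup.mem_bot, QuotientGroup.mk'_apply, QuotientGroup.eq_one_iff] at this
      exact this
    · intro n hn
      refine Subgroup.mem_inf.mpr ⟨?_, hNR hn⟩
      rw [Subgroup.mem_comap, QuotientGroup.mk'_apply, (QuotientGroup.eq_one_iff n).mpr hn]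
      exact one_mem _
  · rw [eq_top_iff]
    intro a _
    have hmem : (QuotientGroup.mk' N) a ∈ U ⊔ W := by rw [hUW']; exact Subgroup.mem_top _
    obtain ⟨u, hu, w, hw, huw⟩ := Subgroup.mem_sup.mp hmem
    obtain ⟨r, hr, rfl⟩ := hu
    have hw' : (QuotientGroup.mk' N) (r⁻¹ * a) = w := by
      rw [map_mul, map_inv, ← huw, inv_mul_cancel_left]
    have h1 : r⁻¹ * a ∈ W.comap (QuotientGroup.mk' N) := by
      rw [Subgroup.mem_comap, hw']
      exact hw
    have h2 : a = r * (r⁻¹ * a) := by group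
    rw [h2]
    exact mul_mem ((le_sup_right : R ≤ _ ⊔ R) hr) ((le_sup_left : _ ≤ _ ⊔ R) h1)

/-- minimal invariant subgroups strictly above a subgroup, inside a given invariant subgroup -/
theorem exists_minimal_between [Finite P] (φ : K →* MulAut P) (C M'' : Subgroup P)
    (hM'' : Inv φ M'') (hlt : C < M'') :
    ∃ M' : Subgroup P, Inv φ M' ∧ C < M' ∧ M' ≤ M'' ∧
      ∀ H : Subgroup P, Inv φ H → C ≤ H → H ≤ M' → H = C ∨ H = M' := by
  classical
  let S : Set (Subgroup P) := {H | Inv φ H ∧ C < H ∧ H ≤ M''}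
  have hne : S.Nonempty := ⟨M'', hM'', hlt, le_refl _⟩
  obtain ⟨M', hM'S, hM'min⟩ := WellFounded.has_min (wellFounded_lt (α := Subgroup P)) S hne
  refine ⟨M', hM'S.1, hM'S.2.1, hM'S.2.2, ?_⟩
  intro H hH hCH hHM
  by_cases e : H = C
  · exact Or.inl e
  · right
    have hlt' : C < H := lt_of_le_of_ne hCH (Ne.symm e)
    have := hM'min H ⟨hH, hlt', hHM.trans hM'S.2.2⟩
    exact le_antisymm hHM (by
      by_contra hnle
      exact this (lt_of_le_of_ne hHM (fun e2 => hnle (e2 ▸ le_refl _))))

/-- with the data: every square lies in `Zs` -/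
theorem sq_mem_Zs_of_dat {h : Reg φ} (d : Dat h) (x : P) : x * x ∈ h.Zs := by
  classical
  haveI := h.fin
  have hCN : CC h = NN h := CC_eq_NN d
  -- invariant subgroups above `N` all of whose squares lie in `Zs`
  let T : Set (Subgroup P) := {R | Inv φ R ∧ NN h ≤ R ∧ ∀ r ∈ R, r * r ∈ h.Zs}
  have hne : T.Nonempty := ⟨NN h, inv_NN h, le_refl _, fun r hr => d.sq_mem_Zs hr⟩
  obtain ⟨R, hRT, hRmax⟩ := WellFounded.has_min (wellFounded_gt (α := Subgroup P)) T hne
  obtain ⟨hRinv, hNR, hRTP⟩ := hRT
  by_cases hRtop : R = ⊤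
  · exact hRTP x (hRtop ▸ Subgroup.mem_top x)
  exfalso
  obtain ⟨M'', hM''inv, hNM'', hinf, hsup⟩ := exists_inv_complement h (NN h) (inv_NN h)
    (fun a b => comm_mem_NN d a b) (fun a => sq_mem_NN d a) R hRinv hNR
  have hlt : NN h < M'' := by
    apply lt_of_le_of_ne hNM''
    intro e
    apply hRtop
    rw [← hsup, ← e]
    exact (sup_eq_right.mpr hNR).symm
  obtain ⟨M', hM'inv, hNM', hM'M'', hmin⟩ := exists_minimal_between φ (NN h) M'' hM''inv hlt
  have hmin' : ∀ H : Subgroup P, Inv φ H → CC h ≤ H → H ≤ M' → H = CC h ∨ H = M' := by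
    rw [hCN]; exact hmin
  -- squares of elements of `M'` lie in `Zs`
  have hTP' : ∀ y ∈ M', y * y ∈ h.Zs := by
    intro y hy
    by_cases hyN : y ∈ NN h
    · exact d.sq_mem_Zs hyN
    · have hyC : y ∉ CC h := by rw [hCN]; exact hyN
      have e : ⁅y * y, y⁆ = 1 := by
        rw [commutatorElement_eq_one_iff_mul_comm, mul_assoc]
      exact sq_eq_one_of_minimal d M' hM'inv (hCN ▸ hNM'.le) hmin' hy hyC (sq_mem_NN d y) e
  -- `M'` is not contained in `R`
  have hM'R : ¬ M' ≤ R := by
    intro hle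
    have : M' ≤ NN h := by
      rw [← hinf]
      exact le_inf hM'M'' hle
    exact absurd (lt_of_lt_of_le hNM' this) (lt_irrefl _)
  -- the join has again the property
  haveI : M'.Normal := normal_of_CC_le h (hCN ▸ hNM'.le)
  have hjoin : ∀ r ∈ R ⊔ M', r * r ∈ h.Zs := by
    intro r hr
    have hr' : r ∈ (R : Set P) * (M' : Set P) := by
      rw [← Subgroup.mul_normal]
      exact hr
    obtain ⟨y, hy, z, hz, rfl⟩ := Set.mem_mul.mp hr'
    have e : (y * z) * (y * z) = (y * y) * ⁅y⁻¹, z⁆ * (z * z) := by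
      simp only [commutatorElement_def, mul_inv_rev, inv_inv, mul_assoc, inv_mul_cancel_left,
        mul_inv_cancel_left]
    rw [e]
    have hyi : y⁻¹ * y⁻¹ ∈ h.Zs := by
      have : y⁻¹ * y⁻¹ = (y * y)⁻¹ := by group
      rw [this]
      exact inv_mem (hRTP y hy)
    have hc : ⁅z, y⁻¹⁆ ∈ h.Zs :=
      comm_mem_Zs_of_minimal d M' hM'inv hNM'.le hmin hTP' hyi hz
    have hc' : ⁅y⁻¹, z⁆ ∈ h.Zs := by
      rw [comm_swap_inv]
      exact inv_mem hc
    exact mul_mem (mul_mem (hRTP y hy) hc') (hTP' z hz)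
  have hT' : R ⊔ M' ∈ T := ⟨hRinv.sup hM'inv, hNR.trans le_sup_left, hjoin⟩
  have hgt : R < R ⊔ M' := by
    apply lt_of_le_of_ne le_sup_left
    intro e
    apply hM'R
    rw [e]
    exact le_sup_right
  exact hRmax _ hT' hgt

end Cfsg.Agent.H9SZ
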