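import Mathlib
import Cfsg.Agent.Lib.Helper9.SZ12

set_option autoImplicit false
set_option linter.unusedSectionVars false
set_option linter.style.haveILetI false
set_option linter.unusedSimpArgs false

/-!
Suzuki 2-groups, part 13: the main theorem in its final form: squares and commutators lie in `Zs`.
-/

namespace Cfsg.Agent.H9SZ

open Cfsg.Agent.Lib.Helper3.Hig
open scoped commutatorElement

universe u v

variable {K : Type v} [Group K] {P : Type u} [Group P]

variable {φ : K →* MulAut P}

/-- **Higman**: in a non-abelian group acted on regularly on its involutions every square has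
order at most two -/
theorem sq_mem_Zs_of_nonabelian (h : Reg φ) (hna : ∃ x y : P, x * y ≠ y * x) (x : P) :
    x * x ∈ h.Zs := by
  by_contra hx
  obtain ⟨a₀, ha₀, ha₀2⟩ := exists_mem_NN_not_Zs h (x₀ := x) hx
  obtain ⟨t, ht1, ht2⟩ := h.exists_involution
  exact hx (sq_mem_Zs_of_dat (⟨hna, a₀, ha₀, ha₀2, t, ht1, ht2⟩ : Dat h) x)

/-- commutators have order at most two -/
theorem comm_mem_Zs_of_nonabelian (h : Reg φ) (hna : ∃ x y : P, x * y ≠ y * x) (x y : P) :
    ⁅x, y⁆ ∈ h.Zs := by
  have e : ⁅x, y⁆ = (x * x) * ((x⁻¹ * y) * (x⁻¹ * y)) * (y⁻¹ * y⁻¹) := by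
    simp only [commutatorElement_def, mul_inv_rev, inv_inv, mul_assoc, inv_mul_cancel_left,
      mul_inv_cancel_left]
  rw [e]
  exact mul_mem (mul_mem (sq_mem_Zs_of_nonabelian h hna x) (sq_mem_Zs_of_nonabelian h hna _))
    (sq_mem_Zs_of_nonabelian h hna _)

/-- the fourth power of every element is trivial -/
theorem pow_four_eq_one (h : Reg φ) (hna : ∃ x y : P, x * y ≠ y * x) (x : P) : x ^ 4 = 1 := by
  have := sq_mem_Zs_of_nonabelian h hna x
  have e : x ^ 4 = (x * x) * (x * x) := by
    simp only [pow_succ, pow_zero, one_mul, mul_assoc]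
  rw [e]
  exact this

end Cfsg.Agent.H9SZ
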