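import Mathlib

set_option autoImplicit false
set_option linter.unusedSectionVars false
set_option linter.style.haveILetI false
set_option linter.unusedSimpArgs false

/-!
Suzuki 2-groups, part 14: quadratic maps over the field with two elements, their polynomial
representation, and the Chevalley–Warning bound for anisotropic quadratic maps.
-/

namespace Cfsg.Agent.H9SZ

open MvPolynomial

/-- quadratic functions on `F_2^m` -/
def IsQuad {m : ℕ} (q : (Fin m → ZMod 2) → ZMod 2) : Prop :=
  ∃ b : (Fin m → ZMod 2) → (Fin m → ZMod 2) → ZMod 2,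
    (∀ u v, q (u + v) = q u + q v + b u v) ∧ (∀ u v v', b u (v + v') = b u v + b u v') ∧
    (∀ u u' v, b (u + u') v = b u v + b u' v)

theorem zmod2_add_self (a : ZMod 2) : a + a = 0 := by
  fin_cases a <;> rfl

theorem zmod2_cases (a : ZMod 2) : a = 0 ∨ a = 1 := by
  fin_cases a
  · left; rfl
  · right; rfl

theorem IsQuad.map_zero {m : ℕ} {q : (Fin m → ZMod 2) → ZMod 2} (hq : IsQuad q) : q 0 = 0 := by
  obtain ⟨b, hb, hb1, -⟩ := hq
  have h0 : b 0 0 = 0 := by
    have := hb1 0 0 0
    rw [add_zero, zmod2_add_self] at this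
    exact this
  have := hb 0 0
  rw [add_zero, h0, add_zero, zmod2_add_self] at this
  exact this

theorem additive_eq_sum {m : ℕ} (l : (Fin m → ZMod 2) → ZMod 2)
    (hl : ∀ u v, l (u + v) = l u + l v) (w : Fin m → ZMod 2) :
    l w = ∑ j, w j * l (Pi.single j 1) := by
  classical
  let l' : (Fin m → ZMod 2) →+ ZMod 2 := AddMonoidHom.mk' l hl
  have h1 : ∀ (j : Fin m) (a : ZMod 2), l' (Pi.single j a) = a * l' (Pi.single j 1) := by
    intro j a
    rcases zmod2_cases a with rfl | rfl
    · rw [Pi.single_zero, map_zero, zero_mul]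
    · rw [one_mul]
  have h2 : l' w = ∑ j, l' (Pi.single j (w j)) := by
    conv_lhs => rw [← Finset.univ_sum_single w]
    rw [map_sum]
  show l' w = ∑ j, w j * l' (Pi.single j 1)
  rw [h2]
  apply Finset.sum_congr rfl
  intro j _
  exact h1 j (w j)

theorem IsQuad.exists_poly : ∀ (m : ℕ) (q : (Fin m → ZMod 2) → ZMod 2), IsQuad q →
    ∃ f : MvPolynomial (Fin m) (ZMod 2), f.totalDegree ≤ 2 ∧ ∀ v, eval v f = q v := by
  intro m
  induction m with
  | zero =>
    intro q hq
    refine ⟨0, by simp, ?_⟩
    intro v
    have : v = 0 := Subsingleton.elim _ _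
    rw [this, hq.map_zero]
    simp
  | succ m ih =>
    intro q hq
    classical
    have hq0 := hq.map_zero
    obtain ⟨b, hb, hb1, hb2⟩ := hq
    let e₀ : Fin (m + 1) → ZMod 2 := Pi.single 0 1
    let ι : (Fin m → ZMod 2) → (Fin (m + 1) → ZMod 2) := fun w => Fin.cons 0 w
    have hι : ∀ w w', ι (w + w') = ι w + ι w' := by
      intro w w'
      funext i
      refine Fin.cases ?_ (fun j => ?_) i
      · simp [ι]
      · simp [ι]
    have hdec : ∀ v : Fin (m + 1) → ZMod 2, v = (v 0) • e₀ + ι (Fin.tail v) := by
      intro v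
      funext i
      refine Fin.cases ?_ (fun j => ?_) i
      · simp [ι, e₀]
      · simp [ι, e₀, Fin.tail]
    have hb0 : ∀ v, b 0 v = 0 := by
      intro v
      have := hb2 0 0 v
      rw [add_zero, zmod2_add_self] at this
      exact this
    -- the restriction to the last coordinates
    have hq' : IsQuad (q ∘ ι) := by
      refine ⟨fun u v => b (ι u) (ι v), ?_, ?_, ?_⟩
      · intro u v
        show q (ι (u + v)) = q (ι u) + q (ι v) + b (ι u) (ι v)
        rw [hι, hb]
      · intro u v v'
        show b (ι u) (ι (v + v')) = b (ι u) (ι v) + b (ι u) (ι v')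
        rw [hι, hb1]
      · intro u u' v
        show b (ι (u + u')) (ι v) = b (ι u) (ι v) + b (ι u') (ι v)
        rw [hι, hb2]
    obtain ⟨g, hgdeg, hg⟩ := ih (q ∘ ι) hq'
    let l : (Fin m → ZMod 2) → ZMod 2 := fun w => b e₀ (ι w)
    have hl : ∀ u v, l (u + v) = l u + l v := by
      intro u v
      show b e₀ (ι (u + v)) = b e₀ (ι u) + b e₀ (ι v)
      rw [hι, hb1]
    let lin : MvPolynomial (Fin m) (ZMod 2) := ∑ j, C (l (Pi.single j 1)) * X j
    have hlin : ∀ w, eval w lin = l w := by
      intro w
      rw [additive_eq_sum l hl w]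
      simp only [lin, map_sum, map_mul, eval_C, eval_X]
      apply Finset.sum_congr rfl
      intro j _
      rw [mul_comm]
    have hlindeg : lin.totalDegree ≤ 1 := by
      apply (totalDegree_finsetSum _ _).trans
      apply Finset.sup_le
      intro j _
      apply (totalDegree_mul _ _).trans
      rw [totalDegree_C, totalDegree_X, zero_add]
    refine ⟨C (q e₀) * X 0 + rename Fin.succ g + X 0 * rename Fin.succ lin, ?_, ?_⟩
    · apply (totalDegree_add _ _).trans
      apply max_le
      · apply (totalDegree_add _ _).trans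
        apply max_le
        · apply (totalDegree_mul _ _).trans
          rw [totalDegree_C, totalDegree_X]
          norm_num
        · exact (totalDegree_rename_le _ _).trans hgdeg
      · apply (totalDegree_mul _ _).trans
        rw [totalDegree_X]
        have := (totalDegree_rename_le Fin.succ lin).trans hlindeg
        omega
    · intro v
      have htail : v ∘ Fin.succ = Fin.tail v := rfl
      have hev : eval v (C (q e₀) * X 0 + rename Fin.succ g + X 0 * rename Fin.succ lin) =
          q e₀ * v 0 + q (ι (Fin.tail v)) + v 0 * l (Fin.tail v) := by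
        simp only [map_add, map_mul, eval_C, eval_X, eval_rename, htail, hg, hlin]
        rfl
      rw [hev]
      conv_rhs => rw [hdec v, hb]
      rcases zmod2_cases (v 0) with h0 | h1
      · rw [h0, zero_smul, hq0, hb0]
        ring
      · rw [h1, one_smul]
        ring

/-- **Chevalley–Warning bound**: an anisotropic quadratic map `F_2^m → F_2^n` has `m ≤ 2n` -/
theorem aniso_bound {m n : ℕ} (q : (Fin m → ZMod 2) → (Fin n → ZMod 2))
    (b : (Fin m → ZMod 2) → (Fin m → ZMod 2) → (Fin n → ZMod 2))
    (hq : ∀ u v, q (u + v) = q u + q v + b u v)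
    (hb1 : ∀ u v v', b u (v + v') = b u v + b u v')
    (hb2 : ∀ u u' v, b (u + u') v = b u v + b u' v)
    (haniso : ∀ v, q v = 0 → v = 0) : m ≤ 2 * n := by
  classical
  by_contra hlt
  push Not at hlt
  have hquad : ∀ l : Fin n, IsQuad (fun v => q v l) := by
    intro l
    refine ⟨fun u v => b u v l, ?_, ?_, ?_⟩
    · intro u v
      show q (u + v) l = q u l + q v l + b u v l
      rw [hq]; rfl
    · intro u v v'
      show b u (v + v') l = b u v l + b u v' l
      rw [hb1]; rfl
    · intro u u' v
      show b (u + u') v l = b u v l + b u' v l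
      rw [hb2]; rfl
  choose f hfdeg hf using fun l => IsQuad.exists_poly m _ (hquad l)
  have hsum : ∑ l ∈ (Finset.univ : Finset (Fin n)), (f l).totalDegree < Fintype.card (Fin m) := by
    calc ∑ l ∈ (Finset.univ : Finset (Fin n)), (f l).totalDegree
        ≤ ∑ _l ∈ (Finset.univ : Finset (Fin n)), 2 := Finset.sum_le_sum (fun l _ => hfdeg l)
      _ = 2 * n := by simp [mul_comm]
      _ < Fintype.card (Fin m) := by rw [Fintype.card_fin]; exact hlt
  have hdvd := char_dvd_card_solutions_of_sum_lt (K := ZMod 2) 2 hsum
  have hcard : Nat.card {x : Fin m → ZMod 2 //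
      ∀ i ∈ (Finset.univ : Finset (Fin n)), eval x (f i) = 0} = 1 := by
    rw [Nat.card_eq_one_iff_unique]
    constructor
    · constructor
      rintro ⟨x, hx⟩ ⟨y, hy⟩
      apply Subtype.ext
      have hx0 : x = 0 := by
        apply haniso
        funext l
        have := hx l (Finset.mem_univ _)
        rw [hf] at this
        exact this
      have hy0 : y = 0 := by
        apply haniso
        funext l
        have := hy l (Finset.mem_univ _)
        rw [hf] at this
        exact this
      show x = y
      rw [hx0, hy0]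
    · refine ⟨⟨0, ?_⟩⟩
      intro i _
      rw [hf]
      exact (hquad i).map_zero
  have hdvd' : 2 ∣ Nat.card {x : Fin m → ZMod 2 //
      ∀ i ∈ (Finset.univ : Finset (Fin n)), eval x (f i) = 0} := by
    rw [Nat.card_eq_fintype_card]
    convert hdvd
  rw [hcard] at hdvd'
  exact absurd hdvd' (by norm_num)

/-- a finite abelian group of exponent two is a vector space over the field with two elements -/
theorem exists_addEquiv_pi {A : Type*} [AddCommGroup A] [Finite A] (h2 : ∀ a : A, a + a = 0) :
    ∃ k : ℕ, Nonempty (A ≃+ (Fin k → ZMod 2)) ∧ Nat.card A = 2 ^ k := by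
  classical
  letI : Module (ZMod 2) A := AddCommGroup.zmodModule (n := 2) (by
    intro x
    rw [two_nsmul]
    exact h2 x)
  haveI : Module.Finite (ZMod 2) A := Module.Finite.of_finite
  let bs := Module.finBasis (ZMod 2) A
  let e : A ≃+ (Fin (Module.finrank (ZMod 2) A) → ZMod 2) := bs.equivFun.toAddEquiv
  refine ⟨Module.finrank (ZMod 2) A, ⟨e⟩, ?_⟩
  rw [Nat.card_congr e.toEquiv, Nat.card_eq_fintype_card, Fintype.card_fun, ZMod.card,
    Fintype.card_fin]

end Cfsg.Agent.H9SZ
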