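import Mathlib
import Cfsg.Agent.Lib.Helper9.SZ14
import Cfsg.Agent.Lib.Helper3.Hig3

set_option autoImplicit false
set_option linter.unusedSectionVars false
set_option linter.style.haveILetI false
set_option linter.unusedSimpArgs false

/-!
Suzuki 2-groups, part 15: a group with a central elementary abelian subgroup `Z` containing all
squares and all involutions has order at most `|Z|^3`.
-/

namespace Cfsg.Agent.H9SZ

open Cfsg.Agent.Lib.Helper3.Hig
open scoped commutatorElement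

theorem card_le_cube {P : Type*} [Group P] [Finite P] (Z : Subgroup P)
    (hZc : Z ≤ Subgroup.center P) (hZ2 : ∀ z ∈ Z, z * z = 1) (hsq : ∀ x : P, x * x ∈ Z)
    (hinv : ∀ x : P, x * x = 1 → x ∈ Z) : Nat.card P ≤ Nat.card Z ^ 3 := by
  classical
  have hcen : ∀ z ∈ Z, ∀ g : P, g * z = z * g := fun z hz g =>
    Subgroup.mem_center_iff.mp (hZc hz) g
  haveI hZn : Z.Normal := by
    constructor
    intro n hn g
    rw [hcen n hn g, mul_inv_cancel_right]
    exact hn
  -- commutators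
  have c1 : ∀ x y : P, ⁅x, y⁆ ∈ Z := by
    intro x y
    have e : ⁅x, y⁆ = (x * x) * ((x⁻¹ * y) * (x⁻¹ * y)) * (y⁻¹ * y⁻¹) := by
      simp only [commutatorElement_def, mul_inv_rev, inv_inv, mul_assoc, inv_mul_cancel_left,
        mul_inv_cancel_left]
    rw [e]
    exact mul_mem (mul_mem (hsq x) (hsq _)) (hsq _)
  have c2 : ∀ x x' y : P, ⁅x * x', y⁆ = ⁅x, y⁆ * ⁅x', y⁆ := by
    intro x x' y
    rw [comm_mul_left_of_central (hZc (c1 x' y))]
    exact hcen _ (c1 x y) _
  have c3 : ∀ x y y' : P, ⁅x, y * y'⁆ = ⁅x, y⁆ * ⁅x, y'⁆ := fun x y y' =>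
    comm_mul_right_of_central (hZc (c1 x y'))
  have c4 : ∀ z ∈ Z, ∀ y : P, ⁅z, y⁆ = 1 := fun z hz y => comm_eq_one_of_central (hZc hz)
  have c4' : ∀ z ∈ Z, ∀ y : P, ⁅y, z⁆ = 1 := fun z hz y => comm_eq_one_of_central' (hZc hz)
  have c5 : ∀ x y : P, (x * y) * (x * y) = (x * x) * (y * y) * ⁅x, y⁆ := by
    intro x y
    have e1 : (x * y) * (x * y) = (x * x) * ⁅x⁻¹, y⁆ * (y * y) := by
      simp only [commutatorElement_def, mul_inv_rev, inv_inv, mul_assoc, inv_mul_cancel_left,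
        mul_inv_cancel_left]
    have e2 : ⁅x⁻¹, y⁆ = ⁅x, y⁆ := by
      have h1 := c2 x x⁻¹ y
      rw [mul_inv_cancel, commutatorElement_one_left] at h1
      have h2 := hZ2 _ (c1 x y)
      calc ⁅x⁻¹, y⁆ = (⁅x, y⁆ * ⁅x, y⁆) * ⁅x⁻¹, y⁆ := by rw [h2, one_mul]
        _ = ⁅x, y⁆ * (⁅x, y⁆ * ⁅x⁻¹, y⁆) := by rw [mul_assoc]
        _ = ⁅x, y⁆ := by rw [← h1, mul_one]
    rw [e1, e2, mul_assoc, ← hcen _ (c1 x y) (y * y), ← mul_assoc]
  have c6 : ∀ x : P, ∀ z ∈ Z, (x * z) * (x * z) = x * x := by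
    intro x z hz
    calc (x * z) * (x * z) = x * (z * x) * z := by group
      _ = x * (x * z) * z := by rw [hcen z hz x]
      _ = (x * x) * (z * z) := by group
      _ = x * x := by rw [hZ2 z hz, mul_one]
  -- the quotient
  letI : CommGroup (P ⧸ Z) :=
    { (inferInstance : Group (P ⧸ Z)) with
      mul_comm := by
        intro a b
        induction a using QuotientGroup.induction_on with
        | H a =>
          induction b using QuotientGroup.induction_on with
          | H b =>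
            rw [← commutatorElement_eq_one_iff_mul_comm]
            have : (⁅(QuotientGroup.mk a : P ⧸ Z), (QuotientGroup.mk b : P ⧸ Z)⁆) =
                QuotientGroup.mk ⁅a, b⁆ := by
              simp only [commutatorElement_def, QuotientGroup.mk_mul, QuotientGroup.mk_inv]
            rw [this, QuotientGroup.eq_one_iff]
            exact c1 a b }
  letI : CommGroup ↥Z :=
    { (inferInstance : Group ↥Z) with
      mul_comm := by
        intro a b
        apply Subtype.ext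
        exact hcen b b.2 a }
  have hV2 : ∀ a : Additive (P ⧸ Z), a + a = 0 := by
    intro a
    induction a using Additive.rec with
    | ofMul v =>
      induction v using QuotientGroup.induction_on with
      | H x =>
        rw [← ofMul_mul, ← QuotientGroup.mk_mul, (QuotientGroup.eq_one_iff _).mpr (hsq x)]
        rfl
  have hZ2' : ∀ a : Additive ↥Z, a + a = 0 := by
    intro a
    induction a using Additive.rec with
    | ofMul z =>
      rw [← ofMul_mul]
      have : z * z = 1 := Subtype.ext (hZ2 z z.2)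
      rw [this]
      rfl
  obtain ⟨m, ⟨L⟩, hm⟩ := exists_addEquiv_pi hV2
  obtain ⟨n, ⟨ψ⟩, hn⟩ := exists_addEquiv_pi hZ2'
  let ζ : ↥Z → (Fin n → ZMod 2) := fun z => ψ (Additive.ofMul z)
  have hζmul : ∀ z z' : ↥Z, ζ (z * z') = ζ z + ζ z' := by
    intro z z'
    show ψ (Additive.ofMul (z * z')) = _
    rw [ofMul_mul, map_add]
  have hζ0 : ∀ z : ↥Z, ζ z = 0 → z = 1 := by
    intro z hz
    have : Additive.ofMul z = 0 := by
      apply ψ.injective
      rw [map_zero]
      exact hz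
    exact this
  let g : (Fin m → ZMod 2) → P := fun v =>
    Function.surjInv (QuotientGroup.mk_surjective (s := Z)) (Additive.toMul (L.symm v))
  have hg : ∀ v, (QuotientGroup.mk (g v) : P ⧸ Z) = Additive.toMul (L.symm v) := fun v =>
    Function.surjInv_eq _ _
  have hgadd : ∀ u v, ∃ z ∈ Z, g (u + v) = g u * g v * z := by
    intro u v
    refine ⟨(g u * g v)⁻¹ * g (u + v), ?_, by group⟩
    rw [← QuotientGroup.eq, QuotientGroup.mk_mul, hg, hg, hg, map_add]
    rfl
  let q : (Fin m → ZMod 2) → (Fin n → ZMod 2) := fun v => ζ ⟨g v * g v, hsq _⟩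
  let b : (Fin m → ZMod 2) → (Fin m → ZMod 2) → (Fin n → ZMod 2) := fun u v =>
    ζ ⟨⁅g u, g v⁆, c1 _ _⟩
  have hq : ∀ u v, q (u + v) = q u + q v + b u v := by
    intro u v
    obtain ⟨z, hz, e⟩ := hgadd u v
    show ζ ⟨g (u + v) * g (u + v), hsq _⟩ = ζ ⟨g u * g u, hsq _⟩ + ζ ⟨g v * g v, hsq _⟩ +
      ζ ⟨⁅g u, g v⁆, c1 _ _⟩
    rw [← hζmul, ← hζmul]
    congr 1
    apply Subtype.ext
    show g (u + v) * g (u + v) = (g u * g u) * (g v * g v) * ⁅g u, g v⁆
    rw [e, c6 _ z hz, c5]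
  have hb1 : ∀ u v v', b u (v + v') = b u v + b u v' := by
    intro u v v'
    obtain ⟨z, hz, e⟩ := hgadd v v'
    show ζ ⟨⁅g u, g (v + v')⁆, c1 _ _⟩ = ζ ⟨⁅g u, g v⁆, c1 _ _⟩ + ζ ⟨⁅g u, g v'⁆, c1 _ _⟩
    rw [← hζmul]
    congr 1
    apply Subtype.ext
    show ⁅g u, g (v + v')⁆ = ⁅g u, g v⁆ * ⁅g u, g v'⁆
    rw [e, c3, c3, c4' z hz, mul_one]
  have hb2 : ∀ u u' v, b (u + u') v = b u v + b u' v := by
    intro u u' v
    obtain ⟨z, hz, e⟩ := hgadd u u'
    show ζ ⟨⁅g (u + u'), g v⁆, c1 _ _⟩ = ζ ⟨⁅g u, g v⁆, c1 _ _⟩ + ζ ⟨⁅g u', g v⁆, c1 _ _⟩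
    rw [← hζmul]
    congr 1
    apply Subtype.ext
    show ⁅g (u + u'), g v⁆ = ⁅g u, g v⁆ * ⁅g u', g v⁆
    rw [e, c2, c2, c4 z hz, mul_one]
  have haniso : ∀ v, q v = 0 → v = 0 := by
    intro v hv
    have h1 : (⟨g v * g v, hsq _⟩ : ↥Z) = 1 := hζ0 _ hv
    have h2 : g v * g v = 1 := congrArg Subtype.val h1
    have h3 : g v ∈ Z := hinv _ h2
    have h4 : (QuotientGroup.mk (g v) : P ⧸ Z) = 1 := (QuotientGroup.eq_one_iff _).mpr h3
    rw [hg] at h4
    have h5 : L.symm v = 0 := h4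
    have := congrArg L h5
    rwa [AddEquiv.apply_symm_apply, map_zero] at this
  have hmn := aniso_bound q b hq hb1 hb2 haniso
  have hcardV : Nat.card (P ⧸ Z) = 2 ^ m := by
    rw [← hm]
    exact Nat.card_congr Additive.ofMul
  have hcardZ : Nat.card ↥Z = 2 ^ n := by
    rw [← hn]
    exact Nat.card_congr Additive.ofMul
  rw [Subgroup.card_eq_card_quotient_mul_card_subgroup Z, hcardV, hcardZ]
  calc 2 ^ m * 2 ^ n ≤ 2 ^ (2 * n) * 2 ^ n :=
        Nat.mul_le_mul_right _ (Nat.pow_le_pow_right (by norm_num) hmn)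
    _ = (2 ^ n) ^ 3 := by ring

end Cfsg.Agent.H9SZ
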