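import Mathlib
import Cfsg.Agent.Lib.Helper9.SZ13
import Cfsg.Agent.Lib.Helper9.SZ15

set_option autoImplicit false
set_option linter.unusedSectionVars false
set_option linter.style.haveILetI false
set_option linter.unusedSimpArgs false

/-!
Suzuki 2-groups, part 16: the order of a Suzuki 2-group is `q^2` or `q^3`.
-/

namespace Cfsg.Agent.H9SZ

open Cfsg.Agent.Lib.Helper3.Hig
open scoped commutatorElement

universe u v

/-- a free action of a finite group on a finite set: the order divides the cardinality -/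
theorem card_dvd_of_free {G X : Type*} [Group G] [MulAction G X] [Finite G] [Finite X]
    (hfree : ∀ (g : G) (x : X), g • x = x → g = 1) : Nat.card G ∣ Nat.card X := by
  classical
  haveI : Fintype (MulAction.orbitRel.Quotient G X) := Fintype.ofFinite _
  have e := MulAction.selfEquivSigmaOrbitsQuotientStabilizer G X
  rw [Nat.card_congr e, Nat.card_sigma]
  apply Finset.dvd_sum
  intro ω _
  have hst : MulAction.stabilizer G (Quotient.out ω) = ⊥ := by
    rw [eq_bot_iff]
    intro g hg
    rw [Subgroup.mem_bot]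
    exact hfree g _ (MulAction.mem_stabilizer_iff.mp hg)
  rw [hst]
  exact dvd_of_eq (Nat.card_congr (QuotientGroup.quotientBot (G := G)).toEquiv).symm

/-- `2^n - 1 ∣ 2^N - 1` forces `n ∣ N` -/
theorem dvd_of_two_pow_sub_one_dvd {n N : ℕ} (h : 2 ^ n - 1 ∣ 2 ^ N - 1) : n ∣ N := by
  have h1 : Nat.gcd (2 ^ n - 1) (2 ^ N - 1) = 2 ^ n - 1 := Nat.gcd_eq_left h
  rw [Nat.pow_sub_one_gcd_pow_sub_one] at h1
  have h2 : 2 ^ Nat.gcd n N = 2 ^ n := by
    have a1 : 1 ≤ 2 ^ Nat.gcd n N := Nat.one_le_two_pow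
    have a2 : 1 ≤ 2 ^ n := Nat.one_le_two_pow
    omega
  have h3 : Nat.gcd n N = n := Nat.pow_right_injective (le_refl 2) h2
  rw [← h3]
  exact Nat.gcd_dvd_right n N

variable {K : Type v} [Group K] {P : Type u} [Group P]

variable {φ : K →* MulAut P}

theorem card_K_dvd (h : Reg φ) : Nat.card K ∣ Nat.card P - 1 := by
  classical
  haveI := h.fin
  haveI := h.finite_K
  letI : MulAction K {x : P // x ≠ 1} :=
    { smul := fun k x => ⟨φ k x, Reg.map_ne_one φ k x.2⟩
      one_smul := by
        intro x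
        apply Subtype.ext
        show φ 1 x = x
        rw [map_one]; rfl
      mul_smul := by
        intro k k' x
        apply Subtype.ext
        show φ (k * k') x = φ k (φ k' x)
        rw [map_mul]; rfl }
  have hfree : ∀ (k : K) (x : {x : P // x ≠ 1}), k • x = x → k = 1 := by
    intro k x hx
    exact h.fixed (congrArg Subtype.val hx) x.2
  have := card_dvd_of_free hfree
  have hc : Nat.card {x : P // x ≠ 1} = Nat.card P - 1 := by
    haveI : Fintype P := Fintype.ofFinite P
    rw [Nat.card_eq_fintype_card, Nat.card_eq_fintype_card]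
    exact Set.card_ne_eq (1 : P)
  rwa [hc] at this

theorem card_eq_sq_or_cube (h : Reg φ) (hna : ∃ x y : P, x * y ≠ y * x) :
    Nat.card P = Nat.card h.Zs ^ 2 ∨ Nat.card P = Nat.card h.Zs ^ 3 := by
  haveI := h.fin
  haveI : Fact (Nat.Prime 2) := ⟨Nat.prime_two⟩
  have hle : Nat.card P ≤ Nat.card h.Zs ^ 3 :=
    card_le_cube h.Zs h.Zs_le_center (fun z hz => hz) (sq_mem_Zs_of_nonabelian h hna)
      (fun x hx => hx)
  obtain ⟨N, hN⟩ := IsPGroup.iff_card.mp h.two
  obtain ⟨n, hn⟩ := IsPGroup.iff_card.mp (h.two.to_subgroup h.Zs)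
  have hK : Nat.card K = 2 ^ n - 1 := by
    have := h.card_Zs
    omega
  have hdvd : 2 ^ n - 1 ∣ 2 ^ N - 1 := by
    rw [← hK, ← hN]
    exact card_K_dvd h
  have hnN : n ∣ N := dvd_of_two_pow_sub_one_dvd hdvd
  have hlt : Nat.card h.Zs < Nat.card P := by
    apply lt_of_le_of_ne (Subgroup.card_le_card_group _)
    intro e
    have htop : h.Zs = ⊤ := (Subgroup.card_eq_iff_eq_top _).mp e
    obtain ⟨x, y, hxy⟩ := hna
    apply hxy
    have hx : x ∈ h.Zs := htop ▸ Subgroup.mem_top x
    exact (Subgroup.mem_center_iff.mp (h.Zs_le_center hx) y).symm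
  rw [hN, hn] at hlt hle
  have h1 : n < N := (Nat.pow_lt_pow_iff_right (by norm_num)).mp hlt
  have h2 : N ≤ 3 * n := by
    rw [← pow_mul] at hle
    have := (Nat.pow_le_pow_iff_right (by norm_num : 1 < 2)).mp hle
    omega
  obtain ⟨j, rfl⟩ := hnN
  have hn0 : 0 < n := by
    rcases Nat.eq_zero_or_pos n with h0 | h0
    · subst h0; omega
    · exact h0
  have hj : j = 2 ∨ j = 3 := by
    have a1 : 1 < j := by
      by_contra hj1
      have : j ≤ 1 := by omega
      have : n * j ≤ n * 1 := Nat.mul_le_mul_left n this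
      omega
    have a2 : j ≤ 3 := by
      by_contra hj3
      have : 4 ≤ j := by omega
      have : n * 4 ≤ n * j := Nat.mul_le_mul_left n this
      omega
    omega
  rw [hN, hn]
  rcases hj with rfl | rfl
  · left; rw [← pow_mul]
  · right; rw [← pow_mul]

end Cfsg.Agent.H9SZ
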