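import Mathlib
import Cfsg.Prelude.Def_FusionSystem
import Cfsg.Agent.Lib.Helper9.SatCrit13

set_option autoImplicit false
set_option maxHeartbeats 1000000

namespace Cfsg.Agent.Lib.Helper9.H9Sat

open Cfsg Cfsg.FusionSystem Cfsg.Agent.Lib.Helper9

variable {Ω : Type*} [Group Ω] {S : Subgroup Ω}

theorem finite_subgroups_le [Finite S] : {P : Subgroup Ω | P ≤ S}.Finite := by
  have hS : (S : Set Ω).Finite := Set.toFinite _
  have hfin : {s : Set Ω | s ⊆ (S : Set Ω)}.Finite := hS.finite_subsets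
  have : {P : Subgroup Ω | P ≤ S} = (fun P : Subgroup Ω => (P : Set Ω)) ⁻¹' {s : Set Ω | s ⊆ (S : Set Ω)} := by
    ext P
    rfl
  rw [this]
  exact hfin.preimage (SetLike.coe_injective.injOn)

/-- `S` itself belongs to the family. -/
theorem top_mem_family [Finite S] (p : ℕ) (F : FusionSystem S) (ℋ : Set (Subgroup Ω))
    (hstar : ∀ P : Subgroup Ω, F.IsCentric P → P ∉ ℋ → ∃ Q, F.IsConj P Q ∧
      ¬ (autInducedBy S Q ⊓ (pCore p ↥(F.autGroup Q)).map (F.autGroup Q).subtype ≤ Inn Q)) :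
    S ∈ ℋ := by
  have heq : ∀ Q, F.IsConj S Q → Q = S := by
    intro Q hQ
    exact Subgroup.eq_of_le_of_card_ge (fs_isConj_le_right F hQ) (fs_isConj_card_eq F hQ).le
  have hcen : F.IsCentric S := by
    refine ⟨le_rfl, fun Q hQ => ?_⟩
    rw [heq Q hQ]
    exact inf_le_left
  by_contra hS
  obtain ⟨Q, hQ, hnot⟩ := hstar S hcen hS
  have hQS := heq Q hQ
  subst hQS
  apply hnot
  rw [autInducedBy_self_eq_inn]
  exact inf_le_left

/-- The induction over the number of subgroups outside the family. -/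
theorem saturated_of_family [Finite S] (p : ℕ) [Fact p.Prime] (hS : IsPGroup p S) (F : FusionSystem S) :
    ∀ (n : ℕ) (ℋ : Set (Subgroup Ω)), (∀ P ∈ ℋ, ∀ Q, F.IsConj P Q → Q ∈ ℋ) →
    (∀ P ∈ ℋ, ∃ Q, F.IsConj P Q ∧ F.IsFullyAutomized p Q ∧ F.IsReceptive Q) →
    (∀ E : FusionSystem S, (∀ P ∈ ℋ, F.Hom P ⊆ E.Hom P) → F ≤ E) →
    (∀ P : Subgroup Ω, F.IsCentric P → P ∉ ℋ → ∃ Q, F.IsConj P Q ∧
      ¬ (autInducedBy S Q ⊓ (pCore p ↥(F.autGroup Q)).map (F.autGroup Q).subtype ≤ Inn Q)) →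
    Set.ncard {P : Subgroup Ω | P ≤ S ∧ P ∉ ℋ} ≤ n → F.IsSaturated p := by
  intro n
  induction n with
  | zero =>
    intro ℋ _ hsat _ _ hcard
    have hfin : {P : Subgroup Ω | P ≤ S ∧ P ∉ ℋ}.Finite :=
      finite_subgroups_le.subset (fun P hP => hP.1)
    have hempty : {P : Subgroup Ω | P ≤ S ∧ P ∉ ℋ} = ∅ := by
      rw [← Set.ncard_eq_zero hfin]
      omega
    intro P hP
    apply hsat P
    by_contra hPℋ
    have : P ∈ {P : Subgroup Ω | P ≤ S ∧ P ∉ ℋ} := ⟨hP, hPℋ⟩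
    rw [hempty] at this
    exact this
  | succ n ih =>
    intro ℋ hℋconj hsat hgen hstar hcard
    have hfin : {P : Subgroup Ω | P ≤ S ∧ P ∉ ℋ}.Finite :=
      finite_subgroups_le.subset (fun P hP => hP.1)
    by_cases hall : ∀ P : Subgroup Ω, P ≤ S → P ∈ ℋ
    · intro P hP
      exact hsat P (hall P hP)
    push Not at hall
    obtain ⟨Pa, hPaS, hPaℋ⟩ := hall
    -- choose a member of maximal order
    classical
    let s : Set ℕ := {m | ∃ P : Subgroup Ω, P ≤ S ∧ P ∉ ℋ ∧ Nat.card P = m}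
    have hne : s.Nonempty := ⟨Nat.card Pa, Pa, hPaS, hPaℋ, rfl⟩
    have hbdd : BddAbove s := ⟨Nat.card S, by rintro m ⟨P, hP, -, rfl⟩; exact fs_card_le_of_le hP⟩
    obtain ⟨P0, hP0S, hP0ℋ, hP0n⟩ := Nat.sSup_mem hne hbdd
    have hmax : ∀ P : Subgroup Ω, P ≤ S → P ∉ ℋ → Nat.card P ≤ Nat.card P0 := by
      intro P hP hPℋ
      rw [hP0n]
      exact le_csSup hbdd ⟨P, hP, hPℋ, rfl⟩
    have hbig : ∀ R : Subgroup Ω, R ≤ S → Nat.card P0 < Nat.card R → HasGood F p R := by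
      intro R hR hlt
      apply hsat R
      by_contra hRℋ
      have := hmax R hR hRℋ
      omega
    have hSℋ := top_mem_family p F ℋ hstar
    obtain ⟨Q₁, hQ₁, ha, hr⟩ := key_lemma p hS F ℋ hℋconj hgen hSℋ P0 hP0S hP0ℋ hbig
      (fun hc => hstar P0 hc hP0ℋ)
    apply ih (ℋ ∪ {P | F.IsConj P0 P})
    · rintro P (hP | hP) Q hPQ
      · exact Or.inl (hℋconj P hP Q hPQ)
      · exact Or.inr (fs_isConj_trans F hP hPQ)
    · rintro P (hP | hP)
      · exact hsat P hP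
      · exact ⟨Q₁, fs_isConj_trans F (fs_isConj_symm F hP) hQ₁, ha, hr⟩
    · intro E hE
      exact hgen E (fun P hP => hE P (Or.inl hP))
    · intro P hPc hPn
      exact hstar P hPc (fun h => hPn (Or.inl h))
    · have hlt : {P : Subgroup Ω | P ≤ S ∧ P ∉ ℋ ∪ {P | F.IsConj P0 P}} ⊂
          {P : Subgroup Ω | P ≤ S ∧ P ∉ ℋ} := by
        refine ⟨fun P hP => ⟨hP.1, fun h => hP.2 (Or.inl h)⟩, fun hsub => ?_⟩
        have h1 : P0 ∈ {P : Subgroup Ω | P ≤ S ∧ P ∉ ℋ ∪ {P | F.IsConj P0 P}} := hsub ⟨hP0S, hP0ℋ⟩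
        exact h1.2 (Or.inr (fs_isConj_refl F hP0S))
      have := Set.ncard_lt_ncard hlt hfin
      omega

end Cfsg.Agent.Lib.Helper9.H9Sat
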