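import Mathlib

set_option autoImplicit false

/-!
# Three-cycles in a group acting on the cosets of a maximal subgroup as the alternating group
-/

namespace Cfsg.Agent.H9SM

open MulAction

/-- every three-cycle of the coset space is induced by a group element -/
theorem three_cycle_exists {G : Type*} [Group G] [Finite G] (n : ℕ)
    (hA : ∀ P : Subgroup (Equiv.Perm (Fin n)), MulAction.IsPreprimitive P (Fin n) →
      alternatingGroup (Fin n) ≤ P)
    (M : Subgroup G) (hM : IsCoatom M) (hn : M.index = n) {x y z : G ⧸ M}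
    (hxy : x ≠ y) (hxz : x ≠ z) (hyz : y ≠ z) :
    ∃ g : G, g • x = y ∧ g • y = z ∧ ∀ w, w ≠ x → w ≠ y → w ≠ z → g • w = w := by
  classical
  haveI : Fintype (G ⧸ M) := Fintype.ofFinite _
  have hcard : Fintype.card (G ⧸ M) = n := by
    rw [← Nat.card_eq_fintype_card, ← hn]; rfl
  let e : (G ⧸ M) ≃ Fin n := Fintype.equivFinOfCardEq hcard
  haveI : Nontrivial (G ⧸ M) := ⟨x, y, hxy⟩
  haveI : IsPreprimitive G (G ⧸ M) := by
    rw [← isCoatom_stabilizer_iff_preprimitive G ((1 : G) : G ⧸ M), stabilizer_quotient]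
    exact hM
  let Φ : G →* Equiv.Perm (Fin n) :=
    (e.permCongrHom : Equiv.Perm (G ⧸ M) →* Equiv.Perm (Fin n)).comp (MulAction.toPermHom G (G ⧸ M))
  have hΦ : ∀ (g : G) (w : G ⧸ M), Φ g (e w) = e (g • w) := by
    intro g w
    show e ((MulAction.toPermHom G (G ⧸ M) g) (e.symm (e w))) = e (g • w)
    rw [Equiv.symm_apply_apply]; rfl
  let f : (G ⧸ M) →ₑ[Φ.rangeRestrict] Fin n :=
    { toFun := e
      map_smul' := by
        intro g w
        show e (g • w) = (Φ.rangeRestrict g : Equiv.Perm (Fin n)) (e w)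
        rw [MonoidHom.coe_rangeRestrict, hΦ] }
  haveI : IsPreprimitive Φ.range (Fin n) := IsPreprimitive.of_surjective (f := f) e.surjective
  have hAle := hA Φ.range inferInstance
  have hσ : Equiv.swap (e x) (e z) * Equiv.swap (e x) (e y) ∈ alternatingGroup (Fin n) := by
    rw [Equiv.Perm.mem_alternatingGroup, Equiv.Perm.sign_mul,
      Equiv.Perm.sign_swap (fun h => hxz (e.injective h)),
      Equiv.Perm.sign_swap (fun h => hxy (e.injective h))]
    rfl
  obtain ⟨g, hg⟩ := hAle hσ
  have hgw : ∀ w : G ⧸ M, e (g • w) = Equiv.swap (e x) (e z) (Equiv.swap (e x) (e y) (e w)) := by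
    intro w
    rw [← hΦ, hg]; rfl
  have exy : e x ≠ e y := fun h => hxy (e.injective h)
  have exz : e x ≠ e z := fun h => hxz (e.injective h)
  have eyz : e y ≠ e z := fun h => hyz (e.injective h)
  refine ⟨g, ?_, ?_, ?_⟩
  · apply e.injective
    rw [hgw, Equiv.swap_apply_left, Equiv.swap_apply_of_ne_of_ne exy.symm eyz]
  · apply e.injective
    rw [hgw, Equiv.swap_apply_right, Equiv.swap_apply_left]
  · intro w hwx hwy hwz
    apply e.injective
    have ewx : e w ≠ e x := fun h => hwx (e.injective h)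
    have ewy : e w ≠ e y := fun h => hwy (e.injective h)
    have ewz : e w ≠ e z := fun h => hwz (e.injective h)
    rw [hgw, Equiv.swap_apply_of_ne_of_ne ewx ewy, Equiv.swap_apply_of_ne_of_ne ewx ewz]

end Cfsg.Agent.H9SM
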