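import Mathlib

set_option autoImplicit false

/-!
# Coatoms of intervals of the subgroup lattice
-/

namespace Cfsg.Agent.H9SM

variable {G : Type*} [Group G]

/-- maximality of `H` in `K`, in terms of intermediate subgroups -/
theorem isCoatom_subgroupOf_iff {H K : Subgroup G} (hHK : H ≤ K) :
    IsCoatom (H.subgroupOf K) ↔ H ≠ K ∧ ∀ L : Subgroup G, H ≤ L → L ≤ K → L = H ∨ L = K := by
  constructor
  · intro hc
    refine ⟨?_, ?_⟩
    · intro h
      apply hc.1
      rw [Subgroup.subgroupOf_eq_top, h]
    · intro L hHL hLK
      have h1 : H.subgroupOf K ≤ L.subgroupOf K := by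
        intro x hx
        exact hHL hx
      rcases hc.le_iff.mp h1 with h2 | h2
      · right
        rw [Subgroup.subgroupOf_eq_top] at h2
        exact le_antisymm hLK h2
      · left
        rw [Subgroup.subgroupOf_inj, inf_eq_left.mpr hLK, inf_eq_left.mpr hHK] at h2
        exact h2
  · rintro ⟨hne, hL⟩
    refine ⟨?_, ?_⟩
    · intro h
      rw [Subgroup.subgroupOf_eq_top] at h
      exact hne (le_antisymm hHK h)
    · intro X hX
      have hXK : X.map K.subtype ≤ K := by
        rintro _ ⟨x, -, rfl⟩
        exact x.2
      have hHX : H ≤ X.map K.subtype := by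
        intro h hh
        exact ⟨⟨h, hHK hh⟩, hX.le hh, rfl⟩
      rcases hL _ hHX hXK with h1 | h1
      · exfalso
        apply hX.not_ge
        intro x hx
        have : (x : G) ∈ X.map K.subtype := ⟨x, hx, rfl⟩
        rw [h1] at this
        exact this
      · rw [eq_top_iff]
        intro x _
        have : (x : G) ∈ X.map K.subtype := by rw [h1]; exact x.2
        obtain ⟨y, hy, hyx⟩ := this
        have : y = x := Subtype.ext hyx
        rwa [← this]

end Cfsg.Agent.H9SM
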