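import Mathlib
import Cfsg.Agent.Lib.Helper9.SecMax1
import Cfsg.Agent.Lib.Helper9.SecMax2

set_option autoImplicit false

/-!
# Second maximal subgroups below a maximal subgroup of odd index `n`, when the only primitive
groups of degree `n` are alternating and symmetric
-/

namespace Cfsg.Agent.H9SM

open MulAction
open scoped Pointwise

variable {G : Type*} [Group G]

theorem mk_eq_iff (M : Subgroup G) (a b : G) :
    ((a : G) : G ⧸ M) = ((b : G) : G ⧸ M) ↔ a⁻¹ * b ∈ M := QuotientGroup.eq

theorem smul_mk' (M : Subgroup G) (g a : G) :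
    g • ((a : G) : G ⧸ M) = (((g * a : G)) : G ⧸ M) := rfl

/-- index of the point stabilizer of a subgroup acting transitively on the cosets of `M` -/
theorem relIndex_of_transitive [Finite G] {M K H : Subgroup G} (hKM : K ⊓ M = H)
    (htr : ∀ g₀ : G, ∃ k ∈ K, ((g₀ : G) : G ⧸ M) = ((k : G) : G ⧸ M)) :
    H.relIndex K = M.index := by
  have hHK : H ≤ K := by rw [← hKM]; exact inf_le_left
  unfold Subgroup.relIndex Subgroup.index
  let f : K ⧸ H.subgroupOf K → G ⧸ M :=
    Quotient.lift (s := QuotientGroup.leftRel (H.subgroupOf K)) (fun k : K => ((k : G) : G ⧸ M))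
      (by
        intro a b hab
        have hab : QuotientGroup.leftRel (H.subgroupOf K) a b := hab
        rw [QuotientGroup.leftRel_apply, Subgroup.mem_subgroupOf] at hab
        rw [mk_eq_iff]
        have h1 : ((a⁻¹ * b : K) : G) ∈ K ⊓ M := by rw [hKM]; exact hab
        exact h1.2)
  apply Nat.card_congr
  apply Equiv.ofBijective f
  constructor
  · intro a b
    refine Quotient.inductionOn₂' a b ?_
    intro x y hxy
    have h1 : ((x : G) : G ⧸ M) = ((y : G) : G ⧸ M) := hxy
    rw [mk_eq_iff] at h1
    apply Quotient.sound'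
    rw [QuotientGroup.leftRel_apply, Subgroup.mem_subgroupOf, ← hKM]
    exact ⟨(x⁻¹ * y).2, h1⟩
  · intro q
    refine Quotient.inductionOn' q ?_
    intro g₀
    obtain ⟨k, hk, hgk⟩ := htr g₀
    exact ⟨QuotientGroup.mk (⟨k, hk⟩ : K), hgk.symm⟩

end Cfsg.Agent.H9SM
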