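import Mathlib
import Cfsg.Agent.Lib.Helper9.SecMax3

set_option autoImplicit false

/-!
# Second maximal subgroups below a maximal subgroup of odd index: main theorem
-/

namespace Cfsg.Agent.H9SM

open MulAction
open scoped Pointwise

variable {G : Type*} [Group G]

theorem second_max [Finite G] (n : ℕ) (hodd : Odd n)
    (hA : ∀ P : Subgroup (Equiv.Perm (Fin n)), MulAction.IsPreprimitive P (Fin n) →
      alternatingGroup (Fin n) ≤ P)
    (M : Subgroup G) (hM : IsCoatom M) (hn : M.index = n) (H : Subgroup G) (hHM : H ≤ M)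
    (hmax : IsCoatom (H.subgroupOf M)) (K : Subgroup G) (hK : IsCoatom K) (hHK : H ≤ K) :
    IsCoatom (H.subgroupOf K) := by
  classical
  by_cases hKeqM : K = M
  · rw [hKeqM]; exact hmax
  obtain ⟨hHneM, hmax'⟩ := (isCoatom_subgroupOf_iff hHM).mp hmax
  -- K ⊓ M = H
  have hKM : K ⊓ M = H := by
    rcases hmax' (K ⊓ M) (le_inf hHK hHM) inf_le_right with h1 | h1
    · exact h1
    · exfalso
      have hMK : M ≤ K := by rw [← h1]; exact inf_le_left
      rcases hM.le_iff.mp hMK with h2 | h2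
      · exact hK.1 h2
      · exact hKeqM h2
  have hmemH : ∀ g : G, g ∈ K → g ∈ M → g ∈ H := by
    intro g h1 h2
    rw [← hKM]; exact ⟨h1, h2⟩
  rw [isCoatom_subgroupOf_iff hHK]
  refine ⟨?_, ?_⟩
  · intro h
    have hKM' : K ≤ M := by rw [← h]; exact hHM
    rcases hK.le_iff.mp hKM' with h2 | h2
    · exact hM.1 h2
    · exact hKeqM h2.symm
  intro L hHL hLK
  by_contra hcon
  push Not at hcon
  obtain ⟨hLH, hLKne⟩ := hcon
  -- elements
  obtain ⟨l, hlL, hlH⟩ : ∃ l ∈ L, l ∉ H := by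
    by_contra h
    push Not at h
    exact hLH (le_antisymm h hHL)
  obtain ⟨k, hkK, hkL⟩ : ∃ k ∈ K, k ∉ L := by
    by_contra h
    push Not at h
    exact hLKne (le_antisymm hLK h)
  have hlM : l ∉ M := fun h => hlH (hmemH l (hLK hlL) h)
  -- the block
  obtain ⟨Δ, hΔ⟩ : ∃ Δ : Set (G ⧸ M), Δ = {w | ∃ a ∈ L, w = ((a : G) : G ⧸ M)} := ⟨_, rfl⟩
  have hΔfin : Δ.Finite := Set.toFinite Δ
  have hmemΔ : ∀ a : G, a ∈ K → ((a : G) : G ⧸ M) ∈ Δ → a ∈ L := by
    intro a haK haΔ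
    rw [hΔ] at haΔ
    obtain ⟨b, hbL, hab⟩ := haΔ
    rw [mk_eq_iff] at hab
    have h1 : a⁻¹ * b ∈ H := hmemH _ (K.mul_mem (K.inv_mem haK) (hLK hbL)) hab
    have h2 : a⁻¹ ∈ L := by
      have := L.mul_mem (hHL h1) (L.inv_mem hbL)
      rwa [mul_assoc, mul_inv_cancel, mul_one] at this
    rwa [inv_mem_iff] at h2
  -- the setwise stabilizer of the block is `L`
  have hY : ∀ g : G, (∀ w ∈ Δ, g • w ∈ Δ) → g ∈ L := by
    obtain ⟨Y, hYdef⟩ : ∃ Y : Subgroup G, Y = stabilizer G Δ := ⟨_, rfl⟩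
    have hYmem : ∀ g : G, g ∈ Y ↔ ∀ w ∈ Δ, g • w ∈ Δ := by
      intro g
      rw [hYdef, mem_stabilizer_set_iff_smul_set_subset hΔfin]
      constructor
      · intro h w hw
        exact h ⟨w, hw, rfl⟩
      · rintro h _ ⟨w, hw, rfl⟩
        exact h w hw
    have hLY : L ≤ Y := by
      intro a ha
      rw [hYmem]
      intro w hw
      rw [hΔ] at hw ⊢
      obtain ⟨b, hb, rfl⟩ := hw
      exact ⟨a * b, L.mul_mem ha hb, rfl⟩
    have h1Δ : ((1 : G) : G ⧸ M) ∈ Δ := by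
      rw [hΔ]; exact ⟨1, L.one_mem, rfl⟩
    have hYM : Y ⊓ M = H := by
      rcases hmax' (Y ⊓ M) (le_inf (hHL.trans hLY) hHM) inf_le_right with h1 | h1
      · exact h1
      · exfalso
        have hMY : M ≤ Y := by rw [← h1]; exact inf_le_left
        have hlt : M < M ⊔ L := by
          apply lt_of_le_of_ne le_sup_left
          intro h
          apply hlM
          rw [h]
          exact (le_sup_right : L ≤ M ⊔ L) hlL
        have htop : M ⊔ L = ⊤ := hM.2 _ hlt
        have hYtop : Y = ⊤ := by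
          rw [eq_top_iff, ← htop]
          exact sup_le hMY hLY
        have hkY : k ∈ Y := by rw [hYtop]; exact Subgroup.mem_top k
        rw [hYmem] at hkY
        have := hkY _ h1Δ
        rw [smul_mk', mul_one] at this
        exact hkL (hmemΔ k hkK this)
    intro g hg
    have hgY : g ∈ Y := (hYmem g).mpr hg
    have h2 := hg _ h1Δ
    rw [smul_mk', mul_one, hΔ] at h2
    obtain ⟨b, hbL, hgb⟩ := h2
    rw [mk_eq_iff] at hgb
    have h3 : g⁻¹ * b ∈ H := by
      rw [← hYM]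
      exact ⟨Y.mul_mem (Y.inv_mem hgY) (hLY hbL), hgb⟩
    have h4 : g⁻¹ ∈ L := by
      have := L.mul_mem (hHL h3) (L.inv_mem hbL)
      rwa [mul_assoc, mul_inv_cancel, mul_one] at this
    rwa [inv_mem_iff] at h4
  -- a group element fixing the block pointwise lies in `L`
  have hfix : ∀ g : G, (∀ w ∈ Δ, g • w = w) → g ∈ L := by
    intro g hg
    apply hY
    intro w hw
    rw [hg w hw]; exact hw
  have hnotΔ : ∀ a : G, a ∈ K → a ∉ L → ((a : G) : G ⧸ M) ∉ Δ := fun a haK haL h =>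
    haL (hmemΔ a haK h)
  have hklL : k * l ∉ L := by
    intro h
    apply hkL
    have := L.mul_mem h (L.inv_mem hlL)
    rwa [mul_assoc, mul_inv_cancel, mul_one] at this
  by_cases htr : ∀ g₀ : G, ∃ k' ∈ K, ((g₀ : G) : G ⧸ M) = ((k' : G) : G ⧸ M)
  · -- transitive case
    have hidx : H.relIndex K = n := by rw [relIndex_of_transitive hKM htr, hn]
    obtain ⟨k₂, hk₂K, hk₂L, k₃, hk₃K, hk₃L, h23⟩ : ∃ k₂ ∈ K, k₂ ∉ L ∧ ∃ k₃ ∈ K, k₃ ∉ L ∧
        k₂⁻¹ * k₃ ∉ L := by
      by_contra hno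
      push Not at hno
      have h2 : L.relIndex K = 2 := by
        unfold Subgroup.relIndex
        rw [Subgroup.index_eq_two_iff]
        refine ⟨⟨k, hkK⟩, ?_⟩
        intro b
        by_cases hb : (b : G) ∈ L
        · right
          refine ⟨hb, ?_⟩
          intro h
          rw [Subgroup.mem_subgroupOf] at h
          apply hkL
          have := L.mul_mem (L.inv_mem hb) h
          simpa using this
        · left
          refine ⟨?_, hb⟩
          rw [Subgroup.mem_subgroupOf]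
          have hbi : (b : G)⁻¹ ∉ L := by rwa [inv_mem_iff]
          have := hno (b : G)⁻¹ (K.inv_mem b.2) hbi k hkK hkL
          simpa using this
      have h3 := Subgroup.relIndex_mul_relIndex H L K hHL hLK
      rw [h2, hidx] at h3
      rw [← h3] at hodd
      exact (Nat.not_odd_iff_even.mpr (even_two.mul_left _)) hodd
    have hk₂lL : k₂ * l ∉ L := by
      intro h
      apply hk₂L
      have := L.mul_mem h (L.inv_mem hlL)
      rwa [mul_assoc, mul_inv_cancel, mul_one] at this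
    have hxy : ((k₂ : G) : G ⧸ M) ≠ (((k₂ * l : G)) : G ⧸ M) := by
      intro h
      rw [mk_eq_iff] at h
      apply hlM
      simpa using h
    have hxz : ((k₂ : G) : G ⧸ M) ≠ ((k₃ : G) : G ⧸ M) := by
      intro h
      rw [mk_eq_iff] at h
      exact h23 (hHL (hmemH _ (K.mul_mem (K.inv_mem hk₂K) hk₃K) h))
    have hyz : (((k₂ * l : G)) : G ⧸ M) ≠ ((k₃ : G) : G ⧸ M) := by
      intro h
      rw [mk_eq_iff] at h
      have h1 : (k₂ * l)⁻¹ * k₃ ∈ L :=
        hHL (hmemH _ (K.mul_mem (K.inv_mem (K.mul_mem hk₂K (hLK hlL))) hk₃K) h)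
      apply h23
      have := L.mul_mem hlL h1
      have e : l * ((k₂ * l)⁻¹ * k₃) = k₂⁻¹ * k₃ := by group
      rwa [e] at this
    obtain ⟨g, hgx, hgy, hgw⟩ := three_cycle_exists n hA M hM hn hxy hxz hyz
    have hgL : g ∈ L := by
      apply hfix
      intro w hw
      apply hgw
      · rintro rfl; exact hnotΔ k₂ hk₂K hk₂L hw
      · rintro rfl; exact hnotΔ (k₂ * l) (K.mul_mem hk₂K (hLK hlL)) hk₂lL hw
      · rintro rfl; exact hnotΔ k₃ hk₃K hk₃L hw
    have hgK : g ∈ K := hLK hgL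
    rw [smul_mk', mk_eq_iff] at hgx hgy
    have h1 : (g * k₂)⁻¹ * (k₂ * l) ∈ L :=
      hHL (hmemH _ (K.mul_mem (K.inv_mem (K.mul_mem hgK hk₂K)) (K.mul_mem hk₂K (hLK hlL))) hgx)
    have h2 : (g * (k₂ * l))⁻¹ * k₃ ∈ L :=
      hHL (hmemH _ (K.mul_mem (K.inv_mem (K.mul_mem hgK (K.mul_mem hk₂K (hLK hlL)))) hk₃K) hgy)
    apply h23
    -- k₂⁻¹ k₃ = l * h1⁻¹ * l * h2
    have e : k₂⁻¹ * k₃ = l * ((g * k₂)⁻¹ * (k₂ * l))⁻¹ * l * ((g * (k₂ * l))⁻¹ * k₃) := by group
    rw [e]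
    exact L.mul_mem (L.mul_mem (L.mul_mem hlL (L.inv_mem h1)) hlL) h2
  · -- intransitive case
    push Not at htr
    obtain ⟨g₀, hg₀⟩ := htr
    have hxy : ((k : G) : G ⧸ M) ≠ ((g₀ : G) : G ⧸ M) := fun h => hg₀ k hkK h.symm
    have hxw : ((k : G) : G ⧸ M) ≠ (((k * l : G)) : G ⧸ M) := by
      intro h
      rw [mk_eq_iff] at h
      apply hlM
      simpa using h
    have hyw : ((g₀ : G) : G ⧸ M) ≠ (((k * l : G)) : G ⧸ M) :=
      hg₀ (k * l) (K.mul_mem hkK (hLK hlL))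
    obtain ⟨g, hgx, -, hgw⟩ := three_cycle_exists n hA M hM hn hxy hxw hyw
    have hgL : g ∈ L := by
      apply hfix
      intro w hw
      apply hgw
      · rintro rfl; exact hnotΔ k hkK hkL hw
      · rintro rfl
        rw [hΔ] at hw
        obtain ⟨a, haL, ha⟩ := hw
        exact hg₀ a (hLK haL) ha
      · rintro rfl; exact hnotΔ (k * l) (K.mul_mem hkK (hLK hlL)) hklL hw
    rw [smul_mk'] at hgx
    exact hg₀ (g * k) (K.mul_mem (hLK hgL) hkK) hgx.symm

end Cfsg.Agent.H9SM
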