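import Mathlib
import Cfsg.Agent.Lib.Helper9.SecMeta1

set_option autoImplicit false

/-! Two-generated abelian `2`-groups: independent generators. -/

namespace Cfsg.Agent.H9SM

open Cfsg

variable {Q : Type*} [Group Q] [Finite Q]

theorem step (hQ : IsPGroup 2 Q) (hc : ∀ x y : Q, x * y = y * x) (u v : Q)
    (hle : orderOf v ≤ orderOf u) (w : Q) (hwu : w ∈ Subgroup.zpowers u)
    (hwv : w ∈ Subgroup.zpowers v) (hw1 : w ≠ 1)
    (hgen : ∀ w : Q, ∃ (j i : ℤ), w = v ^ j * u ^ i) :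
    ∃ v' : Q, orderOf v' < orderOf v ∧ ∀ w : Q, ∃ (j i : ℤ), w = v' ^ j * u ^ i := by
  obtain ⟨e, he⟩ := (IsPGroup.iff_orderOf.mp hQ) v
  obtain ⟨f, hf⟩ := (IsPGroup.iff_orderOf.mp hQ) u
  obtain ⟨s, hs⟩ := (IsPGroup.iff_orderOf.mp hQ) w
  have hef : e ≤ f := by
    rw [he, hf] at hle
    exact (Nat.pow_le_pow_iff_right (by norm_num)).mp hle
  have hs1 : 1 ≤ s := by
    rcases Nat.eq_zero_or_pos s with h | h
    · exfalso; apply hw1
      rw [h, pow_zero, orderOf_eq_one_iff] at hs; exact hs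
    · exact h
  have hv1 : v ≠ 1 := by
    rintro rfl
    rw [Subgroup.zpowers_one_eq_bot, Subgroup.mem_bot] at hwv
    exact hw1 hwv
  have he1 : 1 ≤ e := by
    rcases Nat.eq_zero_or_pos e with h | h
    · exfalso; apply hv1
      rw [h, pow_zero, orderOf_eq_one_iff] at he; exact he
    · exact h
  have hf1 : 1 ≤ f := le_trans he1 hef
  -- the involution
  obtain ⟨s', rfl⟩ : ∃ s', s = s' + 1 := ⟨s - 1, by omega⟩
  have ht2 : (w ^ 2 ^ s') ^ 2 = 1 := by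
    rw [← pow_mul, ← pow_succ, ← hs]; exact pow_orderOf_eq_one w
  have ht1 : w ^ 2 ^ s' ≠ 1 := by
    intro h
    have h1 : orderOf w ∣ 2 ^ s' := orderOf_dvd_of_pow_eq_one h
    rw [hs] at h1
    have h2 := Nat.le_of_dvd (by positivity) h1
    have h3 : 2 ^ s' < 2 ^ (s' + 1) := Nat.pow_lt_pow_right (by norm_num) (by omega)
    omega
  have htu : w ^ 2 ^ s' = u ^ 2 ^ (f - 1) :=
    eq_pow_of_mem_zpowers_of_sq hf hf1 (Subgroup.pow_mem _ hwu _) ht2 ht1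
  have htv : w ^ 2 ^ s' = v ^ 2 ^ (e - 1) :=
    eq_pow_of_mem_zpowers_of_sq he he1 (Subgroup.pow_mem _ hwv _) ht2 ht1
  refine ⟨v * (u ^ 2 ^ (f - e))⁻¹, ?_, ?_⟩
  · have hcomm : Commute v (u ^ 2 ^ (f - e))⁻¹ := hc _ _
    have h1 : (v * (u ^ 2 ^ (f - e))⁻¹) ^ 2 ^ (e - 1) = 1 := by
      rw [hcomm.mul_pow, inv_pow, ← pow_mul, ← pow_add, ← htv, htu]
      have : f - e + (e - 1) = f - 1 := by omega
      rw [this, mul_inv_cancel]
    have h2 : orderOf (v * (u ^ 2 ^ (f - e))⁻¹) ∣ 2 ^ (e - 1) := orderOf_dvd_of_pow_eq_one h1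
    have h3 := Nat.le_of_dvd (by positivity) h2
    have h4 : 2 ^ (e - 1) < 2 ^ e := Nat.pow_lt_pow_right (by norm_num) (by omega)
    rw [he]; omega
  · intro x
    obtain ⟨j, i, rfl⟩ := hgen x
    refine ⟨j, (2 ^ (f - e) : ℕ) * j + i, ?_⟩
    have hcomm : Commute v (u ^ 2 ^ (f - e))⁻¹ := hc _ _
    rw [hcomm.mul_zpow, zpow_add, inv_zpow, mul_assoc, ← mul_assoc ((u ^ 2 ^ (f - e)) ^ j)⁻¹]
    have h5 : ((u ^ 2 ^ (f - e)) ^ j)⁻¹ * u ^ (((2 ^ (f - e) : ℕ) : ℤ) * j) = 1 := by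
      rw [zpow_mul, zpow_natCast, inv_mul_cancel]
    rw [h5, one_mul]

theorem exists_independent_gens (hQ : IsPGroup 2 Q) (hc : ∀ x y : Q, x * y = y * x) :
    ∀ (n : ℕ) (u v : Q), orderOf u + orderOf v = n →
      (∀ w : Q, ∃ (j i : ℤ), w = v ^ j * u ^ i) →
      ∃ u' v' : Q, (∀ w : Q, ∃ (j i : ℤ), w = v' ^ j * u' ^ i) ∧
        (∀ w, w ∈ Subgroup.zpowers u' → w ∈ Subgroup.zpowers v' → w = 1) := by
  intro n
  induction n using Nat.strong_induction_on with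
  | _ n ih =>
    intro u v hn hgen
    by_cases h : ∀ w, w ∈ Subgroup.zpowers u → w ∈ Subgroup.zpowers v → w = 1
    · exact ⟨u, v, hgen, h⟩
    · push Not at h
      obtain ⟨w, hwu, hwv, hw1⟩ := h
      rcases le_total (orderOf v) (orderOf u) with hle | hle
      · obtain ⟨v', hv', hgen'⟩ := step hQ hc u v hle w hwu hwv hw1 hgen
        exact ih (orderOf u + orderOf v') (by omega) u v' rfl hgen'
      · have hgen2 : ∀ w : Q, ∃ (j i : ℤ), w = u ^ j * v ^ i := by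
          intro x
          obtain ⟨j, i, rfl⟩ := hgen x
          exact ⟨i, j, hc _ _⟩
        obtain ⟨u', hu', hgen'⟩ := step hQ hc v u hle w hwv hwu hw1 hgen2
        exact ih (orderOf v + orderOf u') (by omega) v u' rfl hgen'

end Cfsg.Agent.H9SM
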