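import Mathlib
import Cfsg.Agent.Lib.Helper9.SecMeta2
import Cfsg.Agent.Lib.Lead.SecRankTwo1
import Cfsg.Agent.Lib.Lead.Nilpotent

set_option autoImplicit false

/-! Sectional rank two: the final class-two analysis. -/

namespace Cfsg.Agent.H9SM

open Cfsg

variable {S : Type*} [Group S] [Finite S]

theorem memK {k x : S} (hk2 : k ^ 2 = 1) : x ∈ Subgroup.zpowers k ↔ x = 1 ∨ x = k := by
  constructor
  · exact Cfsg.Agent.Lib.Lead.SecRankTwo.mem_zpowers_of_sq_one hk2
  · rintro (rfl | rfl)
    · exact Subgroup.one_mem _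
    · exact Subgroup.mem_zpowers _

theorem k_inv {k : S} (hk2 : k ^ 2 = 1) : k⁻¹ = k := by
  rw [inv_eq_iff_mul_eq_one, ← pow_two, hk2]

theorem comm_or {k : S} (hk2 : k ^ 2 = 1) (hkc : ∀ s : S, s * k = k * s)
    (hab : ∀ s t : S, s * t * s⁻¹ * t⁻¹ ∈ Subgroup.zpowers k) (s t : S) :
    s * t = t * s ∨ s * t = t * s * k := by
  rcases (memK hk2).mp (hab s t) with h | h
  · left
    have : s * t * s⁻¹ * t⁻¹ * (t * s) = 1 * (t * s) := by rw [h]
    simpa [mul_assoc] using this
  · right
    have : s * t * s⁻¹ * t⁻¹ * (t * s) = k * (t * s) := by rw [h]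
    rw [hkc (t * s)]
    simpa [mul_assoc] using this

theorem normal_of_mem {k : S} (hab : ∀ s t : S, s * t * s⁻¹ * t⁻¹ ∈ Subgroup.zpowers k)
    (g : S) (hkg : k ∈ Subgroup.zpowers g) : (Subgroup.zpowers g).Normal := by
  constructor
  intro x hx s
  have h1 : s * x * s⁻¹ = (s * x * s⁻¹ * x⁻¹) * x := by group
  rw [h1]
  exact Subgroup.mul_mem _ ((Subgroup.zpowers_le.mpr hkg) (hab s x)) hx

theorem normal_of_central_gens (g : S) (X : Set S) (hX : Subgroup.closure X = ⊤)
    (hg : ∀ x ∈ X, x * g = g * x) : (Subgroup.zpowers g).Normal := by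
  apply Cfsg.Agent.Lib.Lead.zpowers_normal_of_mem_center
  rw [Subgroup.mem_center_iff]
  intro s
  have hs : s ∈ Subgroup.closure X := by rw [hX]; exact Subgroup.mem_top s
  have hle : Subgroup.closure X ≤ Subgroup.centralizer {g} := by
    rw [Subgroup.closure_le]
    intro x hx
    rw [SetLike.mem_coe, Subgroup.mem_centralizer_singleton_iff]
    exact hg x hx
  have := hle hs
  rw [Subgroup.mem_centralizer_singleton_iff] at this
  exact this

theorem exists_least (hS : IsPGroup 2 S) (k g : S) :
    ∃ m : ℕ, g ^ 2 ^ m ∈ Subgroup.zpowers k ∧ ∀ m' < m, g ^ 2 ^ m' ∉ Subgroup.zpowers k := by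
  classical
  have hex : ∃ m : ℕ, g ^ 2 ^ m ∈ Subgroup.zpowers k := by
    obtain ⟨e, he⟩ := (IsPGroup.iff_orderOf.mp hS) g
    refine ⟨e, ?_⟩
    rw [← he, pow_orderOf_eq_one]
    exact Subgroup.one_mem _
  exact ⟨Nat.find hex, Nat.find_spec hex, fun m' hm' => Nat.find_min hex hm'⟩

/-- three independent commuting involutions contradict sectional rank two -/
theorem no_E8 (hr : Cfsg.SectionalPRankLE 2 2 S) {k x y : S} (hk1 : k ≠ 1) (hk2 : k ^ 2 = 1)
    (hkc : ∀ s : S, s * k = k * s) (hx2 : x ^ 2 = 1) (hy2 : y ^ 2 = 1) (hxy : x * y = y * x)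
    (hxK : x ∉ Subgroup.zpowers k) (hyK : y ∉ Subgroup.zpowers k)
    (hxyK : x * y ∉ Subgroup.zpowers k) : False := by
  classical
  have hx1 : x ≠ 1 := fun h => hxK (h ▸ Subgroup.one_mem _)
  have hxk : x ≠ k := fun h => hxK (h ▸ Subgroup.mem_zpowers _)
  have hy1 : y ≠ 1 := fun h => hyK (h ▸ Subgroup.one_mem _)
  have hyk : y ≠ k := fun h => hyK (h ▸ Subgroup.mem_zpowers _)
  have hyx : y ≠ x := by
    intro h
    apply hxyK
    rw [h, ← pow_two, hx2]; exact Subgroup.one_mem _
  have hyxk : y ≠ x * k := by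
    intro h
    apply hxyK
    rw [h, ← mul_assoc, ← pow_two, hx2, one_mul]; exact Subgroup.mem_zpowers _
  have hxk1 : x * k ≠ 1 := by
    intro h
    apply hxK
    have : x = k⁻¹ := eq_inv_of_mul_eq_one_left h
    rw [this, k_inv hk2]; exact Subgroup.mem_zpowers _
  have hxkk : x * k ≠ k := by
    intro h
    apply hx1
    exact mul_eq_right.mp h
  have hxkx : x * k ≠ x := by
    intro h
    apply hk1
    exact mul_eq_left.mp h
  apply Cfsg.Agent.Lib.Lead.SecRankTwo.false_of_section hr ({x, y, k} : Set S) ⊥ bot_le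
  · intro m hm z _
    rw [Subgroup.mem_bot] at hm
    rw [hm, mul_one, one_mul]
  · intro a ha b hb
    rw [Subgroup.mem_bot]
    have hcomm : a * b = b * a := by
      simp only [Set.mem_insert_iff, Set.mem_singleton_iff] at ha hb
      rcases ha with rfl | rfl | rfl <;> rcases hb with rfl | rfl | rfl
      · rfl
      · exact hxy
      · exact hkc _
      · exact hxy.symm
      · rfl
      · exact hkc _
      · exact (hkc _).symm
      · exact (hkc _).symm
      · rfl
    rw [hcomm]; group
  · intro a ha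
    rw [Subgroup.mem_bot]
    simp only [Set.mem_insert_iff, Set.mem_singleton_iff] at ha
    rcases ha with rfl | rfl | rfl
    · exact hx2
    · exact hy2
    · exact hk2
  · rw [Subgroup.card_bot, mul_one]
    have hsub : ((({1, k, x, x * k, y} : Finset S) : Set S)) ⊆
        ((Subgroup.closure ({x, y, k} : Set S) : Subgroup S) : Set S) := by
      intro z hz
      simp only [Finset.coe_insert, Finset.coe_singleton, Set.mem_insert_iff,
        Set.mem_singleton_iff] at hz
      have hxm : x ∈ Subgroup.closure ({x, y, k} : Set S) :=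
        Subgroup.subset_closure (by simp)
      have hym : y ∈ Subgroup.closure ({x, y, k} : Set S) :=
        Subgroup.subset_closure (by simp)
      have hkm : k ∈ Subgroup.closure ({x, y, k} : Set S) :=
        Subgroup.subset_closure (by simp)
      rcases hz with rfl | rfl | rfl | rfl | rfl
      · exact Subgroup.one_mem _
      · exact hkm
      · exact hxm
      · exact Subgroup.mul_mem _ hxm hkm
      · exact hym
    have hF : ({1, k, x, x * k, y} : Finset S).card = 5 := by
      rw [Finset.card_insert_of_notMem, Finset.card_insert_of_notMem,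
        Finset.card_insert_of_notMem, Finset.card_insert_of_notMem, Finset.card_singleton]
      · simp only [Finset.mem_singleton]; exact hyxk.symm
      · simp only [Finset.mem_insert, Finset.mem_singleton, not_or]
        exact ⟨hxkx.symm, hyx.symm⟩
      · simp only [Finset.mem_insert, Finset.mem_singleton, not_or]
        exact ⟨hxk.symm, hxkk.symm, hyk.symm⟩
      · simp only [Finset.mem_insert, Finset.mem_singleton, not_or]
        exact ⟨hk1.symm, hx1.symm, hxk1.symm, hy1.symm⟩
    have h1 := Set.ncard_le_ncard hsub (Set.toFinite _)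
    rw [Set.ncard_coe_finset, hF] at h1
    have h2 : Nat.card (Subgroup.closure ({x, y, k} : Set S)) =
        ((Subgroup.closure ({x, y, k} : Set S) : Subgroup S) : Set S).ncard :=
      Nat.card_coe_set_eq _
    rw [h2]; omega

end Cfsg.Agent.H9SM
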