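import Mathlib
import Cfsg.Agent.Lib.Helper9.SecMeta3

set_option autoImplicit false

/-! Sectional rank two: the final class-two analysis (main lemma). -/

namespace Cfsg.Agent.H9SM

open Cfsg

variable {S : Type*} [Group S] [Finite S]

theorem final (hS : IsPGroup 2 S) (hr : Cfsg.SectionalPRankLE 2 2 S)
    (k : S) (hk1 : k ≠ 1) (hk2 : k ^ 2 = 1) (hkc : ∀ s : S, s * k = k * s)
    (hab : ∀ s t : S, s * t * s⁻¹ * t⁻¹ ∈ Subgroup.zpowers k)
    (u v : S) (hcl : Subgroup.closure ({u, v, k} : Set S) = ⊤)
    (hind : ∀ i j : ℕ, u ^ i * v ^ j ∈ Subgroup.zpowers k →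
      u ^ i ∈ Subgroup.zpowers k ∧ v ^ j ∈ Subgroup.zpowers k) :
    Cfsg.IsMetacyclic S := by
  obtain ⟨m, hm, hmmin⟩ := exists_least hS k u
  obtain ⟨n, hn, hnmin⟩ := exists_least hS k v
  rcases (memK hk2).mp hm with hm1 | hmk
  swap
  · -- `k ∈ ⟨u⟩`
    have hku : k ∈ Subgroup.zpowers u := by rw [← hmk]; exact Subgroup.pow_mem _ (Subgroup.mem_zpowers u) _
    apply meta_of_normal_cyclic u v (normal_of_mem hab u hku) _ hcl
    intro x hx
    simp only [Set.mem_insert_iff, Set.mem_singleton_iff] at hx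
    rcases hx with rfl | rfl | rfl
    · exact ⟨0, 1, by simp⟩
    · exact ⟨1, 0, by simp⟩
    · exact ⟨0, (2 ^ m : ℕ), by rw [zpow_zero, one_mul, zpow_natCast, hmk]⟩
  rcases (memK hk2).mp hn with hn1 | hnk
  swap
  · have hkv : k ∈ Subgroup.zpowers v := by rw [← hnk]; exact Subgroup.pow_mem _ (Subgroup.mem_zpowers v) _
    apply meta_of_normal_cyclic v u (normal_of_mem hab v hkv) _ hcl
    intro x hx
    simp only [Set.mem_insert_iff, Set.mem_singleton_iff] at hx
    rcases hx with rfl | rfl | rfl
    · exact ⟨1, 0, by simp⟩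
    · exact ⟨0, 1, by simp⟩
    · exact ⟨0, (2 ^ n : ℕ), by rw [zpow_zero, one_mul, zpow_natCast, hnk]⟩
  -- now `u ^ 2 ^ m = 1 = v ^ 2 ^ n`
  rcases Nat.eq_zero_or_pos m with hm0 | hmpos
  · -- `u = 1`
    have hu1 : u = 1 := by rw [hm0, pow_zero, pow_one] at hm1; exact hm1
    have hNv : (Subgroup.zpowers v).Normal := by
      apply normal_of_central_gens v _ hcl
      intro x hx
      simp only [Set.mem_insert_iff, Set.mem_singleton_iff] at hx
      rcases hx with rfl | rfl | rfl
      · rw [hu1, one_mul, mul_one]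
      · rfl
      · exact (hkc v).symm
    apply meta_of_normal_cyclic v k hNv _ hcl
    intro x hx
    simp only [Set.mem_insert_iff, Set.mem_singleton_iff] at hx
    rcases hx with rfl | rfl | rfl
    · exact ⟨0, 0, by simp [hu1]⟩
    · exact ⟨0, 1, by simp⟩
    · exact ⟨1, 0, by simp⟩
  rcases Nat.eq_zero_or_pos n with hn0 | hnpos
  · have hv1 : v = 1 := by rw [hn0, pow_zero, pow_one] at hn1; exact hn1
    have hNu : (Subgroup.zpowers u).Normal := by
      apply normal_of_central_gens u _ hcl
      intro x hx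
      simp only [Set.mem_insert_iff, Set.mem_singleton_iff] at hx
      rcases hx with rfl | rfl | rfl
      · rfl
      · rw [hv1, one_mul, mul_one]
      · exact (hkc u).symm
    apply meta_of_normal_cyclic u k hNu _ hcl
    intro x hx
    simp only [Set.mem_insert_iff, Set.mem_singleton_iff] at hx
    rcases hx with rfl | rfl | rfl
    · exact ⟨0, 1, by simp⟩
    · exact ⟨0, 0, by simp [hv1]⟩
    · exact ⟨1, 0, by simp⟩
  -- `m, n ≥ 1`
  obtain ⟨m', rfl⟩ : ∃ m', m = m' + 1 := ⟨m - 1, by omega⟩
  obtain ⟨n', rfl⟩ : ∃ n', n = n' + 1 := ⟨n - 1, by omega⟩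
  have hxK : u ^ 2 ^ m' ∉ Subgroup.zpowers k := hmmin m' (by omega)
  have hyK : v ^ 2 ^ n' ∉ Subgroup.zpowers k := hnmin n' (by omega)
  have hx2 : (u ^ 2 ^ m') ^ 2 = 1 := by rw [← pow_mul, ← pow_succ]; exact hm1
  have hy2 : (v ^ 2 ^ n') ^ 2 = 1 := by rw [← pow_mul, ← pow_succ]; exact hn1
  have hxyK : u ^ 2 ^ m' * v ^ 2 ^ n' ∉ Subgroup.zpowers k := fun h => hxK (hind _ _ h).1
  rcases comm_or hk2 hkc hab u v with huv | huv
  · -- commuting
    exfalso
    have hc : Commute u v := huv
    exact no_E8 hr hk1 hk2 hkc hx2 hy2 (hc.pow_pow _ _) hxK hyK hxyK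
  · by_cases hmn : m' = 0 ∧ n' = 0
    · -- dihedral case
      obtain ⟨rfl, rfl⟩ := hmn
      have hu2 : u * u = 1 := by
        have := hm1; rw [zero_add, pow_one, pow_two] at this; exact this
      have hv2 : v * v = 1 := by
        have := hn1; rw [zero_add, pow_one, pow_two] at this; exact this
      have hvu : v * u = u * v * k := by
        have h1 : u * v * k = v * u * k * k := by rw [huv]
        rw [h1, mul_assoc (v * u), ← pow_two, hk2, mul_one]
      have hg2 : (u * v) ^ 2 = k := by
        calc (u * v) ^ 2 = u * (v * u) * v := by rw [pow_two]; group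
          _ = u * (u * v * k) * v := by rw [hvu]
          _ = (u * u) * v * (k * v) := by group
          _ = (u * u) * v * (v * k) := by rw [hkc v]
          _ = (u * u) * (v * v) * k := by group
          _ = k := by rw [hu2, hv2, one_mul, one_mul]
      have hkg : k ∈ Subgroup.zpowers (u * v) := by
        rw [← hg2]; exact Subgroup.pow_mem _ (Subgroup.mem_zpowers _) _
      apply meta_of_normal_cyclic (u * v) u (normal_of_mem hab _ hkg) _ hcl
      intro x hx
      simp only [Set.mem_insert_iff, Set.mem_singleton_iff] at hx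
      rcases hx with rfl | rfl | rfl
      · exact ⟨1, 0, by simp⟩
      · exact ⟨-1, 1, by simp⟩
      · exact ⟨0, 2, by rw [zpow_zero, one_mul]; exact_mod_cast hg2.symm⟩
    · exfalso
      have hcomm : Commute (u ^ 2 ^ m') (v ^ 2 ^ n') := by
        have huvv : Commute u (v ^ 2) := by
          change u * v ^ 2 = v ^ 2 * u
          calc u * v ^ 2 = (u * v) * v := by rw [pow_two]; group
            _ = v * u * k * v := by rw [huv]
            _ = v * (u * (k * v)) := by group
            _ = v * (u * (v * k)) := by rw [hkc v]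
            _ = v * ((u * v) * k) := by group
            _ = v * ((v * u * k) * k) := by rw [huv]
            _ = v ^ 2 * u * (k * k) := by rw [pow_two]; group
            _ = v ^ 2 * u := by rw [← pow_two, hk2, mul_one]
        have huuv : Commute (u ^ 2) v := by
          change u ^ 2 * v = v * u ^ 2
          calc u ^ 2 * v = u * (u * v) := by rw [pow_two]; group
            _ = u * (v * u * k) := by rw [huv]
            _ = (u * v) * u * k := by group
            _ = (v * u * k) * u * k := by rw [huv]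
            _ = v * u * (k * u) * k := by group
            _ = v * u * (u * k) * k := by rw [hkc u]
            _ = v * u ^ 2 * (k * k) := by rw [pow_two]; group
            _ = v * u ^ 2 := by rw [← pow_two, hk2, mul_one]
        by_cases hm0 : m' = 0
        · have hn0 : n' ≠ 0 := fun h => hmn ⟨hm0, h⟩
          obtain ⟨n'', rfl⟩ : ∃ n'', n' = n'' + 1 := ⟨n' - 1, by omega⟩
          have : v ^ 2 ^ (n'' + 1) = (v ^ 2) ^ 2 ^ n'' := by rw [← pow_mul, ← pow_succ']
          rw [this]
          exact huvv.pow_pow _ _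
        · obtain ⟨m'', rfl⟩ : ∃ m'', m' = m'' + 1 := ⟨m' - 1, by omega⟩
          have : u ^ 2 ^ (m'' + 1) = (u ^ 2) ^ 2 ^ m'' := by rw [← pow_mul, ← pow_succ']
          rw [this]
          exact huuv.pow_pow _ _
      exact no_E8 hr hk1 hk2 hkc hx2 hy2 hcomm hxK hyK hxyK

end Cfsg.Agent.H9SM
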