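import Mathlib
import Cfsg.Agent.Lib.Helper9.SecMeta4
import Cfsg.Agent.Lib.Helper4.MetaTwo2

set_option autoImplicit false

/-! Sectional rank two: lifting through a central subgroup of order two. -/

namespace Cfsg.Agent.H9SM

open Cfsg
open scoped commutatorElement

universe u

variable {S : Type u} [Group S] [Finite S]

theorem exists_involution_of_ne_bot (hS : IsPGroup 2 S) (N : Subgroup S) (hN : N ≠ ⊥) :
    ∃ k ∈ N, k ≠ 1 ∧ k ^ 2 = 1 := by
  obtain ⟨⟨x, hxN⟩, hx1'⟩ := (Subgroup.ne_bot_iff_exists_ne_one).mp hN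
  have hx1 : x ≠ 1 := fun h => hx1' (Subtype.ext h)
  obtain ⟨e, he⟩ := (IsPGroup.iff_orderOf.mp hS) x
  have he1 : 1 ≤ e := by
    rcases Nat.eq_zero_or_pos e with h | h
    · exfalso; apply hx1
      rw [h, pow_zero, orderOf_eq_one_iff] at he; exact he
    · exact h
  obtain ⟨e', rfl⟩ : ∃ e', e = e' + 1 := ⟨e - 1, by omega⟩
  refine ⟨x ^ 2 ^ e', Subgroup.pow_mem _ hxN _, ?_, ?_⟩
  · intro h
    have h1 : orderOf x ∣ 2 ^ e' := orderOf_dvd_of_pow_eq_one h
    rw [he] at h1
    have h2 := Nat.le_of_dvd (by positivity) h1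
    have h3 : 2 ^ e' < 2 ^ (e' + 1) := Nat.pow_lt_pow_right (by norm_num) (by omega)
    omega
  · rw [← pow_mul, ← pow_succ, ← he]; exact pow_orderOf_eq_one x

theorem exists_central_involution (hS : IsPGroup 2 S) [Nontrivial S] :
    ∃ k : S, k ≠ 1 ∧ k ^ 2 = 1 ∧ (∀ s : S, s * k = k * s) ∧
      ((¬ ∀ x y : S, x * y = y * x) → k ∈ commutator S) := by
  by_cases hcomm : ∀ x y : S, x * y = y * x
  · obtain ⟨k, -, hk1, hk2⟩ := exists_involution_of_ne_bot hS ⊤ (by
      intro h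
      obtain ⟨x, hx⟩ := exists_ne (1 : S)
      have : x ∈ (⊤ : Subgroup S) := Subgroup.mem_top x
      rw [h, Subgroup.mem_bot] at this
      exact hx this)
    exact ⟨k, hk1, hk2, fun s => hcomm s k, fun h => absurd hcomm h⟩
  · have : Group.IsNilpotent S := hS.isNilpotent
    have hne : commutator S ≠ ⊥ := by
      intro h
      apply hcomm
      intro x y
      have h1 : ⁅x, y⁆ ∈ commutator S := by
        rw [commutator_def]
        exact Subgroup.commutator_mem_commutator (Subgroup.mem_top x) (Subgroup.mem_top y)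
      rw [h, Subgroup.mem_bot, commutatorElement_def] at h1
      have : x * y * x⁻¹ * y⁻¹ * (y * x) = 1 * (y * x) := by rw [h1]
      simpa [mul_assoc] using this
    have h2 := Cfsg.Agent.Lib.Lead.inf_center_ne_bot (commutator S) hne
    obtain ⟨k, hkN, hk1, hk2⟩ := exists_involution_of_ne_bot hS _ h2
    refine ⟨k, hk1, hk2, ?_, fun _ => hkN.1⟩
    intro s
    exact Subgroup.mem_center_iff.mp hkN.2 s

/-- the lifting step: from generators of the (abelian) quotient to the group -/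
theorem key (hS : IsPGroup 2 S) (hr : Cfsg.SectionalPRankLE 2 2 S)
    (k : S) (hk1 : k ≠ 1) (hk2 : k ^ 2 = 1) (hkc : ∀ s : S, s * k = k * s)
    [hKn : (Subgroup.zpowers k).Normal]
    (abar tbar : S ⧸ Subgroup.zpowers k)
    (hgenbar : ∀ w : S ⧸ Subgroup.zpowers k, ∃ (j i : ℤ), w = tbar ^ j * abar ^ i)
    (hQc : ∀ x y : S ⧸ Subgroup.zpowers k, x * y = y * x) : Cfsg.IsMetacyclic S := by
  obtain ⟨ubar, vbar, hgen', hindep⟩ :=
    exists_independent_gens (hS.to_quotient (Subgroup.zpowers k)) hQc _ abar tbar rfl hgenbar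
  obtain ⟨u, rfl⟩ := QuotientGroup.mk_surjective ubar
  obtain ⟨v, rfl⟩ := QuotientGroup.mk_surjective vbar
  apply final hS hr k hk1 hk2 hkc ?_ u v ?_ ?_
  · intro s t
    rw [← QuotientGroup.eq_one_iff]
    have := hQc (s : S ⧸ Subgroup.zpowers k) (t : S ⧸ Subgroup.zpowers k)
    rw [QuotientGroup.mk_mul, QuotientGroup.mk_mul, QuotientGroup.mk_mul, this,
      QuotientGroup.mk_inv, QuotientGroup.mk_inv]
    group
  · rw [eq_top_iff]
    intro s _
    obtain ⟨j, i, hji⟩ := hgen' (s : S ⧸ Subgroup.zpowers k)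
    have h1 : ((v ^ j * u ^ i : S) : S ⧸ Subgroup.zpowers k) = (s : S ⧸ Subgroup.zpowers k) := by
      rw [hji, QuotientGroup.mk_mul, QuotientGroup.mk_zpow, QuotientGroup.mk_zpow]
    have h2 : (v ^ j * u ^ i)⁻¹ * s ∈ Subgroup.zpowers k := QuotientGroup.eq.mp h1
    have hu : u ∈ Subgroup.closure ({u, v, k} : Set S) := Subgroup.subset_closure (by simp)
    have hv : v ∈ Subgroup.closure ({u, v, k} : Set S) := Subgroup.subset_closure (by simp)
    have hk : k ∈ Subgroup.closure ({u, v, k} : Set S) := Subgroup.subset_closure (by simp)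
    have h3 : (v ^ j * u ^ i)⁻¹ * s ∈ Subgroup.closure ({u, v, k} : Set S) :=
      (Subgroup.zpowers_le.mpr hk) h2
    have h4 : s = (v ^ j * u ^ i) * ((v ^ j * u ^ i)⁻¹ * s) := by group
    rw [h4]
    exact Subgroup.mul_mem _ (Subgroup.mul_mem _ (Subgroup.zpow_mem _ hv _)
      (Subgroup.zpow_mem _ hu _)) h3
  · intro i j hij
    have h1 : ((u ^ i * v ^ j : S) : S ⧸ Subgroup.zpowers k) = 1 :=
      (QuotientGroup.eq_one_iff _).mpr hij
    rw [QuotientGroup.mk_mul, QuotientGroup.mk_pow, QuotientGroup.mk_pow] at h1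
    have h2 : (u : S ⧸ Subgroup.zpowers k) ^ i = ((v : S ⧸ Subgroup.zpowers k) ^ j)⁻¹ :=
      eq_inv_of_mul_eq_one_left h1
    have h3 : (u : S ⧸ Subgroup.zpowers k) ^ i = 1 := by
      apply hindep
      · exact Subgroup.pow_mem _ (Subgroup.mem_zpowers _) _
      · rw [h2]
        exact Subgroup.inv_mem _ (Subgroup.pow_mem _ (Subgroup.mem_zpowers _) _)
    have h4 : (v : S ⧸ Subgroup.zpowers k) ^ j = 1 := by
      rw [h3, one_mul] at h1; exact h1
    rw [← QuotientGroup.mk_pow, QuotientGroup.eq_one_iff] at h3 h4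
    exact ⟨h3, h4⟩

end Cfsg.Agent.H9SM
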