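import Mathlib
import Cfsg.Agent.Lib.Helper9.SecMeta5

set_option autoImplicit false

/-! Sectional rank two: the non-abelian lifting step. -/

namespace Cfsg.Agent.H9SM

open Cfsg
open scoped commutatorElement

universe u

variable {S : Type u} [Group S] [Finite S]

/-- `⟨c⟩` is normal and has commutative quotient, hence contains the derived subgroup -/
theorem commutator_le_zpowers (k : S) (hk2 : k ^ 2 = 1) (hkc : ∀ s : S, s * k = k * s)
    (a b : S) (s : ℤ) (κ : S) (hκ : κ ∈ Subgroup.zpowers k) (hbab : b * a * b⁻¹ = a ^ s * κ)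
    (hgen : ∀ g : S, ∃ (j i : ℕ), ∃ κ' ∈ Subgroup.zpowers k, g = b ^ j * a ^ i * κ') :
    commutator S ≤ Subgroup.zpowers (a ^ (s - 1) * κ) := by
  have hKc : ∀ κ' ∈ Subgroup.zpowers k, ∀ x : S, x * κ' = κ' * x := by
    intro κ' hκ' x
    rcases (memK hk2).mp hκ' with rfl | rfl
    · rw [mul_one, one_mul]
    · exact hkc x
  have hκc := hKc κ hκ
  obtain ⟨c, hc⟩ : ∃ c : S, c = a ^ (s - 1) * κ := ⟨_, rfl⟩
  rw [← hc]
  have hca : Commute a c := by
    rw [hc]
    exact Commute.mul_right ((Commute.refl a).zpow_right _) (hκc a)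
  -- `b c b⁻¹ = c ^ s`
  have hbc : b * c * b⁻¹ = c ^ s := by
    have h1 : b * c * b⁻¹ = (b * a * b⁻¹) ^ (s - 1) * κ := by
      rw [hc]
      have h2 : b * (a ^ (s - 1) * κ) * b⁻¹ = (b * a ^ (s - 1) * b⁻¹) * κ := by
        rw [mul_assoc, mul_assoc, ← hκc b⁻¹]; group
      rw [h2]
      congr 1
      have := map_zpow (MulAut.conj b) a (s - 1)
      simpa [MulAut.conj_apply] using this
    have hcomm1 : Commute (a ^ s) κ := hκc _
    have hcomm2 : Commute (a ^ (s - 1)) κ := hκc _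
    rw [h1, hbab, hcomm1.mul_zpow, hc, hcomm2.mul_zpow, ← zpow_mul, ← zpow_mul, mul_assoc,
      ← zpow_add_one]
    congr 2
    · ring
    · ring
  -- normality
  have hP : ∀ g : S, ∀ x ∈ Subgroup.zpowers c, g * x * g⁻¹ ∈ Subgroup.zpowers c := by
    have hPmul : ∀ g h : S, (∀ x ∈ Subgroup.zpowers c, g * x * g⁻¹ ∈ Subgroup.zpowers c) →
        (∀ x ∈ Subgroup.zpowers c, h * x * h⁻¹ ∈ Subgroup.zpowers c) →
        ∀ x ∈ Subgroup.zpowers c, (g * h) * x * (g * h)⁻¹ ∈ Subgroup.zpowers c := by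
      intro g h hg hh x hx
      have : (g * h) * x * (g * h)⁻¹ = g * (h * x * h⁻¹) * g⁻¹ := by group
      rw [this]
      exact hg _ (hh x hx)
    have hPpow : ∀ (g : S) (n : ℕ), (∀ x ∈ Subgroup.zpowers c, g * x * g⁻¹ ∈ Subgroup.zpowers c) →
        ∀ x ∈ Subgroup.zpowers c, (g ^ n) * x * (g ^ n)⁻¹ ∈ Subgroup.zpowers c := by
      intro g n hg
      induction n with
      | zero => intro x hx; simpa using hx
      | succ n ih =>
        rw [pow_succ]
        exact hPmul _ _ ih hg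
    have hPa : ∀ x ∈ Subgroup.zpowers c, a * x * a⁻¹ ∈ Subgroup.zpowers c := by
      intro x hx
      obtain ⟨l, rfl⟩ := Subgroup.mem_zpowers_iff.mp hx
      have : Commute a (c ^ l) := hca.zpow_right l
      rw [this.eq, mul_inv_cancel_right]
      exact hx
    have hPb : ∀ x ∈ Subgroup.zpowers c, b * x * b⁻¹ ∈ Subgroup.zpowers c := by
      intro x hx
      obtain ⟨l, rfl⟩ := Subgroup.mem_zpowers_iff.mp hx
      have h1 : b * c ^ l * b⁻¹ = (b * c * b⁻¹) ^ l := by
        have := map_zpow (MulAut.conj b) c l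
        simpa [MulAut.conj_apply] using this
      rw [h1, hbc]
      exact Subgroup.zpow_mem _ (Subgroup.zpow_mem _ (Subgroup.mem_zpowers c) _) _
    have hPκ : ∀ κ' ∈ Subgroup.zpowers k, ∀ x ∈ Subgroup.zpowers c,
        κ' * x * κ'⁻¹ ∈ Subgroup.zpowers c := by
      intro κ' hκ' x hx
      rw [← hKc κ' hκ' x, mul_inv_cancel_right]
      exact hx
    intro g
    obtain ⟨j, i, κ', hκ', rfl⟩ := hgen g
    exact hPmul _ _ (hPmul _ _ (hPpow b j hPb) (hPpow a i hPa)) (hPκ κ' hκ')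
  have hN : (Subgroup.zpowers c).Normal := ⟨fun x hx g => hP g x hx⟩
  -- the quotient is commutative
  have hcomm_ba : Commute (b : S ⧸ Subgroup.zpowers c) (a : S ⧸ Subgroup.zpowers c) := by
    change (b : S ⧸ Subgroup.zpowers c) * (a : S ⧸ Subgroup.zpowers c) = a * b
    have h1 : b * a = c * (a * b) := by
      have : b * a = (b * a * b⁻¹) * b := by group
      rw [this, hbab, hc]
      have h3 : a ^ (s - 1) * κ * (a * b) = a ^ (s - 1) * (κ * a) * b := by group
      rw [h3, ← hκc a]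
      have h4 : a ^ (s - 1) * (a * κ) * b = (a ^ (s - 1) * a) * κ * b := by group
      rw [h4, ← zpow_add_one, sub_add_cancel]
    rw [← QuotientGroup.mk_mul, ← QuotientGroup.mk_mul, h1, QuotientGroup.mk_mul]
    have : ((c : S) : S ⧸ Subgroup.zpowers c) = 1 :=
      (QuotientGroup.eq_one_iff _).mpr (Subgroup.mem_zpowers c)
    rw [this, one_mul]
  have hcentral : ∀ κ' ∈ Subgroup.zpowers k, ∀ y : S ⧸ Subgroup.zpowers c,
      Commute (κ' : S ⧸ Subgroup.zpowers c) y := by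
    intro κ' hκ' y
    obtain ⟨y, rfl⟩ := QuotientGroup.mk_surjective y
    change (κ' : S ⧸ Subgroup.zpowers c) * (y : S ⧸ Subgroup.zpowers c) = y * κ'
    rw [← QuotientGroup.mk_mul, ← QuotientGroup.mk_mul, hKc κ' hκ' y]
  have hQ : ∀ x y : S ⧸ Subgroup.zpowers c, x * y = y * x := by
    intro x y
    obtain ⟨x, rfl⟩ := QuotientGroup.mk_surjective x
    obtain ⟨y, rfl⟩ := QuotientGroup.mk_surjective y
    obtain ⟨j, i, κ₁, hκ₁, rfl⟩ := hgen x
    obtain ⟨j', i', κ₂, hκ₂, rfl⟩ := hgen y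
    simp only [QuotientGroup.mk_mul, QuotientGroup.mk_pow]
    have hbb : Commute (b : S ⧸ Subgroup.zpowers c) b := Commute.refl _
    have haa : Commute (a : S ⧸ Subgroup.zpowers c) a := Commute.refl _
    have e1 : Commute ((b : S ⧸ Subgroup.zpowers c) ^ j * (a : S ⧸ Subgroup.zpowers c) ^ i)
        ((b : S ⧸ Subgroup.zpowers c) ^ j' * (a : S ⧸ Subgroup.zpowers c) ^ i') :=
      Commute.mul_left
        (Commute.mul_right (hbb.pow_pow _ _) (hcomm_ba.pow_pow _ _))
        (Commute.mul_right ((hcomm_ba.pow_pow _ _).symm) (haa.pow_pow _ _))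
    have e2 : Commute ((b : S ⧸ Subgroup.zpowers c) ^ j * (a : S ⧸ Subgroup.zpowers c) ^ i *
        (κ₁ : S ⧸ Subgroup.zpowers c))
        ((b : S ⧸ Subgroup.zpowers c) ^ j' * (a : S ⧸ Subgroup.zpowers c) ^ i' *
        (κ₂ : S ⧸ Subgroup.zpowers c)) :=
      Commute.mul_left
        (Commute.mul_right e1 (hcentral κ₂ hκ₂ _).symm)
        (hcentral κ₁ hκ₁ _)
    exact e2.eq
  rw [commutator_def, Subgroup.commutator_le]
  intro g₁ _ g₂ _
  rw [← QuotientGroup.eq_one_iff, commutatorElement_def, QuotientGroup.mk_mul,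
    QuotientGroup.mk_mul, QuotientGroup.mk_mul, hQ (g₁ : S ⧸ Subgroup.zpowers c) g₂,
    QuotientGroup.mk_inv, QuotientGroup.mk_inv]
  group

end Cfsg.Agent.H9SM
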