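import Mathlib
import Cfsg.Agent.Lib.Helper9.SecMeta6

set_option autoImplicit false

/-! A `2`-group of sectional rank at most two is metacyclic. -/

namespace Cfsg.Agent.H9SM

open Cfsg
open scoped commutatorElement

universe u

theorem main_aux : ∀ (n : ℕ) (S : Type u) [Group S] [Finite S], Nat.card S = n → IsPGroup 2 S →
    Cfsg.SectionalPRankLE 2 2 S → Cfsg.IsMetacyclic S := by
  intro n
  induction n using Nat.strong_induction_on with
  | _ n ih =>
    intro S _ _ hn hS hr
    by_cases htriv : Nat.card S = 1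
    · have hsub : Subsingleton S := (Nat.card_eq_one_iff_unique.mp htriv).1
      have hN : (Subgroup.zpowers (1 : S)).Normal := by
        rw [Subgroup.zpowers_one_eq_bot]; infer_instance
      apply meta_of_normal_cyclic (1 : S) 1 hN Set.univ Subgroup.closure_univ
      intro x _
      exact ⟨0, 0, Subsingleton.elim _ _⟩
    have hnt : Nontrivial S := by
      rw [← Finite.one_lt_card_iff_nontrivial]
      have : 0 < Nat.card S := Nat.card_pos
      omega
    obtain ⟨k, hk1, hk2, hkc, hkS'⟩ := exists_central_involution hS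
    have hkcen : k ∈ Subgroup.center S := by
      rw [Subgroup.mem_center_iff]; exact hkc
    have hKn : (Subgroup.zpowers k).Normal :=
      Cfsg.Agent.Lib.Lead.zpowers_normal_of_mem_center hkcen
    have hordk : orderOf k = 2 := orderOf_eq_prime hk2 hk1
    have hcardK : Nat.card (Subgroup.zpowers k) = 2 := by rw [Nat.card_zpowers, hordk]
    have hcard : Nat.card S = Nat.card (S ⧸ Subgroup.zpowers k) * 2 := by
      rw [← hcardK]; exact Subgroup.card_eq_card_quotient_mul_card_subgroup _
    have hlt : Nat.card (S ⧸ Subgroup.zpowers k) < n := by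
      have : 0 < Nat.card (S ⧸ Subgroup.zpowers k) := Nat.card_pos
      omega
    have hQ : Cfsg.IsMetacyclic (S ⧸ Subgroup.zpowers k) :=
      ih _ hlt (S ⧸ Subgroup.zpowers k) rfl (hS.to_quotient _) (sectional_quotient hr _)
    obtain ⟨abar, tbar, hNbar, hgenbar⟩ := Cfsg.Agent.Lib.Helper4.MetaTwo.exists_gens hQ
    by_cases hcomm : ∀ x y : S, x * y = y * x
    · apply key hS hr k hk1 hk2 hkc abar tbar hgenbar
      intro x y
      obtain ⟨x, rfl⟩ := QuotientGroup.mk_surjective x
      obtain ⟨y, rfl⟩ := QuotientGroup.mk_surjective y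
      rw [← QuotientGroup.mk_mul, ← QuotientGroup.mk_mul, hcomm x y]
    have hkS := hkS' hcomm
    obtain ⟨a, rfl⟩ := QuotientGroup.mk_surjective abar
    obtain ⟨b, rfl⟩ := QuotientGroup.mk_surjective tbar
    -- normal forms
    have hgen : ∀ g : S, ∃ (j i : ℤ), ∃ κ' ∈ Subgroup.zpowers k, g = b ^ j * a ^ i * κ' := by
      intro g
      obtain ⟨j, i, hji⟩ := hgenbar (g : S ⧸ Subgroup.zpowers k)
      have h1 : ((b ^ j * a ^ i : S) : S ⧸ Subgroup.zpowers k) = (g : S ⧸ Subgroup.zpowers k) := by
        rw [hji, QuotientGroup.mk_mul, QuotientGroup.mk_zpow, QuotientGroup.mk_zpow]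
      have h2 : (b ^ j * a ^ i)⁻¹ * g ∈ Subgroup.zpowers k := QuotientGroup.eq.mp h1
      exact ⟨j, i, _, h2, by group⟩
    have hgenN : ∀ g : S, ∃ (j i : ℕ), ∃ κ' ∈ Subgroup.zpowers k, g = b ^ j * a ^ i * κ' := by
      intro g
      obtain ⟨j, i, κ', hκ', rfl⟩ := hgen g
      obtain ⟨j', hj'⟩ := exists_pow_eq_zpow b j
      obtain ⟨i', hi'⟩ := exists_pow_eq_zpow a i
      exact ⟨j', i', κ', hκ', by rw [hj', hi']⟩
    have hconj : ∀ g : S, ∃ s : ℤ, ∃ κ ∈ Subgroup.zpowers k, g * a * g⁻¹ = a ^ s * κ := by
      intro g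
      have h1 := hNbar.conj_mem (a : S ⧸ Subgroup.zpowers k) (Subgroup.mem_zpowers _)
        (g : S ⧸ Subgroup.zpowers k)
      obtain ⟨s, hs⟩ := Subgroup.mem_zpowers_iff.mp h1
      have h2 : ((a ^ s : S) : S ⧸ Subgroup.zpowers k) = ((g * a * g⁻¹ : S) : S ⧸ Subgroup.zpowers k) := by
        rw [QuotientGroup.mk_zpow, hs, QuotientGroup.mk_mul, QuotientGroup.mk_mul,
          QuotientGroup.mk_inv]
      have h3 : (a ^ s)⁻¹ * (g * a * g⁻¹) ∈ Subgroup.zpowers k := QuotientGroup.eq.mp h2
      exact ⟨s, _, h3, by group⟩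
    by_cases hka : k ∈ Subgroup.zpowers a
    · -- `⟨a⟩` is normal
      have hN : (Subgroup.zpowers a).Normal := by
        constructor
        intro x hx g
        obtain ⟨l, rfl⟩ := Subgroup.mem_zpowers_iff.mp hx
        obtain ⟨s, κ, hκ, hs⟩ := hconj g
        have h1 : g * a ^ l * g⁻¹ = (g * a * g⁻¹) ^ l := by
          have := map_zpow (MulAut.conj g) a l
          simpa [MulAut.conj_apply] using this
        rw [h1, hs]
        apply Subgroup.zpow_mem
        exact Subgroup.mul_mem _ (Subgroup.zpow_mem _ (Subgroup.mem_zpowers a) _)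
          ((Subgroup.zpowers_le.mpr hka) hκ)
      apply meta_of_normal_cyclic a b hN Set.univ Subgroup.closure_univ
      intro x _
      obtain ⟨j, i, κ', hκ', rfl⟩ := hgen x
      obtain ⟨l, hl⟩ := Subgroup.mem_zpowers_iff.mp ((Subgroup.zpowers_le.mpr hka) hκ')
      exact ⟨j, i + l, by rw [zpow_add, hl, mul_assoc]⟩
    · -- derive that the quotient is abelian
      obtain ⟨s, κ, hκ, hbab⟩ := hconj b
      have hle := commutator_le_zpowers k hk2 hkc a b s κ hκ hbab hgenN
      obtain ⟨t, ht⟩ := Subgroup.mem_zpowers_iff.mp (hle hkS)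
      have hκc : ∀ x : S, x * κ = κ * x := by
        intro x
        rcases (memK hk2).mp hκ with rfl | rfl
        · rw [mul_one, one_mul]
        · exact hkc x
      have hcm : Commute (a ^ (s - 1)) κ := hκc _
      rw [hcm.mul_zpow] at ht
      have hbabK : ∃ κ' ∈ Subgroup.zpowers k, b * a * b⁻¹ = a * κ' := by
        rcases (memK hk2).mp hκ with rfl | rfl
        · exfalso
          apply hka
          rw [one_zpow, mul_one] at ht
          rw [← ht]
          exact Subgroup.zpow_mem _ (Subgroup.zpow_mem _ (Subgroup.mem_zpowers a) _) _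
        · rcases Int.even_or_odd' t with ⟨t', ht' | ht'⟩
          · exfalso
            apply hka
            have hkt : κ ^ t = 1 := by
              rw [ht', zpow_mul, zpow_ofNat, hk2, one_zpow]
            rw [hkt, mul_one] at ht
            rw [← ht]
            exact Subgroup.zpow_mem _ (Subgroup.zpow_mem _ (Subgroup.mem_zpowers a) _) _
          · have hkt : κ ^ t = κ := by
              rw [ht', zpow_add, zpow_mul, zpow_ofNat, hk2, one_zpow, one_mul, zpow_one]
            rw [hkt] at ht
            have hd : (a ^ (s - 1)) ^ t = 1 := mul_eq_right.mp ht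
            have hd1 : a ^ (s - 1) = 1 := by
              obtain ⟨f, hf⟩ := (IsPGroup.iff_orderOf.mp hS) (a ^ (s - 1))
              have h1 : ((orderOf (a ^ (s - 1)) : ℕ) : ℤ) ∣ t := orderOf_dvd_iff_zpow_eq_one.mpr hd
              rcases Nat.eq_zero_or_pos f with hf0 | hfpos
              · rw [hf0, pow_zero, orderOf_eq_one_iff] at hf; exact hf
              · exfalso
                rw [hf] at h1
                have h2 : (2 : ℤ) ∣ t := by
                  refine dvd_trans ?_ h1
                  push_cast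
                  exact dvd_pow_self 2 (by omega)
                omega
            refine ⟨κ, hκ, ?_⟩
            rw [hbab]
            have : a ^ s = a ^ (s - 1) * a := by rw [← zpow_add_one, sub_add_cancel]
            rw [this, hd1, one_mul]
      obtain ⟨κ', hκ', hbab'⟩ := hbabK
      have hcomm_ba : Commute (b : S ⧸ Subgroup.zpowers k) (a : S ⧸ Subgroup.zpowers k) := by
        change (b : S ⧸ Subgroup.zpowers k) * (a : S ⧸ Subgroup.zpowers k) = a * b
        have h1 : b * a = a * κ' * b := by
          have : b * a = (b * a * b⁻¹) * b := by group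
          rw [this, hbab']
        have : ((κ' : S) : S ⧸ Subgroup.zpowers k) = 1 := (QuotientGroup.eq_one_iff _).mpr hκ'
        rw [← QuotientGroup.mk_mul, h1, QuotientGroup.mk_mul, QuotientGroup.mk_mul, this, mul_one]
      apply key hS hr k hk1 hk2 hkc (a : S ⧸ Subgroup.zpowers k) (b : S ⧸ Subgroup.zpowers k)
        hgenbar
      intro x y
      obtain ⟨j, i, rfl⟩ := hgenbar x
      obtain ⟨j', i', rfl⟩ := hgenbar y
      have hbb : Commute (b : S ⧸ Subgroup.zpowers k) b := Commute.refl _
      have haa : Commute (a : S ⧸ Subgroup.zpowers k) a := Commute.refl _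
      have e1 : Commute ((b : S ⧸ Subgroup.zpowers k) ^ j * (a : S ⧸ Subgroup.zpowers k) ^ i)
          ((b : S ⧸ Subgroup.zpowers k) ^ j' * (a : S ⧸ Subgroup.zpowers k) ^ i') :=
        Commute.mul_left
          (Commute.mul_right (hbb.zpow_zpow _ _) (hcomm_ba.zpow_zpow _ _))
          (Commute.mul_right ((hcomm_ba.zpow_zpow _ _).symm) (haa.zpow_zpow _ _))
      exact e1.eq

theorem main {S : Type u} [Group S] [Finite S] (h2 : IsPGroup 2 S)
    (hr : Cfsg.SectionalPRankLE 2 2 S) : Cfsg.IsMetacyclic S :=
  main_aux _ S rfl h2 hr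

end Cfsg.Agent.H9SM
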