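import Mathlib
import Cfsg.Prelude
import Cfsg.Agent.Lib.Helper9.Siegel5

set_option autoImplicit false

/-!
# Siegel transvection groups: adapted bases for non-opposite lines, common opposite lines
-/

namespace Cfsg.Agent.H9Sieg

open Matrix

variable {F : Type*} [Field F] {ι : Type} [Fintype ι] [DecidableEq ι]
variable {Q : QuadraticForm F (ι → F)}

theorem exists_ker2 (m11 m12 m21 m22 : F) (hdet : m11 * m22 - m12 * m21 = 0) :
    ∃ α β : F, (α ≠ 0 ∨ β ≠ 0) ∧ α * m11 + β * m21 = 0 ∧ α * m12 + β * m22 = 0 := by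
  by_cases h1 : m21 = 0 ∧ m11 = 0
  · by_cases h2 : m22 = 0 ∧ m12 = 0
    · refine ⟨1, 0, Or.inl one_ne_zero, ?_, ?_⟩
      · rw [h1.2]; ring
      · rw [h2.2]; ring
    · refine ⟨m22, -m12, ?_, ?_, ?_⟩
      · by_contra hcon
        push Not at hcon
        exact h2 ⟨hcon.1, neg_eq_zero.mp hcon.2⟩
      · linear_combination hdet
      · ring
  · refine ⟨m21, -m11, ?_, ?_, ?_⟩
    · by_contra hcon
      push Not at hcon
      exact h1 ⟨hcon.1, neg_eq_zero.mp hcon.2⟩
    · ring
    · linear_combination -hdet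

theorem exists_compl {α β : F} (h : α ≠ 0 ∨ β ≠ 0) : ∃ γ δ : F, α * δ - β * γ ≠ 0 := by
  rcases h with h | h
  · exact ⟨0, 1, by simpa using h⟩
  · exact ⟨1, 0, by simpa using h⟩

/-- two lines which are not opposite have adapted bases -/
theorem exists_adapted (hnd : (bp Q).Nondegenerate) {p r p' r' : ι → F} (h : SingPair Q p r)
    (h' : SingPair Q p' r') (hli : LI p r) (hli' : LI p' r') (hdet : gdet Q p r p' r' = 0) :
    ∃ a x a' x', Adapted Q a x a' x' ∧ LI a x ∧ LI a' x' ∧ T ⇑Q a x = T ⇑Q p r ∧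
      T ⇑Q a' x' = T ⇑Q p' r' := by
  unfold gdet at hdet
  obtain ⟨α, β, hαβ, k1, k2⟩ := exists_ker2 (bp Q p p') (bp Q p r') (bp Q r p') (bp Q r r') hdet
  obtain ⟨α', β', hαβ', k3, k4⟩ := exists_ker2 (bp Q p p') (bp Q r p') (bp Q p r') (bp Q r r')
    (by linear_combination hdet)
  obtain ⟨γ, δ, hγδ⟩ := exists_compl hαβ
  obtain ⟨γ', δ', hγδ'⟩ := exists_compl hαβ'
  refine ⟨α • p + β • r, γ • p + δ • r, α' • p' + β' • r', γ' • p' + δ' • r',
    ⟨h.comb _ _ _ _, h'.comb _ _ _ _, ?_, ?_, ?_⟩, hli.comb hγδ, hli'.comb hγδ',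
    T_basis hnd h hli hγδ, T_basis hnd h' hli' hγδ'⟩
  · simp only [map_add, map_smul, LinearMap.add_apply, LinearMap.smul_apply, smul_eq_mul]
    linear_combination α' * k1 + β' * k2
  · simp only [map_add, map_smul, LinearMap.add_apply, LinearMap.smul_apply, smul_eq_mul]
    linear_combination γ' * k1 + δ' * k2
  · simp only [map_add, map_smul, LinearMap.add_apply, LinearMap.smul_apply, smul_eq_mul]
    linear_combination γ * k3 + δ * k4

/-- a vector perpendicular to a subspace and not perpendicular to two vectors outside it -/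
theorem exists_two (hnd : (bp Q).Nondegenerate) {W : Submodule F (ι → F)} {a a' : ι → F}
    (ha : a ∉ W) (ha' : a' ∉ W) :
    ∃ w, (∀ y ∈ W, bp Q w y = 0) ∧ bp Q w a ≠ 0 ∧ bp Q w a' ≠ 0 := by
  obtain ⟨w₁, h1, hW1⟩ := exists_dual_vec hnd ha
  obtain ⟨w₂, h2, hW2⟩ := exists_dual_vec hnd ha'
  by_cases h3 : bp Q w₁ a' = 0
  · by_cases h4 : bp Q w₂ a = 0
    · refine ⟨w₁ + w₂, ?_, ?_, ?_⟩
      · intro y hy
        rw [map_add, LinearMap.add_apply, hW1 y hy, hW2 y hy, add_zero]
      · rw [map_add, LinearMap.add_apply, h1, h4, add_zero]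
        exact one_ne_zero
      · rw [map_add, LinearMap.add_apply, h3, h2, zero_add]
        exact one_ne_zero
    · exact ⟨w₂, hW2, h4, by rw [h2]; exact one_ne_zero⟩
  · exact ⟨w₁, hW1, by rw [h1]; exact one_ne_zero, h3⟩

theorem notMem_bot {a : ι → F} (ha : a ≠ 0) : a ∉ (⊥ : Submodule F (ι → F)) := by
  rw [Submodule.mem_bot]; exact ha

/-- a singular vector not perpendicular to two given perpendicular singular vectors -/
theorem exists_s (hnd : (bp Q).Nondegenerate) {a a' : ι → F} (ha : a ≠ 0) (ha' : a' ≠ 0)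
    (hqa : Q a = 0) (haa : bp Q a a' = 0) :
    ∃ s, Q s = 0 ∧ bp Q s a ≠ 0 ∧ bp Q s a' ≠ 0 := by
  obtain ⟨w, -, h1, h2⟩ := exists_two hnd (notMem_bot ha) (notMem_bot ha')
  refine ⟨w - (Q w / bp Q w a) • a, ?_, ?_, ?_⟩
  · rw [Q_sub, Q_smul, hqa, map_smul, smul_eq_mul]
    field_simp
    ring
  · rw [map_sub, LinearMap.sub_apply, map_smul, LinearMap.smul_apply, bp_self_of_sing hqa,
      smul_zero, sub_zero]
    exact h1
  · rw [map_sub, LinearMap.sub_apply, map_smul, LinearMap.smul_apply, haa, smul_zero, sub_zero]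
    exact h2

/-- the hypothesis on the space needed for the second step: a non-singular vector perpendicular
to three given vectors -/
def HasNonsing (Q : QuadraticForm F (ι → F)) : Prop :=
  ∀ s x x' : ι → F, Q x = 0 → bp Q x x' ≠ 0 → bp Q s x = 0 → bp Q s x' = 0 →
    ∃ z, Q z ≠ 0 ∧ bp Q z s = 0 ∧ bp Q z x = 0 ∧ bp Q z x' = 0

/-- a singular vector perpendicular to `s` and not perpendicular to two given singular vectors
of `s^⊥` outside `⟨s⟩` -/
theorem exists_t (hnd : (bp Q).Nondegenerate) (hN : HasNonsing Q) {s x x' : ι → F}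
    (hx : Q x = 0) (hx' : Q x' = 0) (hsx : bp Q s x = 0) (hsx' : bp Q s x' = 0)
    (hxs : x ∉ Submodule.span F {s}) (hxs' : x' ∉ Submodule.span F {s}) :
    ∃ t, Q t = 0 ∧ bp Q s t = 0 ∧ bp Q t x ≠ 0 ∧ bp Q t x' ≠ 0 := by
  by_cases hμ : bp Q x x' = 0
  · obtain ⟨w, hW, h1, h2⟩ := exists_two hnd hxs hxs'
    have hws : bp Q w s = 0 := hW s (Submodule.mem_span_singleton_self s)
    refine ⟨w - (Q w / bp Q w x) • x, ?_, ?_, ?_, ?_⟩
    · rw [Q_sub, Q_smul, hx, map_smul, smul_eq_mul]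
      field_simp
      ring
    · rw [map_sub, map_smul, smul_eq_mul, hsx, mul_zero, sub_zero, bp_comm, hws]
    · rw [map_sub, LinearMap.sub_apply, map_smul, LinearMap.smul_apply, bp_self_of_sing hx,
        smul_zero, sub_zero]
      exact h1
    · rw [map_sub, LinearMap.sub_apply, map_smul, LinearMap.smul_apply, hμ, smul_zero, sub_zero]
      exact h2
  · obtain ⟨z, hz, hzs, hzx, hzx'⟩ := hN s x x' hx hμ hsx hsx'
    have hμ' : bp Q x' x = bp Q x x' := bp_comm _ _
    refine ⟨x + (-(Q z / bp Q x x')) • x' + z, ?_, ?_, ?_, ?_⟩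
    · rw [Q_add, Q_add, Q_smul, hx, hx']
      simp only [map_add, map_smul, LinearMap.add_apply, LinearMap.smul_apply, smul_eq_mul]
      rw [bp_comm x z, bp_comm x' z, hzx, hzx']
      field_simp
      ring
    · simp only [map_add, map_smul, smul_eq_mul]
      rw [hsx, hsx', bp_comm s z, hzs]
      ring
    · simp only [map_add, map_smul, LinearMap.add_apply, LinearMap.smul_apply, smul_eq_mul]
      rw [bp_self_of_sing hx, hzx, hμ', zero_add, add_zero]
      field_simp
      exact neg_ne_zero.mpr hz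
    · simp only [map_add, map_smul, LinearMap.add_apply, LinearMap.smul_apply, smul_eq_mul]
      rw [bp_self_of_sing hx', hzx', mul_zero, add_zero, add_zero]
      exact hμ

/-- two lines with adapted bases have a common opposite line -/
theorem exists_common_opposite (hnd : (bp Q).Nondegenerate) (hN : HasNonsing Q)
    {a x a' x' : ι → F} (ad : Adapted Q a x a' x') (hli : LI a x) (hli' : LI a' x') :
    ∃ s t, SingPair Q s t ∧ LI s t ∧ gdet Q a x s t ≠ 0 ∧ gdet Q a' x' s t ≠ 0 := by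
  obtain ⟨s, hs, hsa, hsa'⟩ := exists_s hnd hli.left_ne_zero hli'.left_ne_zero ad.h.hp ad.e1
  -- the points of the two lines perpendicular to `s`
  obtain ⟨x₁, hx₁⟩ : ∃ x₁, x₁ = (-(bp Q s x)) • a + bp Q s a • x := ⟨_, rfl⟩
  obtain ⟨x₂, hx₂⟩ : ∃ x₂, x₂ = (-(bp Q s x')) • a' + bp Q s a' • x' := ⟨_, rfl⟩
  have q1 : Q x₁ = 0 := by rw [hx₁]; exact ad.h.Q_comb _ _
  have q2 : Q x₂ = 0 := by rw [hx₂]; exact ad.h'.Q_comb _ _
  have p1 : bp Q s x₁ = 0 := by
    rw [hx₁]
    simp only [map_add, map_smul, smul_eq_mul]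
    ring
  have p2 : bp Q s x₂ = 0 := by
    rw [hx₂]
    simp only [map_add, map_smul, smul_eq_mul]
    ring
  have n1 : x₁ ∉ Submodule.span F {s} := by
    intro hmem
    obtain ⟨l, hl⟩ := Submodule.mem_span_singleton.mp hmem
    have h1 : bp Q x₁ a = 0 := by
      rw [hx₁]
      simp only [map_add, map_smul, LinearMap.add_apply, LinearMap.smul_apply, smul_eq_mul,
        ad.h.hpp, ad.h.hrp]
      ring
    rw [← hl, map_smul, LinearMap.smul_apply, smul_eq_mul] at h1
    have hl0 : l = 0 := (mul_eq_zero.mp h1).resolve_right hsa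
    rw [hl0, zero_smul] at hl
    have := (hli _ _ (hx₁ ▸ hl.symm)).2
    exact hsa this
  have n2 : x₂ ∉ Submodule.span F {s} := by
    intro hmem
    obtain ⟨l, hl⟩ := Submodule.mem_span_singleton.mp hmem
    have h1 : bp Q x₂ a' = 0 := by
      rw [hx₂]
      simp only [map_add, map_smul, LinearMap.add_apply, LinearMap.smul_apply, smul_eq_mul,
        ad.h'.hpp, ad.h'.hrp]
      ring
    rw [← hl, map_smul, LinearMap.smul_apply, smul_eq_mul] at h1
    have hl0 : l = 0 := (mul_eq_zero.mp h1).resolve_right hsa'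
    rw [hl0, zero_smul] at hl
    have := (hli' _ _ (hx₂ ▸ hl.symm)).2
    exact hsa' this
  obtain ⟨t, ht, hst, htx₁, htx₂⟩ := exists_t hnd hN q1 q2 p1 p2 n1 n2
  refine ⟨s, t, ⟨hs, ht, hst⟩, ?_, ?_, ?_⟩
  · intro α β hαβ
    have h1 := congrArg (fun v => bp Q v x₁) hαβ
    simp only [map_add, map_smul, LinearMap.add_apply, LinearMap.smul_apply, smul_eq_mul, p1,
      map_zero, LinearMap.zero_apply, mul_zero, zero_add] at h1
    have hβ : β = 0 := (mul_eq_zero.mp h1).resolve_right htx₁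
    rw [hβ, zero_smul, add_zero] at hαβ
    rcases smul_eq_zero.mp hαβ with h2 | h2
    · exact ⟨h2, hβ⟩
    · rw [h2, map_zero, LinearMap.zero_apply] at hsa
      exact absurd rfl hsa
  · have : gdet Q a x s t = bp Q t x₁ := by
      unfold gdet
      rw [hx₁]
      simp only [map_add, map_smul, smul_eq_mul]
      rw [bp_comm a s, bp_comm x s, bp_comm a t, bp_comm x t]
      ring
    rw [this]
    exact htx₁
  · have : gdet Q a' x' s t = bp Q t x₂ := by
      unfold gdet
      rw [hx₂]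
      simp only [map_add, map_smul, smul_eq_mul]
      rw [bp_comm a' s, bp_comm x' s, bp_comm a' t, bp_comm x' t]
      ring
    rw [this]
    exact htx₂

end Cfsg.Agent.H9Sieg
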