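import Mathlib
import Cfsg.Prelude
import Cfsg.Agent.Lib.Helper9.SubOf1

set_option autoImplicit false

/-!
Further transport along `A ↦ A.subgroupOf H`: the commutator case, and pulling the rank one
condition back to the big group.
-/

namespace Cfsg.Agent.H9SubOf

variable {G : Type*} [Group G] {H : Subgroup G}

theorem conjBy_le {A : Subgroup G} (hA : A ≤ H) {g : G} (hg : g ∈ H) : Cfsg.conjBy A g ≤ H := by
  rintro x ⟨a, ha, rfl⟩
  exact H.mul_mem (H.mul_mem hg (hA ha)) (H.inv_mem hg)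

theorem rankOneCondition_of_subgroupOf {A B : Subgroup G} (hA : A ≤ H) (hB : B ≤ H)
    (h : Cfsg.RankOneCondition (A.subgroupOf H) (B.subgroupOf H)) :
    Cfsg.RankOneCondition A B := by
  intro a ha ha1
  obtain ⟨b, hb, hb1, hconj⟩ := h ⟨a, hA ha⟩ ha (fun h1 => ha1 (congrArg Subtype.val h1))
  refine ⟨(b : G), hb, fun h1 => hb1 (Subtype.ext h1), ?_⟩
  rw [conjBy_subgroupOf hA, conjBy_subgroupOf hB] at hconj
  have e1 : ((b⁻¹ : H) : G) = (b : G)⁻¹ := rfl
  have e2 : (((⟨a, hA ha⟩ : H)⁻¹ : H) : G) = a⁻¹ := rfl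
  rw [e1, e2] at hconj
  exact subgroupOf_injective (conjBy_le hA (H.inv_mem b.2)) (conjBy_le hB (H.inv_mem (hA ha)))
    hconj

theorem rootCommutatorCase_subgroupOf {S : Set (Subgroup G)} {A B : Subgroup G} (hA : A ≤ H)
    (hB : B ≤ H) (h : Cfsg.RootCommutatorCase S A B) :
    Cfsg.RootCommutatorCase ((fun A : Subgroup G => A.subgroupOf H) '' S) (A.subgroupOf H)
      (B.subgroupOf H) := by
  obtain ⟨h1, h2, h3, h4⟩ := h
  have hle : (⁅A, B⁆ : Subgroup G) ≤ H := by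
    rw [Subgroup.commutator_le]
    intro a ha b hb
    exact H.mul_mem (H.mul_mem (H.mul_mem (hA ha) (hB hb)) (H.inv_mem (hA ha))) (H.inv_mem (hB hb))
  refine ⟨?_, ?_, ?_, ?_⟩
  · rw [commutator_subgroupOf hA hB]
    exact ⟨_, h1, rfl⟩
  · intro c hc x hx
    rw [commutator_subgroupOf hA hB] at hc
    rw [sup_subgroupOf hA hB] at hx
    apply Subtype.ext
    exact h2 (c : G) hc (x : G) hx
  · intro a ha ha1
    rw [commutator_subgroupOf hA hB]
    apply map_subtype_injective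
    rw [map_subgroupOf hle, MonoidHom.map_closure,
      ← h3 (a : G) ha (fun h0 => ha1 (Subtype.ext h0))]
    congr 1
    ext y
    constructor
    · rintro ⟨_, ⟨b, hb, rfl⟩, rfl⟩
      exact ⟨(b : G), hb, rfl⟩
    · rintro ⟨b, hb, rfl⟩
      exact ⟨_, ⟨⟨b, hB hb⟩, hb, rfl⟩, rfl⟩
  · intro b hb hb1
    rw [commutator_subgroupOf hA hB]
    apply map_subtype_injective
    rw [map_subgroupOf hle, MonoidHom.map_closure,
      ← h4 (b : G) hb (fun h0 => hb1 (Subtype.ext h0))]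
    congr 1
    ext y
    constructor
    · rintro ⟨_, ⟨a, ha, rfl⟩, rfl⟩
      exact ⟨(a : G), ha, rfl⟩
    · rintro ⟨a, ha, rfl⟩
      exact ⟨_, ⟨⟨a, hA ha⟩, ha, rfl⟩, rfl⟩

end Cfsg.Agent.H9SubOf
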