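import Mathlib
import Cfsg.Prelude
import Cfsg.Agent.Lib.Helper9.Siegel6
import Cfsg.Agent.Lib.Helper9.Siegel7
import Cfsg.Agent.Lib.Helper9.SubOf2

set_option autoImplicit false

/-!
# Siegel transvection groups form a set of abstract `F`-root subgroups
-/

namespace Cfsg.Agent.H9Sieg

open Matrix
open Cfsg.Agent.H9SubOf

variable {F : Type*} [Field F] {ι : Type} [Fintype ι] [DecidableEq ι]

/-- the set of Siegel transvection groups, as in the statement -/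
def Sig (f : (ι → F) → F) : Set (Subgroup ↥(Cfsg.isometryGroup F f)) :=
  {A | ∃ p r : ι → F, LinearIndependent F ![p, r] ∧ f p = 0 ∧ f r = 0 ∧ f (p + r) = 0 ∧
    A = T f p r}

/-- the subgroup generated by the Siegel transvection groups -/
def G0 (f : (ι → F) → F) : Subgroup ↥(Cfsg.isometryGroup F f) := ⨆ B ∈ Sig f, B

/-- the Siegel transvection groups inside the subgroup they generate -/
def Sig' (f : (ι → F) → F) : Set (Subgroup ↥(G0 f)) :=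
  (fun A : Subgroup ↥(Cfsg.isometryGroup F f) => A.subgroupOf (G0 f)) '' Sig f

variable {Q : QuadraticForm F (ι → F)}

theorem mem_Sig {A : Subgroup ↥(Cfsg.isometryGroup F ⇑Q)} :
    A ∈ Sig ⇑Q ↔ ∃ p r, LI p r ∧ SingPair Q p r ∧ A = T ⇑Q p r := by
  constructor
  · rintro ⟨p, r, hli, hp, hr, hpr, rfl⟩
    refine ⟨p, r, LI_iff.mp hli, ⟨hp, hr, ?_⟩, rfl⟩
    rw [bp_apply, hpr, hp, hr]
    ring
  · rintro ⟨p, r, hli, h, rfl⟩
    refine ⟨p, r, LI_iff.mpr hli, h.hp, h.hr, ?_, rfl⟩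
    rw [Q_add, h.hp, h.hr, h.hpr]
    ring

theorem T_mem_Sig {p r : ι → F} (hli : LI p r) (h : SingPair Q p r) : T ⇑Q p r ∈ Sig ⇑Q :=
  mem_Sig.mpr ⟨p, r, hli, h, rfl⟩

theorem le_G0 {A : Subgroup ↥(Cfsg.isometryGroup F ⇑Q)} (hA : A ∈ Sig ⇑Q) : A ≤ G0 ⇑Q :=
  le_biSup (fun B : Subgroup ↥(Cfsg.isometryGroup F ⇑Q) => B) hA

theorem T_le_G0 {p r : ι → F} (hli : LI p r) (h : SingPair Q p r) : T ⇑Q p r ≤ G0 ⇑Q :=
  le_G0 (T_mem_Sig hli h)

theorem mem_Sig' {A' : Subgroup ↥(G0 ⇑Q)} :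
    A' ∈ Sig' ⇑Q ↔ ∃ p r, LI p r ∧ SingPair Q p r ∧ A' = (T ⇑Q p r).subgroupOf (G0 ⇑Q) := by
  constructor
  · rintro ⟨A, hA, rfl⟩
    obtain ⟨p, r, hli, h, rfl⟩ := mem_Sig.mp hA
    exact ⟨p, r, hli, h, rfl⟩
  · rintro ⟨p, r, hli, h, rfl⟩
    exact ⟨T ⇑Q p r, T_mem_Sig hli h, rfl⟩

theorem T'_mem {p r : ι → F} (hli : LI p r) (h : SingPair Q p r) :
    (T ⇑Q p r).subgroupOf (G0 ⇑Q) ∈ Sig' ⇑Q := mem_Sig'.mpr ⟨p, r, hli, h, rfl⟩

variable (hnd : (bp Q).Nondegenerate)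
include hnd

theorem isRootSubgroupSet : Cfsg.IsRootSubgroupSet (Sig' ⇑Q) where
  commutative := by
    intro A' hA'
    obtain ⟨p, r, hli, h, rfl⟩ := mem_Sig'.mp hA'
    exact subgroupOf_comm (T_comm hnd h hli)
  ne_bot := by
    intro A' hA'
    obtain ⟨p, r, hli, h, rfl⟩ := mem_Sig'.mp hA'
    exact subgroupOf_ne_bot (T_le_G0 hli h) (T_ne_bot hnd h hli)
  generates := by
    rw [eq_top_iff]
    intro x _
    have hle : G0 ⇑Q ≤ (⨆ A' ∈ Sig' ⇑Q, A').map (G0 ⇑Q).subtype := by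
      unfold G0
      apply iSup₂_le
      intro B hB
      have h1 : B.subgroupOf (G0 ⇑Q) ≤ ⨆ A' ∈ Sig' ⇑Q, A' :=
        le_biSup (fun A' : Subgroup ↥(G0 ⇑Q) => A')
          (⟨B, hB, rfl⟩ : B.subgroupOf (G0 ⇑Q) ∈ Sig' ⇑Q)
      have h2 := Subgroup.map_mono (f := (G0 ⇑Q).subtype) h1
      rw [map_subgroupOf (le_G0 hB)] at h2
      exact h2
    obtain ⟨y, hy, hyx⟩ := hle x.2
    have : y = x := Subtype.ext hyx
    rw [← this]
    exact hy
  conj_mem := by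
    intro A' hA' g
    obtain ⟨p, r, hli, h, rfl⟩ := mem_Sig'.mp hA'
    rw [conjBy_subgroupOf (T_le_G0 hli h), conjBy_T hnd h hli]
    exact T'_mem (hli.map _) (h.map _)
  pair := by
    intro A' hA' B' hB'
    obtain ⟨p, r, hli, h, rfl⟩ := mem_Sig'.mp hA'
    obtain ⟨p', r', hli', h', rfl⟩ := mem_Sig'.mp hB'
    by_cases hdet : gdet Q p r p' r' = 0
    · obtain ⟨a, x, a', x', ad, hl, hl', hT, hT'⟩ := exists_adapted hnd h h' hli hli' hdet
      rw [← hT, ← hT']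
      by_cases hc : bp Q x x' = 0 ∨ ¬ LI a a'
      · left
        rw [commutator_subgroupOf (T_le_G0 hl ad.h) (T_le_G0 hl' ad.h'),
          commutator_eq_bot hnd ad hl hl' hc, Subgroup.bot_subgroupOf]
      · right; right
        push Not at hc
        exact rootCommutatorCase_subgroupOf (T_le_G0 hl ad.h) (T_le_G0 hl' ad.h')
          (rootCommutatorCase hnd ad hl hl' hc.1 hc.2 (T_mem_Sig hc.2 ad.sp))
    · right; left
      exact isRankOnePair_subgroupOf (T_le_G0 hli h) (T_le_G0 hli' h') (T_comm hnd h hli)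
        (T_comm hnd h' hli') (isRankOnePair_of_gdet hnd h h' hli' hdet)

theorem isKRoot : Cfsg.IsKRootSubgroupSet F (Sig' ⇑Q) := by
  refine ⟨isRootSubgroupSet hnd, ?_⟩
  intro A' hA' B' hB' hpair
  obtain ⟨p, r, hli, h, rfl⟩ := mem_Sig'.mp hA'
  obtain ⟨p', r', hli', h', rfl⟩ := mem_Sig'.mp hB'
  by_cases hdet : gdet Q p r p' r' = 0
  · exfalso
    obtain ⟨a, x, a', x', ad, hl, hl', hT, hT'⟩ := exists_adapted hnd h h' hli hli' hdet
    rw [← hT, ← hT'] at hpair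
    by_cases hμ : bp Q x x' = 0
    · refine not_comm_of_rankOne (subgroupOf_ne_bot (T_le_G0 hl ad.h) (T_ne_bot hnd ad.h hl)) hpair
        ?_
      intro α hα β hβ
      apply Subtype.ext
      exact comm_elem hnd ad hl hl' (Or.inl hμ) _ hα _ hβ
    · exact not_rankOneCondition hnd ad hl hl' hμ
        (rankOneCondition_of_subgroupOf (T_le_G0 hl ad.h) (T_le_G0 hl' ad.h') hpair.cond_left)
  · exact isPSL2PairOver_subgroupOf (T_le_G0 hli h) (T_le_G0 hli' h')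
      (isPSL2PairOver_of_gdet hnd h h' hli' hdet)

theorem isConnected (hN : HasNonsing Q) :
    Cfsg.IsConnectedFamily (Cfsg.FAdj (Sig ⇑Q)) (Sig ⇑Q) := by
  intro A hA B hB
  obtain ⟨p, r, hli, h, rfl⟩ := mem_Sig.mp hA
  obtain ⟨p', r', hli', h', rfl⟩ := mem_Sig.mp hB
  by_cases hdet : gdet Q p r p' r' = 0
  · obtain ⟨a, x, a', x', ad, hl, hl', hT, hT'⟩ := exists_adapted hnd h h' hli hli' hdet
    obtain ⟨s, t, hst, hlst, d1, d2⟩ := exists_common_opposite hnd hN ad hl hl'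
    rw [← hT, ← hT']
    have s1 : Cfsg.FAdj (Sig ⇑Q) (T ⇑Q a x) (T ⇑Q s t) :=
      ⟨T_mem_Sig hl ad.h, T_mem_Sig hlst hst, isRankOnePair_of_gdet hnd ad.h hst hlst d1⟩
    have s2 : Cfsg.FAdj (Sig ⇑Q) (T ⇑Q s t) (T ⇑Q a' x') :=
      ⟨T_mem_Sig hlst hst, T_mem_Sig hl' ad.h',
        Cfsg.RankOnePair_symm (isRankOnePair_of_gdet hnd ad.h' hst hlst d2)⟩
    exact Relation.ReflTransGen.tail (Relation.ReflTransGen.single s1) s2
  · exact Relation.ReflTransGen.single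
      ⟨hA, hB, isRankOnePair_of_gdet hnd h h' hli' hdet⟩

end Cfsg.Agent.H9Sieg
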