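import Mathlib
import Cfsg.Prelude
import Cfsg.Agent.Lib.Helper9.Siegel8
import Cfsg.Agent.Lib.Helper2.QuadStd
import Cfsg.Agent.Lib.Helper5.WittIndex

set_option autoImplicit false

/-!
# The hyperbolic form of Witt index at least three has non-singular vectors perpendicular to any
three vectors spanning a degenerate, not totally isotropic subspace
-/

namespace Cfsg.Agent.H9Sieg

open Matrix Module
open Cfsg.Agent.Lib.Helper5.QuadGlue Cfsg.Agent.Lib.Helper2.QuadStd

variable {F : Type*} [Field F]

theorem bp_QP_nondeg (n : ℕ) : (bp (QP n F)).Nondegenerate := QP_nondeg n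

theorem finrank_plus (n : ℕ) : finrank F (Fin n ⊕ Fin n → F) = 2 * n := by
  rw [Module.finrank_pi, Fintype.card_sum, Fintype.card_fin]
  ring

theorem hasNonsing_QP {n : ℕ} (hn : 3 ≤ n) : HasNonsing (QP n F) := by
  classical
  intro s x x' hx hμ hsx hsx'
  by_contra hcon0
  have hcon : ∀ z, bp (QP n F) z s = 0 → bp (QP n F) z x = 0 → bp (QP n F) z x' = 0 →
      QP n F z = 0 := by
    intro z h1 h2 h3
    by_contra hq
    exact hcon0 ⟨z, hq, h1, h2, h3⟩
  obtain ⟨U, hU⟩ : ∃ U : Submodule F (Fin n ⊕ Fin n → F), U = Submodule.span F {s, x, x'} :=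
    ⟨_, rfl⟩
  have hUd : finrank F U ≤ 3 := by
    rw [hU]
    have h1 := finrank_span_finset_le_card (R := F) ({s, x, x'} : Finset (Fin n ⊕ Fin n → F))
    have h2 : ({s, x, x'} : Finset (Fin n ⊕ Fin n → F)).card ≤ 3 := Finset.card_le_three
    have h3 : ((({s, x, x'} : Finset (Fin n ⊕ Fin n → F)) : Set (Fin n ⊕ Fin n → F))) =
        {s, x, x'} := by
      ext y; simp
    rw [h3] at h1
    exact h1.trans h2
  obtain ⟨P, hP⟩ : ∃ P, P = (bp (QP n F)).orthogonal U := ⟨_, rfl⟩
  have hPd : finrank F P = 2 * n - finrank F U := by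
    rw [hP, LinearMap.BilinForm.finrank_orthogonal (bp_QP_nondeg n), finrank_plus]
  have hPmem : ∀ z, z ∈ P ↔ bp (QP n F) s z = 0 ∧ bp (QP n F) x z = 0 ∧ bp (QP n F) x' z = 0 := by
    intro z
    rw [hP, LinearMap.BilinForm.mem_orthogonal_iff, hU]
    constructor
    · intro h
      exact ⟨h s (Submodule.subset_span (by simp)), h x (Submodule.subset_span (by simp)),
        h x' (Submodule.subset_span (by simp))⟩
    · rintro ⟨h1, h2, h3⟩ u hu
      induction hu using Submodule.span_induction with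
      | mem y hy =>
        simp only [Set.mem_insert_iff, Set.mem_singleton_iff] at hy
        rcases hy with rfl | rfl | rfl
        · exact h1
        · exact h2
        · exact h3
      | zero => simp [LinearMap.BilinForm.IsOrtho]
      | add a b _ _ ha hb =>
        unfold LinearMap.BilinForm.IsOrtho at *
        rw [map_add, LinearMap.add_apply, ha, hb, add_zero]
      | smul c a _ ha =>
        unfold LinearMap.BilinForm.IsOrtho at *
        rw [map_smul, LinearMap.smul_apply, ha, smul_zero]
  have hPQ : ∀ z ∈ P, QP n F z = 0 := by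
    intro z hz
    obtain ⟨h1, h2, h3⟩ := (hPmem z).mp hz
    exact hcon z (by rw [bp_comm, h1]) (by rw [bp_comm, h2]) (by rw [bp_comm, h3])
  have hxP : x ∉ P := by
    intro hxP
    have := ((hPmem x).mp hxP).2.2
    rw [bp_comm] at this
    exact hμ this
  obtain ⟨Z, hZ⟩ : ∃ Z, Z = P ⊔ Submodule.span F {x} := ⟨_, rfl⟩
  have hlt : P < Z := by
    rw [hZ]
    apply lt_of_le_of_ne le_sup_left
    intro heq
    apply hxP
    rw [heq]
    exact Submodule.mem_sup_right (Submodule.mem_span_singleton_self x)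
  have hZQ : ∀ z ∈ Z, Cfsg.quadFormPlus n F z = 0 := by
    intro z hz
    rw [hZ] at hz
    obtain ⟨u, hu, w, hw, rfl⟩ := Submodule.mem_sup.mp hz
    obtain ⟨l, rfl⟩ := Submodule.mem_span_singleton.mp hw
    rw [← QP_apply, Q_add, Q_smul, hx, hPQ u hu, map_smul, smul_eq_mul, bp_comm,
      ((hPmem u).mp hu).2.1]
    ring
  have hZd := Cfsg.Agent.Lib.Helper5.finrank_le_of_totallySingular_plus Z hZQ
  have hlt' := Submodule.finrank_lt_finrank_of_lt hlt
  omega

end Cfsg.Agent.H9Sieg
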