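import Mathlib
import Cfsg.Agent.Lib.Helper7.Sims3_1

set_option autoImplicit false
set_option linter.style.haveILetI false
set_option linter.unusedSectionVars false
set_option linter.deprecated false

/-! S2772 (Sims' theorem in local form), the case `q ≥ 5`: a maximal subgroup `G` of a simple group
`H` with `C_G(O₂(G)) ≤ O₂(G)`, `|G : O₂(G)| = 2q`, `q ≥ 5` prime and `N_H(S) ≰ G` does not exist.
The argument is the amalgam method with `V = Z(O₂(G))`: a group of order `2q`, `q ≥ 5`, cannot act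
on `V` with an involution centralising a subgroup of index `2`. -/

namespace Cfsg.Agent.Lib.Helper9.SimsLoc

open Cfsg.Agent.Lib.Helper7

variable {H : Type*} [Group H]

/-- `Z(Q)` as a subgroup of the ambient group -/
def zz (Q : Subgroup H) : Subgroup H := Q ⊓ Subgroup.centralizer (Q : Set H)

theorem mem_zz {Q : Subgroup H} {v : H} : v ∈ zz Q ↔ v ∈ Q ∧ ∀ y ∈ Q, y * v = v * y := by
  unfold zz
  rw [Subgroup.mem_inf, Subgroup.mem_centralizer_iff]
  rfl

theorem zz_le (Q : Subgroup H) : zz Q ≤ Q := inf_le_left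

theorem cj_zz (x : H) (Q : Subgroup H) : cj x (zz Q) = zz (cj x Q) := by
  ext v
  rw [mem_cj, mem_zz, mem_zz, mem_cj]
  constructor
  · rintro ⟨h1, h2⟩
    refine ⟨h1, ?_⟩
    intro y hy
    rw [mem_cj] at hy
    have h3 := h2 _ hy
    have e1 : y * v = x * ((x⁻¹ * y * x) * (x⁻¹ * v * x)) * x⁻¹ := by group
    have e2 : v * y = x * ((x⁻¹ * v * x) * (x⁻¹ * y * x)) * x⁻¹ := by group
    rw [e1, e2, h3]
  · rintro ⟨h1, h2⟩
    refine ⟨h1, ?_⟩
    intro y hy
    have hy' : x * y * x⁻¹ ∈ cj x Q := by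
      rw [mem_cj]
      have : x⁻¹ * (x * y * x⁻¹) * x = y := by group
      rw [this]; exact hy
    have h3 := h2 _ hy'
    have e1 : y * (x⁻¹ * v * x) = x⁻¹ * ((x * y * x⁻¹) * v) * x := by group
    have e2 : (x⁻¹ * v * x) * y = x⁻¹ * (v * (x * y * x⁻¹)) * x := by group
    rw [e1, e2, h3]

theorem cj_inf' (g : H) (A B : Subgroup H) : cj g (A ⊓ B) = cj g A ⊓ cj g B :=
  Subgroup.map_inf A B _ (MulAut.conj g).injective

/-- if `k v k⁻¹ = v w` with `w` commuting with `k`, then `kⁿ v k⁻ⁿ = v wⁿ` -/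
theorem conj_pow_eq {k v w : H} (h : k * v * k⁻¹ = v * w) (hw : k * w = w * k) (n : ℕ) :
    k ^ n * v * (k ^ n)⁻¹ = v * w ^ n := by
  induction n with
  | zero => simp
  | succ n ih =>
    have hwn : k * w ^ n * k⁻¹ = w ^ n := by
      have : Commute k (w ^ n) := Commute.pow_right hw n
      rw [this.eq, mul_inv_cancel_right]
    have e1 : k ^ (n + 1) * v * (k ^ (n + 1))⁻¹ = k * (k ^ n * v * (k ^ n)⁻¹) * k⁻¹ := by
      rw [pow_succ']; group
    rw [e1, ih]
    have e2 : k * (v * w ^ n) * k⁻¹ = (k * v * k⁻¹) * (k * w ^ n * k⁻¹) := by group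
    rw [e2, h, hwn, pow_succ', mul_assoc]

/-- an element of prime order `q` commutes with `v` as soon as a proper power does -/
theorem comm_of_pow_comm {k v : H} {q d : ℕ} (hq : q.Prime) (hk : orderOf k = q) (hd1 : 1 ≤ d)
    (hdq : d < q) (h : k ^ d * v = v * k ^ d) : k * v = v * k := by
  have hcop : Nat.Coprime d q := by
    rw [Nat.coprime_comm]
    apply (Nat.Prime.coprime_iff_not_dvd hq).2
    intro hdvd
    have := Nat.le_of_dvd (by omega) hdvd
    omega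
  obtain ⟨e, -, he⟩ := Nat.exists_mul_mod_eq_one_of_coprime hcop hq.one_lt
  have h1 : (k ^ d) ^ e = k := by
    rw [← pow_mul, ← pow_mod_orderOf, hk, he, pow_one]
  have h2 : Commute (k ^ d) v := h
  have h3 : Commute ((k ^ d) ^ e) v := h2.pow_left e
  rw [h1] at h3
  exact h3

variable [Finite H]

/-- the data of the amalgam argument -/
structure Loc (G Q S : Subgroup H) (g : H) (q : ℕ) : Prop where
  coatom : IsCoatom G
  qprime : q.Prime
  q5 : 5 ≤ q
  QS : Q ≤ S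
  SG : S ≤ G
  Qtwo : IsPGroup 2 Q
  Stwo : IsPGroup 2 S
  Qnorm : ∀ a ∈ G, cj a Q = Q
  Qmax : ∀ N : Subgroup H, N ≤ G → IsPGroup 2 N → (∀ a ∈ G, cj a N = N) → N ≤ Q
  cent : ∀ x ∈ G, (∀ y ∈ Q, y * x = x * y) → x ∈ Q
  cardG : Nat.card G = 2 * q * Nat.card Q
  cardS : Nat.card S = 2 * Nat.card Q
  gN : cj g S = S
  gG : g ∉ G
  core : ∀ N : Subgroup H, N.Normal → N ≤ G → N = ⊥
  center : ∀ z : H, (∀ x : H, x * z = z * x) → z = 1

namespace Loc

variable {G Q S : Subgroup H} {g : H} {q : ℕ}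

theorem QG (L : Loc G Q S g q) : Q ≤ G := L.QS.trans L.SG

theorem q_odd (L : Loc G Q S g q) : ¬ 2 ∣ q := by
  intro h
  have := (Nat.prime_dvd_prime_iff_eq Nat.prime_two L.qprime).1 h
  have := L.q5
  omega

theorem cardQ_pos (L : Loc G Q S g q) : 0 < Nat.card Q := Nat.card_pos

theorem G_ne_bot (L : Loc G Q S g q) : G ≠ ⊥ := by
  intro h
  have h1 := L.cardG
  rw [h, Subgroup.card_bot] at h1
  have := L.q5
  have := L.cardQ_pos
  nlinarith

/-- `gGg⁻¹ ≠ G` -/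
theorem cjg_ne (L : Loc G Q S g q) : cj g G ≠ G := by
  intro h
  have h1 : g ∈ Subgroup.normalizer (G : Set H) := mem_normalizer_iff_cj.2 h
  have h2 : G ≤ Subgroup.normalizer (G : Set H) := Subgroup.le_normalizer
  rcases eq_or_lt_of_le h2 with h3 | h3
  · rw [← h3] at h1
    exact L.gG h1
  · have h4 := L.coatom.2 _ h3
    have h5 : G.Normal := Subgroup.normalizer_eq_top_iff.1 h4
    exact L.G_ne_bot (L.core G h5 le_rfl)

theorem sup_cjg (L : Loc G Q S g q) : G ⊔ cj g G = ⊤ := by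
  by_contra hcon
  have h0 : G ≤ G ⊔ cj g G := le_sup_left
  rcases eq_or_lt_of_le h0 with h5 | h5
  · have h4 : cj g G ≤ G := by
      have h4 : cj g G ≤ G ⊔ cj g G := le_sup_right
      rwa [← h5] at h4
    have h6 : cj g G = G := by
      apply Subgroup.eq_of_le_of_card_ge h4
      unfold cj
      rw [Subgroup.card_map_of_injective (MulAut.conj g).injective]
    exact L.cjg_ne h6
  · exact hcon (L.coatom.2 _ h5)

theorem card_Q (L : Loc G Q S g q) : ∃ a : ℕ, Nat.card Q = 2 ^ a :=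
  IsPGroup.iff_card.1 L.Qtwo

/-- a subgroup of `G` of order prime to `q` is a `2`-group -/
theorem two_of_not_dvd (L : Loc G Q S g q) {C : Subgroup H} (hCG : C ≤ G)
    (hq : ¬ q ∣ Nat.card C) : IsPGroup 2 C := by
  obtain ⟨a, ha⟩ := L.card_Q
  have h1 : Nat.card C ∣ Nat.card G := Subgroup.card_dvd_of_le hCG
  rw [L.cardG, ha] at h1
  have h2 : Nat.Coprime (Nat.card C) q := (Nat.Coprime.symm ((Nat.Prime.coprime_iff_not_dvd L.qprime).2 hq))
  have h3 : Nat.card C ∣ 2 ^ (a + 1) := by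
    have h4 : 2 * q * 2 ^ a = 2 ^ (a + 1) * q := by ring
    rw [h4] at h1
    exact Nat.Coprime.dvd_of_dvd_mul_right h2 h1
  obtain ⟨j, -, hj⟩ := (Nat.dvd_prime_pow Nat.prime_two).1 h3
  exact IsPGroup.of_card hj

/-- a subgroup of `G` of order divisible by `q` and by `2|Q|` is `G` -/
theorem eq_of_dvd' (L : Loc G Q S g q) {D : Subgroup H} (hDG : D ≤ G)
    (h2 : 2 * Nat.card Q ∣ Nat.card D) (hq : q ∣ Nat.card D) : D = G := by
  obtain ⟨a, ha⟩ := L.card_Q
  apply Subgroup.eq_of_le_of_card_ge hDG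
  rw [ha] at h2
  have h2' : Nat.Coprime (2 * 2 ^ a) q := by
    have : 2 * 2 ^ a = 2 ^ (a + 1) := by ring
    rw [this]
    apply Nat.Coprime.pow_left
    rw [Nat.coprime_comm]
    exact (Nat.Prime.coprime_iff_not_dvd L.qprime).2 (by
      intro h
      have := (Nat.prime_dvd_prime_iff_eq L.qprime Nat.prime_two).1 h
      have := L.q5
      omega)
  have h3 : 2 * 2 ^ a * q ∣ Nat.card D := Nat.Coprime.mul_dvd_of_dvd_of_dvd h2' h2 hq
  have h4 : Nat.card G = 2 * 2 ^ a * q := by rw [L.cardG, ha]; ring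
  rw [h4]
  exact Nat.le_of_dvd Nat.card_pos h3

theorem eq_of_dvd (L : Loc G Q S g q) {D : Subgroup H} (hDG : D ≤ G) (hSD : S ≤ D)
    (hq : q ∣ Nat.card D) : D = G := by
  apply L.eq_of_dvd' hDG _ hq
  rw [← L.cardS]
  exact Subgroup.card_dvd_of_le hSD

/-- the order of a `2`-subgroup of `G` divides `2|Q|` -/
theorem card_two_dvd (L : Loc G Q S g q) {T : Subgroup H} (hTG : T ≤ G) (hT : IsPGroup 2 T) :
    Nat.card T ∣ 2 * Nat.card Q := by
  obtain ⟨a, ha⟩ := L.card_Q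
  obtain ⟨j, hj⟩ := IsPGroup.iff_card.1 hT
  have h1 : Nat.card T ∣ Nat.card G := Subgroup.card_dvd_of_le hTG
  rw [L.cardG, ha] at h1
  rw [ha]
  have h2 : Nat.Coprime (Nat.card T) q := by
    rw [hj]
    apply Nat.Coprime.pow_left
    rw [Nat.coprime_comm]
    exact (Nat.Prime.coprime_iff_not_dvd L.qprime).2 (by
      intro h
      have := (Nat.prime_dvd_prime_iff_eq L.qprime Nat.prime_two).1 h
      have := L.q5
      omega)
  have h4 : 2 * q * 2 ^ a = 2 * 2 ^ a * q := by ring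
  rw [h4] at h1
  exact Nat.Coprime.dvd_of_dvd_mul_right h2 h1

end Loc

theorem cj_centralizer (x : H) (K : Subgroup H) :
    cj x (Subgroup.centralizer (K : Set H)) = Subgroup.centralizer ((cj x K : Subgroup H) : Set H) := by
  ext v
  rw [mem_cj, Subgroup.mem_centralizer_iff, Subgroup.mem_centralizer_iff]
  constructor
  · intro h2 y hy
    have hy' : x⁻¹ * y * x ∈ K := (mem_cj x y K).1 hy
    have h3 := h2 _ hy'
    have e1 : y * v = x * ((x⁻¹ * y * x) * (x⁻¹ * v * x)) * x⁻¹ := by group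
    have e2 : v * y = x * ((x⁻¹ * v * x) * (x⁻¹ * y * x)) * x⁻¹ := by group
    rw [e1, e2, h3]
  · intro h2 y hy
    have hy' : x * y * x⁻¹ ∈ cj x K := by
      rw [mem_cj]
      have : x⁻¹ * (x * y * x⁻¹) * x = y := by group
      rw [this]; exact hy
    have h3 := h2 _ hy'
    have e1 : y * (x⁻¹ * v * x) = x⁻¹ * ((x * y * x⁻¹) * v) * x := by group
    have e2 : (x⁻¹ * v * x) * y = x⁻¹ * (v * (x * y * x⁻¹)) * x := by group
    rw [e1, e2, h3]

namespace Loc

variable {G Q S : Subgroup H} {g : H} {q : ℕ}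

theorem cjG (L : Loc G Q S g q) {a : H} (ha : a ∈ G) : cj a G = G := cj_eq_self_of_mem ha

theorem cj_zzQ (L : Loc G Q S g q) {a : H} (ha : a ∈ G) : cj a (zz Q) = zz Q := by
  rw [cj_zz, L.Qnorm a ha]

/-- Claim 1: `C_G(Z(Q)) = Q` -/
theorem cent_V (L : Loc G Q S g q) {c : H} (hcG : c ∈ G) (hc : ∀ v ∈ zz Q, v * c = c * v) :
    c ∈ Q := by
  by_contra hcQ
  obtain ⟨C, hC⟩ : ∃ C : Subgroup H, C = G ⊓ Subgroup.centralizer ((zz Q : Subgroup H) : Set H) :=
    ⟨_, rfl⟩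
  have hCG : C ≤ G := by rw [hC]; exact inf_le_left
  have hcC : c ∈ C := by
    rw [hC, Subgroup.mem_inf, Subgroup.mem_centralizer_iff]
    exact ⟨hcG, hc⟩
  have hCcomm : ∀ x ∈ C, ∀ v ∈ zz Q, v * x = x * v := by
    intro x hx v hv
    rw [hC, Subgroup.mem_inf, Subgroup.mem_centralizer_iff] at hx
    exact hx.2 v hv
  have hCnorm : ∀ a ∈ G, cj a C = C := by
    intro a ha
    rw [hC, Cfsg.Agent.Lib.Helper9.SimsLoc.cj_inf', L.cjG ha, cj_centralizer, L.cj_zzQ ha]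
  have hnot2 : ¬ IsPGroup 2 C := fun h2 => hcQ (L.Qmax C hCG h2 hCnorm hcC)
  have hqC : q ∣ Nat.card C := by
    by_contra hq
    exact hnot2 (L.two_of_not_dvd hCG hq)
  have hsup : C ⊔ S = G := by
    apply L.eq_of_dvd (sup_le hCG L.SG) le_sup_right
    exact dvd_trans hqC (Subgroup.card_dvd_of_le le_sup_left)
  -- central elements of `S` are central in `G`
  have key : ∀ w ∈ S, (∀ s ∈ S, s * w = w * s) → ∀ a ∈ G, a * w = w * a := by
    intro w hwS hw
    have hwQ : w ∈ Q := L.cent w (L.SG hwS) (fun y hy => hw y (L.QS hy))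
    have hwV : w ∈ zz Q := mem_zz.2 ⟨hwQ, fun y hy => hw y (L.QS hy)⟩
    have h1 : C ⊔ S ≤ Subgroup.centralizer ({w} : Set H) := by
      apply sup_le
      · intro x hx
        rw [Subgroup.mem_centralizer_singleton_iff]
        exact (hCcomm x hx w hwV).symm
      · intro x hx
        rw [Subgroup.mem_centralizer_singleton_iff]
        exact (hw x hx)
    rw [hsup] at h1
    intro a ha
    have := h1 ha
    rw [Subgroup.mem_centralizer_singleton_iff] at this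
    exact this
  -- a nontrivial central element of `S`
  haveI : Nontrivial ↥S := by
    rw [← Finite.one_lt_card_iff_nontrivial, L.cardS]
    have := L.cardQ_pos
    omega
  haveI := L.Stwo.center_nontrivial
  obtain ⟨z, hz1⟩ := exists_ne (1 : ↥(Subgroup.center ↥S))
  have hzS : ((z : ↥S) : H) ∈ S := (z : ↥S).2
  have hz : ∀ s ∈ S, s * ((z : ↥S) : H) = ((z : ↥S) : H) * s := by
    intro s hs
    have := Subgroup.mem_center_iff.1 z.2 ⟨s, hs⟩
    exact congrArg Subtype.val this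
  -- the conjugate `g⁻¹ z g`
  have hgS' : cj g⁻¹ S = S := by
    conv_lhs => rw [← L.gN]
    exact cj_inv_cj g S
  have hwS : g⁻¹ * ((z : ↥S) : H) * g ∈ S := by
    have h1 : g⁻¹ * ((z : ↥S) : H) * g ∈ cj g⁻¹ S := by
      rw [mem_cj]
      have : g⁻¹⁻¹ * (g⁻¹ * ((z : ↥S) : H) * g) * g⁻¹ = ((z : ↥S) : H) := by group
      rw [this]; exact hzS
    rwa [hgS'] at h1
  have hw : ∀ s ∈ S, s * (g⁻¹ * ((z : ↥S) : H) * g) = (g⁻¹ * ((z : ↥S) : H) * g) * s := by
    intro s hs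
    have h1 : g * s * g⁻¹ ∈ S := by
      have h2 : g * s * g⁻¹ ∈ cj g S := by
        rw [mem_cj]
        have : g⁻¹ * (g * s * g⁻¹) * g = s := by group
        rw [this]; exact hs
      rwa [L.gN] at h2
    have h3 := hz _ h1
    have e1 : s * (g⁻¹ * ((z : ↥S) : H) * g) = g⁻¹ * ((g * s * g⁻¹) * ((z : ↥S) : H)) * g := by group
    have e2 : (g⁻¹ * ((z : ↥S) : H) * g) * s = g⁻¹ * (((z : ↥S) : H) * (g * s * g⁻¹)) * g := by group
    rw [e1, e2, h3]
  have hzG := key _ hzS hz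
  have hwG := key _ hwS hw
  have hall : (⊤ : Subgroup H) ≤ Subgroup.centralizer ({((z : ↥S) : H)} : Set H) := by
    rw [← L.sup_cjg]
    apply sup_le
    · intro a ha
      rw [Subgroup.mem_centralizer_singleton_iff]
      exact hzG a ha
    · intro y hy
      rw [mem_cj] at hy
      rw [Subgroup.mem_centralizer_singleton_iff]
      have h3 := hwG _ hy
      have e1 : y * ((z : ↥S) : H) = g * ((g⁻¹ * y * g) * (g⁻¹ * ((z : ↥S) : H) * g)) * g⁻¹ := by group
      have e2 : ((z : ↥S) : H) * y = g * ((g⁻¹ * ((z : ↥S) : H) * g) * (g⁻¹ * y * g)) * g⁻¹ := by group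
      rw [e1, e2, h3]
  have hz1' : ((z : ↥S) : H) = 1 := by
    apply L.center
    intro x
    have := hall (Subgroup.mem_top x)
    rw [Subgroup.mem_centralizer_singleton_iff] at this
    exact this
  apply hz1
  apply Subtype.ext
  apply Subtype.ext
  exact hz1'

theorem pow_mem_G (L : Loc G Q S g q) {k : H} (hkG : k ∈ G) (i : ℕ) : k ^ i ∈ G := G.pow_mem hkG i

theorem conj_mem_zz (L : Loc G Q S g q) {a v : H} (ha : a ∈ G) (hv : v ∈ zz Q) :
    a * v * a⁻¹ ∈ zz Q := by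
  have h1 : a * v * a⁻¹ ∈ cj a (zz Q) := by
    rw [mem_cj]
    have : a⁻¹ * (a * v * a⁻¹) * a = v := by group
    rw [this]; exact hv
  rwa [L.cj_zzQ ha] at h1

theorem comm_aux (L : Loc G Q S g q) {k : H} (hkG : k ∈ G) (hk : orderOf k = q)
    (V₀ : Subgroup H) (hV₀ : V₀ ≤ zz Q) (hcentral : ∀ w ∈ V₀, ∀ a ∈ G, a * w = w * a)
    {v : H} (i j : ℕ) (hij : i < j) (hj : j ≤ 4)
    (hw : (k ^ i * v * (k ^ i)⁻¹)⁻¹ * (k ^ j * v * (k ^ j)⁻¹) ∈ V₀) : k * v = v * k := by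
  obtain ⟨d, rfl⟩ : ∃ d, j = i + d := ⟨j - i, by omega⟩
  have hd1 : 1 ≤ d := by omega
  have hdq : d < q := by have := L.q5; omega
  obtain ⟨w, hw_def⟩ : ∃ w, w = (k ^ i * v * (k ^ i)⁻¹)⁻¹ * (k ^ (i + d) * v * (k ^ (i + d))⁻¹) :=
    ⟨_, rfl⟩
  rw [← hw_def] at hw
  have hwi : k ^ i * w = w * k ^ i := hcentral w hw _ (L.pow_mem_G hkG i)
  have hwd : k ^ d * w = w * k ^ d := hcentral w hw _ (L.pow_mem_G hkG d)
  have e1 : (k ^ i)⁻¹ * w * k ^ i = v⁻¹ * (k ^ d * v * (k ^ d)⁻¹) := by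
    rw [hw_def, pow_add]; group
  have e2 : (k ^ i)⁻¹ * w * k ^ i = w := by
    rw [mul_assoc, ← hwi, ← mul_assoc, inv_mul_cancel, one_mul]
  have h1 : k ^ d * v * (k ^ d)⁻¹ = v * w := by
    rw [← e2, e1]; group
  have h2 := conj_pow_eq h1 hwd q
  have h3 : (k ^ d) ^ q = 1 := by
    rw [← pow_mul, mul_comm, pow_mul, ← hk, pow_orderOf_eq_one, one_pow]
  rw [h3] at h2
  have h4 : w ^ q = 1 := by
    have : v = v * w ^ q := by simpa using h2
    exact (mul_eq_left.mp this.symm)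
  have hwQ : w ∈ Q := zz_le Q (hV₀ hw)
  obtain ⟨m, hm⟩ := L.Qtwo ⟨w, hwQ⟩
  have hm' : w ^ 2 ^ m = 1 := by
    have := congrArg Subtype.val hm
    simpa using this
  have h5 : orderOf w ∣ q := orderOf_dvd_of_pow_eq_one h4
  have h6 : orderOf w ∣ 2 ^ m := orderOf_dvd_of_pow_eq_one hm'
  have h7 : Nat.Coprime q (2 ^ m) := by
    apply Nat.Coprime.pow_right
    exact (Nat.Prime.coprime_iff_not_dvd L.qprime).2 (by
      intro h
      have := (Nat.prime_dvd_prime_iff_eq L.qprime Nat.prime_two).1 h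
      have := L.q5
      omega)
  have h8 : orderOf w = 1 := Nat.eq_one_of_dvd_coprimes h7 h5 h6
  have h9 : w = 1 := orderOf_eq_one_iff.1 h8
  rw [h9, mul_one] at h1
  have h10 : k ^ d * v = v * k ^ d := by
    have := congrArg (· * k ^ d) h1
    simpa using this
  exact comm_of_pow_comm L.qprime hk hd1 hdq h10

/-- an element of `G` of order `q` centralises `Z(Q)` if `Z(Q) ∩ Z(G)` has index at most `4` -/
theorem comm_of_index_le_four (L : Loc G Q S g q) {k : H} (hkG : k ∈ G) (hk : orderOf k = q)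
    (V₀ : Subgroup H) (hV₀ : V₀ ≤ zz Q) (hcentral : ∀ w ∈ V₀, ∀ a ∈ G, a * w = w * a)
    (hidx : V₀.relIndex (zz Q) ≤ 4) {v : H} (hv : v ∈ zz Q) : k * v = v * k := by
  have hmem : ∀ i : ℕ, k ^ i * v * (k ^ i)⁻¹ ∈ zz Q := fun i =>
    L.conj_mem_zz (L.pow_mem_G hkG i) hv
  obtain ⟨f, hf⟩ : ∃ f : Fin 5 → ↥(zz Q) ⧸ (V₀.subgroupOf (zz Q)),
      f = fun i => QuotientGroup.mk ⟨k ^ (i : ℕ) * v * (k ^ (i : ℕ))⁻¹, hmem i⟩ := ⟨_, rfl⟩
  have hcard : Nat.card (↥(zz Q) ⧸ (V₀.subgroupOf (zz Q))) ≤ 4 := by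
    rw [← Subgroup.index_eq_card]
    exact hidx
  have hninj : ¬ Function.Injective f := by
    intro hinj
    have := Nat.card_le_card_of_injective f hinj
    rw [Nat.card_eq_fintype_card, Fintype.card_fin] at this
    omega
  unfold Function.Injective at hninj
  push Not at hninj
  obtain ⟨i, j, hfij, hne⟩ := hninj
  have key : ∀ i j : Fin 5, f i = f j →
      (k ^ (i : ℕ) * v * (k ^ (i : ℕ))⁻¹)⁻¹ * (k ^ (j : ℕ) * v * (k ^ (j : ℕ))⁻¹) ∈ V₀ := by
    intro i j h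
    rw [hf] at h
    have h1 := QuotientGroup.eq.1 h
    rw [Subgroup.mem_subgroupOf] at h1
    simpa using h1
  have hi4 : (i : ℕ) ≤ 4 := by have := i.2; omega
  have hj4 : (j : ℕ) ≤ 4 := by have := j.2; omega
  have hne' : (i : ℕ) ≠ (j : ℕ) := fun h => hne (Fin.ext h)
  rcases lt_or_gt_of_ne hne' with h | h
  · exact L.comm_aux hkG hk V₀ hV₀ hcentral _ _ h hj4 (key i j hfij)
  · exact L.comm_aux hkG hk V₀ hV₀ hcentral _ _ h hi4 (key j i hfij.symm)

/-- Claim 2: a `2`-element of `G` outside `Q` centralises no subgroup of index `≤ 2` of `Z(Q)` -/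
theorem no_index_two (L : Loc G Q S g q) {s : H} (hsG : s ∈ G) (hsQ : s ∉ Q)
    (hs2 : ∃ n : ℕ, s ^ 2 ^ n = 1) (V₁ : Subgroup H) (hV₁ : V₁ ≤ zz Q)
    (hidx : Nat.card (zz Q) ≤ 2 * Nat.card V₁) (hcomm : ∀ v ∈ V₁, v * s = s * v) : False := by
  obtain ⟨n, hn⟩ := hs2
  have hzs : IsPGroup 2 (Subgroup.zpowers s) := by
    rintro ⟨x, hx⟩
    obtain ⟨z, rfl⟩ := Subgroup.mem_zpowers_iff.1 hx
    refine ⟨n, ?_⟩
    apply Subtype.ext
    show (s ^ z) ^ 2 ^ n = 1
    rw [← zpow_natCast, ← zpow_mul, mul_comm, zpow_mul, zpow_natCast, hn, one_zpow]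
  have hsN : Subgroup.zpowers s ≤ Subgroup.normalizer (Q : Set H) := by
    rw [Subgroup.zpowers_le]
    exact mem_normalizer_iff_cj.2 (L.Qnorm s hsG)
  obtain ⟨T₁, hT₁def⟩ : ∃ T₁ : Subgroup H, T₁ = Q ⊔ Subgroup.zpowers s := ⟨_, rfl⟩
  have hT₁ : IsPGroup 2 T₁ := by
    rw [hT₁def]; exact IsPGroup.to_sup_of_normal_left' L.Qtwo hzs hsN
  have hQT : Q ≤ T₁ := by rw [hT₁def]; exact le_sup_left
  have hsT : s ∈ T₁ := by
    rw [hT₁def]; exact (le_sup_right : Subgroup.zpowers s ≤ _) (Subgroup.mem_zpowers s)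
  have hTG : T₁ ≤ G := by
    rw [hT₁def]; exact sup_le L.QG (Subgroup.zpowers_le.2 hsG)
  have hcardT : Nat.card T₁ = 2 * Nat.card Q := by
    have h1 := L.card_two_dvd hTG hT₁
    have h2 : Nat.card Q ∣ Nat.card T₁ := Subgroup.card_dvd_of_le hQT
    have h3 : Nat.card Q ≠ Nat.card T₁ := by
      intro h
      have := Subgroup.eq_of_le_of_card_ge hQT (le_of_eq h.symm)
      rw [← this] at hsT
      exact hsQ hsT
    have h4 := Nat.le_of_dvd (by have := L.cardQ_pos; omega) h1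
    obtain ⟨m, hm⟩ := h2
    have hpos : 0 < Nat.card T₁ := Nat.card_pos
    have hQpos := L.cardQ_pos
    rcases Nat.lt_or_ge m 2 with hm2 | hm2
    · interval_cases m
      · rw [hm] at hpos; simp at hpos
      · rw [hm] at h3; simp at h3
    · nlinarith
  -- a conjugate of `s` outside `T₁`
  have hex : ∃ k₀ ∈ G, k₀ * s * k₀⁻¹ ∉ T₁ := by
    by_contra hcon
    push Not at hcon
    obtain ⟨X, hX⟩ : ∃ X : Set H, X = {x | ∃ k ∈ G, x = k * s * k⁻¹} := ⟨_, rfl⟩
    have hN1 : Subgroup.closure X ≤ T₁ := by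
      rw [Subgroup.closure_le]
      rintro x hx
      rw [hX] at hx
      obtain ⟨k, hk, rfl⟩ := hx
      exact hcon k hk
    have hN2 : IsPGroup 2 (Subgroup.closure X) := hT₁.to_le hN1
    have hN3 : ∀ a ∈ G, cj a (Subgroup.closure X) = Subgroup.closure X := by
      intro a ha
      rw [Cfsg.Agent.Lib.Helper7.Sims3.cj_closure]
      congr 1
      ext x
      rw [hX]
      constructor
      · rintro ⟨y, ⟨k, hk, rfl⟩, rfl⟩
        refine ⟨a * k, G.mul_mem ha hk, ?_⟩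
        group
      · rintro ⟨k, hk, rfl⟩
        refine ⟨a⁻¹ * k * s * (a⁻¹ * k)⁻¹, ⟨a⁻¹ * k, G.mul_mem (G.inv_mem ha) hk, rfl⟩, ?_⟩
        show a * (a⁻¹ * k * s * (a⁻¹ * k)⁻¹) * a⁻¹ = k * s * k⁻¹
        group
    have hN4 := L.Qmax _ (hN1.trans hTG) hN2 hN3
    apply hsQ
    apply hN4
    apply Subgroup.subset_closure
    rw [hX]
    exact ⟨1, G.one_mem, by group⟩
  obtain ⟨k₀, hk₀, hs'T⟩ := hex
  have hs'G : k₀ * s * k₀⁻¹ ∈ G := G.mul_mem (G.mul_mem hk₀ hsG) (G.inv_mem hk₀)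
  obtain ⟨D, hDdef⟩ : ∃ D : Subgroup H, D = T₁ ⊔ Subgroup.zpowers (k₀ * s * k₀⁻¹) := ⟨_, rfl⟩
  have hTD : T₁ ≤ D := by rw [hDdef]; exact le_sup_left
  have hs'D : k₀ * s * k₀⁻¹ ∈ D := by
    rw [hDdef]; exact (le_sup_right : Subgroup.zpowers _ ≤ _) (Subgroup.mem_zpowers _)
  have hDG : D ≤ G := by
    rw [hDdef]; exact sup_le hTG (Subgroup.zpowers_le.2 hs'G)
  have hDeq : D = G := by
    apply L.eq_of_dvd' hDG
    · rw [← hcardT]; exact Subgroup.card_dvd_of_le hTD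
    · by_contra hq
      have h1 := L.two_of_not_dvd hDG hq
      have h2 := L.card_two_dvd hDG h1
      rw [← hcardT] at h2
      have h3 := Nat.le_of_dvd Nat.card_pos h2
      have h4 := Subgroup.eq_of_le_of_card_ge hTD h3
      rw [← h4] at hs'D
      exact hs'T hs'D
  -- the common centraliser
  obtain ⟨X₁, hX₁def⟩ : ∃ X₁ : Subgroup H, X₁ = V₁ ⊓ cj k₀ V₁ := ⟨_, rfl⟩
  have hX₁V : X₁ ≤ zz Q := by rw [hX₁def]; exact inf_le_left.trans hV₁
  have hcentral : ∀ w ∈ X₁, ∀ a ∈ G, a * w = w * a := by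
    intro w hw
    rw [hX₁def, Subgroup.mem_inf] at hw
    obtain ⟨hw1, hw2⟩ := hw
    have hwV := hV₁ hw1
    have h1 : D ≤ Subgroup.centralizer ({w} : Set H) := by
      rw [hDdef, hT₁def]
      apply sup_le
      · apply sup_le
        · intro y hy
          rw [Subgroup.mem_centralizer_singleton_iff]
          exact ((mem_zz.1 hwV).2 y hy)
        · rw [Subgroup.zpowers_le, Subgroup.mem_centralizer_singleton_iff]
          exact (hcomm w hw1).symm
      · rw [Subgroup.zpowers_le, Subgroup.mem_centralizer_singleton_iff]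
        rw [mem_cj] at hw2
        have h3 := hcomm _ hw2
        have e1 : w * (k₀ * s * k₀⁻¹) = k₀ * ((k₀⁻¹ * w * k₀) * s) * k₀⁻¹ := by group
        have e2 : (k₀ * s * k₀⁻¹) * w = k₀ * (s * (k₀⁻¹ * w * k₀)) * k₀⁻¹ := by group
        rw [e2, e1, h3]
    rw [hDeq] at h1
    intro a ha
    have := h1 ha
    rw [Subgroup.mem_centralizer_singleton_iff] at this
    exact this
  have hidx4 : X₁.relIndex (zz Q) ≤ 4 := by
    have hVpos : 0 < Nat.card V₁ := Nat.card_pos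
    have h1 : V₁.relIndex (zz Q) ≤ 2 := by
      have h2 := Cfsg.Agent.Lib.Helper7.Sims3.card_eq_relIndex_mul hV₁
      rw [h2] at hidx
      exact Nat.le_of_mul_le_mul_right hidx hVpos
    have h2 : (cj k₀ V₁).relIndex (zz Q) ≤ 2 := by
      have h3 : cj k₀ V₁ ≤ zz Q := by
        have := cj_mono k₀ hV₁
        rwa [L.cj_zzQ hk₀] at this
      have h4 := Cfsg.Agent.Lib.Helper7.Sims3.card_eq_relIndex_mul h3
      rw [Cfsg.Agent.Lib.Helper7.Sims3.card_cj] at h4
      rw [h4] at hidx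
      exact Nat.le_of_mul_le_mul_right hidx hVpos
    have h3 : (V₁ ⊓ cj k₀ V₁).relIndex (zz Q) ≤ V₁.relIndex (zz Q) * (cj k₀ V₁).relIndex (zz Q) :=
      Subgroup.relIndex_inf_le
    rw [hX₁def]
    calc (V₁ ⊓ cj k₀ V₁).relIndex (zz Q) ≤ V₁.relIndex (zz Q) * (cj k₀ V₁).relIndex (zz Q) := h3
      _ ≤ 2 * 2 := Nat.mul_le_mul h1 h2
      _ = 4 := by norm_num
  -- an element of order `q`
  haveI : Fact q.Prime := ⟨L.qprime⟩
  have hqG : q ∣ Nat.card G := by rw [L.cardG]; exact ⟨2 * Nat.card Q, by ring⟩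
  obtain ⟨k, hk⟩ := exists_prime_orderOf_dvd_card' q hqG
  have hk' : orderOf (k : H) = q := by rw [Subgroup.orderOf_coe]; exact hk
  have hkQ : (k : H) ∈ Q := by
    apply L.cent_V k.2
    intro v hv
    exact (L.comm_of_index_le_four k.2 hk' X₁ hX₁V hcentral hidx4 hv).symm
  obtain ⟨m, hm⟩ := L.Qtwo ⟨(k : H), hkQ⟩
  have hm' : (k : H) ^ 2 ^ m = 1 := by
    have := congrArg Subtype.val hm
    simpa using this
  have h1 : q ∣ 2 ^ m := by
    rw [← hk']; exact orderOf_dvd_of_pow_eq_one hm'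
  exact L.q_odd ((Nat.prime_dvd_prime_iff_eq L.qprime Nat.prime_two).1 (L.qprime.dvd_of_dvd_pow h1) ▸ dvd_refl _)

/-- Claim 2 at the vertex `y` -/
theorem no_index_two_cj (L : Loc G Q S g q) (y : H) {s : H} (hsG : s ∈ cj y G) (hsQ : s ∉ cj y Q)
    (hs2 : ∃ n : ℕ, s ^ 2 ^ n = 1) (V₁ : Subgroup H) (hV₁ : V₁ ≤ zz (cj y Q))
    (hidx : Nat.card (zz (cj y Q)) ≤ 2 * Nat.card V₁) (hcomm : ∀ v ∈ V₁, v * s = s * v) : False := by
  have hzz : cj y⁻¹ (zz (cj y Q)) = zz Q := by rw [cj_zz, cj_inv_cj]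
  apply L.no_index_two (s := y⁻¹ * s * y) ((mem_cj _ _ _).1 hsG)
    (fun h => hsQ ((mem_cj _ _ _).2 h)) ?_ (cj y⁻¹ V₁) ?_ ?_ ?_
  · obtain ⟨n, hn⟩ := hs2
    refine ⟨n, ?_⟩
    have e : y⁻¹ * s * y = y⁻¹ * s * y⁻¹⁻¹ := by rw [inv_inv]
    rw [e, conj_pow, hn]; group
  · have := cj_mono y⁻¹ hV₁
    rwa [hzz] at this
  · rw [Cfsg.Agent.Lib.Helper7.Sims3.card_cj, ← hzz, Cfsg.Agent.Lib.Helper7.Sims3.card_cj]
    exact hidx
  · intro v hv
    rw [mem_cj] at hv
    have h3 := hcomm _ hv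
    have e1 : v * (y⁻¹ * s * y) = y⁻¹ * ((y⁻¹⁻¹ * v * y⁻¹) * s) * y := by group
    have e2 : (y⁻¹ * s * y) * v = y⁻¹ * (s * (y⁻¹⁻¹ * v * y⁻¹)) * y := by group
    rw [e1, e2, h3]

end Loc

/-- the orbital graph: `x ~ y` iff `y ∈ x G g^{±1} G` -/
def orbGraph (G : Subgroup H) (g : H) : SimpleGraph H where
  Adj x y := x ≠ y ∧ ∃ a ∈ G, ∃ c ∈ G, y = x * a * g * c ∨ y = x * a * g⁻¹ * c
  symm := ⟨by
    rintro x y ⟨hne, a, ha, c, hc, h | h⟩
    · refine ⟨hne.symm, c⁻¹, G.inv_mem hc, a⁻¹, G.inv_mem ha, Or.inr ?_⟩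
      rw [h]; group
    · refine ⟨hne.symm, c⁻¹, G.inv_mem hc, a⁻¹, G.inv_mem ha, Or.inl ?_⟩
      rw [h]; group⟩
  loopless := ⟨fun x h => h.1 rfl⟩

theorem orbGraph_adj {G : Subgroup H} {g x y : H} :
    (orbGraph G g).Adj x y ↔
      x ≠ y ∧ ∃ a ∈ G, ∃ c ∈ G, y = x * a * g * c ∨ y = x * a * g⁻¹ * c := Iff.rfl

theorem orbGraph_adj_mul_left {G : Subgroup H} {g : H} (z : H) {x y : H}
    (h : (orbGraph G g).Adj x y) : (orbGraph G g).Adj (z * x) (z * y) := by
  obtain ⟨hne, a, ha, c, hc, h⟩ := h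
  refine ⟨fun e => hne (mul_left_cancel e), a, ha, c, hc, ?_⟩
  rcases h with h | h
  · left; rw [h]; group
  · right; rw [h]; group

/-- left multiplication as a graph homomorphism -/
def orbGraphHom (G : Subgroup H) (g z : H) : orbGraph G g →g orbGraph G g where
  toFun x := z * x
  map_rel' h := orbGraph_adj_mul_left z h

theorem orbGraph_reachable_mul_left {G : Subgroup H} {g : H} (z : H) {x y : H}
    (h : (orbGraph G g).Reachable x y) : (orbGraph G g).Reachable (z * x) (z * y) :=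
  h.map (orbGraphHom G g z)

namespace Loc

variable {G Q S : Subgroup H} {g : H} {q : ℕ}

theorem sup_zpowers (L : Loc G Q S g q) : G ⊔ Subgroup.zpowers g = ⊤ := by
  apply L.coatom.2
  apply lt_of_le_of_ne le_sup_left
  intro h
  apply L.gG
  rw [h]
  exact (le_sup_right : Subgroup.zpowers g ≤ _) (Subgroup.mem_zpowers g)

theorem reachable_one (L : Loc G Q S g q) (y : H) : (orbGraph G g).Reachable 1 y := by
  have hy : y ∈ Subgroup.closure ((G : Set H) ∪ {g}) := by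
    rw [Subgroup.closure_union, Subgroup.closure_eq, ← Subgroup.zpowers_eq_closure, L.sup_zpowers]
    exact Subgroup.mem_top y
  have h1g : (orbGraph G g).Adj 1 g := by
    refine ⟨?_, 1, G.one_mem, 1, G.one_mem, Or.inl (by group)⟩
    intro h
    apply L.gG
    rw [← h]; exact G.one_mem
  induction hy using Subgroup.closure_induction with
  | mem x hx =>
    rcases hx with hx | hx
    · by_cases hx1 : x = 1
      · rw [hx1]
      · have h2 : (orbGraph G g).Adj g x := by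
          refine ⟨?_, 1, G.one_mem, x, hx, Or.inr (by group)⟩
          intro h
          apply L.gG
          rw [h]; exact hx
        exact h1g.reachable.trans h2.reachable
    · rw [Set.mem_singleton_iff] at hx
      rw [hx]
      exact h1g.reachable
  | one => exact SimpleGraph.Reachable.refl 1
  | mul x y _ _ hx hy =>
    have := orbGraph_reachable_mul_left x hy
    rw [mul_one] at this
    exact hx.trans this
  | inv x _ hx =>
    have := orbGraph_reachable_mul_left x⁻¹ hx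
    rw [mul_one, inv_mul_cancel] at this
    exact this.symm

theorem connected (L : Loc G Q S g q) : (orbGraph G g).Connected := by
  haveI : Nonempty H := ⟨1⟩
  refine ⟨fun x y => ?_⟩
  have := orbGraph_reachable_mul_left x (L.reachable_one (x⁻¹ * y))
  rwa [mul_one, mul_inv_cancel_left] at this

theorem cj_ginv_S (L : Loc G Q S g q) : cj g⁻¹ S = S := by
  conv_lhs => rw [← L.gN]
  exact cj_inv_cj g S

theorem edge_aux (L : Loc G Q S g q) {h : H} (hh : cj h S = S) {x a c : H} (ha : a ∈ G)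
    (hc : c ∈ G) :
    ∃ T : Subgroup H, cj x Q ≤ T ∧ cj (x * a * h * c) Q ≤ T ∧ T ≤ cj x G ∧
      T ≤ cj (x * a * h * c) G ∧ IsPGroup 2 T ∧ Nat.card T = 2 * Nat.card Q := by
  refine ⟨cj (x * a) S, ?_, ?_, ?_, ?_, ?_, ?_⟩
  · rw [cj_mul x a S]
    conv_lhs => rw [← L.Qnorm a ha]
    exact cj_mono x (cj_mono a L.QS)
  · rw [cj_mul (x * a * h) c Q, L.Qnorm c hc, cj_mul (x * a) h Q]
    conv_rhs => rw [← hh]
    exact cj_mono (x * a) (cj_mono h L.QS)
  · rw [cj_mul x a S]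
    conv_rhs => rw [← L.cjG ha]
    exact cj_mono x (cj_mono a L.SG)
  · rw [cj_mul (x * a * h) c G, L.cjG hc, cj_mul (x * a) h G]
    conv_lhs => rw [← hh]
    exact cj_mono (x * a) (cj_mono h L.SG)
  · exact Cfsg.Agent.Lib.Helper7.Sims3.isPGroup_cj _ L.Stwo
  · rw [Cfsg.Agent.Lib.Helper7.Sims3.card_cj, L.cardS]

theorem edge (L : Loc G Q S g q) {x y : H} (h : (orbGraph G g).Adj x y) :
    ∃ T : Subgroup H, cj x Q ≤ T ∧ cj y Q ≤ T ∧ T ≤ cj x G ∧ T ≤ cj y G ∧ IsPGroup 2 T ∧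
      Nat.card T = 2 * Nat.card Q := by
  obtain ⟨-, a, ha, c, hc, h | h⟩ := h
  · rw [h]; exact L.edge_aux L.gN ha hc
  · rw [h]; exact L.edge_aux L.cj_ginv_S ha hc

theorem Q_ne_bot (L : Loc G Q S g q) : Q ≠ ⊥ := by
  intro h
  apply L.G_ne_bot
  rw [eq_bot_iff]
  intro x hx
  have := L.cent x hx (by
    intro y hy
    rw [h, Subgroup.mem_bot] at hy
    rw [hy, one_mul, mul_one])
  rwa [h] at this

theorem zz_ne_bot (L : Loc G Q S g q) : zz Q ≠ ⊥ := by
  haveI : Nontrivial ↥Q := (Subgroup.nontrivial_iff_ne_bot Q).2 L.Q_ne_bot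
  haveI := L.Qtwo.center_nontrivial
  obtain ⟨z, hz1⟩ := exists_ne (1 : ↥(Subgroup.center ↥Q))
  intro h
  have hz : ((z : ↥Q) : H) ∈ zz Q := by
    rw [mem_zz]
    refine ⟨(z : ↥Q).2, ?_⟩
    intro y hy
    have := Subgroup.mem_center_iff.1 z.2 ⟨y, hy⟩
    exact congrArg Subtype.val this
  rw [h, Subgroup.mem_bot] at hz
  apply hz1
  apply Subtype.ext
  apply Subtype.ext
  exact hz

theorem exists_bad (L : Loc G Q S g q) : ∃ y : H, ¬ zz Q ≤ cj y Q := by
  by_contra hcon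
  push Not at hcon
  apply L.zz_ne_bot
  have h1 : zz Q ≤ Q.normalCore := by
    intro v hv
    show ∀ b : H, b * v * b⁻¹ ∈ Q
    intro b
    have h2 := hcon b⁻¹ hv
    rw [mem_cj] at h2
    simpa using h2
  have h2 : Q.normalCore = ⊥ :=
    L.core _ (Subgroup.normalCore_normal Q) ((Subgroup.normalCore_le Q).trans L.QG)
  rw [h2] at h1
  exact eq_bot_iff.2 h1

/-- the amalgam argument: the configuration does not exist -/
theorem false_of_loc (L : Loc G Q S g q) : False := by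
  classical
  have hconn := L.connected
  -- a critical pair at minimal distance
  have hex : ∃ n : ℕ, ∃ x y : H, ¬ zz (cj x Q) ≤ cj y Q ∧ (orbGraph G g).dist x y = n := by
    obtain ⟨y, hy⟩ := L.exists_bad
    exact ⟨_, 1, y, by rwa [cj_one], rfl⟩
  obtain ⟨x, y, hP, hb⟩ := Nat.find_spec hex
  have hmin : ∀ x' y' : H, (orbGraph G g).dist x' y' < (orbGraph G g).dist x y →
      zz (cj x' Q) ≤ cj y' Q := by
    intro x' y' hlt
    by_contra hcon
    rw [hb] at hlt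
    exact Nat.find_min hex hlt ⟨x', y', hcon, rfl⟩
  obtain ⟨p, hp⟩ := hconn.exists_walk_length_eq_dist x y
  obtain ⟨r, hr⟩ : ∃ r : (orbGraph G g).Walk y x, r.length = (orbGraph G g).dist x y :=
    ⟨p.reverse, by rw [SimpleGraph.Walk.length_reverse, hp]⟩
  have hxy : x ≠ y := by
    intro h
    apply hP
    rw [h]
    exact zz_le _
  -- the first edge of `p`
  obtain ⟨x₁, hxx₁, hVy⟩ : ∃ x₁, (orbGraph G g).Adj x x₁ ∧ zz (cj y Q) ≤ cj x₁ Q := by
    cases p with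
    | nil => exact absurd rfl hxy
    | cons h p' =>
      rename_i x₁
      refine ⟨x₁, h, ?_⟩
      apply hmin
      rw [SimpleGraph.Walk.length_cons] at hp
      have := SimpleGraph.dist_le p'
      rw [SimpleGraph.dist_comm]
      omega
  obtain ⟨y₁, hyy₁, hVx⟩ : ∃ y₁, (orbGraph G g).Adj y y₁ ∧ zz (cj x Q) ≤ cj y₁ Q := by
    cases r with
    | nil => exact absurd rfl hxy
    | cons h r' =>
      rename_i y₁
      refine ⟨y₁, h, ?_⟩
      apply hmin
      rw [SimpleGraph.Walk.length_cons] at hr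
      have := SimpleGraph.dist_le r'
      rw [SimpleGraph.dist_comm]
      omega
  obtain ⟨T, hT1, hT2, -, -, -, hT6⟩ := L.edge hxx₁
  obtain ⟨T', -, hT2', hT3', -, hT5', -⟩ := L.edge hyy₁
  -- an element of `V_x` outside `Q_y`
  obtain ⟨v, hvV, hvQ⟩ := SetLike.not_le_iff_exists.1 hP
  have hvT' : v ∈ T' := hT2' (hVx hvV)
  have hv2 : ∃ n : ℕ, v ^ 2 ^ n = 1 := by
    obtain ⟨n, hn⟩ := hT5' ⟨v, hvT'⟩
    refine ⟨n, ?_⟩
    have := congrArg Subtype.val hn
    simpa using this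
  apply L.no_index_two_cj y (hT3' hvT') hvQ hv2 (zz (cj y Q) ⊓ cj x Q) inf_le_left
  · -- the index
    have h1 : zz (cj y Q) ≤ T := hVy.trans hT2
    have h2 : (cj x Q).relIndex T = 2 := by
      have h3 := Cfsg.Agent.Lib.Helper7.Sims3.card_eq_relIndex_mul hT1
      rw [Cfsg.Agent.Lib.Helper7.Sims3.card_cj, hT6] at h3
      have := L.cardQ_pos
      nlinarith [Nat.eq_of_mul_eq_mul_right this h3]
    have h3 : (zz (cj y Q) ⊓ cj x Q).relIndex (zz (cj y Q)) ≤ 2 := by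
      rw [Subgroup.inf_relIndex_left, ← h2]
      apply Subgroup.relIndex_le_of_le_right h1
      rw [h2]; norm_num
    have h4 := Cfsg.Agent.Lib.Helper7.Sims3.card_eq_relIndex_mul
      (inf_le_left : zz (cj y Q) ⊓ cj x Q ≤ zz (cj y Q))
    rw [h4]
    exact Nat.mul_le_mul_right _ h3
  · intro w hw
    rw [Subgroup.mem_inf] at hw
    exact (mem_zz.1 hvV).2 w hw.2

end Loc

end Cfsg.Agent.Lib.Helper9.SimsLoc
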