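import Mathlib

set_option autoImplicit false

/-! # Number theory for the Singer cycle statement -/

namespace Cfsg.Agent.H9Singer

theorem odd_quot (p : ℤ) (hp : Odd p) (j : ℕ) :
    ∃ T : ℤ, Odd T ∧ p ^ (2 * j + 1) + 1 = (p + 1) * T := by
  induction j with
  | zero => exact ⟨1, odd_one, by ring⟩
  | succ j ih =>
    obtain ⟨T, hT, hTe⟩ := ih
    refine ⟨p ^ 2 * T - (p - 1), ?_, ?_⟩
    · apply Odd.sub_even
      · exact (hp.pow).mul hT
      · exact hp.sub_odd odd_one
    · have : 2 * (j + 1) + 1 = (2 * j + 1) + 2 := by ring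
      rw [this, pow_add]
      linear_combination (p ^ 2) * hTe

/-- a prime power `q` with `q + 1` a power of two is a prime -/
theorem exponent_eq_one (p k m : ℕ) (hp : p.Prime) (hk : 1 ≤ k) (h : p ^ k + 1 = 2 ^ m) : k = 1 := by
  -- p is odd
  have hp2 : p ≠ 2 := by
    rintro rfl
    have hm : m ≠ 0 := by
      rintro rfl
      have : 2 ^ k ≥ 1 := Nat.one_le_two_pow
      simp at h
    have h1 : 2 ∣ 2 ^ m := dvd_pow_self 2 hm
    have h2 : 2 ∣ 2 ^ k := dvd_pow_self 2 (by omega)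
    rw [← h] at h1
    have := (Nat.dvd_add_right h2).mp h1
    omega
  have hodd : Odd p := hp.eq_two_or_odd'.resolve_left hp2
  have hp3 : 3 ≤ p := by
    have := hp.two_le
    rcases hodd with ⟨t, ht⟩
    omega
  have hm2 : 2 ≤ m := by
    by_contra hm
    push Not at hm
    have h4 : 4 ≤ p ^ k + 1 := by
      have : p ^ 1 ≤ p ^ k := Nat.pow_le_pow_right (by omega) hk
      rw [pow_one] at this
      omega
    have : 2 ^ m ≤ 2 ^ 1 := Nat.pow_le_pow_right (by norm_num) (by omega)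
    omega
  have h4 : 4 ∣ p ^ k + 1 := by
    rw [h]
    calc 4 = 2 ^ 2 := by norm_num
      _ ∣ 2 ^ m := pow_dvd_pow 2 hm2
  rcases Nat.even_or_odd k with hke | hko
  · exfalso
    obtain ⟨j, hj⟩ := hke
    have hsq : p ^ k = (p ^ j) ^ 2 := by rw [hj, ← two_mul, pow_mul']
    have hoddj : Odd (p ^ j) := hodd.pow
    have : (p ^ j) ^ 2 % 4 = 1 := by
      obtain ⟨t, ht⟩ := hoddj
      rw [ht]
      have : (2 * t + 1) ^ 2 = 4 * (t * t + t) + 1 := by ring
      rw [this]
      omega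
    rw [hsq] at h4
    omega
  · obtain ⟨j, hj⟩ := hko
    have hoddZ : Odd (p : ℤ) := by exact_mod_cast hodd
    obtain ⟨T, hT, hTe⟩ := odd_quot (p : ℤ) hoddZ j
    rw [← hj] at hTe
    have hZ : ((p : ℤ) + 1) * T = 2 ^ m := by
      rw [← hTe]; exact_mod_cast h
    have hTpos : 0 < T := by
      have h1 : (0 : ℤ) < (p : ℤ) + 1 := by positivity
      have h2 : (0 : ℤ) < ((p : ℤ) + 1) * T := by rw [hZ]; positivity
      exact (mul_pos_iff_of_pos_left h1).mp h2
    have hdvd : T.natAbs ∣ 2 ^ m := by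
      have : T ∣ (2 : ℤ) ^ m := ⟨(p : ℤ) + 1, by rw [← hZ]; ring⟩
      have := Int.natAbs_dvd_natAbs.mpr this
      simpa [Int.natAbs_pow] using this
    obtain ⟨i, _, hi⟩ := (Nat.dvd_prime_pow Nat.prime_two).mp hdvd
    have hTodd : Odd T.natAbs := Int.natAbs_odd.mpr hT
    have hi0 : i = 0 := by
      by_contra hne
      rw [hi] at hTodd
      have : Even (2 ^ i) := (Nat.even_pow.mpr ⟨even_two, hne⟩)
      exact (Nat.not_even_iff_odd.mpr hTodd) this
    rw [hi0, pow_zero] at hi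
    have hT1 : T = 1 := by
      have := Int.natAbs_of_nonneg hTpos.le
      rw [hi] at this
      exact_mod_cast this.symm
    rw [hT1, mul_one] at hTe
    have : p ^ k = p := by
      have : (p : ℤ) ^ k = p := by linarith
      exact_mod_cast this
    have h1 : p ^ k = p ^ 1 := by rw [this, pow_one]
    exact Nat.pow_right_injective hp.two_le h1

theorem not_dvd_base {q n r : ℕ} (hr : r.Prime) (hn : 1 ≤ n) (hq : 1 ≤ q) (h : r ∣ q ^ n - 1) :
    ¬ r ∣ q := by
  intro hrq
  have h1 : r ∣ q ^ n := dvd_pow hrq (by omega)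
  have h2 : 1 ≤ q ^ n := Nat.one_le_pow _ _ hq
  have h3 : r ∣ q ^ n - (q ^ n - 1) := Nat.dvd_sub h1 h
  have h4 : q ^ n - (q ^ n - 1) = 1 := by omega
  rw [h4] at h3
  exact hr.one_lt.ne' (Nat.dvd_one.mp h3)

/-- the key congruence consequence -/
theorem dvd_of_modEq {q r d e : ℕ} (hr : r.Prime) (hrq : ¬ r ∣ q) (hed : e ≤ d)
    (h : q ^ d ≡ q ^ e [MOD r]) : r ∣ q ^ (d - e) - 1 := by
  have hq1 : 1 ≤ q := by
    by_contra hq0
    push Not at hq0
    have : q = 0 := by omega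
    exact hrq (by rw [this]; exact dvd_zero r)
  have hle : q ^ e ≤ q ^ d := Nat.pow_le_pow_right hq1 hed
  have h1 : r ∣ q ^ d - q ^ e := (Nat.modEq_iff_dvd' hle).mp h.symm
  have h2 : q ^ d - q ^ e = q ^ e * (q ^ (d - e) - 1) := by
    rw [Nat.mul_sub, mul_one, ← pow_add, Nat.add_sub_cancel' hed]
  rw [h2] at h1
  have hc : Nat.Coprime r (q ^ e) := by
    apply Nat.Coprime.pow_right
    exact (Nat.Prime.coprime_iff_not_dvd hr).mpr hrq
  exact hc.dvd_of_dvd_mul_left h1

end Cfsg.Agent.H9Singer
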