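import Mathlib
import Cfsg.Agent.Lib.Helper9.SingerNT

set_option autoImplicit false

/-! # An element of primitive prime order acts irreducibly -/

namespace Cfsg.Agent.H9Singer

open Module

variable {F V : Type*} [Field F] [Finite F] [AddCommGroup V] [Module F V] [Module.Finite F V]

theorem modEq_fixed (g : V →ₗ[F] V) (r : ℕ) [Fact r.Prime] (hg : g ^ r = 1) (W : Submodule F V)
    (hW : ∀ w ∈ W, g w ∈ W) :
    Nat.card W ≡ Nat.card ↥(W ⊓ LinearMap.ker (g - 1)) [MOD r] := by
  classical
  haveI : Finite V := Module.finite_of_finite F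
  haveI : Fintype W := Fintype.ofFinite W
  let f : Function.End W := fun w => ⟨g w, hW w w.2⟩
  have hfpow : ∀ m : ℕ, ∀ w : W, ((f ^ m) w : V) = (g ^ m) w := by
    intro m
    induction m with
    | zero => intro w; rfl
    | succ m ih =>
      intro w
      rw [pow_succ', pow_succ']
      change g ((f ^ m) w : V) = g ((g ^ m) w)
      rw [ih]
  have hf : f ^ r ^ 1 = 1 := by
    rw [pow_one]
    funext w
    apply Subtype.ext
    rw [hfpow, hg]
    rfl
  have h1 := Equiv.Perm.card_fixedPoints_modEq (p := r) (n := 1) hf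
  rw [← Nat.card_eq_fintype_card, ← Nat.card_eq_fintype_card] at h1
  have h2 : Nat.card ↥(Function.fixedPoints f) = Nat.card ↥(W ⊓ LinearMap.ker (g - 1)) := by
    apply Nat.card_congr
    refine
      { toFun := fun w => ⟨w.1.1, w.1.2, ?_⟩
        invFun := fun w => ⟨⟨w.1, w.2.1⟩, ?_⟩
        left_inv := fun w => rfl
        right_inv := fun w => rfl }
    · have h3 : f w.1 = w.1 := w.2
      have h4 : g w.1.1 = w.1.1 := congrArg Subtype.val h3
      change (g - 1) w.1.1 = 0
      rw [LinearMap.sub_apply, h4]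
      simp
    · have h3 : (g - 1) w.1 = 0 := w.2.2
      rw [LinearMap.sub_apply, sub_eq_zero] at h3
      change f ⟨w.1, w.2.1⟩ = ⟨w.1, w.2.1⟩
      apply Subtype.ext
      exact h3
  rw [← h2]
  exact h1

theorem irreducible_of_ppd (n : ℕ) (hn : finrank F V = n) (hn1 : 1 ≤ n) (r : ℕ) [Fact r.Prime]
    (hr : r ∣ (Nat.card F) ^ n - 1) (hppd : ∀ k, 0 < k → k < n → ¬ r ∣ (Nat.card F) ^ k - 1)
    (g : V →ₗ[F] V) (hg : g ^ r = 1) (hg1 : g ≠ 1) (W : Submodule F V) (hW : ∀ w ∈ W, g w ∈ W) :
    W = ⊥ ∨ W = ⊤ := by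
  have hrp : r.Prime := Fact.out
  have hq1 : 1 ≤ Nat.card F := Nat.card_pos
  have hrq : ¬ r ∣ Nat.card F := not_dvd_base hrp hn1 hq1 hr
  have key : ∀ W' : Submodule F V, (∀ w ∈ W', g w ∈ W') →
      finrank F W' - finrank F ↥(W' ⊓ LinearMap.ker (g - 1)) = 0 ∨
      finrank F W' - finrank F ↥(W' ⊓ LinearMap.ker (g - 1)) = n := by
    intro W' hW'
    have h1 := modEq_fixed g r hg W' hW'
    rw [Module.natCard_eq_pow_finrank (K := F) (V := ↥W'),
      Module.natCard_eq_pow_finrank (K := F) (V := ↥(W' ⊓ LinearMap.ker (g - 1)))] at h1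
    have hed : finrank F ↥(W' ⊓ LinearMap.ker (g - 1)) ≤ finrank F W' :=
      Submodule.finrank_mono inf_le_left
    have hdn : finrank F W' ≤ n := hn ▸ Submodule.finrank_le W'
    have h2 := dvd_of_modEq hrp hrq hed h1
    by_contra hcon
    push Not at hcon
    exact hppd _ (by omega) (by omega) h2
  have hE : LinearMap.ker (g - 1) = ⊥ := by
    have h1 := key ⊤ (fun w _ => Submodule.mem_top)
    rw [top_inf_eq, finrank_top, hn] at h1
    have hle : finrank F ↥(LinearMap.ker (g - 1)) ≤ n := hn ▸ Submodule.finrank_le _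
    rcases h1 with h1 | h1
    · exfalso
      have h2 : finrank F ↥(LinearMap.ker (g - 1)) = finrank F V := by omega
      have h3 := Submodule.eq_top_of_finrank_eq h2
      apply hg1
      have h4 : g - 1 = 0 := LinearMap.ker_eq_top.mp h3
      exact sub_eq_zero.mp h4
    · have h2 : finrank F ↥(LinearMap.ker (g - 1)) = 0 := by omega
      exact Submodule.finrank_eq_zero.mp h2
  have h1 := key W hW
  rw [hE, inf_bot_eq, finrank_bot] at h1
  rcases h1 with h1 | h1
  · left
    exact Submodule.finrank_eq_zero.mp (by omega)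
  · right
    exact Submodule.eq_top_of_finrank_eq (by omega)

end Cfsg.Agent.H9Singer
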