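import Mathlib
import Cfsg.Agent.Lib.Helper9.SingerNT
import Cfsg.Agent.Lib.Helper9.SingerIrr

set_option autoImplicit false

/-! # Abelian subgroups of Singer order: the centralizer argument -/

namespace Cfsg.Agent.H9Singer

open Module

variable {F K : Type*} [Field F] [Fintype F] [Field K] [Fintype K] [Algebra F K]

/-- Schur-type consequence of irreducibility -/
theorem eq_zero_of_commute (g₀ : Module.End F K)
    (hirr : ∀ W : Submodule F K, (∀ w ∈ W, g₀ w ∈ W) → W = ⊥ ∨ W = ⊤)
    (c : Module.End F K) (hc : c * g₀ = g₀ * c) (v : K) (hv : v ≠ 0) (hcv : c v = 0) : c = 0 := by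
  have hinv : ∀ w ∈ LinearMap.ker c, g₀ w ∈ LinearMap.ker c := by
    intro w hw
    rw [LinearMap.mem_ker] at hw ⊢
    have : c (g₀ w) = (c * g₀) w := rfl
    rw [this, hc]
    change g₀ (c w) = 0
    rw [hw, map_zero]
  rcases hirr _ hinv with h | h
  · exfalso
    have : v ∈ LinearMap.ker c := LinearMap.mem_ker.mpr hcv
    rw [h, Submodule.mem_bot] at this
    exact hv this
  · exact LinearMap.ker_eq_top.mp h

theorem unit_apply_ne_zero (x : (Module.End F K)ˣ) (v : K) (hv : v ≠ 0) : x.val v ≠ 0 := by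
  intro h
  have h1 : (x.inv * x.val) v = v := by rw [x.inv_val]; rfl
  have h2 : (x.inv * x.val) v = x.inv (x.val v) := rfl
  rw [h2, h, map_zero] at h1
  exact hv h1.symm

/-- the main structural statement: every nonzero element commuting with `u` comes from `U` -/
theorem exists_of_commute (n : ℕ) (hn : 1 ≤ n) (hdim : finrank F K = n)
    (r : ℕ) [Fact r.Prime] (hr : r ∣ (Nat.card F) ^ n - 1)
    (hppd : ∀ k, 0 < k → k < n → ¬ r ∣ (Nat.card F) ^ k - 1)
    (U : Subgroup (Module.End F K)ˣ) (hU : IsMulCommutative U)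
    (hcard : Nat.card U = Fintype.card K - 1) :
    ∃ g₀ : Module.End F K,
      (∀ W : Submodule F K, (∀ w ∈ W, g₀ w ∈ W) → W = ⊥ ∨ W = ⊤) ∧
      (∀ x ∈ U, x.val * g₀ = g₀ * x.val) ∧
      (∀ c : Module.End F K, c * g₀ = g₀ * c → c ≠ 0 → ∃ x ∈ U, x.val = c) ∧
      (∀ k : K, k ≠ 0 → ∃ x ∈ U, x.val 1 = k) := by
  have hcardK : Fintype.card K = (Nat.card F) ^ n := by
    rw [← hdim, Nat.card_eq_fintype_card]
    exact Module.card_eq_pow_finrank
  have hK1 : 1 < Fintype.card K := Fintype.one_lt_card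
  haveI : Finite U := Nat.finite_of_card_ne_zero (by rw [hcard]; omega)
  have hrU : r ∣ Nat.card U := by rw [hcard, hcardK]; exact hr
  obtain ⟨u, hu⟩ := exists_prime_orderOf_dvd_card' r hrU
  have hrp : r.Prime := Fact.out
  set g₀ : Module.End F K := (u : (Module.End F K)ˣ).val with hg₀
  have hg₀r : g₀ ^ r = 1 := by
    have h1 : u ^ r = 1 := by rw [← hu]; exact pow_orderOf_eq_one u
    have h2 := congrArg (fun y : U => ((y : (Module.End F K)ˣ) : Module.End F K)) h1
    simpa using h2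
  have hg₀1 : g₀ ≠ 1 := by
    intro h
    have : u = 1 := by
      apply Subtype.ext
      apply Units.ext
      exact h
    rw [this, orderOf_one] at hu
    exact hrp.one_lt.ne hu
  have hirr := irreducible_of_ppd n hdim hn r hr hppd g₀ hg₀r hg₀1
  have hcomm : ∀ x ∈ U, x.val * g₀ = g₀ * x.val := by
    intro x hx
    have h1 := hU.is_comm.comm (⟨x, hx⟩ : U) u
    have h2 := congrArg (fun y : U => ((y : (Module.End F K)ˣ) : Module.End F K)) h1
    simpa using h2
  have h10 : (1 : K) ≠ 0 := one_ne_zero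
  -- the evaluation map
  let Ψ : U → Kˣ := fun x => Units.mk0 (x.1.val 1) (unit_apply_ne_zero x.1 1 h10)
  have hΨinj : Function.Injective Ψ := by
    intro x y hxy
    have h1 : x.1.val 1 = y.1.val 1 := congrArg Units.val hxy
    have h2 : x.1.val - y.1.val = 0 := by
      apply eq_zero_of_commute g₀ hirr _ _ 1 h10
      · rw [LinearMap.sub_apply, h1, sub_self]
      · rw [sub_mul, mul_sub, hcomm x.1 x.2, hcomm y.1 y.2]
    apply Subtype.ext
    apply Units.ext
    exact sub_eq_zero.mp h2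
  have hΨbij : Function.Bijective Ψ := by
    apply hΨinj.bijective_of_nat_card_le
    rw [Nat.card_units, hcard, Nat.card_eq_fintype_card]
  have hK : ∀ k : K, k ≠ 0 → ∃ x ∈ U, x.val 1 = k := by
    intro k hk
    obtain ⟨x, hx⟩ := hΨbij.2 (Units.mk0 k hk)
    exact ⟨x.1, x.2, congrArg Units.val hx⟩
  refine ⟨g₀, hirr, hcomm, ?_, hK⟩
  intro c hc hc0
  have hc1 : c 1 ≠ 0 := fun h => hc0 (eq_zero_of_commute g₀ hirr c hc 1 h10 h)
  obtain ⟨x, hx, hx1⟩ := hK (c 1) hc1
  refine ⟨x, hx, ?_⟩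
  have h2 : x.val - c = 0 := by
    apply eq_zero_of_commute g₀ hirr _ _ 1 h10
    · rw [LinearMap.sub_apply, hx1, sub_self]
    · rw [sub_mul, mul_sub, hcomm x hx, hc]
  exact sub_eq_zero.mp h2

end Cfsg.Agent.H9Singer
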