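import Mathlib
import Cfsg.Agent.Lib.Helper9.SingerMain1

set_option autoImplicit false

/-! # Abelian subgroups of Singer order: conjugacy to the Singer cycle -/

namespace Cfsg.Agent.H9Singer

open Module Polynomial

variable {F K : Type*} [Field F] [Fintype F] [Field K] [Fintype K] [Algebra F K]

theorem centralizer_isField (g₀ : Module.End F K)
    (U : Subgroup (Module.End F K)ˣ) (hU : IsMulCommutative U)
    (hcomm : ∀ x ∈ U, x.val * g₀ = g₀ * x.val)
    (hsurj : ∀ c : Module.End F K, c * g₀ = g₀ * c → c ≠ 0 → ∃ x ∈ U, x.val = c) :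
    IsField (Subalgebra.centralizer F ({g₀} : Set (Module.End F K))) := by
  have hmem : ∀ c : Module.End F K,
      c ∈ Subalgebra.centralizer F ({g₀} : Set (Module.End F K)) ↔ c * g₀ = g₀ * c := by
    intro c
    rw [Subalgebra.mem_centralizer_iff]
    constructor
    · intro h; exact (h g₀ rfl).symm
    · intro h g hg
      rw [Set.mem_singleton_iff] at hg
      rw [hg]; exact h.symm
  refine ⟨⟨0, 1, ?_⟩, ?_, ?_⟩
  · intro h
    have h1 := congrArg (fun c : Subalgebra.centralizer F ({g₀} : Set (Module.End F K)) =>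
      (c : Module.End F K) 1) h
    simp at h1
  · intro c c'
    apply Subtype.ext
    change c.1 * c'.1 = c'.1 * c.1
    by_cases hc : c.1 = 0
    · rw [hc, zero_mul, mul_zero]
    by_cases hc' : c'.1 = 0
    · rw [hc', zero_mul, mul_zero]
    obtain ⟨x, hx, hxc⟩ := hsurj c.1 ((hmem _).mp c.2) hc
    obtain ⟨y, hy, hyc⟩ := hsurj c'.1 ((hmem _).mp c'.2) hc'
    rw [← hxc, ← hyc]
    have h1 := hU.is_comm.comm (⟨x, hx⟩ : U) ⟨y, hy⟩
    have h2 := congrArg (fun z : U => ((z : (Module.End F K)ˣ) : Module.End F K)) h1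
    simpa using h2
  · intro c hc
    have hc0 : c.1 ≠ 0 := fun h => hc (Subtype.ext h)
    obtain ⟨x, hx, hxc⟩ := hsurj c.1 ((hmem _).mp c.2) hc0
    have hinv : (x⁻¹).val ∈ Subalgebra.centralizer F ({g₀} : Set (Module.End F K)) :=
      (hmem _).mpr (hcomm x⁻¹ (U.inv_mem hx))
    refine ⟨⟨(x⁻¹).val, hinv⟩, ?_⟩
    apply Subtype.ext
    change c.1 * (x⁻¹).val = 1
    rw [← hxc]
    exact x.mul_inv

end Cfsg.Agent.H9Singer
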