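import Mathlib
import Cfsg.Agent.Lib.Helper9.SingerMain1
import Cfsg.Agent.Lib.Helper9.SingerMain2

set_option autoImplicit false

/-! # Abelian subgroups of Singer order: conjugacy to the Singer cycle -/

namespace Cfsg.Agent.H9Singer

open Module Polynomial

variable {F K : Type*} [Field F] [Fintype F] [Field K] [Fintype K] [Algebra F K]

theorem singer_conj (g₀ : Module.End F K)
    (hirr : ∀ W : Submodule F K, (∀ w ∈ W, g₀ w ∈ W) → W = ⊥ ∨ W = ⊤)
    (U : Subgroup (Module.End F K)ˣ) (hU : IsMulCommutative U)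
    (hcomm : ∀ x ∈ U, x.val * g₀ = g₀ * x.val)
    (hsurj : ∀ c : Module.End F K, c * g₀ = g₀ * c → c ≠ 0 → ∃ x ∈ U, x.val = c)
    (hK : ∀ k : K, k ≠ 0 → ∃ x ∈ U, x.val 1 = k) :
    ∃ g : (Module.End F K)ˣ, U.map (MulAut.conj g).toMonoidHom =
      (Units.map ((Algebra.lmul F K : K →ₐ[F] Module.End F K) : K →* Module.End F K)).range := by
  classical
  have hmem : ∀ c : Module.End F K,
      c ∈ Subalgebra.centralizer F ({g₀} : Set (Module.End F K)) ↔ c * g₀ = g₀ * c := by
    intro c
    rw [Subalgebra.mem_centralizer_iff]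
    constructor
    · intro h; exact (h g₀ rfl).symm
    · intro h g hg
      rw [Set.mem_singleton_iff] at hg
      rw [hg]; exact h.symm
  have h10 : (1 : K) ≠ 0 := one_ne_zero
  have hC := centralizer_isField g₀ U hU hcomm hsurj
  set C := Subalgebra.centralizer F ({g₀} : Set (Module.End F K)) with hCdef
  letI : Field C := hC.toField
  haveI : Finite (Module.End F K) :=
    Finite.of_injective (fun f : Module.End F K => (f : K → K)) DFunLike.coe_injective
  haveI : Finite C := inferInstance
  letI : Fintype C := Fintype.ofFinite C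
  -- evaluation at 1
  let ev : C →ₗ[F] K :=
    { toFun := fun c => c.1 1
      map_add' := fun c c' => rfl
      map_smul' := fun a c => rfl }
  have hev_inj : Function.Injective ev := by
    rw [← LinearMap.ker_eq_bot, LinearMap.ker_eq_bot']
    intro c hc
    apply Subtype.ext
    exact eq_zero_of_commute g₀ hirr c.1 ((hmem _).mp c.2) 1 h10 hc
  have hev_surj : Function.Surjective ev := by
    intro k
    by_cases hk : k = 0
    · exact ⟨0, by rw [map_zero, hk]⟩
    · obtain ⟨x, hx, hx1⟩ := hK k hk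
      exact ⟨⟨x.val, (hmem _).mpr (hcomm x hx)⟩, hx1⟩
  have hcardC : Fintype.card C = Fintype.card K :=
    Fintype.card_of_bijective ⟨hev_inj, hev_surj⟩
  haveI hsC : IsSplittingField F C (X ^ Fintype.card K - X) := by
    have := FiniteField.isSplittingField_sub C F
    rwa [hcardC] at this
  let σ : K ≃ₐ[F] C :=
    (IsSplittingField.algEquiv K (X ^ Fintype.card K - X : F[X])).trans
      (IsSplittingField.algEquiv C (X ^ Fintype.card K - X : F[X])).symm
  -- the conjugating map
  let gL : K ≃ₗ[F] K := LinearEquiv.ofBijective (ev.comp σ.toLinearMap)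
    ⟨hev_inj.comp σ.injective, hev_surj.comp σ.surjective⟩
  have hgL : ∀ a b : K, gL (a * b) = (σ a).1 (gL b) := by
    intro a b
    change ((σ (a * b)).1 : Module.End F K) 1 = (σ a).1 ((σ b).1 1)
    rw [map_mul]
    rfl
  let ĝ : (Module.End F K)ˣ :=
    ⟨gL.toLinearMap, gL.symm.toLinearMap, by ext v; simp, by ext v; simp⟩
  have hĝ : ∀ v, ĝ.val v = gL v := fun v => rfl
  have hĝinv : ∀ v, ĝ.inv v = gL.symm v := fun v => rfl
  -- key conjugation formula
  have hkey : ∀ (x : (Module.End F K)ˣ) (a : Kˣ), x.val = (σ a.val).1 →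
      (MulAut.conj ĝ⁻¹) x = Units.map ((Algebra.lmul F K : K →ₐ[F] Module.End F K) :
        K →* Module.End F K) a := by
    intro x a hxa
    apply Units.ext
    apply LinearMap.ext
    intro b
    change ĝ.inv (x.val (ĝ.val b)) = a.val * b
    rw [hĝ, hĝinv, hxa, ← hgL, LinearEquiv.symm_apply_apply]
  refine ⟨ĝ⁻¹, ?_⟩
  ext y
  constructor
  · rintro ⟨x, hx, rfl⟩
    have hxC : x.val ∈ C := (hmem _).mpr (hcomm x hx)
    obtain ⟨a, ha⟩ := σ.surjective ⟨x.val, hxC⟩
    have ha0 : a ≠ 0 := by
      intro h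
      rw [h, map_zero] at ha
      have h1 : (0 : Module.End F K) = x.val := congrArg Subtype.val ha
      exact unit_apply_ne_zero x 1 h10 (by rw [← h1]; rfl)
    refine ⟨Units.mk0 a ha0, ?_⟩
    symm
    apply hkey
    rw [Units.val_mk0, ha]
  · rintro ⟨a, rfl⟩
    have hne : (σ a.val).1 ≠ 0 := by
      intro h
      have h1 : σ a.val = 0 := Subtype.ext h
      have h2 : a.val = 0 := by
        have := σ.injective (h1.trans (map_zero σ).symm)
        exact this
      exact a.ne_zero h2
    obtain ⟨x, hx, hxc⟩ := hsurj (σ a.val).1 ((hmem _).mp (σ a.val).2) hne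
    exact ⟨x, hx, hkey x a hxc⟩

end Cfsg.Agent.H9Singer
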