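import Mathlib

/-! S4409: this file is intentionally left without declarations. The predicate `ActsTrivMod`
lives in `Cfsg/Agent/Lib/Helper2/SmTwoPTDef.lean` (the one canonical definition). -/
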