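import Mathlib
import Cfsg.Agent.Lib.Helper8.SmTwoDefs
import Cfsg.Agent.Lib.Helper8.SmTwoB

set_option autoImplicit false

/-! S4409, package PN (racing copy, private names `pn9_`): the first "not small" lemmas. -/

namespace Cfsg.Agent.Lib.Helper8.SmTwo

universe u

variable {G : Type u} [Group G]

/-- in a `2`-group `T`, a proper subgroup `N` normalized by `T` has an element of `T` outside it
whose square lies in it -/
theorem pn9_exists_sq_mem [Finite G] (N T : Subgroup G) (hT : IsPGroup 2 T) (hNT : N ≤ T)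
    (hne : N ≠ T) (hn : T ≤ Subgroup.normalizer (N : Set G)) : ∃ t ∈ T, t ∉ N ∧ t ^ 2 ∈ N := by
  have : Fact (Nat.Prime 2) := ⟨Nat.prime_two⟩
  have hnorm : (N.subgroupOf T).Normal :=
    (Subgroup.normal_subgroupOf_iff_le_normalizer hNT).mpr hn
  have hQ : IsPGroup 2 (↥T ⧸ N.subgroupOf T) := hT.to_quotient _
  obtain ⟨n, hn2⟩ := IsPGroup.iff_card.mp hQ
  have hcard1 : Nat.card (↥T ⧸ N.subgroupOf T) ≠ 1 := by
    intro h
    have h1 : (N.subgroupOf T).index = 1 := by rw [Subgroup.index_eq_card]; exact h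
    have h2 : N.relIndex T = 1 := h1
    rw [Subgroup.relIndex_eq_one] at h2
    exact hne (le_antisymm hNT h2)
  have hdvd : 2 ∣ Nat.card (↥T ⧸ N.subgroupOf T) := by
    rw [hn2]
    rcases n with _ | n
    · rw [hn2, pow_zero] at hcard1; exact absurd rfl hcard1
    · exact dvd_pow_self 2 (Nat.succ_ne_zero n)
  obtain ⟨q, hq⟩ := exists_prime_orderOf_dvd_card' 2 hdvd
  induction q using QuotientGroup.induction_on with
  | H t =>
    refine ⟨t.1, t.2, ?_, ?_⟩
    · intro htN
      have : (QuotientGroup.mk t : ↥T ⧸ N.subgroupOf T) = 1 := by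
        rw [QuotientGroup.eq_one_iff, Subgroup.mem_subgroupOf]; exact htN
      rw [this, orderOf_one] at hq
      omega
    · have h1 : (QuotientGroup.mk t : ↥T ⧸ N.subgroupOf T) ^ 2 = 1 := by
        rw [← hq]; exact pow_orderOf_eq_one _
      rw [← QuotientGroup.mk_pow, QuotientGroup.eq_one_iff, Subgroup.mem_subgroupOf] at h1
      simpa using h1

/-- (N1) -/
theorem pn9_not_small_of_central_v4 [Finite G] (W Y : Subgroup G) (hY : IsPGroup 2 Y)
    (hW : IsV4 W) (hWY : W ≤ Y) (hne : W ≠ Y) (hc : Y ≤ Subgroup.centralizer (W : Set G)) :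
    ¬ Small Y := by
  have hn : Y ≤ Subgroup.normalizer (W : Set G) := by
    intro y hy
    have hyc := Subgroup.mem_centralizer_iff.mp (hc hy)
    rw [Subgroup.mem_normalizer_iff]
    intro w
    constructor
    · intro hw
      have : y * w * y⁻¹ = w := by rw [← hyc w hw, mul_inv_cancel_right]
      rw [this]; exact hw
    · intro hw
      have h1 := hyc _ hw
      have h2 : y * w = y * (y * w * y⁻¹) := by rw [← h1]; group
      have : w = y * w * y⁻¹ := mul_left_cancel h2
      rw [this]; exact hw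
  obtain ⟨t, htY, htW, ht2⟩ := pn9_exists_sq_mem W Y hY hWY hne hn
  have htc := Subgroup.mem_centralizer_iff.mp (hc htY)
  have hbad : Bad (W ⊔ Subgroup.zpowers t) := by
    refine bad_sup_zpowers W t hW.1 hW.comm ?_ (fun a ha => (htc a ha).symm) htW ht2 ?_
    · intro a ha
      have : a ^ 4 = (a ^ 2) ^ 2 := by rw [← pow_mul]
      rw [this, hW.2 a ha, one_pow]
    · have : t ^ 4 = (t ^ 2) ^ 2 := by rw [← pow_mul]
      rw [this]; exact hW.2 _ ht2
  intro hs
  exact hs _ (sup_le hWY (by rw [Subgroup.zpowers_le]; exact htY)) hbad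

/-- (N2) -/
theorem pn9_not_small_of_na8_of_mem [Finite G] (Y₀ Y : Subgroup G) (h0 : IsNA8 Y₀) (hle : Y₀ ≤ Y)
    (t : G) (htY : t ∈ Y) (htc : t ∈ Subgroup.centralizer (Y₀ : Set G)) (htn : t ∉ Y₀)
    (ht2 : t ^ 2 ∈ Y₀) : ¬ Small Y := by
  obtain ⟨z, hzY, hz1, hz2, hzc, hsq, -, hcen, i, hiY, hi2⟩ := h0.facts
  have htc' := Subgroup.mem_centralizer_iff.mp htc
  -- t ^ 2 is central in Y₀
  have ht2c : t ^ 2 = 1 ∨ t ^ 2 = z := by
    refine hcen _ ht2 (fun y hy => ?_)
    have h := htc' y hy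
    calc t ^ 2 * y = t * (t * y) := by rw [pow_two, mul_assoc]
      _ = t * (y * t) := by rw [h]
      _ = (t * y) * t := by rw [mul_assoc]
      _ = (y * t) * t := by rw [h]
      _ = y * t ^ 2 := by rw [pow_two, mul_assoc]
  have hi4 : i ^ 4 = 1 := by
    have : i ^ 4 = (i ^ 2) ^ 2 := by rw [← pow_mul]
    rw [this, hi2, hz2]
  have hord : orderOf i = 4 := by
    have := orderOf_eq_prime_pow (x := i) (p := 2) (n := 1) (by rw [pow_one, hi2]; exact hz1)
      (by norm_num; exact hi4)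
    simpa using this
  have hBle : Subgroup.zpowers i ≤ Y₀ := by rw [Subgroup.zpowers_le]; exact hiY
  have hzB : z ∈ Subgroup.zpowers i := by
    rw [← hi2]; exact Subgroup.pow_mem _ (Subgroup.mem_zpowers i) 2
  have hbad : Bad (Subgroup.zpowers i ⊔ Subgroup.zpowers t) := by
    refine bad_sup_zpowers (Subgroup.zpowers i) t ?_ ?_ ?_ ?_ ?_ ?_ ?_
    · rw [Nat.card_zpowers, hord]
    · intro a ha b hb
      obtain ⟨k, rfl⟩ := Subgroup.mem_zpowers_iff.mp ha
      obtain ⟨l, rfl⟩ := Subgroup.mem_zpowers_iff.mp hb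
      rw [← zpow_add, ← zpow_add, add_comm]
    · intro a ha
      obtain ⟨k, rfl⟩ := Subgroup.mem_zpowers_iff.mp ha
      rw [← zpow_natCast, ← zpow_mul, mul_comm, zpow_mul, zpow_natCast, hi4, one_zpow]
    · intro a ha
      exact (htc' a (hBle ha)).symm
    · intro h; exact htn (hBle h)
    · rcases ht2c with h | h
      · rw [h]; exact Subgroup.one_mem _
      · rw [h]; exact hzB
    · have : t ^ 4 = (t ^ 2) ^ 2 := by rw [← pow_mul]
      rw [this]
      rcases ht2c with h | h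
      · rw [h, one_pow]
      · rw [h, hz2]
  intro hs
  exact hs _ (sup_le (hBle.trans hle) (by rw [Subgroup.zpowers_le]; exact htY)) hbad

/-- (N2') -/
theorem pn9_not_small_of_na8_centralizer [Finite G] (Y₀ Y : Subgroup G) (hY : IsPGroup 2 Y)
    (h0 : IsNA8 Y₀) (hle : Y₀ ≤ Y)
    (hT : ¬ (Y ⊓ Subgroup.centralizer (Y₀ : Set G) ≤ Y₀)) : ¬ Small Y := by
  obtain ⟨C, hC⟩ : ∃ C : Subgroup G, C = Y ⊓ Subgroup.centralizer (Y₀ : Set G) := ⟨_, rfl⟩
  have hCY : C ≤ Y := by rw [hC]; exact inf_le_left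
  have hCc : C ≤ Subgroup.centralizer (Y₀ : Set G) := by rw [hC]; exact inf_le_right
  have hCp : IsPGroup 2 C := hY.to_le hCY
  have hne : C ⊓ Y₀ ≠ C := by
    intro h
    apply hT
    rw [← hC, ← h]
    exact inf_le_right
  have hn : C ≤ Subgroup.normalizer ((C ⊓ Y₀ : Subgroup G) : Set G) := by
    intro c hc
    have hcc := Subgroup.mem_centralizer_iff.mp (hCc hc)
    rw [Subgroup.mem_normalizer_iff]
    intro w
    constructor
    · intro hw
      have : c * w * c⁻¹ = w := by rw [← hcc w hw.2, mul_inv_cancel_right]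
      rw [this]; exact hw
    · intro hw
      have h1 := hcc _ hw.2
      have h2 : c * w = c * (c * w * c⁻¹) := by rw [← h1]; group
      have : w = c * w * c⁻¹ := mul_left_cancel h2
      rw [this]; exact hw
  obtain ⟨t, htC, htN, ht2⟩ := pn9_exists_sq_mem (C ⊓ Y₀) C hCp inf_le_left hne hn
  exact pn9_not_small_of_na8_of_mem Y₀ Y h0 hle t (hCY htC) (hCc htC)
    (fun h => htN ⟨htC, h⟩) ht2.2

end Cfsg.Agent.Lib.Helper8.SmTwo
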