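import Mathlib
import Cfsg.Agent.Lib.Helper9.Solv7
import Cfsg.Agent.Lib.Helper9.InvTransport2

set_option autoImplicit false
open Cfsg Cfsg.FusionSystem
open scoped commutatorElement

namespace Cfsg.Agent.Lib.Helper9

variable {Ω : Type*} [Group Ω] {S T : Subgroup Ω}

/-- Solvability from "steps": every proper strongly closed `R` is straddled by an abelian step of strongly
closed subgroups. -/
theorem solvable_of_steps [Finite S] (p : ℕ) [Fact p.Prime] (hS : IsPGroup p S)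
    (F : FusionSystem S) (hF : F.IsSaturated p)
    (h : ∀ R : Subgroup Ω, F.StronglyClosed R → R ≠ S →
      ∃ A B : Subgroup Ω, F.StronglyClosed B ∧ A ≤ R ∧ ¬ B ≤ R ∧ ⁅B, B⁆ ≤ A) : F.IsSolvableSystem := by
  intro R hR hRS _ E hE
  obtain ⟨A, B, hB, hAR, hBR, hBA⟩ := h R hR hRS
  exact core_ne_bot_of_step p hS F hF hR hB hAR hBR hBA _ E hE

theorem exists_step_of_chain (C : ℕ → Subgroup Ω) (R : Subgroup Ω) (n : ℕ) (h0 : C 0 ≤ R) (hn : ¬ C n ≤ R) :
    ∃ k, C k ≤ R ∧ ¬ C (k + 1) ≤ R := by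
  induction n with
  | zero => exact absurd h0 hn
  | succ n ih =>
    by_cases h : C n ≤ R
    · exact ⟨n, h, hn⟩
    · exact ih h

theorem stronglyClosed_iInf (F : FusionSystem S) {ι : Type*} [Nonempty ι] (B : ι → Subgroup Ω)
    (hB : ∀ i, F.StronglyClosed (B i)) : F.StronglyClosed (⨅ i, B i) := by
  obtain ⟨i₀⟩ := ‹Nonempty ι›
  refine ⟨(iInf_le B i₀).trans (hB i₀).1, fun R hR φ hφ x => ?_⟩
  rw [Subgroup.mem_iInf]
  intro i
  exact (hB i).2 R (hR.trans (iInf_le B i)) φ hφ x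

/-- The image under `α ∈ Aut_F(T)` of a subgroup strongly closed in the invariant subsystem `E` is strongly
closed in `E`. -/
theorem stronglyClosed_imgT (E : FusionSystem T) (F : FusionSystem S) (hinv : E.IsInvariantIn F)
    {B : Subgroup Ω} (hB : E.StronglyClosed B) {α : MulAut T} (hα : α ∈ F.autGroup T) :
    E.StronglyClosed (imgT α B) := by
  have hBT : B ≤ T := hB.1
  refine ⟨imgT_le α B, fun R hR φ hφ x => ?_⟩
  obtain ⟨hRT, hφT⟩ := E.le_of_mem hφ
  have hα' : α⁻¹ ∈ F.autGroup T := Subgroup.inv_mem _ hα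
  obtain ⟨χ, hχ, Hχ⟩ := invariant_transport E F hinv hφ hα'
  have hle : imgT α⁻¹ R ≤ B := by
    have := imgT_mono α⁻¹ hR
    rwa [imgT_imgT_inv α hBT] at this
  have hx1 : ((α⁻¹ ⟨x, hRT x.2⟩ : T) : Ω) ∈ imgT α⁻¹ R := apply_mem_imgT α⁻¹ x.2
  have h1 := hB.2 _ hle χ hχ ⟨_, hx1⟩
  rw [Hχ x (hRT x.2) (hφT x) hx1] at h1
  have h2 := apply_mem_imgT α h1
  rwa [MulAut.apply_inv_self] at h2

/-- The `Aut_F(T)`-invariant part of a subgroup `U ≤ T`. -/
def invT (F : FusionSystem S) (T U : Subgroup Ω) : Subgroup Ω :=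
  ⨅ α : F.autGroup T, imgT (α : MulAut T) U

theorem mem_invT_iff (F : FusionSystem S) (T U : Subgroup Ω) (y : Ω) :
    y ∈ invT F T U ↔ ∀ α ∈ F.autGroup T, y ∈ imgT α U := by
  unfold invT
  rw [Subgroup.mem_iInf]
  constructor
  · intro h α hα
    exact h ⟨α, hα⟩
  · intro h α
    exact h α α.2

theorem imgT_one {U : Subgroup Ω} (hU : U ≤ T) : imgT (1 : MulAut T) U = U := by
  ext y
  rw [mem_imgT_iff]
  constructor
  · rintro ⟨x, hx, rfl⟩
    exact hx
  · intro hy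
    exact ⟨⟨y, hU hy⟩, hy, rfl⟩

theorem invT_le (F : FusionSystem S) {U : Subgroup Ω} (hU : U ≤ T) : invT F T U ≤ U := by
  intro y hy
  have := (mem_invT_iff F T U y).mp hy 1 (Subgroup.one_mem _)
  rwa [imgT_one hU] at this

theorem invT_mono (F : FusionSystem S) {U U' : Subgroup Ω} (h : U ≤ U') : invT F T U ≤ invT F T U' := by
  intro y hy
  rw [mem_invT_iff] at hy ⊢
  intro α hα
  exact imgT_mono α h (hy α hα)

theorem invT_self (F : FusionSystem S) : invT F T T = T := by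
  apply le_antisymm (invT_le F le_rfl)
  intro y hy
  rw [mem_invT_iff]
  intro α _
  rw [mem_imgT_iff]
  refine ⟨α⁻¹ ⟨y, hy⟩, (α⁻¹ ⟨y, hy⟩).2, ?_⟩
  rw [MulAut.apply_inv_self]

theorem invT_bot (F : FusionSystem S) : invT F T ⊥ = ⊥ :=
  le_bot_iff.mp (invT_le F bot_le)

theorem invT_invariant (F : FusionSystem S) (U : Subgroup Ω) :
    ∀ β ∈ F.autGroup T, ∀ x : T, (x : Ω) ∈ invT F T U → ((β x : T) : Ω) ∈ invT F T U := by
  intro β hβ x hx
  rw [mem_invT_iff] at hx ⊢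
  intro α hα
  have h1 := hx (β⁻¹ * α) (Subgroup.mul_mem _ (Subgroup.inv_mem _ hβ) hα)
  rw [mem_imgT_iff] at h1 ⊢
  obtain ⟨u, hu, hux⟩ := h1
  refine ⟨u, hu, ?_⟩
  have h2 : (β⁻¹ * α) u = x := Subtype.ext hux
  rw [MulAut.mul_apply] at h2
  rw [← h2, MulAut.apply_inv_self]

theorem invT_stronglyClosed (E : FusionSystem T) (F : FusionSystem S) (hinv : E.IsInvariantIn F)
    {U : Subgroup Ω} (hU : E.StronglyClosed U) : F.StronglyClosed (invT F T U) := by
  apply stronglyClosed_of_invariant E F hinv _ (invT_invariant F U)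
  unfold invT
  haveI : Nonempty (F.autGroup T) := ⟨1⟩
  exact stronglyClosed_iInf E _ (fun α => stronglyClosed_imgT E F hinv hU α.2)

theorem invT_commutator_le (F : FusionSystem S) {U U' : Subgroup Ω} (hU' : U' ≤ T)
    (h : ⁅U', U'⁆ ≤ U) : ⁅invT F T U', invT F T U'⁆ ≤ invT F T U := by
  rw [Subgroup.commutator_le]
  intro a ha b hb
  rw [mem_invT_iff] at ha hb ⊢
  intro α hα
  have h1 := ha α hα
  have h2 := hb α hα
  rw [mem_imgT_iff] at h1 h2 ⊢
  obtain ⟨a₀, ha₀, rfl⟩ := h1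
  obtain ⟨b₀, hb₀, rfl⟩ := h2
  refine ⟨⁅a₀, b₀⁆, ?_, ?_⟩
  · apply h
    exact Subgroup.commutator_mem_commutator ha₀ hb₀
  · rw [map_commutatorElement]
    rfl

end Cfsg.Agent.Lib.Helper9
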