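import Mathlib
import Cfsg.Prelude
import Cfsg.Agent.Lib.Helper9.L3Fus2

set_option autoImplicit false

/-!
# Simplicity criterion: passing to a quotient by a central `p`-subgroup
-/

namespace Cfsg.Agent.H9S4

open Cfsg Cfsg.FusionSystem Cfsg.Agent.Lib.Helper9 Cfsg.Agent.H9PF Cfsg.Agent.H9L3

variable {Y G : Type*} [Group Y] [Group G] [Finite Y] [Finite G]

theorem simple_of_data_quot_p (p : ℕ) [Fact p.Prime] (π : Y →* G) (hπ : Function.Surjective π)
    (hkp : IsPGroup p π.ker)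
    (P : Subgroup Y) (hkP : π.ker ≤ P) (hPp : IsPGroup p P)
    (hPN : ∀ x : Y, x ∈ Subgroup.normalizer (P : Set Y) → (∃ j : ℕ, orderOf x = p ^ j) → x ∈ P)
    (hP1 : ∃ x ∈ P, x ∉ π.ker)
    (hsc : ∀ T : Subgroup Y, T ≤ P → π.ker ≤ T → (∃ t ∈ T, t ∉ π.ker) →
      (∀ t ∈ T, ∀ g : Y, g * t * g⁻¹ ∈ P → g * t * g⁻¹ ∈ T) → P ≤ T)
    (Γ : Set Y) (hΓ : Subgroup.normalizer (P : Set Y) ≤ Subgroup.closure Γ)
    (hgood : ∀ γ ∈ Γ, γ ∈ Subgroup.normalizer (P : Set Y) ∧
      ∃ R : Subgroup Y, R ≤ P ∧ π.ker ≤ R ∧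
        (∀ x : Y, (∃ j : ℕ, orderOf x = p ^ j) → (∀ r ∈ R, x * r * x⁻¹ * r⁻¹ ∈ π.ker) → x ∈ R) ∧
        γ ∈ Subgroup.closure {k : Y | k ∈ Subgroup.normalizer (R : Set Y) ∧
          ∃ j : ℕ, orderOf k = p ^ j})
    (S : Sylow p G) :
    (groupFusionSystem (S : Subgroup G)).IsSimple p := by
  obtain ⟨P₀, hP₀⟩ := exists_sylow_of_normalizer p P hPp hPN
  -- membership in `P` can be tested in the quotient
  have hmemP : ∀ x : Y, π x ∈ P.map π → x ∈ P := by
    rintro x ⟨y, hy, hyx⟩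
    have h1 : x * y⁻¹ ∈ π.ker := by
      rw [MonoidHom.mem_ker, map_mul, map_inv, hyx, mul_inv_cancel]
    have h2 : x = (x * y⁻¹) * y := by group
    rw [h2]
    exact P.mul_mem (hkP h1) hy
  have hconjP : ∀ g : Y, π g ∈ Subgroup.normalizer ((P.map π : Subgroup G) : Set G) →
      ∀ x ∈ P, g * x * g⁻¹ ∈ P := by
    intro g hg x hx
    apply hmemP
    rw [map_mul, map_mul, map_inv]
    exact (Subgroup.mem_normalizer_iff.mp hg _).mp (Subgroup.mem_map_of_mem π hx)
  -- lifting `p`-elements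
  have hlift : ∀ x : Y, (∃ j : ℕ, orderOf (π x) = p ^ j) → ∃ i : ℕ, orderOf x = p ^ i := by
    rintro x ⟨j, hj⟩
    have h1 : x ^ (p ^ j) ∈ π.ker := by
      rw [MonoidHom.mem_ker, map_pow, ← hj, pow_orderOf_eq_one]
    obtain ⟨k, hk⟩ := hkp ⟨x ^ (p ^ j), h1⟩
    have hk' : (x ^ (p ^ j)) ^ (p ^ k) = 1 := by
      have := congrArg Subtype.val hk
      simpa using this
    apply orderOf_eq_prime_pow_of_pow_eq_one p x (j + k)
    rw [pow_add, pow_mul, hk']
  refine simple_of_data2 p (P₀.mapSurjective hπ) ?_ ?_ (π '' Γ) ?_ ?_ S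
  · rw [Sylow.coe_mapSurjective, hP₀]
    intro hb
    obtain ⟨x, hx, hxk⟩ := hP1
    apply hxk
    rw [MonoidHom.mem_ker]
    have := Subgroup.mem_map_of_mem π hx
    rw [hb, Subgroup.mem_bot] at this
    exact this
  · rw [Sylow.coe_mapSurjective, hP₀]
    intro T' hT' hT'b hT'c
    have h1 : P ≤ T'.comap π ⊓ P := by
      apply hsc
      · exact inf_le_right
      · intro x hx
        refine Subgroup.mem_inf.mpr ⟨?_, hkP hx⟩
        rw [Subgroup.mem_comap, MonoidHom.mem_ker.mp hx]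
        exact T'.one_mem
      · by_contra hcon
        apply hT'b
        rw [Subgroup.eq_bot_iff_forall]
        intro t' ht'
        obtain ⟨t, ht, rfl⟩ := hT' ht'
        by_contra hne
        apply hcon
        exact ⟨t, Subgroup.mem_inf.mpr ⟨Subgroup.mem_comap.mpr ht', ht⟩, fun h => hne
          (MonoidHom.mem_ker.mp h)⟩
      · intro t ht g hg
        obtain ⟨ht1, ht2⟩ := Subgroup.mem_inf.mp ht
        refine Subgroup.mem_inf.mpr ⟨?_, hg⟩
        rw [Subgroup.mem_comap, map_mul, map_mul, map_inv]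
        apply hT'c _ (Subgroup.mem_comap.mp ht1)
        rw [← map_inv, ← map_mul, ← map_mul]
        exact Subgroup.mem_map_of_mem π hg
    rintro _ ⟨x, hx, rfl⟩
    exact Subgroup.mem_comap.mp (Subgroup.mem_inf.mp (h1 hx)).1
  · rw [Sylow.coe_mapSurjective, hP₀]
    intro g' hg'
    obtain ⟨g, rfl⟩ := hπ g'
    have hgN : g ∈ Subgroup.normalizer (P : Set Y) := by
      rw [Subgroup.mem_normalizer_iff]
      intro x
      constructor
      · exact hconjP g hg' x
      · intro hx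
        have h1 := hconjP g⁻¹ (by rw [map_inv]; exact Subgroup.inv_mem _ hg') _ hx
        have e : g⁻¹ * (g * x * g⁻¹) * g⁻¹⁻¹ = x := by group
        rwa [e] at h1
    rw [← MonoidHom.map_closure]
    exact Subgroup.mem_map_of_mem π (hΓ hgN)
  · rintro _ ⟨γ, hγ, rfl⟩
    obtain ⟨hγN, R, hRP, hkR, hRC, hγK⟩ := hgood γ hγ
    rw [Sylow.coe_mapSurjective, hP₀]
    refine ⟨Subgroup.le_normalizer_map π (Subgroup.mem_map_of_mem _ hγN), R.map π,
      Subgroup.map_mono hRP, ?_, ?_⟩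
    · rintro x' hxo hx'
      obtain ⟨x, rfl⟩ := hπ x'
      refine Subgroup.mem_map_of_mem π (hRC x (hlift x hxo) ?_)
      intro r hr
      have h1 := hx' (π r) (Subgroup.mem_map_of_mem π hr)
      rw [MonoidHom.mem_ker, map_mul, map_mul, map_mul, map_inv, map_inv, h1]
      group
    · have h1 : π γ ∈ (Subgroup.closure {k : Y | k ∈ Subgroup.normalizer (R : Set Y) ∧
          ∃ j : ℕ, orderOf k = p ^ j}).map π := Subgroup.mem_map_of_mem π hγK
      rw [MonoidHom.map_closure] at h1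
      refine Subgroup.closure_mono ?_ h1
      rintro _ ⟨k, ⟨hkN, j, hj⟩, rfl⟩
      refine ⟨Subgroup.le_normalizer_map π (Subgroup.mem_map_of_mem _ hkN), ?_⟩
      apply orderOf_eq_prime_pow_of_pow_eq_one p _ j
      rw [← map_pow, ← hj, pow_orderOf_eq_one, map_one]

end Cfsg.Agent.H9S4
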