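import Mathlib
import Cfsg.Agent.Lib.Helper9.L3Fus15

set_option autoImplicit false

/-!
# Some `2 × 2` matrices and elements of `SL₂`
-/

namespace Cfsg.Agent.H9S4

open Matrix Cfsg.Agent.H9L3

variable {F : Type*} [Field F]


/-- the symmetric trace-zero matrix `[[a,b],[b,-a]]` -/
def L2 (a b : F) : Matrix (Fin 2) (Fin 2) F := !![a, b; b, -a]

theorem det_L2 (a b : F) : (L2 a b).det = -(a ^ 2 + b ^ 2) := by
  unfold L2
  rw [Matrix.det_fin_two]
  simp
  ring

theorem kap_mul_L2 (x y a b : F) : kap x y * L2 a b = L2 (x * a - y * b) (x * b + y * a) := by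
  unfold kap L2
  ext i j
  fin_cases i <;> fin_cases j <;> simp [Matrix.mul_apply, Fin.sum_univ_two] <;> ring

theorem L2_mul_kap (a b x y : F) : L2 a b * kap x y = L2 (a * x + b * y) (b * x - a * y) := by
  unfold kap L2
  ext i j
  fin_cases i <;> fin_cases j <;> simp [Matrix.mul_apply, Fin.sum_univ_two] <;> ring

theorem L2_mul_L2 (a b c d : F) : L2 a b * L2 c d = kap (a * c + b * d) (b * c - a * d) := by
  unfold kap L2
  ext i j
  fin_cases i <;> fin_cases j <;> simp [Matrix.mul_apply, Fin.sum_univ_two] <;> ring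

theorem L2_injective {a b c d : F} (h : L2 a b = L2 c d) : a = c ∧ b = d := by
  unfold L2 at h
  have h00 := congrFun (congrFun h 0) 0
  have h01 := congrFun (congrFun h 0) 1
  simp at h00 h01
  exact ⟨h00, h01⟩

theorem kap_ne_L2 (h2 : (2 : F) ≠ 0) {x y a b : F} (hab : a ^ 2 + b ^ 2 ≠ 0) :
    kap x y ≠ L2 a b := by
  intro h
  unfold kap L2 at h
  have h00 := congrFun (congrFun h 0) 0
  have h01 := congrFun (congrFun h 0) 1
  have h10 := congrFun (congrFun h 1) 0
  have h11 := congrFun (congrFun h 1) 1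
  simp at h00 h01 h10 h11
  have ha : a = 0 := by
    have : (2 : F) * a = 0 := by linear_combination h11 - h00
    exact (mul_eq_zero.mp this).resolve_left h2
  have hb : b = 0 := by
    have : (2 : F) * b = 0 := by linear_combination -h01 - h10
    exact (mul_eq_zero.mp this).resolve_left h2
  apply hab
  rw [ha, hb]; ring

/-- a matrix conjugating a non-scalar `x + yJ` into the algebra `{x + yJ}` -/
theorem conj_kap (h2 : (2 : F) ≠ 0) (A : Matrix (Fin 2) (Fin 2) F) (hdet : A.det ≠ 0)
    (α β x y : F) (hβ : β ≠ 0) (h : A * kap α β = kap x y * A) :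
    (∃ p r : F, A = kap p r) ∨ (∃ p q : F, A = L2 p q) := by
  obtain ⟨p, q, r, s, hA⟩ : ∃ p q r s : F, A = !![p, q; r, s] :=
    ⟨A 0 0, A 0 1, A 1 0, A 1 1, by ext i j; fin_cases i <;> fin_cases j <;> rfl⟩
  have hdet' : p * s - q * r ≠ 0 := by
    rw [hA, Matrix.det_fin_two] at hdet
    simpa using hdet
  rw [hA] at h
  unfold kap at h
  have e1 := congrFun (congrFun h 0) 0
  have e2 := congrFun (congrFun h 0) 1
  have e3 := congrFun (congrFun h 1) 0
  have e4 := congrFun (congrFun h 1) 1
  simp [Matrix.mul_apply, Fin.sum_univ_two] at e1 e2 e3 e4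
  have hx : x = α := by
    have : (2 : F) * (p * s - q * r) * (α - x) = 0 := by
      linear_combination s * e1 - r * e2 - q * e3 + p * e4
    rcases mul_eq_zero.mp this with h3 | h3
    · rcases mul_eq_zero.mp h3 with h4 | h4
      · exact absurd h4 h2
      · exact absurd h4 hdet'
    · exact (sub_eq_zero.mp h3).symm
  rw [hx] at e1 e2 e3 e4
  have hy : (β - y) * (β + y) = 0 := by
    have hp : (β ^ 2 - y ^ 2) * p = 0 := by linear_combination (-β) * e2 + y * e3
    have hq : (β ^ 2 - y ^ 2) * q = 0 := by linear_combination β * e1 + y * e4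
    by_contra hne
    have hne' : β ^ 2 - y ^ 2 ≠ 0 := by
      intro h0; apply hne; linear_combination h0
    apply hdet'
    rw [(mul_eq_zero.mp hp).resolve_left hne', (mul_eq_zero.mp hq).resolve_left hne']
    ring
  rcases mul_eq_zero.mp hy with h3 | h3
  · left
    have hyb : y = β := (sub_eq_zero.mp h3).symm
    rw [hyb] at e1 e2
    refine ⟨p, r, ?_⟩
    have hq : q = -r := by
      have : β * (q + r) = 0 := by linear_combination e1
      have := (mul_eq_zero.mp this).resolve_left hβ
      linear_combination this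
    have hs : s = p := by
      have : β * (s - p) = 0 := by linear_combination e2
      have := (mul_eq_zero.mp this).resolve_left hβ
      linear_combination this
    rw [hA, hq, hs]
    rfl
  · right
    have hyb : y = -β := by linear_combination h3
    rw [hyb] at e1 e2
    have hq : q = r := by
      have : β * (q - r) = 0 := by linear_combination e1
      have := (mul_eq_zero.mp this).resolve_left hβ
      linear_combination this
    have hs : s = -p := by
      have : β * (s + p) = 0 := by linear_combination -e2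
      have := (mul_eq_zero.mp this).resolve_left hβ
      linear_combination this
    refine ⟨p, q, ?_⟩
    rw [hA, hs, ← hq]
    rfl

/-- the matrix `H = [[1,1],[-1,1]]` -/
def Hm : Matrix (Fin 2) (Fin 2) F := !![1, 1; -1, 1]

/-- the swap matrix -/
def swm : Matrix (Fin 2) (Fin 2) F := !![0, 1; 1, 0]

/-- `diag(-1,1)` -/
def d1 : Matrix (Fin 2) (Fin 2) F := !![-1, 0; 0, 1]

/-- `diag(1,0)` -/
def e11 : Matrix (Fin 2) (Fin 2) F := !![1, 0; 0, 0]

/-- `diag(0,1)` -/
def e22 : Matrix (Fin 2) (Fin 2) F := !![0, 0; 0, 1]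

theorem e11_add_e22 : (e11 + e22 : Matrix (Fin 2) (Fin 2) F) = 1 := by
  unfold e11 e22
  ext i j
  fin_cases i <;> fin_cases j <;> simp

theorem e11_mul_e11 : (e11 * e11 : Matrix (Fin 2) (Fin 2) F) = e11 := by
  unfold e11
  ext i j
  fin_cases i <;> fin_cases j <;> simp [Matrix.mul_apply, Fin.sum_univ_two]

theorem e22_mul_e22 : (e22 * e22 : Matrix (Fin 2) (Fin 2) F) = e22 := by
  unfold e22
  ext i j
  fin_cases i <;> fin_cases j <;> simp [Matrix.mul_apply, Fin.sum_univ_two]

theorem e11_mul_e22 : (e11 * e22 : Matrix (Fin 2) (Fin 2) F) = 0 := by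
  unfold e11 e22
  ext i j
  fin_cases i <;> fin_cases j <;> simp [Matrix.mul_apply, Fin.sum_univ_two]

theorem e22_mul_e11 : (e22 * e11 : Matrix (Fin 2) (Fin 2) F) = 0 := by
  unfold e11 e22
  ext i j
  fin_cases i <;> fin_cases j <;> simp [Matrix.mul_apply, Fin.sum_univ_two]

theorem e11_transpose : (e11 : Matrix (Fin 2) (Fin 2) F)ᵀ = e11 := by
  unfold e11
  ext i j
  fin_cases i <;> fin_cases j <;> simp

theorem e22_transpose : (e22 : Matrix (Fin 2) (Fin 2) F)ᵀ = e22 := by
  unfold e22
  ext i j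
  fin_cases i <;> fin_cases j <;> simp

theorem swm_mul_swm : (swm * swm : Matrix (Fin 2) (Fin 2) F) = 1 := by
  unfold swm
  ext i j
  fin_cases i <;> fin_cases j <;> simp [Matrix.mul_apply, Fin.sum_univ_two]

theorem swm_transpose : (swm : Matrix (Fin 2) (Fin 2) F)ᵀ = swm := by
  unfold swm
  ext i j
  fin_cases i <;> fin_cases j <;> simp

theorem swm_mul_e11 : (swm * e11 : Matrix (Fin 2) (Fin 2) F) = e22 * swm := by
  unfold swm e11 e22
  ext i j
  fin_cases i <;> fin_cases j <;> simp [Matrix.mul_apply, Fin.sum_univ_two]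

theorem swm_mul_e22 : (swm * e22 : Matrix (Fin 2) (Fin 2) F) = e11 * swm := by
  unfold swm e11 e22
  ext i j
  fin_cases i <;> fin_cases j <;> simp [Matrix.mul_apply, Fin.sum_univ_two]

theorem d1_eq : (d1 : Matrix (Fin 2) (Fin 2) F) = -e11 + e22 := by
  unfold d1 e11 e22
  ext i j
  fin_cases i <;> fin_cases j <;> simp

theorem Hm_mul_transpose : (Hm * Hmᵀ : Matrix (Fin 2) (Fin 2) F) = (2 : F) • 1 := by
  unfold Hm
  ext i j
  fin_cases i <;> fin_cases j <;> simp [Matrix.mul_apply, Fin.sum_univ_two] <;> ring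

theorem Hm_mul_d1 : (Hm * d1 : Matrix (Fin 2) (Fin 2) F) = swm * Hm := by
  unfold Hm d1 swm
  ext i j
  fin_cases i <;> fin_cases j <;> simp [Matrix.mul_apply, Fin.sum_univ_two]

theorem Hm_mul_swm : (Hm * swm : Matrix (Fin 2) (Fin 2) F) = (-d1) * Hm := by
  unfold Hm d1 swm
  ext i j
  fin_cases i <;> fin_cases j <;> simp [Matrix.mul_apply, Fin.sum_univ_two]

theorem Hm_mul_Hm : (Hm * Hm : Matrix (Fin 2) (Fin 2) F) = (2 : F) • kap 0 (-1) := by
  unfold Hm kap
  ext i j
  fin_cases i <;> fin_cases j <;> simp [Matrix.mul_apply, Fin.sum_univ_two] <;> ring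

/-- `X J Xᵀ = det X • J` -/
theorem mul_J_mul_transpose (X : Matrix (Fin 2) (Fin 2) F) :
    X * kap 0 1 * Xᵀ = X.det • kap 0 1 := by
  rw [Matrix.det_fin_two]
  unfold kap
  ext i j
  fin_cases i <;> fin_cases j <;> simp [Matrix.mul_apply, Fin.sum_univ_two] <;> ring

end Cfsg.Agent.H9S4
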