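import Mathlib
import Cfsg.Agent.Lib.Helper9.Sp4Fus1
import Cfsg.Agent.Lib.Helper9.AltFus11

set_option autoImplicit false

/-!
# The torus `{x + yJ}` of `SL₂`, its `2`-part and the quaternion-type subgroup
-/

namespace Cfsg.Agent.H9S4

open Matrix Cfsg.Agent.H9L3

variable {F : Type*} [Field F]

/-- the torus `{x + yJ : x² + y² = 1}` of `SL₂` -/
def T1 : Subgroup (SpecialLinearGroup (Fin 2) F) where
  carrier := {g | ∃ x y : F, (g : Matrix (Fin 2) (Fin 2) F) = kap x y}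
  one_mem' := ⟨1, 0, by rw [kap_one]; rfl⟩
  mul_mem' := by
    rintro g h ⟨x, y, hg⟩ ⟨x', y', hh⟩
    exact ⟨_, _, by rw [Matrix.SpecialLinearGroup.coe_mul, hg, hh, kap_mul]⟩
  inv_mem' := by
    rintro g ⟨x, y, hg⟩
    refine ⟨x, -y, ?_⟩
    rw [Matrix.SpecialLinearGroup.coe_inv, hg, Matrix.adjugate_fin_two]
    unfold kap
    ext i j
    fin_cases i <;> fin_cases j <;> simp

theorem mem_T1 {g : SpecialLinearGroup (Fin 2) F} :
    g ∈ (T1 : Subgroup (SpecialLinearGroup (Fin 2) F)) ↔ ∃ x y : F, (g : Matrix (Fin 2) (Fin 2) F) = kap x y := Iff.rfl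

theorem T1_norm {g : SpecialLinearGroup (Fin 2) F} {x y : F} (hg : (g : Matrix (Fin 2) (Fin 2) F) = kap x y) :
    x ^ 2 + y ^ 2 = 1 := by
  rw [← det_kap, ← hg]
  exact g.det_coe

theorem T1_comm {g h : SpecialLinearGroup (Fin 2) F} (hg : g ∈ (T1 : Subgroup (SpecialLinearGroup (Fin 2) F))) (hh : h ∈ (T1 : Subgroup (SpecialLinearGroup (Fin 2) F))) :
    g * h = h * g := by
  obtain ⟨x, y, hg⟩ := hg
  obtain ⟨x', y', hh⟩ := hh
  apply Subtype.ext
  rw [Matrix.SpecialLinearGroup.coe_mul, Matrix.SpecialLinearGroup.coe_mul, hg, hh, kap_mul, kap_mul]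
  congr 1 <;> ring

theorem coe_inv_of_kap {g : SpecialLinearGroup (Fin 2) F} {x y : F} (hg : (g : Matrix (Fin 2) (Fin 2) F) = kap x y) :
    ((g⁻¹ : SpecialLinearGroup (Fin 2) F) : Matrix (Fin 2) (Fin 2) F) = kap x (-y) := by
  rw [Matrix.SpecialLinearGroup.coe_inv, hg, Matrix.adjugate_fin_two]
  unfold kap
  ext i j
  fin_cases i <;> fin_cases j <;> simp

/-- the `2`-part of the torus -/
def U : Subgroup (SpecialLinearGroup (Fin 2) F) where
  carrier := {g | g ∈ (T1 : Subgroup (SpecialLinearGroup (Fin 2) F)) ∧ ∃ k : ℕ, g ^ (2 ^ k) = 1}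
  one_mem' := ⟨T1.one_mem, 0, by simp⟩
  mul_mem' := by
    rintro g h ⟨hg, k, hk⟩ ⟨hh, l, hl⟩
    refine ⟨T1.mul_mem hg hh, k + l, ?_⟩
    have hc : Commute g h := T1_comm hg hh
    rw [hc.mul_pow, pow_add, pow_mul, hk, one_pow, mul_comm (2 ^ k), pow_mul, hl, one_pow, one_mul]
  inv_mem' := by
    rintro g ⟨hg, k, hk⟩
    exact ⟨T1.inv_mem hg, k, by rw [inv_pow, hk, inv_one]⟩

theorem mem_U {g : SpecialLinearGroup (Fin 2) F} :
    g ∈ (U : Subgroup (SpecialLinearGroup (Fin 2) F)) ↔ g ∈ (T1 : Subgroup (SpecialLinearGroup (Fin 2) F)) ∧ ∃ k : ℕ, g ^ (2 ^ k) = 1 := Iff.rfl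

theorem U_le_T1 : (U : Subgroup (SpecialLinearGroup (Fin 2) F)) ≤ T1 := fun _ h => h.1

/-- the element `x + yJ` of `SL₂` -/
def kS (x y : F) (h : x ^ 2 + y ^ 2 = 1) : SpecialLinearGroup (Fin 2) F := ⟨kap x y, by rw [det_kap]; exact h⟩

theorem kS_coe (x y : F) (h : x ^ 2 + y ^ 2 = 1) :
    ((kS x y h : SpecialLinearGroup (Fin 2) F) : Matrix (Fin 2) (Fin 2) F) = kap x y := rfl

theorem kS_mem_T1 (x y : F) (h : x ^ 2 + y ^ 2 = 1) : kS x y h ∈ (T1 : Subgroup (SpecialLinearGroup (Fin 2) F)) :=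
  ⟨x, y, rfl⟩

/-- the element `[[a,b],[b,-a]]` of `SL₂` -/
def LS (a b : F) (h : a ^ 2 + b ^ 2 = -1) : SpecialLinearGroup (Fin 2) F := ⟨L2 a b, by rw [det_L2, h, neg_neg]⟩

theorem LS_coe (a b : F) (h : a ^ 2 + b ^ 2 = -1) :
    ((LS a b h : SpecialLinearGroup (Fin 2) F) : Matrix (Fin 2) (Fin 2) F) = L2 a b := rfl

/-- the element `J` of `SL₂` -/
def J0S : SpecialLinearGroup (Fin 2) F := kS 0 1 (by ring)

theorem J0S_coe : ((J0S : SpecialLinearGroup (Fin 2) F) : Matrix (Fin 2) (Fin 2) F) = kap 0 1 := rfl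

theorem neg_one_coe : ((-1 : SpecialLinearGroup (Fin 2) F) : Matrix (Fin 2) (Fin 2) F) = kap (-1) 0 := by
  rw [Matrix.SpecialLinearGroup.coe_neg, Matrix.SpecialLinearGroup.coe_one]
  unfold kap
  ext i j
  fin_cases i <;> fin_cases j <;> simp

theorem neg_one_mul_neg_one : (-1 : SpecialLinearGroup (Fin 2) F) * (-1) = 1 := by
  rw [neg_mul_neg, one_mul]

theorem neg_one_mem_T1 : (-1 : SpecialLinearGroup (Fin 2) F) ∈ (T1 : Subgroup (SpecialLinearGroup (Fin 2) F)) := ⟨-1, 0, neg_one_coe⟩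

theorem neg_one_mem_U : (-1 : SpecialLinearGroup (Fin 2) F) ∈ (U : Subgroup (SpecialLinearGroup (Fin 2) F)) :=
  ⟨neg_one_mem_T1, 1, by rw [pow_one, pow_two, neg_one_mul_neg_one]⟩

theorem neg_one_ne_one (h2 : (2 : F) ≠ 0) : (-1 : SpecialLinearGroup (Fin 2) F) ≠ 1 := by
  intro h
  have h1 := congrArg (fun g : SpecialLinearGroup (Fin 2) F => (g : Matrix (Fin 2) (Fin 2) F) 0 0) h
  simp at h1
  apply h2
  linear_combination -h1

theorem neg_one_comm (g : SpecialLinearGroup (Fin 2) F) : (-1 : SpecialLinearGroup (Fin 2) F) * g = g * (-1) := by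
  rw [neg_one_mul, mul_neg_one]

theorem J0S_mul_J0S : (J0S : SpecialLinearGroup (Fin 2) F) * J0S = -1 := by
  apply Subtype.ext
  rw [Matrix.SpecialLinearGroup.coe_mul, J0S_coe, neg_one_coe, kap_mul]
  congr 1 <;> ring

theorem J0S_mem_T1 : (J0S : SpecialLinearGroup (Fin 2) F) ∈ (T1 : Subgroup (SpecialLinearGroup (Fin 2) F)) := kS_mem_T1 _ _ _

theorem J0S_mem_U : (J0S : SpecialLinearGroup (Fin 2) F) ∈ (U : Subgroup (SpecialLinearGroup (Fin 2) F)) := by
  refine ⟨J0S_mem_T1, 2, ?_⟩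
  have : (J0S : SpecialLinearGroup (Fin 2) F) ^ (2 ^ 2) = (J0S * J0S) * (J0S * J0S) := by
    norm_num [pow_succ, mul_assoc]
  rw [this, J0S_mul_J0S, neg_one_mul_neg_one]

theorem LS_mul_LS (a b : F) (h : a ^ 2 + b ^ 2 = -1) : LS a b h * LS a b h = -1 := by
  apply Subtype.ext
  rw [Matrix.SpecialLinearGroup.coe_mul, LS_coe, neg_one_coe, L2_mul_L2]
  congr 1
  · linear_combination h
  · ring

theorem LS_conj (a b : F) (h : a ^ 2 + b ^ 2 = -1) {t : SpecialLinearGroup (Fin 2) F} (ht : t ∈ (T1 : Subgroup (SpecialLinearGroup (Fin 2) F))) :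
    LS a b h * t = t⁻¹ * LS a b h := by
  obtain ⟨x, y, ht⟩ := ht
  apply Subtype.ext
  rw [Matrix.SpecialLinearGroup.coe_mul, Matrix.SpecialLinearGroup.coe_mul, coe_inv_of_kap ht, ht, LS_coe,
    L2_mul_kap, kap_mul_L2]
  congr 1 <;> ring

theorem LS_conj' (a b : F) (h : a ^ 2 + b ^ 2 = -1) {t : SpecialLinearGroup (Fin 2) F} (ht : t ∈ (T1 : Subgroup (SpecialLinearGroup (Fin 2) F))) :
    LS a b h * t * (LS a b h)⁻¹ = t⁻¹ := by
  rw [LS_conj a b h ht, mul_assoc, mul_inv_cancel, mul_one]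

theorem LS_conj'' (a b : F) (h : a ^ 2 + b ^ 2 = -1) {t : SpecialLinearGroup (Fin 2) F} (ht : t ∈ (T1 : Subgroup (SpecialLinearGroup (Fin 2) F))) :
    (LS a b h)⁻¹ * t * LS a b h = t⁻¹ := by
  have h1 := LS_conj a b h (T1.inv_mem ht)
  rw [inv_inv] at h1
  rw [mul_assoc, ← h1, ← mul_assoc, inv_mul_cancel, one_mul]

theorem LS_not_mem_T1 (h2 : (2 : F) ≠ 0) (a b : F) (h : a ^ 2 + b ^ 2 = -1) {u : SpecialLinearGroup (Fin 2) F}
    (hu : u ∈ (T1 : Subgroup (SpecialLinearGroup (Fin 2) F))) : u * LS a b h ∉ (T1 : Subgroup (SpecialLinearGroup (Fin 2) F)) := by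
  intro hc
  have h1 : LS a b h ∈ (T1 : Subgroup (SpecialLinearGroup (Fin 2) F)) := by
    have : LS a b h = u⁻¹ * (u * LS a b h) := by group
    rw [this]
    exact T1.mul_mem (T1.inv_mem hu) hc
  obtain ⟨x, y, hxy⟩ := h1
  rw [LS_coe] at hxy
  refine kap_ne_L2 h2 ?_ hxy.symm
  rw [h]
  simp

/-- involutions of `SL₂` are central -/
theorem eq_one_or_neg_one_of_mul_self (h2 : (2 : F) ≠ 0) (g : SpecialLinearGroup (Fin 2) F) (h : g * g = 1) :
    g = 1 ∨ g = -1 := by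
  obtain ⟨p, q, r, s, hg⟩ : ∃ p q r s : F, (g : Matrix (Fin 2) (Fin 2) F) = !![p, q; r, s] :=
    ⟨g 0 0, g 0 1, g 1 0, g 1 1, by ext i j; fin_cases i <;> fin_cases j <;> rfl⟩
  have hdet : p * s - q * r = 1 := by
    have := g.det_coe
    rw [hg, Matrix.det_fin_two] at this
    simpa using this
  have h1 := congrArg (fun g : SpecialLinearGroup (Fin 2) F => (g : Matrix (Fin 2) (Fin 2) F)) h
  simp only [Matrix.SpecialLinearGroup.coe_mul, Matrix.SpecialLinearGroup.coe_one, hg] at h1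
  have e1 := congrFun (congrFun h1 0) 0
  have e2 := congrFun (congrFun h1 0) 1
  have e3 := congrFun (congrFun h1 1) 0
  have e4 := congrFun (congrFun h1 1) 1
  simp [Matrix.mul_apply, Fin.sum_univ_two] at e1 e2 e3 e4
  have hps : p + s ≠ 0 := by
    intro h0
    have hs : s = -p := by linear_combination h0
    rw [hs] at hdet
    apply h2
    linear_combination -e1 - hdet
  have hq : q = 0 := by
    have : q * (p + s) = 0 := by linear_combination e2
    exact (mul_eq_zero.mp this).resolve_right hps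
  have hr : r = 0 := by
    have : r * (p + s) = 0 := by linear_combination e3
    exact (mul_eq_zero.mp this).resolve_right hps
  rw [hq, hr] at hdet e1 e4
  have hp2 : (p - 1) * (p + 1) = 0 := by linear_combination e1
  have hsp : s = p := by
    have hp0 : p ≠ 0 := by
      intro hp; rw [hp] at e1; simp at e1
    have : p * (s - p) = 0 := by linear_combination hdet - e1
    have := (mul_eq_zero.mp this).resolve_left hp0
    linear_combination this
  rcases mul_eq_zero.mp hp2 with h3 | h3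
  · left
    have hp : p = 1 := by linear_combination h3
    apply Subtype.ext
    rw [hg, hq, hr, hsp, hp, Matrix.SpecialLinearGroup.coe_one]
    ext i j
    fin_cases i <;> fin_cases j <;> simp
  · right
    have hp : p = -1 := by linear_combination h3
    apply Subtype.ext
    rw [hg, hq, hr, hsp, hp, Matrix.SpecialLinearGroup.coe_neg, Matrix.SpecialLinearGroup.coe_one]
    ext i j
    fin_cases i <;> fin_cases j <;> simp

section Q

variable (a b : F) (hab : a ^ 2 + b ^ 2 = -1)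

theorem LS_mem_normalizer_U :
    LS a b hab ∈ Subgroup.normalizer ((U : Subgroup (SpecialLinearGroup (Fin 2) F)) : Set (SpecialLinearGroup (Fin 2) F)) := by
  apply Cfsg.Agent.H9AF.mem_normalizer_of_conj_mem
  · intro u hu
    rw [LS_conj' a b hab (U_le_T1 hu)]
    exact U.inv_mem hu
  · intro u hu
    rw [LS_conj'' a b hab (U_le_T1 hu)]
    exact U.inv_mem hu

/-- the quaternion-type subgroup `U ∪ U L` -/
def Qs : Subgroup (SpecialLinearGroup (Fin 2) F) :=
  extTwo U (LS a b hab) (by rw [LS_mul_LS]; exact neg_one_mem_U) (LS_mem_normalizer_U a b hab)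

theorem mem_Qs {g : SpecialLinearGroup (Fin 2) F} :
    g ∈ Qs a b hab ↔ g ∈ (U : Subgroup (SpecialLinearGroup (Fin 2) F)) ∨ ∃ u ∈ (U : Subgroup (SpecialLinearGroup (Fin 2) F)), g = u * LS a b hab :=
  mem_extTwo

theorem U_le_Qs : (U : Subgroup (SpecialLinearGroup (Fin 2) F)) ≤ Qs a b hab := le_extTwo

theorem LS_mem_Qs : LS a b hab ∈ Qs a b hab := self_mem_extTwo

theorem neg_one_mem_Qs : (-1 : SpecialLinearGroup (Fin 2) F) ∈ Qs a b hab := U_le_Qs a b hab neg_one_mem_U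

theorem J0S_mem_Qs : (J0S : SpecialLinearGroup (Fin 2) F) ∈ Qs a b hab := U_le_Qs a b hab J0S_mem_U

theorem UL_sq {u : SpecialLinearGroup (Fin 2) F} (hu : u ∈ (T1 : Subgroup (SpecialLinearGroup (Fin 2) F))) :
    (u * LS a b hab) * (u * LS a b hab) = -1 := by
  have h1 : (u * LS a b hab) * (u * LS a b hab) = u * (LS a b hab * u) * LS a b hab := by group
  rw [h1, LS_conj a b hab hu, ← mul_assoc, mul_inv_cancel, one_mul, LS_mul_LS]

theorem Qs_inf_T1 (h2 : (2 : F) ≠ 0) {g : SpecialLinearGroup (Fin 2) F} (hg : g ∈ Qs a b hab)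
    (hgT : g ∈ (T1 : Subgroup (SpecialLinearGroup (Fin 2) F))) : g ∈ (U : Subgroup (SpecialLinearGroup (Fin 2) F)) := by
  rcases (mem_Qs a b hab).mp hg with h | ⟨u, hu, rfl⟩
  · exact h
  · exact absurd hgT (LS_not_mem_T1 h2 a b hab (U_le_T1 hu))

theorem Qs_pow {g : SpecialLinearGroup (Fin 2) F} (hg : g ∈ Qs a b hab) : ∃ k : ℕ, g ^ (2 ^ k) = 1 := by
  rcases (mem_Qs a b hab).mp hg with h | ⟨u, hu, rfl⟩
  · exact h.2
  · refine ⟨2, ?_⟩
    have : (u * LS a b hab) ^ (2 ^ 2) =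
        ((u * LS a b hab) * (u * LS a b hab)) * ((u * LS a b hab) * (u * LS a b hab)) := by
      norm_num [pow_succ, mul_assoc]
    rw [this, UL_sq a b hab (U_le_T1 hu), neg_one_mul_neg_one]

/-- elements of `U L` are of the form `[[a',b'],[b',-a']]` -/
theorem exists_LS_of_UL {u : SpecialLinearGroup (Fin 2) F} (hu : u ∈ (T1 : Subgroup (SpecialLinearGroup (Fin 2) F))) :
    ∃ (a' b' : F) (h' : a' ^ 2 + b' ^ 2 = -1), u * LS a b hab = LS a' b' h' := by
  obtain ⟨x, y, hxy⟩ := hu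
  have hn := T1_norm hxy
  refine ⟨x * a - y * b, x * b + y * a, ?_, ?_⟩
  · linear_combination (a ^ 2 + b ^ 2) * hn + hab
  · apply Subtype.ext
    rw [Matrix.SpecialLinearGroup.coe_mul, hxy, LS_coe, LS_coe, kap_mul_L2]

end Q

end Cfsg.Agent.H9S4
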