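import Mathlib
import Cfsg.Agent.Lib.Helper9.Sp4Fus2

set_option autoImplicit false

/-!
# Elements of `SL₂` normalising the quaternion-type subgroup
-/

namespace Cfsg.Agent.H9S4

open Matrix Cfsg.Agent.H9L3

variable {F : Type*} [Field F]

theorem eq_one_of_pow_three_of_pow_two {G : Type*} [Group G] (g : G) (h3 : g ^ 3 = 1) (k : ℕ)
    (hk : g ^ (2 ^ k) = 1) : g = 1 := by
  have h1 : orderOf g ∣ 3 := orderOf_dvd_of_pow_eq_one h3
  have h2 : orderOf g ∣ 2 ^ k := orderOf_dvd_of_pow_eq_one hk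
  have h3 : Nat.Coprime 3 (2 ^ k) := Nat.Coprime.pow_right k (by norm_num)
  have h4 : orderOf g ∣ 1 := by
    have := Nat.dvd_gcd h1 h2
    rwa [h3] at this
  exact orderOf_eq_one_iff.mp (Nat.dvd_one.mp h4)

section Q

variable (h2 : (2 : F) ≠ 0) (a b : F) (hab : a ^ 2 + b ^ 2 = -1)

include h2 in
/-- an element of the torus conjugating `L` into `Q` lies in `U` -/
theorem mem_U_of_T1_of_conj {t : SpecialLinearGroup (Fin 2) F}
    (ht : t ∈ (T1 : Subgroup (SpecialLinearGroup (Fin 2) F)))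
    (h : t * LS a b hab * t⁻¹ ∈ Qs a b hab) : t ∈ (U : Subgroup (SpecialLinearGroup (Fin 2) F)) := by
  have h1 : t * LS a b hab * t⁻¹ = (t * t) * LS a b hab := by
    have := LS_conj a b hab (T1.inv_mem ht)
    rw [inv_inv] at this
    rw [mul_assoc, this]
    group
  rw [h1] at h
  have h3 : t * t ∈ Qs a b hab := by
    have e : t * t = (t * t) * LS a b hab * (LS a b hab)⁻¹ := by group
    rw [e]
    exact (Qs a b hab).mul_mem h ((Qs a b hab).inv_mem (LS_mem_Qs a b hab))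
  obtain ⟨-, k, hk⟩ := Qs_inf_T1 a b hab h2 h3 (T1.mul_mem ht ht)
  refine ⟨ht, k + 1, ?_⟩
  rw [pow_succ, mul_comm, pow_mul, pow_two]
  exact hk

include h2 in
/-- (N4) -/
theorem mem_Qs_of_normalizes (x : SpecialLinearGroup (Fin 2) F)
    (hx : ∀ y ∈ Qs a b hab, x * y * x⁻¹ ∈ Qs a b hab)
    (c : SpecialLinearGroup (Fin 2) F) (α β : F)
    (hc : (c : Matrix (Fin 2) (Fin 2) F) = kap α β) (hβ : β ≠ 0)
    (hcx : x * c * x⁻¹ ∈ (T1 : Subgroup (SpecialLinearGroup (Fin 2) F))) : x ∈ Qs a b hab := by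
  obtain ⟨v, hvdef⟩ : ∃ v, v = x * c * x⁻¹ := ⟨_, rfl⟩
  rw [← hvdef] at hcx
  obtain ⟨x', y', hv⟩ := hcx
  have h1 : x * c = v * x := by rw [hvdef]; group
  have h3 := congrArg (fun g : SpecialLinearGroup (Fin 2) F => (g : Matrix (Fin 2) (Fin 2) F)) h1
  simp only [Matrix.SpecialLinearGroup.coe_mul] at h3
  rw [hv, hc] at h3
  have hdet : (x : Matrix (Fin 2) (Fin 2) F).det ≠ 0 := by
    rw [x.det_coe]; exact one_ne_zero
  have hxL := hx _ (LS_mem_Qs a b hab)
  rcases conj_kap h2 _ hdet α β x' y' hβ h3 with ⟨p, r, hpr⟩ | ⟨p, q, hpq⟩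
  · have hxT : x ∈ (T1 : Subgroup (SpecialLinearGroup (Fin 2) F)) := ⟨p, r, hpr⟩
    exact U_le_Qs a b hab (mem_U_of_T1_of_conj h2 a b hab hxT hxL)
  · have hn : p ^ 2 + q ^ 2 = -1 := by
      have := x.det_coe
      rw [hpq, det_L2] at this
      linear_combination -this
    have hLinv : (LS a b hab)⁻¹ = -LS a b hab := by
      apply inv_eq_of_mul_eq_one_right
      rw [mul_neg, LS_mul_LS, neg_neg]
    have htT : x * (LS a b hab)⁻¹ ∈ (T1 : Subgroup (SpecialLinearGroup (Fin 2) F)) := by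
      rw [hLinv]
      refine ⟨-(p * a + q * b), -(q * a - p * b), ?_⟩
      rw [Matrix.SpecialLinearGroup.coe_mul, Matrix.SpecialLinearGroup.coe_neg, LS_coe, hpq,
        Matrix.mul_neg, L2_mul_L2]
      unfold kap
      ext i j
      fin_cases i <;> fin_cases j <;> simp
    have htL : (x * (LS a b hab)⁻¹) * LS a b hab * (x * (LS a b hab)⁻¹)⁻¹ ∈ Qs a b hab := by
      have e : (x * (LS a b hab)⁻¹) * LS a b hab * (x * (LS a b hab)⁻¹)⁻¹ =
          x * LS a b hab * x⁻¹ := by group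
      rw [e]; exact hxL
    have hU := mem_U_of_T1_of_conj h2 a b hab htT htL
    have e : x = (x * (LS a b hab)⁻¹) * LS a b hab := by group
    rw [e]
    exact (Qs a b hab).mul_mem (U_le_Qs a b hab hU) (LS_mem_Qs a b hab)

include h2 in
/-- if `2` is a square, then `Q` is self-normalising in `SL₂` -/
theorem normalizer_Qs_of_sq (s : F) (hs : s ^ 2 = 2) (x : SpecialLinearGroup (Fin 2) F)
    (hx : ∀ y ∈ Qs a b hab, x * y * x⁻¹ ∈ Qs a b hab) : x ∈ Qs a b hab := by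
  have hs0 : s ≠ 0 := by
    intro h0; rw [h0] at hs; apply h2; rw [← hs]; ring
  have hn : (1 / s) ^ 2 + (1 / s) ^ 2 = 1 := by
    field_simp
    linear_combination -hs
  have hu0 : kS (1 / s) (1 / s) hn * kS (1 / s) (1 / s) hn = J0S := by
    apply Subtype.ext
    rw [Matrix.SpecialLinearGroup.coe_mul, kS_coe, J0S_coe, kap_mul]
    congr 1
    · ring
    · field_simp
      linear_combination -hs
  have hu0U : kS (1 / s) (1 / s) hn ∈ (U : Subgroup (SpecialLinearGroup (Fin 2) F)) := by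
    refine ⟨kS_mem_T1 _ _ _, 3, ?_⟩
    have e : ∀ g : SpecialLinearGroup (Fin 2) F, g ^ (2 ^ 3) = ((g * g) * (g * g)) * ((g * g) * (g * g)) := by
      intro g
      norm_num [pow_succ, mul_assoc]
    rw [e, hu0, J0S_mul_J0S, neg_one_mul_neg_one]
  obtain ⟨u0, hu0def⟩ : ∃ u0, u0 = kS (1 / s) (1 / s) hn := ⟨_, rfl⟩
  rw [← hu0def] at hu0 hu0U
  have hv := hx u0 (U_le_Qs a b hab hu0U)
  apply mem_Qs_of_normalizes h2 a b hab x hx u0 (1 / s) (1 / s) (by rw [hu0def]; rfl)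
    (by simp [hs0])
  rcases (mem_Qs a b hab).mp hv with h | ⟨u, hu, hvu⟩
  · exact U_le_T1 h
  · exfalso
    have h4 : (x * u0 * x⁻¹) * (x * u0 * x⁻¹) = -1 := by
      rw [hvu]; exact UL_sq a b hab (U_le_T1 hu)
    have h5 : (x * u0 * x⁻¹) * (x * u0 * x⁻¹) = x * J0S * x⁻¹ := by
      rw [← hu0]; group
    have h6 : (x * J0S * x⁻¹) * (x * J0S * x⁻¹) = 1 := by
      rw [← h5, h4, neg_one_mul_neg_one]
    have h7 : (x * J0S * x⁻¹) * (x * J0S * x⁻¹) = x * (J0S * J0S) * x⁻¹ := by group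
    rw [h7, J0S_mul_J0S] at h6
    have h8 : (-1 : SpecialLinearGroup (Fin 2) F) = 1 := by
      have : (-1 : SpecialLinearGroup (Fin 2) F) = x⁻¹ * (x * (-1) * x⁻¹) * x := by group
      rw [this, h6]; group
    exact neg_one_ne_one h2 h8

end Q

end Cfsg.Agent.H9S4
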