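import Mathlib
import Cfsg.Agent.Lib.Helper9.Sp4Fus3

set_option autoImplicit false

/-!
# The case where `2` is not a square: the quaternion group of order `8` and its normaliser
-/

namespace Cfsg.Agent.H9S4

open Matrix Cfsg.Agent.H9L3

variable {F : Type*} [Field F]

theorem k3_R1 (h2 : (2 : F) ≠ 0) (a b : F) (hab : a ^ 2 + b ^ 2 = -1) :
    k3Mat a b * kap 0 1 = L2 a b * k3Mat a b := by
  unfold k3Mat kap L2
  ext i j
  fin_cases i <;> fin_cases j <;> simp [Matrix.mul_apply, Fin.sum_univ_two] <;> field_simp <;>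
    first
      | linear_combination hab
      | linear_combination -hab
      | linear_combination (2 : F) * hab
      | linear_combination (-2 : F) * hab
      | ring

theorem k3_R2 (h2 : (2 : F) ≠ 0) (a b : F) :
    k3Mat a b * L2 a b = (kap 0 1 * L2 a b) * k3Mat a b := by
  unfold k3Mat kap L2
  ext i j
  fin_cases i <;> fin_cases j <;> simp [Matrix.mul_apply, Fin.sum_univ_two] <;> field_simp <;>
    ring

theorem k3_R3 (h2 : (2 : F) ≠ 0) (a b : F) (hab : a ^ 2 + b ^ 2 = -1) :
    k3Mat a b * (kap 0 1 * L2 a b) = kap 0 1 * k3Mat a b := by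
  unfold k3Mat kap L2
  ext i j
  fin_cases i <;> fin_cases j <;> simp [Matrix.mul_apply, Fin.sum_univ_two] <;> field_simp <;>
    first
      | linear_combination hab
      | linear_combination -hab
      | linear_combination (2 : F) * hab
      | linear_combination (-2 : F) * hab
      | ring

theorem k3_R4 (h2 : (2 : F) ≠ 0) (a b : F) (hab : a ^ 2 + b ^ 2 = -1) :
    k3Mat a b * k3Mat a b = -1 - k3Mat a b := by
  unfold k3Mat
  ext i j
  fin_cases i <;> fin_cases j <;> simp [Matrix.mul_apply, Fin.sum_univ_two] <;> field_simp <;>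
    first
      | linear_combination hab
      | linear_combination -hab
      | linear_combination (2 : F) * hab
      | linear_combination (-2 : F) * hab
      | linear_combination (4 : F) * hab
      | linear_combination (-4 : F) * hab
      | ring

/-- the element of order three of `SL₂` normalising the quaternion group -/
def k3S (h2 : (2 : F) ≠ 0) (a b : F) (hab : a ^ 2 + b ^ 2 = -1) : SpecialLinearGroup (Fin 2) F :=
  ⟨k3Mat a b, det_k3Mat h2 a b hab⟩

theorem k3S_coe (h2 : (2 : F) ≠ 0) (a b : F) (hab : a ^ 2 + b ^ 2 = -1) :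
    ((k3S h2 a b hab : SpecialLinearGroup (Fin 2) F) : Matrix (Fin 2) (Fin 2) F) = k3Mat a b := rfl

section Q

variable (h2 : (2 : F) ≠ 0) (a b : F) (hab : a ^ 2 + b ^ 2 = -1)

theorem k3S_mul_J0S : k3S h2 a b hab * J0S = LS a b hab * k3S h2 a b hab := by
  apply Subtype.ext
  rw [Matrix.SpecialLinearGroup.coe_mul, Matrix.SpecialLinearGroup.coe_mul, k3S_coe, J0S_coe,
    LS_coe, k3_R1 h2 a b hab]

theorem k3S_mul_LS : k3S h2 a b hab * LS a b hab = (J0S * LS a b hab) * k3S h2 a b hab := by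
  apply Subtype.ext
  rw [Matrix.SpecialLinearGroup.coe_mul, Matrix.SpecialLinearGroup.coe_mul,
    Matrix.SpecialLinearGroup.coe_mul, k3S_coe, J0S_coe, LS_coe, k3_R2 h2 a b]

theorem k3S_mul_K : k3S h2 a b hab * (J0S * LS a b hab) = J0S * k3S h2 a b hab := by
  apply Subtype.ext
  rw [Matrix.SpecialLinearGroup.coe_mul, Matrix.SpecialLinearGroup.coe_mul,
    Matrix.SpecialLinearGroup.coe_mul, k3S_coe, J0S_coe, LS_coe, k3_R3 h2 a b hab]

theorem k3S_pow_three : k3S h2 a b hab ^ 3 = 1 := by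
  apply Subtype.ext
  rw [Matrix.SpecialLinearGroup.coe_pow, k3S_coe, Matrix.SpecialLinearGroup.coe_one, pow_succ,
    pow_two, k3_R4 h2 a b hab, sub_mul, neg_mul, one_mul, k3_R4 h2 a b hab]
  abel

theorem k3S_conj_J0S : k3S h2 a b hab * J0S * (k3S h2 a b hab)⁻¹ = LS a b hab := by
  rw [k3S_mul_J0S, mul_assoc, mul_inv_cancel, mul_one]

theorem k3S_conj_LS : k3S h2 a b hab * LS a b hab * (k3S h2 a b hab)⁻¹ = J0S * LS a b hab := by
  rw [k3S_mul_LS, mul_assoc, mul_inv_cancel, mul_one]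

theorem k3S_conj_K : k3S h2 a b hab * (J0S * LS a b hab) * (k3S h2 a b hab)⁻¹ = J0S := by
  rw [k3S_mul_K, mul_assoc, mul_inv_cancel, mul_one]

theorem k3S_inv_conj_LS : (k3S h2 a b hab)⁻¹ * LS a b hab * (k3S h2 a b hab)⁻¹⁻¹ = J0S := by
  rw [inv_inv, mul_assoc, ← k3S_mul_J0S, ← mul_assoc, inv_mul_cancel, one_mul]

theorem k3S_inv_conj_K :
    (k3S h2 a b hab)⁻¹ * (J0S * LS a b hab) * (k3S h2 a b hab)⁻¹⁻¹ = LS a b hab := by
  rw [inv_inv, mul_assoc, ← k3S_mul_LS, ← mul_assoc, inv_mul_cancel, one_mul]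

theorem k3S_inv_conj_J0S :
    (k3S h2 a b hab)⁻¹ * J0S * (k3S h2 a b hab)⁻¹⁻¹ = J0S * LS a b hab := by
  rw [inv_inv, mul_assoc, ← k3S_mul_K, ← mul_assoc, inv_mul_cancel, one_mul]

include h2 in
theorem k3S_not_mem_Qs : k3S h2 a b hab ∉ Qs a b hab := by
  intro h
  obtain ⟨k, hk⟩ := Qs_pow a b hab h
  have h1 := eq_one_of_pow_three_of_pow_two _ (k3S_pow_three h2 a b hab) k hk
  have h3 := k3S_conj_J0S h2 a b hab
  rw [h1, one_mul, inv_one, mul_one] at h3
  have h4 := LS_not_mem_T1 h2 a b hab (T1.one_mem)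
  rw [one_mul, ← h3] at h4
  exact h4 J0S_mem_T1

include h2 in
/-- if `2` is not a square then `U = {±1, ±J}` -/
theorem U_small (hns : ∀ s : F, s ^ 2 ≠ 2) (u : SpecialLinearGroup (Fin 2) F)
    (hu : u ∈ (U : Subgroup (SpecialLinearGroup (Fin 2) F))) :
    u = 1 ∨ u = -1 ∨ u = J0S ∨ u = -J0S := by
  obtain ⟨hT, k, hk⟩ := hu
  induction k generalizing u with
  | zero => left; simpa using hk
  | succ k ih =>
    have h1 : (u * u) ^ (2 ^ k) = 1 := by
      rw [← pow_two, ← pow_mul, ← pow_succ']; exact hk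
    obtain ⟨x, y, hxy⟩ := hT
    have hn := T1_norm hxy
    have hsq : ((u * u : SpecialLinearGroup (Fin 2) F) : Matrix (Fin 2) (Fin 2) F) =
        kap (x * x - y * y) (x * y + y * x) := by
      rw [Matrix.SpecialLinearGroup.coe_mul, hxy, kap_mul]
    have hbad : x * x - y * y = 0 → (x * y + y * x = 1 ∨ x * y + y * x = -1) → False := by
      intro e1 _
      have hx2 : 2 * x ^ 2 = 1 := by linear_combination hn + e1
      have hx0 : x ≠ 0 := by
        intro h0; rw [h0] at hx2; simp at hx2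
      apply hns x⁻¹
      field_simp
      linear_combination -hx2
    rcases ih (u * u) (T1.mul_mem ⟨x, y, hxy⟩ ⟨x, y, hxy⟩) h1 with h | h | h | h
    · rcases eq_one_or_neg_one_of_mul_self h2 u h with h' | h'
      · left; exact h'
      · right; left; exact h'
    · rw [h, neg_one_coe] at hsq
      obtain ⟨e1, e2⟩ := kap_injective hsq
      have hx : x = 0 := by
        have : (2 : F) * (x * x) = 0 := by linear_combination hn - e1
        have := (mul_eq_zero.mp this).resolve_left h2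
        exact mul_self_eq_zero.mp this
      rw [hx] at hn
      have hy : (y - 1) * (y + 1) = 0 := by linear_combination hn
      rcases mul_eq_zero.mp hy with h3 | h3
      · right; right; left
        apply Subtype.ext
        rw [hxy, J0S_coe, hx]
        congr 1
        linear_combination h3
      · right; right; right
        apply Subtype.ext
        rw [hxy, Matrix.SpecialLinearGroup.coe_neg, J0S_coe, hx]
        have hy' : y = -1 := by linear_combination h3
        rw [hy']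
        unfold kap
        ext i j
        fin_cases i <;> fin_cases j <;> simp
    · exfalso
      rw [h, J0S_coe] at hsq
      obtain ⟨e1, e2⟩ := kap_injective hsq
      exact hbad e1.symm (Or.inl e2.symm)
    · exfalso
      have h' : ((-J0S : SpecialLinearGroup (Fin 2) F) : Matrix (Fin 2) (Fin 2) F) = kap 0 (-1) := by
        rw [Matrix.SpecialLinearGroup.coe_neg, J0S_coe]
        unfold kap
        ext i j
        fin_cases i <;> fin_cases j <;> simp
      rw [h, h'] at hsq
      obtain ⟨e1, e2⟩ := kap_injective hsq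
      exact hbad e1.symm (Or.inr e2.symm)

include h2 in
theorem conj_mem_Qs_of_gens (hns : ∀ s : F, s ^ 2 ≠ 2) (w : SpecialLinearGroup (Fin 2) F)
    (hJ : w * J0S * w⁻¹ ∈ Qs a b hab) (hL : w * LS a b hab * w⁻¹ ∈ Qs a b hab) :
    ∀ y ∈ Qs a b hab, w * y * w⁻¹ ∈ Qs a b hab := by
  have hU : ∀ u ∈ (U : Subgroup (SpecialLinearGroup (Fin 2) F)), w * u * w⁻¹ ∈ Qs a b hab := by
    intro u hu
    rcases U_small h2 hns u hu with rfl | rfl | rfl | rfl
    · rw [mul_one, mul_inv_cancel]; exact (Qs a b hab).one_mem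
    · rw [mul_neg_one, neg_mul, mul_inv_cancel]; exact neg_one_mem_Qs a b hab
    · exact hJ
    · rw [mul_neg, neg_mul, ← neg_one_mul]
      exact (Qs a b hab).mul_mem (neg_one_mem_Qs a b hab) hJ
  intro y hy
  rcases (mem_Qs a b hab).mp hy with h | ⟨u, hu, rfl⟩
  · exact hU y h
  · have e : w * (u * LS a b hab) * w⁻¹ = (w * u * w⁻¹) * (w * LS a b hab * w⁻¹) := by group
    rw [e]
    exact (Qs a b hab).mul_mem (hU u hu) hL

include h2 in
theorem k3S_conj_mem (hns : ∀ s : F, s ^ 2 ≠ 2) :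
    ∀ y ∈ Qs a b hab, k3S h2 a b hab * y * (k3S h2 a b hab)⁻¹ ∈ Qs a b hab := by
  apply conj_mem_Qs_of_gens h2 a b hab hns
  · rw [k3S_conj_J0S]; exact LS_mem_Qs a b hab
  · rw [k3S_conj_LS]
    exact (Qs a b hab).mul_mem (J0S_mem_Qs a b hab) (LS_mem_Qs a b hab)

include h2 in
theorem k3S_inv_conj_mem (hns : ∀ s : F, s ^ 2 ≠ 2) :
    ∀ y ∈ Qs a b hab, (k3S h2 a b hab)⁻¹ * y * (k3S h2 a b hab)⁻¹⁻¹ ∈ Qs a b hab := by
  apply conj_mem_Qs_of_gens h2 a b hab hns
  · rw [k3S_inv_conj_J0S]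
    exact (Qs a b hab).mul_mem (J0S_mem_Qs a b hab) (LS_mem_Qs a b hab)
  · rw [k3S_inv_conj_LS]; exact J0S_mem_Qs a b hab

include h2 in
/-- if `2` is not a square, the normaliser of `Q` in `SL₂` is `Q ⟨ω⟩` -/
theorem normalizer_Qs_of_nonsq (hns : ∀ s : F, s ^ 2 ≠ 2) (x : SpecialLinearGroup (Fin 2) F)
    (hx : ∀ y ∈ Qs a b hab, x * y * x⁻¹ ∈ Qs a b hab) :
    x ∈ Qs a b hab ∨ (k3S h2 a b hab)⁻¹ * x ∈ Qs a b hab ∨ k3S h2 a b hab * x ∈ Qs a b hab := by
  have key : ∀ w : SpecialLinearGroup (Fin 2) F, (∀ y ∈ Qs a b hab, w * y * w⁻¹ ∈ Qs a b hab) →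
      w * (x * J0S * x⁻¹) * w⁻¹ ∈ (T1 : Subgroup (SpecialLinearGroup (Fin 2) F)) →
      w * x ∈ Qs a b hab := by
    intro w hw hwT
    apply mem_Qs_of_normalizes h2 a b hab (w * x) _ J0S 0 1 J0S_coe one_ne_zero
    · have e : w * x * J0S * (w * x)⁻¹ = w * (x * J0S * x⁻¹) * w⁻¹ := by group
      rw [e]; exact hwT
    · intro y hy
      have e : w * x * y * (w * x)⁻¹ = w * (x * y * x⁻¹) * w⁻¹ := by group
      rw [e]
      exact hw _ (hx y hy)
  have hnegT : ∀ g : SpecialLinearGroup (Fin 2) F,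
      g ∈ (T1 : Subgroup (SpecialLinearGroup (Fin 2) F)) →
      -g ∈ (T1 : Subgroup (SpecialLinearGroup (Fin 2) F)) := by
    intro g hg
    rw [← neg_one_mul]
    exact T1.mul_mem neg_one_mem_T1 hg
  have hv := hx J0S (J0S_mem_Qs a b hab)
  rcases (mem_Qs a b hab).mp hv with h | ⟨u, hu, hvu⟩
  · left
    have := key 1 (by intro y hy; simpa using hy) (by simpa using U_le_T1 h)
    simpa using this
  · rcases U_small h2 hns u hu with rfl | rfl | rfl | rfl
    · right; left
      apply key _ (k3S_inv_conj_mem h2 a b hab hns)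
      rw [hvu, one_mul, k3S_inv_conj_LS]
      exact J0S_mem_T1
    · right; left
      apply key _ (k3S_inv_conj_mem h2 a b hab hns)
      rw [hvu, neg_one_mul, mul_neg, neg_mul, k3S_inv_conj_LS]
      exact hnegT _ J0S_mem_T1
    · right; right
      apply key _ (k3S_conj_mem h2 a b hab hns)
      rw [hvu, k3S_conj_K]
      exact J0S_mem_T1
    · right; right
      apply key _ (k3S_conj_mem h2 a b hab hns)
      rw [hvu, neg_mul, mul_neg, neg_mul, k3S_conj_K]
      exact hnegT _ J0S_mem_T1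

end Q

end Cfsg.Agent.H9S4
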