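import Mathlib
import Cfsg.Agent.Lib.Helper9.Sp4Fus4

set_option autoImplicit false

/-!
# Kronecker-type products in `Sp₄`
-/

namespace Cfsg.Agent.H9S4

open Matrix Cfsg.Agent.H9L3

variable {F : Type*} [Field F]

/-- the Kronecker-type product: `X` acts on the hyperbolic index, `B` on the `Fin 2` index -/
def kron (X B : Matrix (Fin 2) (Fin 2) F) : Matrix (Fin 2 ⊕ Fin 2) (Fin 2 ⊕ Fin 2) F :=
  fromBlocks (X 0 0 • B) (X 0 1 • B) (X 1 0 • B) (X 1 1 • B)

@[simp] theorem kron_inl_inl (X B : Matrix (Fin 2) (Fin 2) F) (i j : Fin 2) :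
    kron X B (Sum.inl i) (Sum.inl j) = X 0 0 * B i j := by simp [kron]

@[simp] theorem kron_inl_inr (X B : Matrix (Fin 2) (Fin 2) F) (i j : Fin 2) :
    kron X B (Sum.inl i) (Sum.inr j) = X 0 1 * B i j := by simp [kron]

@[simp] theorem kron_inr_inl (X B : Matrix (Fin 2) (Fin 2) F) (i j : Fin 2) :
    kron X B (Sum.inr i) (Sum.inl j) = X 1 0 * B i j := by simp [kron]

@[simp] theorem kron_inr_inr (X B : Matrix (Fin 2) (Fin 2) F) (i j : Fin 2) :
    kron X B (Sum.inr i) (Sum.inr j) = X 1 1 * B i j := by simp [kron]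

theorem kron_mul (X B X' B' : Matrix (Fin 2) (Fin 2) F) :
    kron X B * kron X' B' = kron (X * X') (B * B') := by
  unfold kron
  rw [fromBlocks_multiply]
  simp only [Matrix.smul_mul, Matrix.mul_smul, smul_smul, ← add_smul, Matrix.mul_apply,
    Fin.sum_univ_two]
  simp only [mul_comm]

theorem kron_add_left (X X' B : Matrix (Fin 2) (Fin 2) F) :
    kron (X + X') B = kron X B + kron X' B := by
  unfold kron
  rw [fromBlocks_add]
  simp only [Matrix.add_apply, add_smul]

theorem kron_add_right (X B B' : Matrix (Fin 2) (Fin 2) F) :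
    kron X (B + B') = kron X B + kron X B' := by
  unfold kron
  rw [fromBlocks_add]
  simp only [smul_add]

theorem kron_smul_left (c : F) (X B : Matrix (Fin 2) (Fin 2) F) :
    kron (c • X) B = c • kron X B := by
  unfold kron
  rw [fromBlocks_smul]
  simp only [Matrix.smul_apply, smul_eq_mul, smul_smul]

theorem kron_smul_right (c : F) (X B : Matrix (Fin 2) (Fin 2) F) :
    kron X (c • B) = c • kron X B := by
  unfold kron
  rw [fromBlocks_smul]
  simp only [smul_smul, mul_comm]

theorem kron_neg_left (X B : Matrix (Fin 2) (Fin 2) F) : kron (-X) B = -kron X B := by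
  have := kron_smul_left (-1 : F) X B
  simpa using this

theorem kron_neg_right (X B : Matrix (Fin 2) (Fin 2) F) : kron X (-B) = -kron X B := by
  have := kron_smul_right (-1 : F) X B
  simpa using this

theorem kron_zero_right (X : Matrix (Fin 2) (Fin 2) F) : kron X 0 = 0 := by
  unfold kron
  simp

theorem kron_one_one : kron (1 : Matrix (Fin 2) (Fin 2) F) 1 = 1 := by
  unfold kron
  simp

theorem kron_transpose (X B : Matrix (Fin 2) (Fin 2) F) : (kron X B)ᵀ = kron Xᵀ Bᵀ := by
  unfold kron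
  rw [fromBlocks_transpose]
  simp only [Matrix.transpose_smul, Matrix.transpose_apply]

theorem kron_left_injective {X X' : Matrix (Fin 2) (Fin 2) F} (h : kron X 1 = kron X' 1) :
    X = X' := by
  ext i j
  fin_cases i <;> fin_cases j
  · have := congrFun (congrFun h (Sum.inl 0)) (Sum.inl 0); simpa using this
  · have := congrFun (congrFun h (Sum.inl 0)) (Sum.inr 0); simpa using this
  · have := congrFun (congrFun h (Sum.inr 0)) (Sum.inl 0); simpa using this
  · have := congrFun (congrFun h (Sum.inr 0)) (Sum.inr 0); simpa using this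

theorem J_eq_kron : J (Fin 2) F = kron (kap 0 1) 1 := by
  unfold kron kap J
  simp

theorem kron_mem (X B : Matrix (Fin 2) (Fin 2) F) (h : X.det • (B * Bᵀ) = 1) :
    kron X B ∈ symplecticGroup (Fin 2) F := by
  rw [SymplecticGroup.mem_iff, J_eq_kron, kron_transpose, kron_mul, kron_mul, mul_J_mul_transpose,
    mul_one, kron_smul_left, ← kron_smul_right, h]

/-- the block-diagonal element with `x` on `⟨e₁,f₁⟩` and `x'` on `⟨e₂,f₂⟩` -/
def Emat (x x' : Matrix (Fin 2) (Fin 2) F) : Matrix (Fin 2 ⊕ Fin 2) (Fin 2 ⊕ Fin 2) F :=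
  kron x e11 + kron x' e22

theorem Emat_mul (x x' y y' : Matrix (Fin 2) (Fin 2) F) :
    Emat x x' * Emat y y' = Emat (x * y) (x' * y') := by
  unfold Emat
  rw [Matrix.add_mul, Matrix.mul_add, Matrix.mul_add, kron_mul, kron_mul, kron_mul, kron_mul,
    e11_mul_e11, e22_mul_e22, e11_mul_e22, e22_mul_e11, kron_zero_right, kron_zero_right, add_zero,
    zero_add]

theorem Emat_same (x : Matrix (Fin 2) (Fin 2) F) : Emat x x = kron x 1 := by
  unfold Emat
  rw [← kron_add_right, e11_add_e22]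

theorem Emat_one : Emat (1 : Matrix (Fin 2) (Fin 2) F) 1 = 1 := by
  rw [Emat_same, kron_one_one]

theorem Emat_neg (x x' : Matrix (Fin 2) (Fin 2) F) : Emat (-x) (-x') = -Emat x x' := by
  unfold Emat
  rw [kron_neg_left, kron_neg_left, neg_add]

theorem Emat_mul_J_mul_transpose (x x' : Matrix (Fin 2) (Fin 2) F) :
    Emat x x' * J (Fin 2) F * (Emat x x')ᵀ = Emat (x.det • kap 0 1) (x'.det • kap 0 1) := by
  have h1 : (Emat x x')ᵀ = Emat xᵀ x'ᵀ := by
    unfold Emat
    rw [Matrix.transpose_add, kron_transpose, kron_transpose, e11_transpose, e22_transpose]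
  have h3 : J (Fin 2) F = Emat (kap 0 1) (kap 0 1) := by rw [Emat_same, J_eq_kron]
  rw [h1, h3, Emat_mul, Emat_mul, mul_J_mul_transpose, mul_J_mul_transpose]

theorem Emat_mem {x x' : Matrix (Fin 2) (Fin 2) F} (hx : x.det = 1) (hx' : x'.det = 1) :
    Emat x x' ∈ symplecticGroup (Fin 2) F := by
  rw [SymplecticGroup.mem_iff, Emat_mul_J_mul_transpose, hx, hx', one_smul, Emat_same, J_eq_kron]

theorem Emat_injective {x x' y y' : Matrix (Fin 2) (Fin 2) F} (h : Emat x x' = Emat y y') :
    x = y ∧ x' = y' := by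
  have key := fun p q => congrFun (congrFun h p) q
  constructor
  · ext i j
    fin_cases i <;> fin_cases j
    · have := key (Sum.inl 0) (Sum.inl 0); simpa [Emat, e11, e22] using this
    · have := key (Sum.inl 0) (Sum.inr 0); simpa [Emat, e11, e22] using this
    · have := key (Sum.inr 0) (Sum.inl 0); simpa [Emat, e11, e22] using this
    · have := key (Sum.inr 0) (Sum.inr 0); simpa [Emat, e11, e22] using this
  · ext i j
    fin_cases i <;> fin_cases j
    · have := key (Sum.inl 1) (Sum.inl 1); simpa [Emat, e11, e22] using this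
    · have := key (Sum.inl 1) (Sum.inr 1); simpa [Emat, e11, e22] using this
    · have := key (Sum.inr 1) (Sum.inl 1); simpa [Emat, e11, e22] using this
    · have := key (Sum.inr 1) (Sum.inr 1); simpa [Emat, e11, e22] using this

/-- swapping the two hyperbolic planes -/
theorem kron_swm_mul_Emat (x x' : Matrix (Fin 2) (Fin 2) F) :
    kron 1 swm * Emat x x' = Emat x' x * kron 1 swm := by
  unfold Emat
  rw [Matrix.mul_add, Matrix.add_mul, kron_mul, kron_mul, kron_mul, kron_mul, one_mul, one_mul,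
    mul_one, mul_one, swm_mul_e11, swm_mul_e22, add_comm]

theorem kron_swm_mul_self : kron (1 : Matrix (Fin 2) (Fin 2) F) swm * kron 1 swm = 1 := by
  rw [kron_mul, one_mul, swm_mul_swm, kron_one_one]

/-- the diagonal form of `t₁` -/
theorem Emat_neg_one_one :
    Emat (-1 : Matrix (Fin 2) (Fin 2) F) 1 = diagonal (Sum.elim ![-1, 1] ![-1, 1]) := by
  ext p q
  rcases p with i | i <;> rcases q with j | j <;> fin_cases i <;> fin_cases j <;>
    simp [Emat, e11, e22]

theorem Emat_neg_one_one' : Emat (-1 : Matrix (Fin 2) (Fin 2) F) 1 = kron 1 d1 := by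
  unfold Emat
  rw [kron_neg_left, ← kron_neg_right, ← kron_add_right, d1_eq]

/-- matrices commuting with `t₁` are block-diagonal -/
theorem exists_Emat_of_commute (h2 : (2 : F) ≠ 0)
    (M : Matrix (Fin 2 ⊕ Fin 2) (Fin 2 ⊕ Fin 2) F)
    (h : M * Emat (-1) 1 = Emat (-1) 1 * M) : ∃ x x' : Matrix (Fin 2) (Fin 2) F, M = Emat x x' := by
  rw [Emat_neg_one_one] at h
  have key : ∀ p q, M p q * (Sum.elim ![-1, 1] ![-1, 1] q : F) =
      (Sum.elim ![-1, 1] ![-1, 1] p : F) * M p q := by
    intro p q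
    have := congrFun (congrFun h p) q
    rwa [Matrix.mul_diagonal, Matrix.diagonal_mul] at this
  have hz : ∀ x : F, x * 1 = -1 * x → x = 0 := by
    intro x hx
    have : (2 : F) * x = 0 := by linear_combination hx
    exact (mul_eq_zero.mp this).resolve_left h2
  have hz' : ∀ x : F, x * -1 = 1 * x → x = 0 := by
    intro x hx
    have : (2 : F) * x = 0 := by linear_combination -hx
    exact (mul_eq_zero.mp this).resolve_left h2
  have z1 : M (Sum.inl 0) (Sum.inl 1) = 0 := hz _ (by simpa using key (Sum.inl 0) (Sum.inl 1))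
  have z2 : M (Sum.inl 0) (Sum.inr 1) = 0 := hz _ (by simpa using key (Sum.inl 0) (Sum.inr 1))
  have z3 : M (Sum.inr 0) (Sum.inl 1) = 0 := hz _ (by simpa using key (Sum.inr 0) (Sum.inl 1))
  have z4 : M (Sum.inr 0) (Sum.inr 1) = 0 := hz _ (by simpa using key (Sum.inr 0) (Sum.inr 1))
  have z5 : M (Sum.inl 1) (Sum.inl 0) = 0 := hz' _ (by simpa using key (Sum.inl 1) (Sum.inl 0))
  have z6 : M (Sum.inl 1) (Sum.inr 0) = 0 := hz' _ (by simpa using key (Sum.inl 1) (Sum.inr 0))
  have z7 : M (Sum.inr 1) (Sum.inl 0) = 0 := hz' _ (by simpa using key (Sum.inr 1) (Sum.inl 0))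
  have z8 : M (Sum.inr 1) (Sum.inr 0) = 0 := hz' _ (by simpa using key (Sum.inr 1) (Sum.inr 0))
  refine ⟨!![M (Sum.inl 0) (Sum.inl 0), M (Sum.inl 0) (Sum.inr 0);
      M (Sum.inr 0) (Sum.inl 0), M (Sum.inr 0) (Sum.inr 0)],
    !![M (Sum.inl 1) (Sum.inl 1), M (Sum.inl 1) (Sum.inr 1);
      M (Sum.inr 1) (Sum.inl 1), M (Sum.inr 1) (Sum.inr 1)], ?_⟩
  ext p q
  rcases p with i | i <;> rcases q with j | j <;> fin_cases i <;> fin_cases j <;>
    simp [Emat, e11, e22, z1, z2, z3, z4, z5, z6, z7, z8]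

theorem det_of_Emat_mem {x x' : Matrix (Fin 2) (Fin 2) F}
    (h : Emat x x' ∈ symplecticGroup (Fin 2) F) : x.det = 1 ∧ x'.det = 1 := by
  rw [SymplecticGroup.mem_iff, Emat_mul_J_mul_transpose] at h
  have h3 : J (Fin 2) F = Emat (kap 0 1) (kap 0 1) := by rw [Emat_same, J_eq_kron]
  rw [h3] at h
  obtain ⟨h4, h5⟩ := Emat_injective h
  have e1 := congrFun (congrFun h4 1) 0
  have e2 := congrFun (congrFun h5 1) 0
  simp [kap] at e1 e2
  exact ⟨e1, e2⟩

end Cfsg.Agent.H9S4
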