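import Mathlib
import Cfsg.Agent.Lib.Helper9.Sp4Fus5

set_option autoImplicit false

/-!
# Elements and subgroups of `Sp₄`
-/

namespace Cfsg.Agent.H9S4

open Matrix Cfsg.Agent.H9L3

variable {F : Type*} [Field F]

/-- the embedding of `SL₂ × SL₂` into `Sp₄` -/
def Ehom : SpecialLinearGroup (Fin 2) F × SpecialLinearGroup (Fin 2) F →*
    symplecticGroup (Fin 2) F where
  toFun v := ⟨Emat (v.1 : Matrix (Fin 2) (Fin 2) F) (v.2 : Matrix (Fin 2) (Fin 2) F),
    Emat_mem v.1.2 v.2.2⟩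
  map_one' := by
    apply Subtype.ext
    show Emat ((1 : SpecialLinearGroup (Fin 2) F) : Matrix (Fin 2) (Fin 2) F)
      ((1 : SpecialLinearGroup (Fin 2) F) : Matrix (Fin 2) (Fin 2) F) = 1
    rw [Matrix.SpecialLinearGroup.coe_one, Emat_one]
  map_mul' v w := by
    apply Subtype.ext
    show Emat ((v.1 * w.1 : SpecialLinearGroup (Fin 2) F) : Matrix (Fin 2) (Fin 2) F)
      ((v.2 * w.2 : SpecialLinearGroup (Fin 2) F) : Matrix (Fin 2) (Fin 2) F) =
      Emat (v.1 : Matrix (Fin 2) (Fin 2) F) (v.2 : Matrix (Fin 2) (Fin 2) F) *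
      Emat (w.1 : Matrix (Fin 2) (Fin 2) F) (w.2 : Matrix (Fin 2) (Fin 2) F)
    rw [Matrix.SpecialLinearGroup.coe_mul, Matrix.SpecialLinearGroup.coe_mul, Emat_mul]

theorem Ehom_coe (x x' : SpecialLinearGroup (Fin 2) F) :
    ((Ehom (x, x') : symplecticGroup (Fin 2) F) : Matrix (Fin 2 ⊕ Fin 2) (Fin 2 ⊕ Fin 2) F) =
      Emat (x : Matrix (Fin 2) (Fin 2) F) (x' : Matrix (Fin 2) (Fin 2) F) := rfl

theorem Ehom_injective :
    Function.Injective (Ehom : SpecialLinearGroup (Fin 2) F × SpecialLinearGroup (Fin 2) F →*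
      symplecticGroup (Fin 2) F) := by
  rintro ⟨x, x'⟩ ⟨y, y'⟩ h
  have h1 := congrArg Subtype.val h
  rw [Ehom_coe, Ehom_coe] at h1
  obtain ⟨h3, h4⟩ := Emat_injective h1
  rw [Prod.mk.injEq]
  exact ⟨Subtype.ext h3, Subtype.ext h4⟩

theorem Ehom_mul (x x' y y' : SpecialLinearGroup (Fin 2) F) :
    (Ehom (x, x') : symplecticGroup (Fin 2) F) * Ehom (y, y') = Ehom (x * y, x' * y') := by
  rw [← map_mul, Prod.mk_mul_mk]

theorem Ehom_inv (x x' : SpecialLinearGroup (Fin 2) F) :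
    (Ehom (x, x') : symplecticGroup (Fin 2) F)⁻¹ = Ehom (x⁻¹, x'⁻¹) := by
  rw [← map_inv, Prod.inv_mk]

theorem Ehom_pow (x x' : SpecialLinearGroup (Fin 2) F) (n : ℕ) :
    (Ehom (x, x') : symplecticGroup (Fin 2) F) ^ n = Ehom (x ^ n, x' ^ n) := by
  rw [← map_pow, Prod.pow_mk]

/-- a Kronecker-type element of `Sp₄` -/
def kronY (X B : Matrix (Fin 2) (Fin 2) F) (h : X.det • (B * Bᵀ) = 1) :
    symplecticGroup (Fin 2) F := ⟨kron X B, kron_mem X B h⟩

theorem kronY_coe (X B : Matrix (Fin 2) (Fin 2) F) (h : X.det • (B * Bᵀ) = 1) :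
    ((kronY X B h : symplecticGroup (Fin 2) F) : Matrix (Fin 2 ⊕ Fin 2) (Fin 2 ⊕ Fin 2) F) =
      kron X B := rfl

/-- the element swapping the two hyperbolic planes -/
def tauY : symplecticGroup (Fin 2) F :=
  kronY 1 swm (by rw [det_one, one_smul, swm_transpose, swm_mul_swm])

theorem tauY_coe :
    ((tauY : symplecticGroup (Fin 2) F) : Matrix (Fin 2 ⊕ Fin 2) (Fin 2 ⊕ Fin 2) F) =
      kron 1 swm := rfl

theorem tauY_mul_tauY : (tauY : symplecticGroup (Fin 2) F) * tauY = 1 := by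
  apply Subtype.ext
  rw [Submonoid.coe_mul, tauY_coe, kron_swm_mul_self]
  rfl

theorem tauY_inv : (tauY : symplecticGroup (Fin 2) F)⁻¹ = tauY :=
  inv_eq_of_mul_eq_one_right tauY_mul_tauY

theorem tauY_mul_Ehom (x x' : SpecialLinearGroup (Fin 2) F) :
    (tauY : symplecticGroup (Fin 2) F) * Ehom (x, x') = Ehom (x', x) * tauY := by
  apply Subtype.ext
  rw [Submonoid.coe_mul, Submonoid.coe_mul, tauY_coe, Ehom_coe, Ehom_coe, kron_swm_mul_Emat]

theorem tauY_conj (x x' : SpecialLinearGroup (Fin 2) F) :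
    (tauY : symplecticGroup (Fin 2) F) * Ehom (x, x') * tauY⁻¹ = Ehom (x', x) := by
  rw [tauY_mul_Ehom, mul_assoc, mul_inv_cancel, mul_one]

/-- the central involution -/
def negY : symplecticGroup (Fin 2) F := Ehom (-1, -1)

/-- the involution `-1` on the first hyperbolic plane -/
def t1Y : symplecticGroup (Fin 2) F := Ehom (-1, 1)

/-- the involution `-1` on the second hyperbolic plane -/
def t2Y : symplecticGroup (Fin 2) F := Ehom (1, -1)

theorem negY_coe :
    ((negY : symplecticGroup (Fin 2) F) : Matrix (Fin 2 ⊕ Fin 2) (Fin 2 ⊕ Fin 2) F) = -1 := by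
  unfold negY
  rw [Ehom_coe, Matrix.SpecialLinearGroup.coe_neg, Matrix.SpecialLinearGroup.coe_one, Emat_neg,
    Emat_one]

theorem t1Y_coe :
    ((t1Y : symplecticGroup (Fin 2) F) : Matrix (Fin 2 ⊕ Fin 2) (Fin 2 ⊕ Fin 2) F) =
      Emat (-1) 1 := by
  unfold t1Y
  rw [Ehom_coe, Matrix.SpecialLinearGroup.coe_neg, Matrix.SpecialLinearGroup.coe_one]

theorem negY_comm (g : symplecticGroup (Fin 2) F) : negY * g = g * negY := by
  apply Subtype.ext
  rw [Submonoid.coe_mul, Submonoid.coe_mul, negY_coe]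
  simp

theorem negY_mul_negY : (negY : symplecticGroup (Fin 2) F) * negY = 1 := by
  unfold negY
  rw [Ehom_mul, neg_one_mul_neg_one, ← Prod.one_eq_mk, map_one]

theorem negY_mul_t1Y : (negY : symplecticGroup (Fin 2) F) * t1Y = t2Y := by
  unfold negY t1Y t2Y
  rw [Ehom_mul, neg_one_mul_neg_one, mul_one]

theorem tauY_conj_t1Y : (tauY : symplecticGroup (Fin 2) F) * t1Y * tauY⁻¹ = t2Y := tauY_conj _ _

theorem t1Y_ne_t2Y (h2 : (2 : F) ≠ 0) : (t1Y : symplecticGroup (Fin 2) F) ≠ t2Y := by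
  intro h
  have := Ehom_injective h
  rw [Prod.mk.injEq] at this
  exact neg_one_ne_one h2 this.1

theorem t1Y_ne_one (h2 : (2 : F) ≠ 0) : (t1Y : symplecticGroup (Fin 2) F) ≠ 1 := by
  intro h
  unfold t1Y at h
  rw [← map_one Ehom] at h
  have := Ehom_injective h
  rw [Prod.one_eq_mk, Prod.mk.injEq] at this
  exact neg_one_ne_one h2 this.1

theorem t1Y_ne_negY (h2 : (2 : F) ≠ 0) : (t1Y : symplecticGroup (Fin 2) F) ≠ negY := by
  intro h
  have := Ehom_injective h
  rw [Prod.mk.injEq] at this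
  exact neg_one_ne_one h2 this.2.symm

theorem tauY_not_mem_range (h2 : (2 : F) ≠ 0) (x x' : SpecialLinearGroup (Fin 2) F) :
    (tauY : symplecticGroup (Fin 2) F) ≠ Ehom (x, x') := by
  intro h
  have h1 := tauY_conj_t1Y (F := F)
  rw [h] at h1
  unfold t1Y at h1
  rw [Ehom_inv, Ehom_mul, Ehom_mul] at h1
  have e1 : x * -1 * x⁻¹ = -1 := by rw [mul_neg_one, neg_mul, mul_inv_cancel]
  rw [e1, mul_one, mul_inv_cancel] at h1
  exact t1Y_ne_t2Y h2 h1

/-- elements commuting with `t₁` lie in `SL₂ × SL₂` -/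
theorem exists_Ehom_of_commute (h2 : (2 : F) ≠ 0) (g : symplecticGroup (Fin 2) F)
    (hg : g * t1Y = t1Y * g) : ∃ x x' : SpecialLinearGroup (Fin 2) F, g = Ehom (x, x') := by
  have h1 := congrArg Subtype.val hg
  rw [Submonoid.coe_mul, Submonoid.coe_mul, t1Y_coe] at h1
  obtain ⟨x, x', hxx⟩ := exists_Emat_of_commute h2 _ h1
  have hmem : Emat x x' ∈ symplecticGroup (Fin 2) F := by rw [← hxx]; exact g.2
  obtain ⟨hx, hx'⟩ := det_of_Emat_mem hmem
  exact ⟨⟨x, hx⟩, ⟨x', hx'⟩, Subtype.ext hxx⟩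

/-- matrices commuting with `J` are of the form `x + yJ` -/
theorem exists_kap_of_commute (x : Matrix (Fin 2) (Fin 2) F) (h : x * kap 0 1 = kap 0 1 * x) :
    ∃ c d : F, x = kap c d := by
  refine ⟨x 0 0, x 1 0, ?_⟩
  unfold kap at h ⊢
  have e1 := congrFun (congrFun h 0) 0
  have e2 := congrFun (congrFun h 0) 1
  simp [Matrix.mul_apply, Fin.sum_univ_two] at e1 e2
  ext i j
  fin_cases i <;> fin_cases j <;> simp
  · linear_combination e1
  · linear_combination -e2

/-- matrices commuting with four generators of the extraspecial group are scalar -/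
theorem scalar_of_commute (h2 : (2 : F) ≠ 0) (a b : F) (hab : a ^ 2 + b ^ 2 = -1)
    (M : Matrix (Fin 2 ⊕ Fin 2) (Fin 2 ⊕ Fin 2) F)
    (h1 : M * Emat (-1) 1 = Emat (-1) 1 * M) (h3 : M * kron 1 swm = kron 1 swm * M)
    (h4 : M * kron (kap 0 1) 1 = kron (kap 0 1) 1 * M)
    (h5 : M * kron (L2 a b) 1 = kron (L2 a b) 1 * M) : ∃ c : F, M = c • 1 := by
  obtain ⟨x, x', rfl⟩ := exists_Emat_of_commute h2 M h1
  rw [kron_swm_mul_Emat] at h3
  have h6 : Emat x x' = Emat x' x := by
    have := congrArg (fun N => N * kron (1 : Matrix (Fin 2) (Fin 2) F) swm) h3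
    simp only [Matrix.mul_assoc, kron_swm_mul_self, Matrix.mul_one] at this
    exact this
  obtain ⟨rfl, -⟩ := Emat_injective h6
  simp only [Emat_same, kron_mul, mul_one] at h4 h5
  have h7 := kron_left_injective h4
  have h8 := kron_left_injective h5
  obtain ⟨c, d, rfl⟩ := exists_kap_of_commute x h7
  rw [kap_mul_L2, L2_mul_kap] at h8
  obtain ⟨e1, e2⟩ := L2_injective h8
  have hd : d = 0 := by
    by_contra hd
    have hb : b = 0 := by
      have : (2 : F) * d * b = 0 := by linear_combination -e1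
      rcases mul_eq_zero.mp this with h | h
      · rcases mul_eq_zero.mp h with h | h
        · exact absurd h h2
        · exact absurd h hd
      · exact h
    have ha : a = 0 := by
      have : (2 : F) * d * a = 0 := by linear_combination e2
      rcases mul_eq_zero.mp this with h | h
      · rcases mul_eq_zero.mp h with h | h
        · exact absurd h h2
        · exact absurd h hd
      · exact h
    rw [ha, hb] at hab
    have : (0 : F) = -1 := by
      rw [← hab]; ring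
    have h10 : (1 : F) = 0 := by linear_combination this
    exact one_ne_zero h10
  refine ⟨c, ?_⟩
  rw [Emat_same, hd]
  have : kap c (0 : F) = c • 1 := by
    unfold kap
    ext i j
    fin_cases i <;> fin_cases j <;> simp
  rw [this, kron_smul_left, kron_one_one]

end Cfsg.Agent.H9S4
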