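import Mathlib
import Cfsg.Agent.Lib.Helper9.Sp4Fus6

set_option autoImplicit false

/-!
# The `2`-subgroup `(Q × Q)⟨τ⟩` of `Sp₄` and the centre
-/

namespace Cfsg.Agent.H9S4

open Matrix Cfsg.Agent.H9L3

variable {F : Type*} [Field F]

/-- a symplectic scalar matrix is `±1` -/
theorem eq_one_or_negY_of_scalar (g : symplecticGroup (Fin 2) F) (c : F)
    (hc : (g : Matrix (Fin 2 ⊕ Fin 2) (Fin 2 ⊕ Fin 2) F) = c • 1) : g = 1 ∨ g = negY := by
  have h1 := g.2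
  rw [SymplecticGroup.mem_iff, hc] at h1
  have h3 := congrFun (congrFun h1 (Sum.inr 0)) (Sum.inl 0)
  rw [J_eq_kron] at h3
  simp [kap, Matrix.mul_apply] at h3
  have h4 : (c - 1) * (c + 1) = 0 := by linear_combination h3
  rcases mul_eq_zero.mp h4 with h | h
  · left
    apply Subtype.ext
    rw [hc, sub_eq_zero.mp h, one_smul]
    rfl
  · right
    apply Subtype.ext
    have hc' : c = -1 := by linear_combination h
    rw [hc, negY_coe, hc']
    simp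

section Q

variable (h2 : (2 : F) ≠ 0) (a b : F) (hab : a ^ 2 + b ^ 2 = -1)

/-- the element `Ẽ(J)` -/
def jY : symplecticGroup (Fin 2) F := Ehom (J0S, J0S)

/-- the element `Ẽ(L)` -/
def lY : symplecticGroup (Fin 2) F := Ehom (LS a b hab, LS a b hab)

theorem jY_coe :
    ((jY : symplecticGroup (Fin 2) F) : Matrix (Fin 2 ⊕ Fin 2) (Fin 2 ⊕ Fin 2) F) =
      kron (kap 0 1) 1 := by
  unfold jY
  rw [Ehom_coe, Emat_same, J0S_coe]

theorem lY_coe :
    ((lY a b hab : symplecticGroup (Fin 2) F) : Matrix (Fin 2 ⊕ Fin 2) (Fin 2 ⊕ Fin 2) F) =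
      kron (L2 a b) 1 := by
  unfold lY
  rw [Ehom_coe, Emat_same, LS_coe]

include h2 in
/-- elements commuting with `t₁`, `τ`, `Ẽ(J)`, `Ẽ(L)` are `±1` -/
theorem eq_one_or_negY_of_commute (g : symplecticGroup (Fin 2) F)
    (h1 : g * t1Y = t1Y * g) (h3 : g * tauY = tauY * g) (h4 : g * jY = jY * g)
    (h5 : g * lY a b hab = lY a b hab * g) : g = 1 ∨ g = negY := by
  have k1 := congrArg Subtype.val h1
  have k3 := congrArg Subtype.val h3
  have k4 := congrArg Subtype.val h4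
  have k5 := congrArg Subtype.val h5
  rw [Submonoid.coe_mul, Submonoid.coe_mul] at k1 k3 k4 k5
  rw [t1Y_coe] at k1
  rw [tauY_coe] at k3
  rw [jY_coe] at k4
  rw [lY_coe] at k5
  obtain ⟨c, hc⟩ := scalar_of_commute h2 a b hab _ k1 k3 k4 k5
  exact eq_one_or_negY_of_scalar g c hc

include h2 a b hab in
theorem center_le (g : symplecticGroup (Fin 2) F)
    (hg : g ∈ Subgroup.center (symplecticGroup (Fin 2) F)) : g = 1 ∨ g = negY := by
  rw [Subgroup.mem_center_iff] at hg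
  exact eq_one_or_negY_of_commute h2 a b hab g (hg _).symm (hg _).symm (hg _).symm (hg _).symm

theorem negY_mem_center : (negY : symplecticGroup (Fin 2) F) ∈
    Subgroup.center (symplecticGroup (Fin 2) F) := by
  rw [Subgroup.mem_center_iff]
  intro g
  exact (negY_comm g).symm

/-- the subgroup `Q × Q` of `Sp₄` -/
def EQ : Subgroup (symplecticGroup (Fin 2) F) := ((Qs a b hab).prod (Qs a b hab)).map Ehom

theorem mem_EQ {g : symplecticGroup (Fin 2) F} :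
    g ∈ EQ a b hab ↔ ∃ x ∈ Qs a b hab, ∃ x' ∈ Qs a b hab, g = Ehom (x, x') := by
  constructor
  · rintro ⟨⟨x, x'⟩, hxx, rfl⟩
    exact ⟨x, hxx.1, x', hxx.2, rfl⟩
  · rintro ⟨x, hx, x', hx', rfl⟩
    exact ⟨(x, x'), ⟨hx, hx'⟩, rfl⟩

theorem Ehom_mem_EQ {x x' : SpecialLinearGroup (Fin 2) F} :
    Ehom (x, x') ∈ EQ a b hab ↔ x ∈ Qs a b hab ∧ x' ∈ Qs a b hab := by
  rw [mem_EQ]
  constructor
  · rintro ⟨y, hy, y', hy', h⟩
    have := Ehom_injective h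
    rw [Prod.mk.injEq] at this
    rw [this.1, this.2]
    exact ⟨hy, hy'⟩
  · rintro ⟨hx, hx'⟩
    exact ⟨x, hx, x', hx', rfl⟩

theorem tauY_mem_normalizer_EQ :
    (tauY : symplecticGroup (Fin 2) F) ∈ Subgroup.normalizer ((EQ a b hab : Subgroup _) : Set _) := by
  apply Cfsg.Agent.H9AF.mem_normalizer_of_conj_mem
  · intro g hg
    obtain ⟨x, hx, x', hx', rfl⟩ := (mem_EQ a b hab).mp hg
    rw [tauY_conj]
    exact (Ehom_mem_EQ a b hab).mpr ⟨hx', hx⟩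
  · intro g hg
    obtain ⟨x, hx, x', hx', rfl⟩ := (mem_EQ a b hab).mp hg
    have : (tauY : symplecticGroup (Fin 2) F)⁻¹ * Ehom (x, x') * tauY =
        tauY * Ehom (x, x') * tauY⁻¹ := by rw [tauY_inv]
    rw [this, tauY_conj]
    exact (Ehom_mem_EQ a b hab).mpr ⟨hx', hx⟩

/-- the `2`-subgroup `(Q × Q)⟨τ⟩` -/
def Ps : Subgroup (symplecticGroup (Fin 2) F) :=
  extTwo (EQ a b hab) tauY (by rw [tauY_mul_tauY]; exact (EQ a b hab).one_mem)
    (tauY_mem_normalizer_EQ a b hab)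

theorem mem_Ps {g : symplecticGroup (Fin 2) F} :
    g ∈ Ps a b hab ↔ (∃ x ∈ Qs a b hab, ∃ x' ∈ Qs a b hab, g = Ehom (x, x')) ∨
      (∃ x ∈ Qs a b hab, ∃ x' ∈ Qs a b hab, g = Ehom (x, x') * tauY) := by
  unfold Ps
  rw [mem_extTwo, mem_EQ]
  constructor
  · rintro (h | ⟨c, hc, rfl⟩)
    · exact Or.inl h
    · obtain ⟨x, hx, x', hx', rfl⟩ := (mem_EQ a b hab).mp hc
      exact Or.inr ⟨x, hx, x', hx', rfl⟩
  · rintro (h | ⟨x, hx, x', hx', rfl⟩)
    · exact Or.inl h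
    · exact Or.inr ⟨_, (Ehom_mem_EQ a b hab).mpr ⟨hx, hx'⟩, rfl⟩

theorem EQ_le_Ps : EQ a b hab ≤ Ps a b hab := le_extTwo

theorem tauY_mem_Ps : (tauY : symplecticGroup (Fin 2) F) ∈ Ps a b hab := self_mem_extTwo

theorem Ehom_mem_Ps_of_mem {x x' : SpecialLinearGroup (Fin 2) F} (hx : x ∈ Qs a b hab)
    (hx' : x' ∈ Qs a b hab) : Ehom (x, x') ∈ Ps a b hab :=
  EQ_le_Ps a b hab ((Ehom_mem_EQ a b hab).mpr ⟨hx, hx'⟩)

include h2 in
theorem Ehom_mem_Ps {x x' : SpecialLinearGroup (Fin 2) F} :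
    Ehom (x, x') ∈ Ps a b hab ↔ x ∈ Qs a b hab ∧ x' ∈ Qs a b hab := by
  constructor
  · intro h
    rcases (mem_Ps a b hab).mp h with ⟨y, hy, y', hy', h'⟩ | ⟨y, hy, y', hy', h'⟩
    · have := Ehom_injective h'
      rw [Prod.mk.injEq] at this
      rw [this.1, this.2]
      exact ⟨hy, hy'⟩
    · exfalso
      have e : (tauY : symplecticGroup (Fin 2) F) = Ehom (y⁻¹ * x, y'⁻¹ * x') := by
        rw [← Ehom_mul, ← Ehom_inv, h']
        group
      exact tauY_not_mem_range h2 _ _ e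
  · rintro ⟨hx, hx'⟩
    exact Ehom_mem_Ps_of_mem a b hab hx hx'

theorem negY_mem_Ps : (negY : symplecticGroup (Fin 2) F) ∈ Ps a b hab :=
  Ehom_mem_Ps_of_mem a b hab (neg_one_mem_Qs a b hab) (neg_one_mem_Qs a b hab)

theorem t1Y_mem_Ps : (t1Y : symplecticGroup (Fin 2) F) ∈ Ps a b hab :=
  Ehom_mem_Ps_of_mem a b hab (neg_one_mem_Qs a b hab) (Qs a b hab).one_mem

theorem Ps_pow {g : symplecticGroup (Fin 2) F} (hg : g ∈ Ps a b hab) :
    ∃ k : ℕ, g ^ (2 ^ k) = 1 := by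
  have hE : ∀ x ∈ Qs a b hab, ∀ x' ∈ Qs a b hab, ∃ k : ℕ,
      (Ehom (x, x') : symplecticGroup (Fin 2) F) ^ (2 ^ k) = 1 := by
    intro x hx x' hx'
    obtain ⟨k, hk⟩ := Qs_pow a b hab hx
    obtain ⟨l, hl⟩ := Qs_pow a b hab hx'
    refine ⟨k + l, ?_⟩
    rw [Ehom_pow, pow_add, pow_mul, hk, one_pow, mul_comm (2 ^ k), pow_mul, hl, one_pow,
      ← Prod.one_eq_mk, map_one]
  rcases (mem_Ps a b hab).mp hg with ⟨x, hx, x', hx', rfl⟩ | ⟨x, hx, x', hx', rfl⟩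
  · exact hE x hx x' hx'
  · have e : (Ehom (x, x') * tauY : symplecticGroup (Fin 2) F) * (Ehom (x, x') * tauY) =
        Ehom (x * x', x' * x) := by
      rw [mul_assoc, ← mul_assoc tauY, tauY_mul_Ehom, mul_assoc, tauY_mul_tauY, mul_one, Ehom_mul]
    obtain ⟨k, hk⟩ := hE _ ((Qs a b hab).mul_mem hx hx') _ ((Qs a b hab).mul_mem hx' hx)
    refine ⟨k + 1, ?_⟩
    rw [pow_succ, mul_comm, pow_mul, pow_two, e]
    exact hk

theorem isPGroup_Ps : IsPGroup 2 (Ps a b hab) := by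
  rintro ⟨g, hg⟩
  obtain ⟨k, hk⟩ := Ps_pow a b hab hg
  exact ⟨k, Subtype.ext (by simpa using hk)⟩

end Q

end Cfsg.Agent.H9S4
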