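import Mathlib
import Cfsg.Agent.Lib.Helper9.Sp4Fus7

set_option autoImplicit false

/-!
# The normaliser of `(Q × Q)⟨τ⟩` in `Sp₄`
-/

namespace Cfsg.Agent.H9S4

open Matrix Cfsg.Agent.H9L3

variable {F : Type*} [Field F]

section Q

variable (h2 : (2 : F) ≠ 0) (a b : F) (hab : a ^ 2 + b ^ 2 = -1)

theorem Ehom_tau_sq (y y' : SpecialLinearGroup (Fin 2) F) :
    (Ehom (y, y') * tauY : symplecticGroup (Fin 2) F) * (Ehom (y, y') * tauY) =
      Ehom (y * y', y' * y) := by
  rw [mul_assoc, ← mul_assoc tauY, tauY_mul_Ehom, mul_assoc, tauY_mul_tauY, mul_one, Ehom_mul]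

theorem t1Y_mul_t1Y : (t1Y : symplecticGroup (Fin 2) F) * t1Y = 1 := by
  unfold t1Y
  rw [Ehom_mul, neg_one_mul_neg_one, mul_one, ← Prod.one_eq_mk, map_one]

theorem Ehom_eq_one_iff {x x' : SpecialLinearGroup (Fin 2) F} :
    (Ehom (x, x') : symplecticGroup (Fin 2) F) = 1 ↔ x = 1 ∧ x' = 1 := by
  constructor
  · intro h
    rw [← map_one Ehom] at h
    have := Ehom_injective h
    rw [Prod.one_eq_mk, Prod.mk.injEq] at this
    exact this
  · rintro ⟨rfl, rfl⟩
    rw [← Prod.one_eq_mk, map_one]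

include h2 in
/-- a conjugate of `t₁` lying in `P` and being a square in `P` is `t₁` or `t₂` -/
theorem conj_t1Y (g : symplecticGroup (Fin 2) F)
    (hg : g ∈ Subgroup.normalizer ((Ps a b hab : Subgroup _) : Set _)) :
    g * t1Y * g⁻¹ = t1Y ∨ g * t1Y * g⁻¹ = t2Y := by
  have hu : (Ehom (J0S, 1) : symplecticGroup (Fin 2) F) ∈ Ps a b hab :=
    Ehom_mem_Ps_of_mem a b hab (J0S_mem_Qs a b hab) (Qs a b hab).one_mem
  have huu : (Ehom (J0S, 1) : symplecticGroup (Fin 2) F) * Ehom (J0S, 1) = t1Y := by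
    rw [Ehom_mul, J0S_mul_J0S, mul_one]; rfl
  obtain ⟨v, hvdef⟩ : ∃ v, v = g * Ehom (J0S, 1) * g⁻¹ := ⟨_, rfl⟩
  have hv : v ∈ Ps a b hab := by
    rw [hvdef]
    exact (Subgroup.mem_normalizer_iff.mp hg _).mp hu
  have hvv : v * v = g * t1Y * g⁻¹ := by
    rw [hvdef, ← huu]; group
  have hv4 : (v * v) * (v * v) = 1 := by
    rw [hvv]
    have : g * t1Y * g⁻¹ * (g * t1Y * g⁻¹) = g * (t1Y * t1Y) * g⁻¹ := by group
    rw [this, t1Y_mul_t1Y]; group
  have hne1 : v * v ≠ 1 := by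
    intro h
    rw [hvv] at h
    apply t1Y_ne_one h2
    have : (t1Y : symplecticGroup (Fin 2) F) = g⁻¹ * (g * t1Y * g⁻¹) * g := by group
    rw [this, h]; group
  have hneg : v * v ≠ negY := by
    intro h
    rw [hvv] at h
    apply t1Y_ne_negY h2
    have : (t1Y : symplecticGroup (Fin 2) F) = g⁻¹ * (g * t1Y * g⁻¹) * g := by group
    rw [this, h, mul_assoc, negY_comm, ← mul_assoc, inv_mul_cancel, one_mul]
  rw [← hvv]
  rcases (mem_Ps a b hab).mp hv with ⟨y, hy, y', hy', rfl⟩ | ⟨y, hy, y', hy', rfl⟩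
  · rw [Ehom_mul] at hv4 hne1 hneg ⊢
    rw [Ehom_mul, Ehom_eq_one_iff] at hv4
    rcases eq_one_or_neg_one_of_mul_self h2 _ hv4.1 with e1 | e1 <;>
      rcases eq_one_or_neg_one_of_mul_self h2 _ hv4.2 with e2 | e2
    · exfalso; apply hne1; rw [e1, e2, ← Prod.one_eq_mk, map_one]
    · right; rw [e1, e2]; rfl
    · left; rw [e1, e2]; rfl
    · exfalso; apply hneg; rw [e1, e2]; rfl
  · exfalso
    rw [Ehom_tau_sq] at hv4 hne1 hneg
    rw [Ehom_mul, Ehom_eq_one_iff] at hv4
    rcases eq_one_or_neg_one_of_mul_self h2 _ hv4.1 with e1 | e1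
    · apply hne1
      have e2 : y' * y = 1 := by
        have : y' = y⁻¹ := (inv_eq_of_mul_eq_one_right e1).symm
        rw [this, inv_mul_cancel]
      rw [e1, e2, ← Prod.one_eq_mk, map_one]
    · apply hneg
      have e2 : y' * y = -1 := by
        have h3 : y * (-y') = 1 := by rw [mul_neg, e1, neg_neg]
        have h4 : -y' = y⁻¹ := (inv_eq_of_mul_eq_one_right h3).symm
        have h5 : y' = -y⁻¹ := by rw [← h4, neg_neg]
        rw [h5, neg_mul, inv_mul_cancel]
      rw [e1, e2]; rfl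

include h2 in
theorem normalizer_Ps_form (g : symplecticGroup (Fin 2) F)
    (hg : g ∈ Subgroup.normalizer ((Ps a b hab : Subgroup _) : Set _)) :
    ∃ x x' : SpecialLinearGroup (Fin 2) F, g = Ehom (x, x') ∨ tauY * g = Ehom (x, x') := by
  rcases conj_t1Y h2 a b hab g hg with h | h
  · have hc : g * t1Y = t1Y * g := by
      have : g * t1Y = (g * t1Y * g⁻¹) * g := by group
      rw [this, h]
    obtain ⟨x, x', hxx⟩ := exists_Ehom_of_commute h2 g hc
    exact ⟨x, x', Or.inl hxx⟩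
  · have hc : (tauY * g) * t1Y = t1Y * (tauY * g) := by
      have h3 : tauY * g * t1Y = tauY * (g * t1Y * g⁻¹) * tauY⁻¹ * (tauY * g) := by group
      rw [h3, h]
      have h4 : (tauY : symplecticGroup (Fin 2) F) * t2Y * tauY⁻¹ = t1Y := tauY_conj _ _
      rw [h4]
    obtain ⟨x, x', hxx⟩ := exists_Ehom_of_commute h2 _ hc
    exact ⟨x, x', Or.inr hxx⟩

include h2 in
theorem normalizes_of_Ehom_mem_normalizer {x x' : SpecialLinearGroup (Fin 2) F}
    (hg : Ehom (x, x') ∈ Subgroup.normalizer ((Ps a b hab : Subgroup _) : Set _)) :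
    (∀ y ∈ Qs a b hab, x * y * x⁻¹ ∈ Qs a b hab) ∧ x * x'⁻¹ ∈ Qs a b hab := by
  constructor
  · intro y hy
    have h1 := (Subgroup.mem_normalizer_iff.mp hg _).mp
      (Ehom_mem_Ps_of_mem a b hab hy (Qs a b hab).one_mem)
    rw [Ehom_inv, Ehom_mul, Ehom_mul, Ehom_mem_Ps h2] at h1
    exact h1.1
  · have h1 := (Subgroup.mem_normalizer_iff.mp hg _).mp (tauY_mem_Ps a b hab)
    have e : (Ehom (x, x') : symplecticGroup (Fin 2) F) * tauY * (Ehom (x, x'))⁻¹ =
        Ehom (x * x'⁻¹, x' * x⁻¹) * tauY := by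
      rw [Ehom_inv, mul_assoc, tauY_mul_Ehom, ← mul_assoc, Ehom_mul]
    rw [e] at h1
    have h3 : (Ehom (x * x'⁻¹, x' * x⁻¹) : symplecticGroup (Fin 2) F) ∈ Ps a b hab := by
      have : (Ehom (x * x'⁻¹, x' * x⁻¹) : symplecticGroup (Fin 2) F) =
          Ehom (x * x'⁻¹, x' * x⁻¹) * tauY * tauY⁻¹ := by group
      rw [this]
      exact (Ps a b hab).mul_mem h1 ((Ps a b hab).inv_mem (tauY_mem_Ps a b hab))
    exact ((Ehom_mem_Ps h2 a b hab).mp h3).1

include h2 in
/-- if `2` is a square, `P` is self-normalising -/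
theorem normalizer_Ps_of_sq (s : F) (hs : s ^ 2 = 2) :
    Subgroup.normalizer ((Ps a b hab : Subgroup _) : Set _) ≤ Ps a b hab := by
  intro g hg
  have key : ∀ x x' : SpecialLinearGroup (Fin 2) F,
      Ehom (x, x') ∈ Subgroup.normalizer ((Ps a b hab : Subgroup _) : Set _) →
      Ehom (x, x') ∈ Ps a b hab := by
    intro x x' hN
    obtain ⟨h1, h3⟩ := normalizes_of_Ehom_mem_normalizer h2 a b hab hN
    have hx := normalizer_Qs_of_sq h2 a b hab s hs x h1
    have hx' : x' ∈ Qs a b hab := by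
      have : x' = (x * x'⁻¹)⁻¹ * x := by group
      rw [this]
      exact (Qs a b hab).mul_mem ((Qs a b hab).inv_mem h3) hx
    exact Ehom_mem_Ps_of_mem a b hab hx hx'
  obtain ⟨x, x', h | h⟩ := normalizer_Ps_form h2 a b hab g hg
  · rw [h]
    apply key
    rw [← h]; exact hg
  · have h1 : tauY * g ∈ Ps a b hab := by
      rw [h]
      apply key
      rw [← h]
      exact Subgroup.mul_mem _ (Subgroup.le_normalizer (tauY_mem_Ps a b hab)) hg
    have : g = tauY⁻¹ * (tauY * g) := by group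
    rw [this]
    exact (Ps a b hab).mul_mem ((Ps a b hab).inv_mem (tauY_mem_Ps a b hab)) h1

/-- conjugation by a diagonal element `Ẽ(w)` with `w` normalising `Q` preserves `P` -/
theorem diag_conj_mem_Ps (w : SpecialLinearGroup (Fin 2) F)
    (hw : ∀ y ∈ Qs a b hab, w * y * w⁻¹ ∈ Qs a b hab) :
    ∀ p ∈ Ps a b hab, Ehom (w, w) * p * (Ehom (w, w))⁻¹ ∈ Ps a b hab := by
  intro p hp
  have hτ : (Ehom (w, w) : symplecticGroup (Fin 2) F) * tauY * (Ehom (w, w))⁻¹ = tauY := by
    rw [← tauY_mul_Ehom, mul_assoc, mul_inv_cancel, mul_one]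
  rcases (mem_Ps a b hab).mp hp with ⟨y, hy, y', hy', rfl⟩ | ⟨y, hy, y', hy', rfl⟩
  · rw [Ehom_inv, Ehom_mul, Ehom_mul]
    exact Ehom_mem_Ps_of_mem a b hab (hw y hy) (hw y' hy')
  · have e : (Ehom (w, w) : symplecticGroup (Fin 2) F) * (Ehom (y, y') * tauY) * (Ehom (w, w))⁻¹ =
        (Ehom (w, w) * Ehom (y, y') * (Ehom (w, w))⁻¹) *
          (Ehom (w, w) * tauY * (Ehom (w, w))⁻¹) := by group
    rw [e, hτ, Ehom_inv, Ehom_mul, Ehom_mul]
    exact (Ps a b hab).mul_mem (Ehom_mem_Ps_of_mem a b hab (hw y hy) (hw y' hy'))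
      (tauY_mem_Ps a b hab)

/-- the element of order three normalising `P` -/
def omY : symplecticGroup (Fin 2) F := Ehom (k3S h2 a b hab, k3S h2 a b hab)

theorem omY_inv : (omY h2 a b hab)⁻¹ = Ehom ((k3S h2 a b hab)⁻¹, (k3S h2 a b hab)⁻¹) := by
  unfold omY
  rw [Ehom_inv]

theorem omY_mem_normalizer (hns : ∀ s : F, s ^ 2 ≠ 2) :
    omY h2 a b hab ∈ Subgroup.normalizer ((Ps a b hab : Subgroup _) : Set _) := by
  apply Cfsg.Agent.H9AF.mem_normalizer_of_conj_mem
  · exact diag_conj_mem_Ps a b hab _ (k3S_conj_mem h2 a b hab hns)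
  · intro p hp
    have := diag_conj_mem_Ps a b hab _ (k3S_inv_conj_mem h2 a b hab hns) p hp
    rw [← omY_inv, inv_inv] at this
    exact this

theorem omY_comm_tauY : omY h2 a b hab * tauY = tauY * omY h2 a b hab := by
  unfold omY
  rw [tauY_mul_Ehom]

/-- if `2` is not a square, the normaliser of `P` is `P⟨ω⟩` -/
theorem normalizer_Ps_of_nonsq (hns : ∀ s : F, s ^ 2 ≠ 2) (g : symplecticGroup (Fin 2) F)
    (hg : g ∈ Subgroup.normalizer ((Ps a b hab : Subgroup _) : Set _)) :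
    g ∈ Ps a b hab ∨ (omY h2 a b hab)⁻¹ * g ∈ Ps a b hab ∨ omY h2 a b hab * g ∈ Ps a b hab := by
  have hoN := omY_mem_normalizer h2 a b hab hns
  -- the diagonal case
  have key : ∀ (w x x' : SpecialLinearGroup (Fin 2) F),
      Ehom (w, w) ∈ Subgroup.normalizer ((Ps a b hab : Subgroup _) : Set _) →
      Ehom (x, x') ∈ Subgroup.normalizer ((Ps a b hab : Subgroup _) : Set _) →
      w * x ∈ Qs a b hab → Ehom (w, w) * Ehom (x, x') ∈ Ps a b hab := by
    intro w x x' hwN hN hwx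
    have hN' := Subgroup.mul_mem _ hwN hN
    rw [Ehom_mul] at hN' ⊢
    obtain ⟨-, h3⟩ := normalizes_of_Ehom_mem_normalizer h2 a b hab hN'
    have hx' : w * x' ∈ Qs a b hab := by
      have : w * x' = (w * x * (w * x')⁻¹)⁻¹ * (w * x) := by group
      rw [this]
      exact (Qs a b hab).mul_mem ((Qs a b hab).inv_mem h3) hwx
    exact Ehom_mem_Ps_of_mem a b hab hwx hx'
  have key2 : ∀ x x' : SpecialLinearGroup (Fin 2) F,
      Ehom (x, x') ∈ Subgroup.normalizer ((Ps a b hab : Subgroup _) : Set _) →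
      Ehom (x, x') ∈ Ps a b hab ∨ (omY h2 a b hab)⁻¹ * Ehom (x, x') ∈ Ps a b hab ∨
        omY h2 a b hab * Ehom (x, x') ∈ Ps a b hab := by
    intro x x' hN
    obtain ⟨h1, -⟩ := normalizes_of_Ehom_mem_normalizer h2 a b hab hN
    rcases normalizer_Qs_of_nonsq h2 a b hab hns x h1 with h | h | h
    · left
      have := key 1 x x' (by rw [← Prod.one_eq_mk, map_one]; exact Subgroup.one_mem _) hN
        (by rw [one_mul]; exact h)
      rwa [← Prod.one_eq_mk, map_one, one_mul] at this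
    · right; left
      rw [omY_inv]
      refine key _ x x' ?_ hN h
      rw [← omY_inv]
      exact Subgroup.inv_mem _ hoN
    · right; right
      exact key _ x x' hoN hN h
  obtain ⟨x, x', h | h⟩ := normalizer_Ps_form h2 a b hab g hg
  · rw [h]
    apply key2
    rw [← h]; exact hg
  · have hτN : tauY * g ∈ Subgroup.normalizer ((Ps a b hab : Subgroup _) : Set _) :=
      Subgroup.mul_mem _ (Subgroup.le_normalizer (tauY_mem_Ps a b hab)) hg
    have hτ : ∀ y : symplecticGroup (Fin 2) F, tauY * y ∈ Ps a b hab → y ∈ Ps a b hab := by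
      intro y hy
      have : y = tauY⁻¹ * (tauY * y) := by group
      rw [this]
      exact (Ps a b hab).mul_mem ((Ps a b hab).inv_mem (tauY_mem_Ps a b hab)) hy
    have h3 := key2 x x' (by rw [← h]; exact hτN)
    rw [← h] at h3
    rcases h3 with h3 | h3 | h3
    · left; exact hτ _ h3
    · right; left
      apply hτ
      have e : tauY * ((omY h2 a b hab)⁻¹ * g) = (omY h2 a b hab)⁻¹ * (tauY * g) := by
        have := omY_comm_tauY h2 a b hab
        have h5 : tauY * (omY h2 a b hab)⁻¹ = (omY h2 a b hab)⁻¹ * tauY := by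
          rw [eq_inv_mul_iff_mul_eq, ← mul_assoc, this, mul_assoc, mul_inv_cancel, mul_one]
        rw [← mul_assoc, h5, mul_assoc]
      rw [e]; exact h3
    · right; right
      apply hτ
      have e : tauY * (omY h2 a b hab * g) = omY h2 a b hab * (tauY * g) := by
        rw [← mul_assoc, ← omY_comm_tauY, mul_assoc]
      rw [e]; exact h3

theorem omY_not_mem_Ps : omY h2 a b hab ∉ Ps a b hab := by
  intro h
  unfold omY at h
  exact k3S_not_mem_Qs h2 a b hab ((Ehom_mem_Ps h2 a b hab).mp h).1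

theorem omY_sq_not_mem_Ps : omY h2 a b hab * omY h2 a b hab ∉ Ps a b hab := by
  intro h
  apply omY_not_mem_Ps h2 a b hab
  have h3 : omY h2 a b hab ^ 3 = 1 := by
    unfold omY
    rw [Ehom_pow, k3S_pow_three, ← Prod.one_eq_mk, map_one]
  have e : omY h2 a b hab = (omY h2 a b hab * omY h2 a b hab) * (omY h2 a b hab * omY h2 a b hab) := by
    have : (omY h2 a b hab * omY h2 a b hab) * (omY h2 a b hab * omY h2 a b hab) =
        omY h2 a b hab ^ 3 * omY h2 a b hab := by
      rw [pow_succ, pow_two]; group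
    rw [this, h3, one_mul]
  rw [e]
  exact (Ps a b hab).mul_mem h h

include h2 in
/-- if `2` is not a square, the `2`-elements of the normaliser of `P` lie in `P` -/
theorem mem_Ps_of_two_element (hns : ∀ s : F, s ^ 2 ≠ 2) (k : ℕ) :
    ∀ g : symplecticGroup (Fin 2) F,
      g ∈ Subgroup.normalizer ((Ps a b hab : Subgroup _) : Set _) → g ^ (2 ^ k) = 1 →
      g ∈ Ps a b hab := by
  have hoN := omY_mem_normalizer h2 a b hab hns
  have step : ∀ g : symplecticGroup (Fin 2) F,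
      g ∈ Subgroup.normalizer ((Ps a b hab : Subgroup _) : Set _) → g * g ∈ Ps a b hab →
      g ∈ Ps a b hab := by
    intro g hg hgg
    rcases normalizer_Ps_of_nonsq h2 a b hab hns g hg with h | h | h
    · exact h
    · exfalso
      apply omY_sq_not_mem_Ps h2 a b hab
      obtain ⟨p, hpdef⟩ : ∃ p, p = (omY h2 a b hab)⁻¹ * g := ⟨_, rfl⟩
      rw [← hpdef] at h
      have hgp : g = omY h2 a b hab * p := by rw [hpdef]; group
      have h5 : (omY h2 a b hab)⁻¹ * p * (omY h2 a b hab)⁻¹⁻¹ ∈ Ps a b hab :=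
        (Subgroup.mem_normalizer_iff.mp (Subgroup.inv_mem _ hoN) _).mp h
      have e : omY h2 a b hab * omY h2 a b hab =
          (g * g) * (((omY h2 a b hab)⁻¹ * p * (omY h2 a b hab)⁻¹⁻¹) * p)⁻¹ := by
        rw [hgp]; group
      rw [e]
      exact (Ps a b hab).mul_mem hgg ((Ps a b hab).inv_mem ((Ps a b hab).mul_mem h5 h))
    · exfalso
      apply omY_sq_not_mem_Ps h2 a b hab
      obtain ⟨p, hpdef⟩ : ∃ p, p = omY h2 a b hab * g := ⟨_, rfl⟩
      rw [← hpdef] at h
      have hgp : g = (omY h2 a b hab)⁻¹ * p := by rw [hpdef]; group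
      have h5 : omY h2 a b hab * p * (omY h2 a b hab)⁻¹ ∈ Ps a b hab :=
        (Subgroup.mem_normalizer_iff.mp hoN _).mp h
      have e : (omY h2 a b hab * omY h2 a b hab)⁻¹ =
          (g * g) * ((omY h2 a b hab * p * (omY h2 a b hab)⁻¹) * p)⁻¹ := by
        rw [hgp]; group
      have h6 : (omY h2 a b hab * omY h2 a b hab)⁻¹ ∈ Ps a b hab := by
        rw [e]
        exact (Ps a b hab).mul_mem hgg ((Ps a b hab).inv_mem ((Ps a b hab).mul_mem h5 h))
      exact (Ps a b hab).inv_mem_iff.mp h6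
  induction k with
  | zero =>
    intro g _ hk
    have : g = 1 := by simpa using hk
    rw [this]; exact (Ps a b hab).one_mem
  | succ k ih =>
    intro g hg hk
    apply step g hg
    apply ih (g * g) (Subgroup.mul_mem _ hg hg)
    rw [← pow_two, ← pow_mul, ← pow_succ']
    exact hk

end Q

end Cfsg.Agent.H9S4
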