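import Mathlib
import Cfsg.Agent.Lib.Helper9.Sp4Fus8

set_option autoImplicit false

/-!
# Strongly closed subgroups of `(Q × Q)⟨τ⟩` in `Sp₄`
-/

namespace Cfsg.Agent.H9S4

open Matrix Cfsg.Agent.H9L3

variable {F : Type*} [Field F]

/-- the element `X ⊗ H` of `Sp₄`, for `det X = 1/2` -/
def gH (h2 : (2 : F) ≠ 0) (X : Matrix (Fin 2) (Fin 2) F) (hX : X.det = 1 / 2) :
    symplecticGroup (Fin 2) F :=
  kronY X Hm (by
    rw [Hm_mul_transpose, hX, smul_smul]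
    field_simp
    simp)

theorem gH_coe (h2 : (2 : F) ≠ 0) (X : Matrix (Fin 2) (Fin 2) F) (hX : X.det = 1 / 2) :
    ((gH h2 X hX : symplecticGroup (Fin 2) F) : Matrix (Fin 2 ⊕ Fin 2) (Fin 2 ⊕ Fin 2) F) =
      kron X Hm := rfl

theorem gH_mul_t1Y (h2 : (2 : F) ≠ 0) (X : Matrix (Fin 2) (Fin 2) F) (hX : X.det = 1 / 2) :
    gH h2 X hX * t1Y = tauY * gH h2 X hX := by
  apply Subtype.ext
  rw [Submonoid.coe_mul, Submonoid.coe_mul, gH_coe, t1Y_coe, tauY_coe, Emat_neg_one_one', kron_mul,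
    kron_mul, mul_one, one_mul, Hm_mul_d1]

theorem t2Y_coe :
    ((t2Y : symplecticGroup (Fin 2) F) : Matrix (Fin 2 ⊕ Fin 2) (Fin 2 ⊕ Fin 2) F) =
      kron 1 (-d1) := by
  have : (t2Y : symplecticGroup (Fin 2) F) = negY * t1Y := negY_mul_t1Y.symm
  rw [this, Submonoid.coe_mul, negY_coe, t1Y_coe, Emat_neg_one_one', kron_neg_right]
  simp

theorem gH_mul_tauY (h2 : (2 : F) ≠ 0) (X : Matrix (Fin 2) (Fin 2) F) (hX : X.det = 1 / 2) :
    gH h2 X hX * tauY = t2Y * gH h2 X hX := by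
  apply Subtype.ext
  rw [Submonoid.coe_mul, Submonoid.coe_mul, gH_coe, t2Y_coe, tauY_coe, kron_mul,
    kron_mul, mul_one, one_mul, Hm_mul_swm]

/-- a convenient matrix of determinant `1/2` -/
def Xhalf : Matrix (Fin 2) (Fin 2) F := !![1, 0; 0, 1 / 2]

theorem det_Xhalf : (Xhalf : Matrix (Fin 2) (Fin 2) F).det = 1 / 2 := by
  unfold Xhalf
  rw [Matrix.det_fin_two]
  simp

section Q

variable (h2 : (2 : F) ≠ 0) (a b : F) (hab : a ^ 2 + b ^ 2 = -1)

theorem neg_one_inv : ((-1 : SpecialLinearGroup (Fin 2) F))⁻¹ = -1 :=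
  inv_eq_of_mul_eq_one_right neg_one_mul_neg_one

include h2 in
theorem Ps_le_of_strongly_closed (T : Subgroup (symplecticGroup (Fin 2) F))
    (hTP : T ≤ Ps a b hab) (hT1 : ∃ t ∈ T, t ≠ 1 ∧ t ≠ negY)
    (hsc : ∀ t ∈ T, ∀ g : symplecticGroup (Fin 2) F, g * t * g⁻¹ ∈ Ps a b hab → g * t * g⁻¹ ∈ T) :
    Ps a b hab ≤ T := by
  have hnorm : ∀ t ∈ T, ∀ p ∈ Ps a b hab, p * t * p⁻¹ ∈ T := by
    intro t ht p hp
    apply hsc t ht
    exact (Ps a b hab).mul_mem ((Ps a b hab).mul_mem hp (hTP ht)) ((Ps a b hab).inv_mem hp)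
  have hcomm1 : ∀ t ∈ T, ∀ p ∈ Ps a b hab, p * t * p⁻¹ * t⁻¹ ∈ T :=
    fun t ht p hp => T.mul_mem (hnorm t ht p hp) (T.inv_mem ht)
  have hcomm2 : ∀ t ∈ T, ∀ p ∈ Ps a b hab, t * p * t⁻¹ * p⁻¹ ∈ T := by
    intro t ht p hp
    have e : t * p * t⁻¹ * p⁻¹ = t * (p * t⁻¹ * p⁻¹) := by group
    rw [e]
    exact T.mul_mem ht (hnorm _ (T.inv_mem ht) p hp)
  have hL := LS_mem_Qs a b hab
  have hJ := J0S_mem_Qs a b hab
  have h1Q := (Qs a b hab).one_mem
  -- Lemma A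
  have lemA : ∀ x ∈ Qs a b hab, x ≠ 1 → x ≠ -1 → ∀ x' : SpecialLinearGroup (Fin 2) F,
      Ehom (x, x') ∈ T → (t1Y : symplecticGroup (Fin 2) F) ∈ T := by
    intro x hx hx1 hxn x' ht
    rcases (mem_Qs a b hab).mp hx with hU | ⟨u, hu, rfl⟩
    · have h3 := hcomm1 _ ht (Ehom (LS a b hab, 1)) (Ehom_mem_Ps_of_mem a b hab hL h1Q)
      rw [Ehom_inv, Ehom_inv, Ehom_mul, Ehom_mul, Ehom_mul, LS_conj' a b hab (U_le_T1 hU)] at h3
      have e : (1 : SpecialLinearGroup (Fin 2) F) * x' * 1⁻¹ * x'⁻¹ = 1 := by group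
      rw [e] at h3
      have hm : x⁻¹ * x⁻¹ ≠ 1 := by
        intro h
        have h4 : x * x = 1 := by
          have : x * x = (x⁻¹ * x⁻¹)⁻¹ := by rw [_root_.mul_inv_rev, inv_inv]
          rw [this, h, inv_one]
        rcases eq_one_or_neg_one_of_mul_self h2 x h4 with h5 | h5
        · exact hx1 h5
        · exact hxn h5
      obtain ⟨k, hk⟩ := (U.mul_mem (U.inv_mem hU) (U.inv_mem hU)).2
      obtain ⟨j, hj1, hj2⟩ := exists_pow_involution _ hm k hk
      have h5 : (x⁻¹ * x⁻¹) ^ (2 ^ j) = -1 := by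
        rcases eq_one_or_neg_one_of_mul_self h2 _ hj2 with h6 | h6
        · exact absurd h6 hj1
        · exact h6
      have h6 := T.pow_mem h3 (2 ^ j)
      rw [Ehom_pow, h5, one_pow] at h6
      exact h6
    · have h3 := hcomm2 _ ht (Ehom (J0S, 1)) (Ehom_mem_Ps_of_mem a b hab hJ h1Q)
      rw [Ehom_inv, Ehom_inv, Ehom_mul, Ehom_mul, Ehom_mul] at h3
      have e : x' * (1 : SpecialLinearGroup (Fin 2) F) * x'⁻¹ * 1⁻¹ = 1 := by group
      have e2 : u * LS a b hab * J0S * (u * LS a b hab)⁻¹ * J0S⁻¹ = -1 := by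
        have h4 : u * LS a b hab * J0S * (u * LS a b hab)⁻¹ =
            u * (LS a b hab * J0S * (LS a b hab)⁻¹) * u⁻¹ := by group
        rw [h4, LS_conj' a b hab J0S_mem_T1]
        have h5 : u * J0S⁻¹ * u⁻¹ = J0S⁻¹ := by
          rw [T1_comm (U_le_T1 hu) (T1.inv_mem J0S_mem_T1), mul_assoc, mul_inv_cancel, mul_one]
        rw [h5, ← _root_.mul_inv_rev, J0S_mul_J0S, neg_one_inv]
      rw [e, e2] at h3
      exact h3
  -- Step 1
  have ht1 : (t1Y : symplecticGroup (Fin 2) F) ∈ T := by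
    obtain ⟨t, ht, ht1, htn⟩ := hT1
    rcases (mem_Ps a b hab).mp (hTP ht) with ⟨x, hx, x', hx', rfl⟩ | ⟨x, hx, x', hx', rfl⟩
    · by_cases hc : x = 1 ∨ x = -1
      · by_cases hc' : x' = 1 ∨ x' = -1
        · rcases hc with rfl | rfl <;> rcases hc' with rfl | rfl
          · exfalso; apply ht1; rw [← Prod.one_eq_mk, map_one]
          · have h3 := hnorm _ ht tauY (tauY_mem_Ps a b hab)
            rw [tauY_conj] at h3
            exact h3
          · exact ht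
          · exact absurd rfl htn
        · rw [not_or] at hc'
          have h3 := hnorm _ ht tauY (tauY_mem_Ps a b hab)
          rw [tauY_conj] at h3
          exact lemA x' hx' hc'.1 hc'.2 x h3
      · rw [not_or] at hc
        exact lemA x hx hc.1 hc.2 x' ht
    · have h3 := hcomm2 _ ht (Ehom (J0S, 1)) (Ehom_mem_Ps_of_mem a b hab hJ h1Q)
      have e : (Ehom (x, x') * tauY : symplecticGroup (Fin 2) F) * Ehom (J0S, 1) *
          (Ehom (x, x') * tauY)⁻¹ * (Ehom (J0S, 1))⁻¹ = Ehom (J0S⁻¹, x' * J0S * x'⁻¹) := by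
        have e1 : (Ehom (x, x') * tauY : symplecticGroup (Fin 2) F) * Ehom (J0S, 1) *
            (Ehom (x, x') * tauY)⁻¹ =
            Ehom (x, x') * (tauY * Ehom (J0S, 1) * tauY⁻¹) * (Ehom (x, x'))⁻¹ := by group
        rw [e1, tauY_conj, Ehom_inv, Ehom_inv, Ehom_mul, Ehom_mul, Ehom_mul]
        congr 2
        · group
        · group
      rw [e] at h3
      refine lemA _ ((Qs a b hab).inv_mem hJ) ?_ ?_ _ h3
      · intro h
        have h4 : (J0S : SpecialLinearGroup (Fin 2) F) = 1 := by rw [← inv_inv J0S, h, inv_one]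
        have h5 := J0S_mul_J0S (F := F)
        rw [h4, one_mul] at h5
        exact neg_one_ne_one h2 h5.symm
      · intro h
        have h4 : (J0S : SpecialLinearGroup (Fin 2) F) = -1 := by
          rw [← inv_inv J0S, h, neg_one_inv]
        have h5 := J0S_mul_J0S (F := F)
        rw [h4, neg_one_mul_neg_one] at h5
        exact neg_one_ne_one h2 h5.symm
  -- Step 2
  have hτ : (tauY : symplecticGroup (Fin 2) F) ∈ T := by
    have h3 := hsc _ ht1 (gH h2 Xhalf det_Xhalf)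
    have e : gH h2 Xhalf det_Xhalf * t1Y * (gH h2 Xhalf det_Xhalf)⁻¹ = tauY := by
      rw [gH_mul_t1Y, mul_assoc, mul_inv_cancel, mul_one]
    rw [e] at h3
    exact h3 (tauY_mem_Ps a b hab)
  -- Step 3
  have h3 : ∀ u ∈ Qs a b hab, (Ehom (u, u⁻¹) : symplecticGroup (Fin 2) F) ∈ T := by
    intro u hu
    have h4 := hcomm1 _ hτ (Ehom (u, 1)) (Ehom_mem_Ps_of_mem a b hab hu h1Q)
    have e : (Ehom (u, 1) : symplecticGroup (Fin 2) F) * tauY * (Ehom (u, 1))⁻¹ * tauY⁻¹ =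
        Ehom (u, u⁻¹) := by
      have e1 : (Ehom (u, 1) : symplecticGroup (Fin 2) F) * tauY * (Ehom (u, 1))⁻¹ * tauY⁻¹ =
          Ehom (u, 1) * (tauY * (Ehom (u, 1))⁻¹ * tauY⁻¹) := by group
      rw [e1, Ehom_inv, tauY_conj, Ehom_mul, inv_one, mul_one, one_mul]
    rw [e] at h4
    exact h4
  -- Step 4
  have h4 : ∀ (a' b' : F) (h' : a' ^ 2 + b' ^ 2 = -1), LS a' b' h' ∈ Qs a b hab →
      (Ehom (LS a' b' h' * J0S⁻¹, 1) : symplecticGroup (Fin 2) F) ∈ T := by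
    intro a' b' h' hLQ
    have h5 := h3 J0S hJ
    have h6 := hsc _ h5 (Ehom (k3S h2 a' b' h', 1))
    rw [Ehom_inv, Ehom_mul, Ehom_mul, k3S_conj_J0S] at h6
    have e : (1 : SpecialLinearGroup (Fin 2) F) * J0S⁻¹ * 1⁻¹ = J0S⁻¹ := by group
    rw [e] at h6
    have h7 := h6 (Ehom_mem_Ps_of_mem a b hab hLQ ((Qs a b hab).inv_mem hJ))
    have h8 := T.mul_mem h7 (T.inv_mem h5)
    rw [Ehom_inv, Ehom_mul, inv_inv, inv_mul_cancel] at h8
    exact h8
  -- Step 5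
  have h5 : ∀ u ∈ (U : Subgroup (SpecialLinearGroup (Fin 2) F)),
      (Ehom (u * LS a b hab, 1) : symplecticGroup (Fin 2) F) ∈ T := by
    intro u hu
    have hu' : u * J0S⁻¹ ∈ (U : Subgroup (SpecialLinearGroup (Fin 2) F)) :=
      U.mul_mem hu (U.inv_mem J0S_mem_U)
    obtain ⟨a', b', h', hab'⟩ := exists_LS_of_UL a b hab (U_le_T1 hu')
    have hLQ : LS a' b' h' ∈ Qs a b hab := by
      rw [← hab']
      exact (mem_Qs a b hab).mpr (Or.inr ⟨_, hu', rfl⟩)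
    have h6 := h4 a' b' h' hLQ
    have e : LS a' b' h' * J0S⁻¹ = u * LS a b hab := by
      rw [← hab']
      have h7 : LS a b hab * J0S⁻¹ = J0S * LS a b hab := by
        have := LS_conj a b hab (T1.inv_mem (J0S_mem_T1 (F := F)))
        rw [inv_inv] at this
        exact this
      rw [mul_assoc, h7]
      group
    rw [e] at h6
    exact h6
  -- Step 6
  have h6 : ∀ x ∈ Qs a b hab, (Ehom (x, 1) : symplecticGroup (Fin 2) F) ∈ T := by
    have hL1 : (Ehom (LS a b hab, 1) : symplecticGroup (Fin 2) F) ∈ T := by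
      have := h5 1 U.one_mem
      rwa [one_mul] at this
    intro x hx
    rcases (mem_Qs a b hab).mp hx with hU | ⟨u, hu, rfl⟩
    · have h7 := T.mul_mem (h5 x hU) (T.inv_mem hL1)
      rw [Ehom_inv, Ehom_mul, mul_assoc, mul_inv_cancel, mul_one, inv_one, mul_one] at h7
      exact h7
    · exact h5 u hu
  have h7 : ∀ x ∈ Qs a b hab, (Ehom (1, x) : symplecticGroup (Fin 2) F) ∈ T := by
    intro x hx
    have := hnorm _ (h6 x hx) tauY (tauY_mem_Ps a b hab)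
    rwa [tauY_conj] at this
  have h8 : ∀ x ∈ Qs a b hab, ∀ x' ∈ Qs a b hab,
      (Ehom (x, x') : symplecticGroup (Fin 2) F) ∈ T := by
    intro x hx x' hx'
    have := T.mul_mem (h6 x hx) (h7 x' hx')
    rwa [Ehom_mul, mul_one, one_mul] at this
  intro p hp
  rcases (mem_Ps a b hab).mp hp with ⟨x, hx, x', hx', rfl⟩ | ⟨x, hx, x', hx', rfl⟩
  · exact h8 x hx x' hx'
  · exact T.mul_mem (h8 x hx x' hx') hτ

end Q

end Cfsg.Agent.H9S4
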