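import Mathlib
import Cfsg.Agent.Lib.Helper9.Sp4Fus9

set_option autoImplicit false

/-!
# The extraspecial subgroup `2^{1+4}_-` of `Sp₄` and elements of its normaliser
-/

namespace Cfsg.Agent.H9S4

open Matrix Cfsg.Agent.H9L3

variable {F : Type*} [Field F]

/-- `(1 + K)/2` with `K = J L` -/
def X1 (a b : F) : Matrix (Fin 2) (Fin 2) F := (1 / 2 : F) • (1 + L2 (-b) a)

/-- `(1 + J)/2` -/
def X2 : Matrix (Fin 2) (Fin 2) F := (1 / 2 : F) • kap 1 1

theorem det_X1 (h2 : (2 : F) ≠ 0) (a b : F) (hab : a ^ 2 + b ^ 2 = -1) : (X1 a b).det = 1 / 2 := by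
  unfold X1 L2
  rw [Matrix.det_fin_two]
  simp
  field_simp
  linear_combination (-1 : F) * hab

theorem det_X2 (h2 : (2 : F) ≠ 0) : (X2 : Matrix (Fin 2) (Fin 2) F).det = 1 / 2 := by
  unfold X2 kap
  rw [Matrix.det_fin_two]
  simp
  field_simp
  ring

theorem X1_m3 (h2 : (2 : F) ≠ 0) (a b : F) (hab : a ^ 2 + b ^ 2 = -1) :
    X1 a b * kap 0 1 = L2 a b * X1 a b := by
  unfold X1 L2 kap
  ext i j
  fin_cases i <;> fin_cases j <;> simp [Matrix.mul_apply, Fin.sum_univ_two] <;> field_simp <;>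
    first
      | linear_combination hab
      | linear_combination -hab
      | linear_combination (2 : F) * hab
      | linear_combination (-2 : F) * hab
      | ring

theorem X1_m4 (h2 : (2 : F) ≠ 0) (a b : F) (hab : a ^ 2 + b ^ 2 = -1) :
    X1 a b * L2 a b = kap 0 (-1) * X1 a b := by
  unfold X1 L2 kap
  ext i j
  fin_cases i <;> fin_cases j <;> simp [Matrix.mul_apply, Fin.sum_univ_two] <;> field_simp <;>
    first
      | linear_combination hab
      | linear_combination -hab
      | linear_combination (2 : F) * hab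
      | linear_combination (-2 : F) * hab
      | ring

theorem X2_m5 : (X2 : Matrix (Fin 2) (Fin 2) F) * kap 0 1 = kap 0 1 * X2 := by
  unfold X2 kap
  ext i j
  fin_cases i <;> fin_cases j <;> simp [Matrix.mul_apply, Fin.sum_univ_two]

theorem X2_m6 (a b : F) : (X2 : Matrix (Fin 2) (Fin 2) F) * L2 a b = L2 (-b) a * X2 := by
  unfold X2 L2 kap
  ext i j
  fin_cases i <;> fin_cases j <;> simp [Matrix.mul_apply, Fin.sum_univ_two] <;> ring

theorem X1_m7 (h2 : (2 : F) ≠ 0) (a b : F) (hab : a ^ 2 + b ^ 2 = -1) :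
    X1 a b * X1 a b = (1 / 2 : F) • L2 (-b) a := by
  unfold X1 L2
  ext i j
  fin_cases i <;> fin_cases j <;> simp [Matrix.mul_apply, Fin.sum_univ_two] <;> field_simp <;>
    first
      | linear_combination hab
      | linear_combination -hab
      | linear_combination (2 : F) * hab
      | linear_combination (-2 : F) * hab
      | ring

theorem X2_m8 (h2 : (2 : F) ≠ 0) : (X2 : Matrix (Fin 2) (Fin 2) F) * X2 = (1 / 2 : F) • kap 0 1 := by
  unfold X2 kap
  ext i j
  fin_cases i <;> fin_cases j <;> simp [Matrix.mul_apply, Fin.sum_univ_two] <;> field_simp <;> ring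

theorem k3_m9 (h2 : (2 : F) ≠ 0) (a b : F) (hab : a ^ 2 + b ^ 2 = -1) :
    k3Mat a b * k3Mat a b * X1 a b = kap 0 1 * X2 := by
  rw [k3_R4 h2 a b hab]
  unfold k3Mat X1 X2 L2 kap
  ext i j
  fin_cases i <;> fin_cases j <;> simp [Matrix.mul_apply, Fin.sum_univ_two] <;> field_simp <;>
    first
      | linear_combination hab
      | linear_combination -hab
      | linear_combination (2 : F) * hab
      | linear_combination (-2 : F) * hab
      | ring


section generic

variable {G : Type*} [Group G]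

theorem mem_normalizer_closure [Finite G] (S : Set G) (n : G)
    (h : ∀ s ∈ S, n * s * n⁻¹ ∈ Subgroup.closure S) :
    n ∈ Subgroup.normalizer ((Subgroup.closure S : Subgroup G) : Set G) := by
  apply Subgroup.mem_normalizer_fintype
  intro t ht
  have ht' : t ∈ Subgroup.closure S := ht
  show n * t * n⁻¹ ∈ Subgroup.closure S
  induction ht' using Subgroup.closure_induction with
  | mem x hx => exact h x hx
  | one =>
    rw [mul_one, mul_inv_cancel]
    exact Subgroup.one_mem _
  | mul x y hx hy hx' hy' =>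
    have : n * (x * y) * n⁻¹ = (n * x * n⁻¹) * (n * y * n⁻¹) := by group
    rw [this]
    exact Subgroup.mul_mem _ (hx' hx) (hy' hy)
  | inv x hx hx' =>
    have : n * x⁻¹ * n⁻¹ = (n * x * n⁻¹)⁻¹ := by group
    rw [this]
    exact Subgroup.inv_mem _ (hx' hx)

/-- `x` commutes or anticommutes with `r` (with respect to the central involution `z`) -/
def AC (z x r : G) : Prop := x * r = r * x ∨ x * r = z * (r * x)

theorem AC_of_comm (z x r : G) (h : x * r * x⁻¹ * r⁻¹ = 1 ∨ x * r * x⁻¹ * r⁻¹ = z) : AC z x r := by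
  rcases h with h | h
  · left
    have : x * r = (x * r * x⁻¹ * r⁻¹) * (r * x) := by group
    rw [this, h, one_mul]
  · right
    have : x * r = (x * r * x⁻¹ * r⁻¹) * (r * x) := by group
    rw [this, h]

theorem fix_sign (z : G) (hz : ∀ g : G, z * g = g * z) (hzz : z * z = 1) (x r s : G)
    (h : AC z x r) (hsr : s * r = z * (r * s)) :
    ∃ e, (e = 1 ∨ e = s) ∧ (x * e) * r = r * (x * e) := by
  rcases h with h | h
  · exact ⟨1, Or.inl rfl, by rw [mul_one, h]⟩
  · refine ⟨s, Or.inr rfl, ?_⟩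
    calc x * s * r = x * (s * r) := by group
      _ = x * (z * (r * s)) := by rw [hsr]
      _ = z * (x * r) * s := by rw [← mul_assoc x z, ← hz x]; group
      _ = z * (z * (r * x)) * s := by rw [h]
      _ = (z * z) * (r * (x * s)) := by group
      _ = r * (x * s) := by rw [hzz, one_mul]

theorem AC_mul (z x e r : G) (h : AC z x r) (he : e * r = r * e) : AC z (x * e) r := by
  rcases h with h | h
  · left
    rw [mul_assoc, he, ← mul_assoc, h, mul_assoc]
  · right
    rw [mul_assoc, he, ← mul_assoc, h]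
    group

theorem comm_mul (x e r : G) (h : x * r = r * x) (he : e * r = r * e) :
    (x * e) * r = r * (x * e) := by
  rw [mul_assoc, he, ← mul_assoc, h, mul_assoc]

end generic

section Q

variable (h2 : (2 : F) ≠ 0) (a b : F) (hab : a ^ 2 + b ^ 2 = -1)

/-- the extraspecial subgroup `2^{1+4}_-` -/
def Rs : Subgroup (symplecticGroup (Fin 2) F) :=
  Subgroup.closure {jY, lY a b hab, tauY, t1Y}

theorem jY_mem_Rs : (jY : symplecticGroup (Fin 2) F) ∈ Rs a b hab :=
  Subgroup.subset_closure (by simp)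

theorem lY_mem_Rs : lY a b hab ∈ Rs a b hab :=
  Subgroup.subset_closure (by simp)

theorem tauY_mem_Rs : (tauY : symplecticGroup (Fin 2) F) ∈ Rs a b hab :=
  Subgroup.subset_closure (by simp)

theorem t1Y_mem_Rs : (t1Y : symplecticGroup (Fin 2) F) ∈ Rs a b hab :=
  Subgroup.subset_closure (by simp)

theorem jY_mul_jY : (jY : symplecticGroup (Fin 2) F) * jY = negY := by
  unfold jY negY
  rw [Ehom_mul, J0S_mul_J0S]

theorem negY_mem_Rs : (negY : symplecticGroup (Fin 2) F) ∈ Rs a b hab := by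
  rw [← jY_mul_jY]
  exact (Rs a b hab).mul_mem (jY_mem_Rs a b hab) (jY_mem_Rs a b hab)

theorem t2Y_mem_Rs : (t2Y : symplecticGroup (Fin 2) F) ∈ Rs a b hab := by
  rw [← negY_mul_t1Y]
  exact (Rs a b hab).mul_mem (negY_mem_Rs a b hab) (t1Y_mem_Rs a b hab)

theorem Rs_le_Ps : Rs a b hab ≤ Ps a b hab := by
  unfold Rs
  rw [Subgroup.closure_le]
  rintro g (rfl | rfl | rfl | rfl)
  · exact Ehom_mem_Ps_of_mem a b hab (J0S_mem_Qs a b hab) (J0S_mem_Qs a b hab)
  · exact Ehom_mem_Ps_of_mem a b hab (LS_mem_Qs a b hab) (LS_mem_Qs a b hab)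
  · exact tauY_mem_Ps a b hab
  · exact t1Y_mem_Ps a b hab

theorem J0S_inv : (J0S : SpecialLinearGroup (Fin 2) F)⁻¹ = -J0S := by
  apply inv_eq_of_mul_eq_one_right
  rw [mul_neg, J0S_mul_J0S, neg_neg]

theorem LS_mul_J0S : LS a b hab * J0S = -(J0S * LS a b hab) := by
  rw [LS_conj a b hab J0S_mem_T1, J0S_inv, neg_mul]

theorem lY_mul_jY : lY a b hab * jY = negY * (jY * lY a b hab) := by
  unfold lY jY negY
  rw [Ehom_mul, Ehom_mul, Ehom_mul, LS_mul_J0S, neg_one_mul]

theorem jY_mul_lY : jY * lY a b hab = negY * (lY a b hab * jY) := by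
  rw [lY_mul_jY, ← mul_assoc, negY_mul_negY, one_mul]

theorem tauY_mul_t1Y : (tauY : symplecticGroup (Fin 2) F) * t1Y = negY * (t1Y * tauY) := by
  unfold t1Y
  rw [tauY_mul_Ehom, ← mul_assoc]
  unfold negY
  rw [Ehom_mul, neg_one_mul_neg_one, neg_one_mul]

theorem t1Y_mul_tauY : (t1Y : symplecticGroup (Fin 2) F) * tauY = negY * (tauY * t1Y) := by
  rw [tauY_mul_t1Y, ← mul_assoc, negY_mul_negY, one_mul]

theorem tauY_mul_jY : (tauY : symplecticGroup (Fin 2) F) * jY = jY * tauY := by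
  unfold jY
  rw [tauY_mul_Ehom]

theorem tauY_mul_lY : (tauY : symplecticGroup (Fin 2) F) * lY a b hab = lY a b hab * tauY := by
  unfold lY
  rw [tauY_mul_Ehom]

theorem t1Y_mul_jY : (t1Y : symplecticGroup (Fin 2) F) * jY = jY * t1Y := by
  unfold jY t1Y
  rw [Ehom_mul, Ehom_mul, neg_one_comm, one_mul, mul_one]

theorem t1Y_mul_lY : (t1Y : symplecticGroup (Fin 2) F) * lY a b hab = lY a b hab * t1Y := by
  unfold lY t1Y
  rw [Ehom_mul, Ehom_mul, neg_one_comm, one_mul, mul_one]

include h2 in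
/-- the extraspecial subgroup contains every element centralising it modulo the centre -/
theorem mem_Rs_of_centralizes (x : symplecticGroup (Fin 2) F)
    (hx : ∀ r ∈ Rs a b hab, x * r * x⁻¹ * r⁻¹ = 1 ∨ x * r * x⁻¹ * r⁻¹ = negY) :
    x ∈ Rs a b hab := by
  have hz : ∀ g : symplecticGroup (Fin 2) F, negY * g = g * negY := negY_comm
  have a1 := AC_of_comm negY x jY (hx _ (jY_mem_Rs a b hab))
  have a2 := AC_of_comm negY x (lY a b hab) (hx _ (lY_mem_Rs a b hab))
  have a3 := AC_of_comm negY x tauY (hx _ (tauY_mem_Rs a b hab))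
  have a4 := AC_of_comm negY x t1Y (hx _ (t1Y_mem_Rs a b hab))
  -- fix `jY` using `lY`
  obtain ⟨e1, he1, c1⟩ := fix_sign negY hz negY_mul_negY x jY (lY a b hab) a1 (lY_mul_jY a b hab)
  have he1R : e1 ∈ Rs a b hab := by
    rcases he1 with rfl | rfl
    · exact Subgroup.one_mem _
    · exact lY_mem_Rs a b hab
  have b2 : AC negY (x * e1) (lY a b hab) := by
    apply AC_mul _ _ _ _ a2
    rcases he1 with rfl | rfl
    · rw [one_mul, mul_one]
    · rfl
  have b3 : AC negY (x * e1) tauY := by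
    apply AC_mul _ _ _ _ a3
    rcases he1 with rfl | rfl
    · rw [one_mul, mul_one]
    · exact (tauY_mul_lY a b hab).symm
  have b4 : AC negY (x * e1) t1Y := by
    apply AC_mul _ _ _ _ a4
    rcases he1 with rfl | rfl
    · rw [one_mul, mul_one]
    · exact (t1Y_mul_lY a b hab).symm
  -- fix `lY` using `jY`
  obtain ⟨e2, he2, c2⟩ := fix_sign negY hz negY_mul_negY (x * e1) (lY a b hab) jY b2
    (jY_mul_lY a b hab)
  have he2R : e2 ∈ Rs a b hab := by
    rcases he2 with rfl | rfl
    · exact Subgroup.one_mem _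
    · exact jY_mem_Rs a b hab
  have d1' : (x * e1 * e2) * jY = jY * (x * e1 * e2) := by
    apply comm_mul _ _ _ c1
    rcases he2 with rfl | rfl
    · rw [one_mul, mul_one]
    · rfl
  have d3 : AC negY (x * e1 * e2) tauY := by
    apply AC_mul _ _ _ _ b3
    rcases he2 with rfl | rfl
    · rw [one_mul, mul_one]
    · exact (tauY_mul_jY).symm
  have d4 : AC negY (x * e1 * e2) t1Y := by
    apply AC_mul _ _ _ _ b4
    rcases he2 with rfl | rfl
    · rw [one_mul, mul_one]
    · exact (t1Y_mul_jY).symm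
  -- fix `tauY` using `t1Y`
  obtain ⟨e3, he3, c3⟩ := fix_sign negY hz negY_mul_negY (x * e1 * e2) tauY t1Y d3 t1Y_mul_tauY
  have he3R : e3 ∈ Rs a b hab := by
    rcases he3 with rfl | rfl
    · exact Subgroup.one_mem _
    · exact t1Y_mem_Rs a b hab
  have f1 : (x * e1 * e2 * e3) * jY = jY * (x * e1 * e2 * e3) := by
    apply comm_mul _ _ _ d1'
    rcases he3 with rfl | rfl
    · rw [one_mul, mul_one]
    · exact t1Y_mul_jY
  have f2 : (x * e1 * e2 * e3) * lY a b hab = lY a b hab * (x * e1 * e2 * e3) := by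
    apply comm_mul _ _ _ c2
    rcases he3 with rfl | rfl
    · rw [one_mul, mul_one]
    · exact t1Y_mul_lY a b hab
  have f4 : AC negY (x * e1 * e2 * e3) t1Y := by
    apply AC_mul _ _ _ _ d4
    rcases he3 with rfl | rfl
    · rw [one_mul, mul_one]
    · rfl
  -- fix `t1Y` using `tauY`
  obtain ⟨e4, he4, c4⟩ := fix_sign negY hz negY_mul_negY (x * e1 * e2 * e3) t1Y tauY f4 tauY_mul_t1Y
  have he4R : e4 ∈ Rs a b hab := by
    rcases he4 with rfl | rfl
    · exact Subgroup.one_mem _
    · exact tauY_mem_Rs a b hab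
  have g1 : (x * e1 * e2 * e3 * e4) * jY = jY * (x * e1 * e2 * e3 * e4) := by
    apply comm_mul _ _ _ f1
    rcases he4 with rfl | rfl
    · rw [one_mul, mul_one]
    · exact tauY_mul_jY
  have g2 : (x * e1 * e2 * e3 * e4) * lY a b hab = lY a b hab * (x * e1 * e2 * e3 * e4) := by
    apply comm_mul _ _ _ f2
    rcases he4 with rfl | rfl
    · rw [one_mul, mul_one]
    · exact tauY_mul_lY a b hab
  have g3 : (x * e1 * e2 * e3 * e4) * tauY = tauY * (x * e1 * e2 * e3 * e4) := by
    apply comm_mul _ _ _ c3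
    rcases he4 with rfl | rfl
    · rw [one_mul, mul_one]
    · rfl
  have hy : x * e1 * e2 * e3 * e4 ∈ Rs a b hab := by
    rcases eq_one_or_negY_of_commute h2 a b hab _ c4 g3 g1 g2 with h | h
    · rw [h]; exact Subgroup.one_mem _
    · rw [h]; exact negY_mem_Rs a b hab
  have e : x = (x * e1 * e2 * e3 * e4) * e4⁻¹ * e3⁻¹ * e2⁻¹ * e1⁻¹ := by group
  rw [e]
  exact (Rs a b hab).mul_mem ((Rs a b hab).mul_mem ((Rs a b hab).mul_mem ((Rs a b hab).mul_mem hy
    ((Rs a b hab).inv_mem he4R)) ((Rs a b hab).inv_mem he3R)) ((Rs a b hab).inv_mem he2R))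
    ((Rs a b hab).inv_mem he1R)

end Q

end Cfsg.Agent.H9S4
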