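import Mathlib
import Cfsg.Agent.Lib.Helper9.Sp4Fus10
import Cfsg.Agent.Lib.Helper9.L3Fus1

set_option autoImplicit false

/-!
# The element of order three is a product of `2`-elements normalising `2^{1+4}_-`
-/

namespace Cfsg.Agent.H9S4

open Matrix Cfsg.Agent.H9L3

variable {F : Type*} [Field F]

theorem neg_kap (x y : F) : -kap x y = kap (-x) (-y) := by
  unfold kap
  ext i j
  fin_cases i <;> fin_cases j <;> simp

theorem gH_mul_gH (h2 : (2 : F) ≠ 0) (X : Matrix (Fin 2) (Fin 2) F) (hX : X.det = 1 / 2)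
    (v : Matrix (Fin 2) (Fin 2) F) (hXX : X * X = (1 / 2 : F) • v) :
    ((gH h2 X hX * gH h2 X hX : symplecticGroup (Fin 2) F) :
      Matrix (Fin 2 ⊕ Fin 2) (Fin 2 ⊕ Fin 2) F) = kron v (kap 0 (-1)) := by
  rw [Submonoid.coe_mul, gH_coe, kron_mul, hXX, Hm_mul_Hm, kron_smul_left, kron_smul_right,
    smul_smul]
  have : (1 / 2 : F) * 2 = 1 := by field_simp
  rw [this, one_smul]

theorem gH_pow_four (h2 : (2 : F) ≠ 0) (X : Matrix (Fin 2) (Fin 2) F) (hX : X.det = 1 / 2)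
    (v : Matrix (Fin 2) (Fin 2) F) (hv : v * v = -1) (hXX : X * X = (1 / 2 : F) • v) :
    gH h2 X hX ^ 4 = 1 := by
  have e : gH h2 X hX ^ 4 = (gH h2 X hX * gH h2 X hX) * (gH h2 X hX * gH h2 X hX) := by
    rw [pow_succ, pow_succ, pow_two]
    group
  rw [e]
  apply Subtype.ext
  rw [Submonoid.coe_mul, gH_mul_gH h2 X hX v hXX, kron_mul, hv, kap_mul]
  have : kap ((0 : F) * 0 - -1 * -1) (0 * -1 + -1 * 0) = -1 := by
    unfold kap
    ext i j
    fin_cases i <;> fin_cases j <;> simp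
  rw [this, kron_neg_left, kron_neg_right, neg_neg, kron_one_one]
  rfl

section Q

variable (h2 : (2 : F) ≠ 0) (a b : F) (hab : a ^ 2 + b ^ 2 = -1)

/-- the element `(1 + K)/2 ⊗ H` -/
def k1Y : symplecticGroup (Fin 2) F := gH h2 (X1 a b) (det_X1 h2 a b hab)

/-- the element `(1 + J)/2 ⊗ H` -/
def k2Y : symplecticGroup (Fin 2) F := gH h2 X2 (det_X2 h2)

theorem k1Y_pow : k1Y h2 a b hab ^ (2 ^ 2) = 1 := by
  apply gH_pow_four h2 _ _ (L2 (-b) a) _ (X1_m7 h2 a b hab)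
  rw [L2_mul_L2]
  have : kap (-b * -b + a * a) (a * -b - -b * a) = -1 := by
    have h1 : -b * -b + a * a = -1 := by linear_combination hab
    have h3 : a * -b - -b * a = 0 := by ring
    rw [h1, h3]
    unfold kap
    ext i j
    fin_cases i <;> fin_cases j <;> simp
  rw [this]

theorem k2Y_pow : k2Y h2 ^ (2 ^ 2) = 1 := by
  apply gH_pow_four h2 _ _ (kap 0 1) _ (X2_m8 h2)
  rw [kap_mul]
  unfold kap
  ext i j
  fin_cases i <;> fin_cases j <;> simp

theorem negY_mul_jY_coe :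
    ((negY * jY : symplecticGroup (Fin 2) F) : Matrix (Fin 2 ⊕ Fin 2) (Fin 2 ⊕ Fin 2) F) =
      kron (kap 0 (-1)) 1 := by
  rw [Submonoid.coe_mul, negY_coe, jY_coe, neg_one_mul, ← kron_neg_left, neg_kap, neg_zero]

theorem jY_mul_lY_coe :
    ((jY * lY a b hab : symplecticGroup (Fin 2) F) : Matrix (Fin 2 ⊕ Fin 2) (Fin 2 ⊕ Fin 2) F) =
      kron (L2 (-b) a) 1 := by
  rw [Submonoid.coe_mul, jY_coe, lY_coe, kron_mul, kap_mul_L2, mul_one]
  congr 2 <;> ring

theorem k1Y_mul_jY : k1Y h2 a b hab * jY = lY a b hab * k1Y h2 a b hab := by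
  apply Subtype.ext
  unfold k1Y
  rw [Submonoid.coe_mul, Submonoid.coe_mul, gH_coe, jY_coe, lY_coe, kron_mul, kron_mul, mul_one,
    one_mul, X1_m3 h2 a b hab]

theorem k1Y_mul_lY : k1Y h2 a b hab * lY a b hab = (negY * jY) * k1Y h2 a b hab := by
  apply Subtype.ext
  unfold k1Y
  rw [Submonoid.coe_mul, Submonoid.coe_mul, negY_mul_jY_coe, gH_coe, lY_coe, kron_mul,
    kron_mul, mul_one, one_mul, X1_m4 h2 a b hab]

theorem k2Y_mul_jY : k2Y h2 * jY = jY * k2Y h2 := by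
  apply Subtype.ext
  unfold k2Y
  rw [Submonoid.coe_mul, Submonoid.coe_mul, gH_coe, jY_coe, kron_mul, kron_mul, mul_one,
    one_mul, X2_m5]

theorem k2Y_mul_lY : k2Y h2 * lY a b hab = (jY * lY a b hab) * k2Y h2 := by
  apply Subtype.ext
  unfold k2Y
  rw [Submonoid.coe_mul, Submonoid.coe_mul, jY_mul_lY_coe, gH_coe, lY_coe,
    kron_mul, kron_mul, mul_one, one_mul, X2_m6]

theorem omY_sq_mul_k1Y :
    (omY h2 a b hab * omY h2 a b hab) * k1Y h2 a b hab = jY * k2Y h2 := by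
  apply Subtype.ext
  unfold k1Y k2Y omY
  rw [Submonoid.coe_mul, Submonoid.coe_mul, Submonoid.coe_mul, gH_coe, gH_coe, jY_coe, Ehom_coe,
    Emat_same, k3S_coe, kron_mul, kron_mul, kron_mul, mul_one, one_mul,
    k3_m9 h2 a b hab]

variable [Finite F]

theorem gH_mem_normalizer_Rs (X : Matrix (Fin 2) (Fin 2) F) (hX : X.det = 1 / 2)
    (hj : ∃ r ∈ Rs a b hab, gH h2 X hX * jY = r * gH h2 X hX)
    (hl : ∃ r ∈ Rs a b hab, gH h2 X hX * lY a b hab = r * gH h2 X hX) :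
    gH h2 X hX ∈ Subgroup.normalizer ((Rs a b hab : Subgroup _) : Set _) := by
  unfold Rs
  apply mem_normalizer_closure
  have conj : ∀ s r : symplecticGroup (Fin 2) F, gH h2 X hX * s = r * gH h2 X hX →
      gH h2 X hX * s * (gH h2 X hX)⁻¹ = r := by
    intro s r h
    rw [h, mul_assoc, mul_inv_cancel, mul_one]
  rintro s (rfl | rfl | rfl | rfl)
  · obtain ⟨r, hr, h⟩ := hj
    rw [conj _ _ h]; exact hr
  · obtain ⟨r, hr, h⟩ := hl
    rw [conj _ _ h]; exact hr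
  · rw [conj _ _ (gH_mul_tauY h2 X hX)]; exact t2Y_mem_Rs a b hab
  · rw [conj _ _ (gH_mul_t1Y h2 X hX)]; exact tauY_mem_Rs a b hab

theorem omY_mem_closure :
    omY h2 a b hab ∈ Subgroup.closure {k : symplecticGroup (Fin 2) F |
      k ∈ Subgroup.normalizer ((Rs a b hab : Subgroup _) : Set _) ∧
        ∃ j : ℕ, orderOf k = 2 ^ j} := by
  have : Fact (Nat.Prime 2) := ⟨Nat.prime_two⟩
  have hk1 : k1Y h2 a b hab ∈ Subgroup.closure {k : symplecticGroup (Fin 2) F |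
      k ∈ Subgroup.normalizer ((Rs a b hab : Subgroup _) : Set _) ∧
        ∃ j : ℕ, orderOf k = 2 ^ j} := by
    apply Subgroup.subset_closure
    refine ⟨?_, orderOf_eq_prime_pow_of_pow_eq_one 2 _ 2 (k1Y_pow h2 a b hab)⟩
    apply gH_mem_normalizer_Rs
    · exact ⟨_, lY_mem_Rs a b hab, k1Y_mul_jY h2 a b hab⟩
    · exact ⟨_, (Rs a b hab).mul_mem (negY_mem_Rs a b hab) (jY_mem_Rs a b hab),
        k1Y_mul_lY h2 a b hab⟩
  have hk2 : k2Y h2 ∈ Subgroup.closure {k : symplecticGroup (Fin 2) F |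
      k ∈ Subgroup.normalizer ((Rs a b hab : Subgroup _) : Set _) ∧
        ∃ j : ℕ, orderOf k = 2 ^ j} := by
    apply Subgroup.subset_closure
    refine ⟨?_, orderOf_eq_prime_pow_of_pow_eq_one 2 _ 2 (k2Y_pow h2)⟩
    apply gH_mem_normalizer_Rs
    · exact ⟨_, jY_mem_Rs a b hab, k2Y_mul_jY h2⟩
    · exact ⟨_, (Rs a b hab).mul_mem (jY_mem_Rs a b hab) (lY_mem_Rs a b hab),
        k2Y_mul_lY h2 a b hab⟩
  have hj : (jY : symplecticGroup (Fin 2) F) ∈ Subgroup.closure {k : symplecticGroup (Fin 2) F |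
      k ∈ Subgroup.normalizer ((Rs a b hab : Subgroup _) : Set _) ∧
        ∃ j : ℕ, orderOf k = 2 ^ j} := by
    apply Subgroup.subset_closure
    refine ⟨Subgroup.le_normalizer (jY_mem_Rs a b hab),
      orderOf_eq_prime_pow_of_pow_eq_one 2 _ 2 ?_⟩
    have e : (jY : symplecticGroup (Fin 2) F) ^ (2 ^ 2) = (jY * jY) * (jY * jY) := by
      norm_num [pow_succ, mul_assoc]
    rw [e, jY_mul_jY, negY_mul_negY]
  have hsq : omY h2 a b hab * omY h2 a b hab ∈ Subgroup.closure {k : symplecticGroup (Fin 2) F |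
      k ∈ Subgroup.normalizer ((Rs a b hab : Subgroup _) : Set _) ∧
        ∃ j : ℕ, orderOf k = 2 ^ j} := by
    have e : omY h2 a b hab * omY h2 a b hab = jY * k2Y h2 * (k1Y h2 a b hab)⁻¹ := by
      rw [← omY_sq_mul_k1Y h2 a b hab]
      group
    rw [e]
    exact Subgroup.mul_mem _ (Subgroup.mul_mem _ hj hk2) (Subgroup.inv_mem _ hk1)
  have h3 : omY h2 a b hab ^ 3 = 1 := by
    unfold omY
    rw [Ehom_pow, k3S_pow_three, ← Prod.one_eq_mk, map_one]
  have e : omY h2 a b hab = (omY h2 a b hab * omY h2 a b hab) * (omY h2 a b hab * omY h2 a b hab) := by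
    have : (omY h2 a b hab * omY h2 a b hab) * (omY h2 a b hab * omY h2 a b hab) =
        omY h2 a b hab ^ 3 * omY h2 a b hab := by
      rw [pow_succ, pow_two]; group
    rw [this, h3, one_mul]
  rw [e]
  exact Subgroup.mul_mem _ hsq hsq

end Q

end Cfsg.Agent.H9S4
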