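import Mathlib
import Cfsg.Prelude
import Cfsg.Agent.Lib.Helper9.Sp4Fus0
import Cfsg.Agent.Lib.Helper9.Sp4Fus11
import Cfsg.Agent.Lib.Helper9.L3Fus18

set_option autoImplicit false

/-!
# The `2`-fusion system of `PSp₄(q)`, `q` odd, is simple
-/

namespace Cfsg.Agent.H9S4

open Matrix Cfsg Cfsg.Agent.H9L3

variable {F : Type*} [Field F] [Fintype F]

theorem psp4_simple_aux (h2 : (2 : F) ≠ 0) (a b : F) (hab : a ^ 2 + b ^ 2 = -1)
    (hPN : ∀ x : symplecticGroup (Fin 2) F,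
      x ∈ Subgroup.normalizer ((Ps a b hab : Subgroup _) : Set _) →
      (∃ j : ℕ, orderOf x = 2 ^ j) → x ∈ Ps a b hab)
    (Γ' : Set (symplecticGroup (Fin 2) F))
    (hΓ : Subgroup.normalizer ((Ps a b hab : Subgroup _) : Set _) ≤
      Subgroup.closure ((Ps a b hab : Set (symplecticGroup (Fin 2) F)) ∪ Γ'))
    (hgood : ∀ γ ∈ Γ', γ ∈ Subgroup.normalizer ((Ps a b hab : Subgroup _) : Set _) ∧
      ∃ R : Subgroup (symplecticGroup (Fin 2) F), R ≤ Ps a b hab ∧ negY ∈ R ∧
        (∀ x : symplecticGroup (Fin 2) F,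
          (∀ r ∈ R, x * r * x⁻¹ * r⁻¹ = 1 ∨ x * r * x⁻¹ * r⁻¹ = negY) → x ∈ R) ∧
        γ ∈ Subgroup.closure {k : symplecticGroup (Fin 2) F |
          k ∈ Subgroup.normalizer (R : Set _) ∧ ∃ j : ℕ, orderOf k = 2 ^ j})
    (S : Sylow 2 (PSp 2 F)) :
    (groupFusionSystem (S : Subgroup (PSp 2 F))).IsSimple 2 := by
  haveI : Fact (Nat.Prime 2) := ⟨Nat.prime_two⟩
  obtain ⟨π, hπdef⟩ : ∃ π : symplecticGroup (Fin 2) F →* PSp 2 F,
      π = QuotientGroup.mk' (Subgroup.center (symplecticGroup (Fin 2) F)) := ⟨_, rfl⟩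
  have hπ : Function.Surjective π := by
    rw [hπdef]; exact QuotientGroup.mk'_surjective _
  have hker : π.ker = Subgroup.center (symplecticGroup (Fin 2) F) := by
    rw [hπdef]; exact QuotientGroup.ker_mk' _
  have hcen : ∀ g : symplecticGroup (Fin 2) F, g ∈ π.ker → g = 1 ∨ g = negY := by
    intro g hg
    rw [hker] at hg
    exact center_le h2 a b hab g hg
  have hnegker : (negY : symplecticGroup (Fin 2) F) ∈ π.ker := by
    rw [hker]; exact negY_mem_center
  have hkerle : ∀ R : Subgroup (symplecticGroup (Fin 2) F), negY ∈ R → π.ker ≤ R := by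
    intro R hR g hg
    rcases hcen g hg with rfl | rfl
    · exact R.one_mem
    · exact hR
  have hkP : π.ker ≤ Ps a b hab := hkerle _ (negY_mem_Ps a b hab)
  -- elements centralising `P` modulo the centre normalise `P`
  have hPcen : ∀ x : symplecticGroup (Fin 2) F, (∃ j : ℕ, orderOf x = 2 ^ j) →
      (∀ r ∈ Ps a b hab, x * r * x⁻¹ * r⁻¹ ∈ π.ker) → x ∈ Ps a b hab := by
    intro x hxo hx
    apply hPN x _ hxo
    apply Subgroup.mem_normalizer_fintype
    intro r hr
    have e : x * r * x⁻¹ = (x * r * x⁻¹ * r⁻¹) * r := by group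
    rw [e]
    exact (Ps a b hab).mul_mem (hkP (hx r hr)) hr
  refine simple_of_data_quot_p 2 π hπ ?_ (Ps a b hab) hkP (isPGroup_Ps a b hab) hPN ?_ ?_
    ((Ps a b hab : Set (symplecticGroup (Fin 2) F)) ∪ Γ') hΓ ?_ S
  · rintro ⟨g, hg⟩
    refine ⟨1, Subtype.ext ?_⟩
    rcases hcen g hg with rfl | rfl
    · simp
    · simp [pow_two, negY_mul_negY]
  · refine ⟨t1Y, t1Y_mem_Ps a b hab, ?_⟩
    intro h
    rcases hcen _ h with h' | h'
    · exact t1Y_ne_one h2 h'
    · exact t1Y_ne_negY h2 h'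
  · intro T hTP _ hT1 hsc
    apply Ps_le_of_strongly_closed h2 a b hab T hTP _ hsc
    obtain ⟨t, ht, htk⟩ := hT1
    refine ⟨t, ht, ?_, ?_⟩
    · rintro rfl
      exact htk (Subgroup.one_mem _)
    · rintro rfl
      exact htk hnegker
  · rintro γ (hγ | hγ)
    · refine ⟨Subgroup.le_normalizer hγ, Ps a b hab, le_rfl, hkP, hPcen, ?_⟩
      apply Subgroup.subset_closure
      refine ⟨Subgroup.le_normalizer hγ, ?_⟩
      obtain ⟨k, hk⟩ := Ps_pow a b hab hγ
      exact orderOf_eq_prime_pow_of_pow_eq_one 2 _ k hk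
    · obtain ⟨hγN, R, hRP, hnegR, hRC, hγK⟩ := hgood γ hγ
      refine ⟨hγN, R, hRP, hkerle R hnegR, ?_, hγK⟩
      intro x _ hx
      apply hRC
      intro r hr
      exact hcen _ (hx r hr)

theorem psp4_simple (hodd : Fintype.card F % 2 = 1) (S : Sylow 2 (PSp 2 F)) :
    (groupFusionSystem (S : Subgroup (PSp 2 F))).IsSimple 2 := by
  have h2 : (2 : F) ≠ 0 := two_ne_zero_of_odd hodd
  obtain ⟨a, b, hab⟩ : ∃ a b : F, a ^ 2 + b ^ 2 = -1 := by
    obtain ⟨p, hp⟩ := CharP.exists F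
    haveI := hp
    haveI : NeZero p := ⟨CharP.char_ne_zero_of_finite F p⟩
    obtain ⟨a, b, hab⟩ := CharP.sq_add_sq F p (-1)
    exact ⟨a, b, by rw [hab]; simp⟩
  by_cases hsq : ∃ s : F, s ^ 2 = 2
  · obtain ⟨s, hs⟩ := hsq
    have hN := normalizer_Ps_of_sq h2 a b hab s hs
    refine psp4_simple_aux h2 a b hab (fun x hx _ => hN hx) ∅ ?_ ?_ S
    · intro g hg
      exact Subgroup.subset_closure (Or.inl (hN hg))
    · intro γ hγ
      exact absurd hγ (Set.notMem_empty γ)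
  · have hns : ∀ s : F, s ^ 2 ≠ 2 := fun s hs => hsq ⟨s, hs⟩
    refine psp4_simple_aux h2 a b hab ?_ {omY h2 a b hab} ?_ ?_ S
    · rintro x hx ⟨j, hj⟩
      apply mem_Ps_of_two_element h2 a b hab hns j x hx
      rw [← hj, pow_orderOf_eq_one]
    · intro g hg
      have ho : omY h2 a b hab ∈ Subgroup.closure
          ((Ps a b hab : Set (symplecticGroup (Fin 2) F)) ∪ {omY h2 a b hab}) :=
        Subgroup.subset_closure (Or.inr rfl)
      have hP : ∀ p ∈ Ps a b hab, p ∈ Subgroup.closure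
          ((Ps a b hab : Set (symplecticGroup (Fin 2) F)) ∪ {omY h2 a b hab}) :=
        fun p hp => Subgroup.subset_closure (Or.inl hp)
      rcases normalizer_Ps_of_nonsq h2 a b hab hns g hg with h | h | h
      · exact hP g h
      · have e : g = omY h2 a b hab * ((omY h2 a b hab)⁻¹ * g) := by group
        rw [e]
        exact Subgroup.mul_mem _ ho (hP _ h)
      · have e : g = (omY h2 a b hab)⁻¹ * (omY h2 a b hab * g) := by group
        rw [e]
        exact Subgroup.mul_mem _ (Subgroup.inv_mem _ ho) (hP _ h)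
    · intro γ hγ
      rw [Set.mem_singleton_iff] at hγ
      subst hγ
      exact ⟨omY_mem_normalizer h2 a b hab hns, Rs a b hab, Rs_le_Ps a b hab, negY_mem_Rs a b hab,
        mem_Rs_of_centralizes h2 a b hab, omY_mem_closure h2 a b hab⟩

end Cfsg.Agent.H9S4
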