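import Mathlib
import Cfsg.Agent.Lib.Helper9.SpDecomp1

set_option autoImplicit false

namespace Cfsg.Agent.H9SpDecomp

open Cfsg.Agent.Lib.Helper1.SpBasic Cfsg.Agent.Lib.Helper2.Symp Cfsg.Agent.Lib.Helper2.SpIsom
  Cfsg.Agent.H9SpMax Matrix Module

variable {F : Type*} [Field F] {m : ℕ} {t : ℕ} {D : Fin t → Submodule F (Fin m ⊕ Fin m → F)}
  {k' : ℕ} (𝔅 : AdaptedBasis D k')

/-- the linear automorphism permuting the blocks of an adapted basis -/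
noncomputable def permEquiv (σ : Equiv.Perm (Fin t)) :
    (Fin m ⊕ Fin m → F) ≃ₗ[F] (Fin m ⊕ Fin m → F) :=
  𝔅.b.equiv 𝔅.b (Equiv.prodCongr σ (Equiv.refl _))

theorem permEquiv_apply (σ : Equiv.Perm (Fin t)) (i : Fin t) (x : Fin k' ⊕ Fin k') :
    permEquiv 𝔅 σ (𝔅.b (i, x)) = 𝔅.b (σ i, x) := by
  rw [permEquiv, Basis.equiv_apply]
  rfl

theorem permEquiv_form (σ : Equiv.Perm (Fin t)) (u v : Fin m ⊕ Fin m → F) :
    Cfsg.sympForm m F (permEquiv 𝔅 σ u) (permEquiv 𝔅 σ v) = Cfsg.sympForm m F u v := by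
  have h : (sympBilin m F).comp (permEquiv 𝔅 σ).toLinearMap (permEquiv 𝔅 σ).toLinearMap =
      sympBilin m F := by
    apply LinearMap.BilinForm.ext_basis 𝔅.b
    rintro ⟨i, x⟩ ⟨j, y⟩
    rw [LinearMap.BilinForm.comp_apply, LinearEquiv.coe_coe, permEquiv_apply, permEquiv_apply,
      sympBilin_apply, sympBilin_apply, 𝔅.form, 𝔅.form]
    by_cases hij : i = j
    · rw [if_pos hij, if_pos (by rw [hij])]
    · rw [if_neg hij, if_neg (fun h => hij (σ.injective h))]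
  have h2 := congrArg (fun B : LinearMap.BilinForm F (Fin m ⊕ Fin m → F) => B u v) h
  simp only [LinearMap.BilinForm.comp_apply, LinearEquiv.coe_coe, sympBilin_apply] at h2
  exact h2

/-- the permutation isometry as a symplectic matrix -/
noncomputable def permSp (σ : Equiv.Perm (Fin t)) : Matrix.symplecticGroup (Fin m) F :=
  ⟨LinearMap.toMatrix' (permEquiv 𝔅 σ).toLinearMap, by
    rw [Cfsg.Agent.Lib.Helper1.SpCard.mem_symplectic_iff_form]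
    intro x y
    rw [LinearMap.toMatrix'_mulVec, LinearMap.toMatrix'_mulVec]
    exact permEquiv_form 𝔅 σ x y⟩

theorem permSp_mulVec (σ : Equiv.Perm (Fin t)) (x : Fin m ⊕ Fin m → F) :
    ((permSp 𝔅 σ : Matrix.symplecticGroup (Fin m) F) :
      Matrix (Fin m ⊕ Fin m) (Fin m ⊕ Fin m) F) *ᵥ x = permEquiv 𝔅 σ x := by
  show LinearMap.toMatrix' (permEquiv 𝔅 σ).toLinearMap *ᵥ x = _
  rw [LinearMap.toMatrix'_mulVec]
  rfl

theorem permEquiv_map (σ : Equiv.Perm (Fin t)) (i : Fin t) :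
    (D i).map (permEquiv 𝔅 σ).toLinearMap = D (σ i) := by
  rw [𝔅.span i, 𝔅.span (σ i), Submodule.map_span]
  congr 1
  ext v
  constructor
  · rintro ⟨_, ⟨x, rfl⟩, rfl⟩
    exact ⟨x, (permEquiv_apply 𝔅 σ i x).symm⟩
  · rintro ⟨x, rfl⟩
    exact ⟨_, ⟨x, rfl⟩, permEquiv_apply 𝔅 σ i x⟩

theorem permSp_mem (σ : Equiv.Perm (Fin t)) :
    toGL m F (permSp 𝔅 σ) ∈ Cfsg.Geo.decompositionStabilizer D := by
  refine ⟨σ, fun i => ?_⟩
  have : Matrix.toLin' ((toGL m F (permSp 𝔅 σ) : GL (Fin m ⊕ Fin m) F) :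
      Matrix (Fin m ⊕ Fin m) (Fin m ⊕ Fin m) F) = (permEquiv 𝔅 σ).toLinearMap := by
    rw [toGL_coe]
    show Matrix.toLin' (LinearMap.toMatrix' (permEquiv 𝔅 σ).toLinearMap) = _
    rw [Matrix.toLin'_toMatrix']
  rw [this]
  exact permEquiv_map 𝔅 σ i

theorem permSp_mem_of_mem (σ : Equiv.Perm (Fin t)) {i : Fin t} {x : Fin m ⊕ Fin m → F}
    (hx : x ∈ D i) :
    ((permSp 𝔅 σ : Matrix.symplecticGroup (Fin m) F) :
      Matrix (Fin m ⊕ Fin m) (Fin m ⊕ Fin m) F) *ᵥ x ∈ D (σ i) := by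
  rw [permSp_mulVec, ← permEquiv_map 𝔅 σ i]
  exact ⟨x, hx, rfl⟩

end Cfsg.Agent.H9SpDecomp
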