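import Mathlib
import Cfsg.Agent.Lib.Helper9.SpDecomp2

set_option autoImplicit false

namespace Cfsg.Agent.H9SpDecomp

open Cfsg.Agent.Lib.Helper1.SpBasic Cfsg.Agent.Lib.Helper2.Symp Cfsg.Agent.Lib.Helper2.SpIsom
  Cfsg.Agent.H9SpMax Matrix Module

variable {F : Type*} [Field F] {m : ℕ} {t : ℕ}

/-- Data of an orthogonal decomposition into nondegenerate subspaces. -/
structure OrthDecomp (D : Fin t → Submodule F (Fin m ⊕ Fin m → F)) : Prop where
  nd : ∀ i, ∀ w ∈ D i, w ≠ 0 → ∃ x ∈ D i, Cfsg.sympForm m F w x ≠ 0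
  ort : ∀ i j, i ≠ j → ∀ u ∈ D i, ∀ v ∈ D j, Cfsg.sympForm m F u v = 0
  sup : iSup D = ⊤

variable {D : Fin t → Submodule F (Fin m ⊕ Fin m → F)}

open Classical in
/-- the support of a vector -/
noncomputable def supp (D : Fin t → Submodule F (Fin m ⊕ Fin m → F)) (v : Fin m ⊕ Fin m → F) :
    Finset (Fin t) :=
  Finset.univ.filter fun i => v ∉ perp (D i)

theorem mem_supp (v : Fin m ⊕ Fin m → F) (i : Fin t) : i ∈ supp D v ↔ v ∉ perp (D i) := by
  classical
  simp [supp]

namespace OrthDecomp

variable (h : OrthDecomp D)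

include h in
theorem le_perp_of_ne {i j : Fin t} (hij : i ≠ j) : D j ≤ perp (D i) := by
  intro v hv
  rw [mem_perp]
  intro w hw
  exact h.ort i j hij w hw v hv

include h in
theorem eq_zero_of_supp_empty {v : Fin m ⊕ Fin m → F} (hv : supp D v = ∅) : v = 0 := by
  apply Cfsg.Agent.Lib.Helper1.SpPoint.eq_zero_of_forall_form
  intro w
  have hw : w ∈ iSup D := by rw [h.sup]; trivial
  refine Submodule.iSup_induction D (motive := fun w => Cfsg.sympForm m F w v = 0) hw ?_ ?_ ?_
  · intro i x hx
    have : i ∉ supp D v := by rw [hv]; exact Finset.notMem_empty i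
    rw [mem_supp, not_not, mem_perp] at this
    exact this x hx
  · exact form_zero_left v
  · intro x y hx hy
    rw [sympForm_add_left, hx, hy, add_zero]

include h in
theorem notMem_perp_of_mem {i : Fin t} {x : Fin m ⊕ Fin m → F} (hx : x ∈ D i) (hx0 : x ≠ 0) :
    x ∉ perp (D i) := by
  intro hp
  obtain ⟨y, hy, hxy⟩ := h.nd i x hx hx0
  rw [mem_perp] at hp
  exact hxy (form_eq_zero_symm (hp y hy))

include h in
theorem supp_add {i : Fin t} {x r : Fin m ⊕ Fin m → F} (hx : x ∈ D i) (hx0 : x ≠ 0)
    (hr : r ∈ perp (D i)) : supp D (x + r) = insert i (supp D r) ∧ i ∉ supp D r := by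
  constructor
  · ext j
    rw [Finset.mem_insert, mem_supp, mem_supp]
    by_cases hji : j = i
    · subst hji
      constructor
      · intro _; left; rfl
      · intro _ hp
        exact h.notMem_perp_of_mem hx hx0 (((perp (D j)).add_mem_iff_left hr).mp hp)
    · have hxj : x ∈ perp (D j) := h.le_perp_of_ne hji hx
      rw [(perp (D j)).add_mem_iff_right hxj]
      constructor
      · intro hp; right; exact hp
      · rintro (hp | hp)
        · exact absurd hp hji
        · exact hp
  · rw [mem_supp, not_not]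
    exact hr

include h in
theorem supp_of_mem {i : Fin t} {x : Fin m ⊕ Fin m → F} (hx : x ∈ D i) (hx0 : x ≠ 0) :
    supp D x = {i} := by
  have := (h.supp_add hx hx0 (perp (D i)).zero_mem).1
  rw [add_zero] at this
  rw [this]
  have h0 : supp D (0 : Fin m ⊕ Fin m → F) = ∅ := by
    ext j
    rw [mem_supp]
    simp
  rw [h0]
  rfl

include h in
/-- decomposition of a vector along `D i` -/
theorem exists_split (v : Fin m ⊕ Fin m → F) (i : Fin t) :
    ∃ x ∈ D i, ∃ r ∈ perp (D i), v = x + r :=
  exists_decomp (D i) (h.nd i) v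

include h in
theorem split_ne_zero {v x r : Fin m ⊕ Fin m → F} {i : Fin t} (hi : i ∈ supp D v)
    (hr : r ∈ perp (D i)) (hv : v = x + r) : x ≠ 0 := by
  rintro rfl
  rw [zero_add] at hv
  rw [mem_supp, hv] at hi
  exact hi hr

include h in
/-- a vector whose support is a singleton lies in the corresponding block -/
theorem mem_of_supp_eq {v : Fin m ⊕ Fin m → F} {i : Fin t} (hv : supp D v = {i}) : v ∈ D i := by
  obtain ⟨x, hx, r, hr, rfl⟩ := h.exists_split v i
  have hi : i ∈ supp D (x + r) := by rw [hv]; exact Finset.mem_singleton_self i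
  have hx0 := h.split_ne_zero hi hr rfl
  obtain ⟨h1, h2⟩ := h.supp_add hx hx0 hr
  rw [h1] at hv
  have h3 : supp D r = ∅ := by
    ext j
    constructor
    · intro hj
      have : j ∈ insert i (supp D r) := Finset.mem_insert_of_mem hj
      rw [hv, Finset.mem_singleton] at this
      subst this
      exact absurd hj h2
    · intro hj
      exact absurd hj (Finset.notMem_empty j)
  rw [h.eq_zero_of_supp_empty h3, add_zero]
  exact hx

include h in
theorem supp_card_le_one_of_mem {v : Fin m ⊕ Fin m → F} {i : Fin t} (hv : v ∈ D i) :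
    (supp D v).card ≤ 1 := by
  by_cases hv0 : v = 0
  · have h0 : supp D v = ∅ := by
      ext j
      rw [mem_supp, hv0]
      simp
    rw [h0]; simp
  · rw [h.supp_of_mem hv hv0]; simp

end OrthDecomp

theorem orthDecomp_of {k : ℕ}
    (hD : Cfsg.Geo.IsNondegenerateMDecomposition (Cfsg.sympForm m F) k D) : OrthDecomp D where
  nd := fun i w hw hw0 => (hD.nondegenerate i w hw hw0).2
  ort := fun i j hij u hu v hv => hD.orthogonal i j hij u hu v hv
  sup := hD.decomp.iSup_eq_top

end Cfsg.Agent.H9SpDecomp
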