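import Mathlib
import Cfsg.Agent.Lib.Helper9.SpDecomp3

set_option autoImplicit false

namespace Cfsg.Agent.H9SpDecomp

open Cfsg.Agent.Lib.Helper1.SpBasic Cfsg.Agent.Lib.Helper2.Symp Cfsg.Agent.Lib.Helper2.SpIsom
  Cfsg.Agent.H9SpMax Matrix Module

variable {F : Type*} [Field F] {m : ℕ} {t : ℕ} {D : Fin t → Submodule F (Fin m ⊕ Fin m → F)}

section

variable (h : OrthDecomp D) (M : Subgroup (Matrix.symplecticGroup (Fin m) F))
  (hDC : ∀ i, ∀ x ∈ D i, x ∈ dirSet M)

include h hDC in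
theorem spreadD {i : Fin t} {x r : Fin m ⊕ Fin m → F} (hx : x ∈ D i) (hx0 : x ≠ 0)
    (hr : r ∈ perp (D i)) (hxr : x + r ∈ dirSet M) {x' : Fin m ⊕ Fin m → F} (hx' : x' ∈ D i)
    (hx'0 : x' ≠ 0) : x' + r ∈ dirSet M := by
  apply spread M (D i) (h.nd i) (hDC i) hx hx0 ?_ hxr hx' hx'0
  intro y hy
  exact form_eq_zero_symm ((mem_perp (D i) r).mp hr y hy)

include h hDC in
/-- from one mixed vector of support `{i, j}` to all of them -/
theorem pair_of_one {i j : Fin t} (hij : i ≠ j) {a₀ b₀ : Fin m ⊕ Fin m → F} (ha₀ : a₀ ∈ D i)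
    (ha₀0 : a₀ ≠ 0) (hb₀ : b₀ ∈ D j) (hb₀0 : b₀ ≠ 0) (hab : a₀ + b₀ ∈ dirSet M) :
    ∀ a ∈ D i, a ≠ 0 → ∀ b ∈ D j, b ≠ 0 → a + b ∈ dirSet M := by
  intro a ha ha0 b hb hb0
  have h1 : a + b₀ ∈ dirSet M :=
    spreadD h M hDC ha₀ ha₀0 (h.le_perp_of_ne hij hb₀) hab ha ha0
  rw [add_comm] at h1
  have h2 : b + a ∈ dirSet M :=
    spreadD h M hDC hb₀ hb₀0 (h.le_perp_of_ne hij.symm ha) h1 hb hb0
  rwa [add_comm] at h2

include h hDC in
/-- Step IV: if all mixed pairs are in `C`, everything is. -/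
theorem all_mem_of_pairs
    (hP : ∀ i j, i ≠ j → ∀ a ∈ D i, a ≠ 0 → ∀ b ∈ D j, b ≠ 0 → a + b ∈ dirSet M) :
    ∀ v, v ∈ dirSet M := by
  have key : ∀ n : ℕ, ∀ v, (supp D v).card = n → v ∈ dirSet M := by
    intro n
    induction n using Nat.strong_induction_on with
    | _ n ih =>
      intro v hv
      by_cases hempty : supp D v = ∅
      · rw [h.eq_zero_of_supp_empty hempty]
        intro c
        rw [T_zero_left]
        exact M.one_mem
      obtain ⟨i, hi⟩ := Finset.nonempty_iff_ne_empty.mpr hempty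
      obtain ⟨x, hx, r, hr, hvx⟩ := h.exists_split v i
      have hx0 := h.split_ne_zero hi hr hvx
      obtain ⟨hs1, hs2⟩ := h.supp_add hx hx0 hr
      have hcard1 : (supp D r).card + 1 = n := by
        rw [← hv, hvx, hs1, Finset.card_insert_of_notMem hs2]
      by_cases hempty2 : supp D r = ∅
      · rw [hvx, h.eq_zero_of_supp_empty hempty2, add_zero]
        exact hDC i x hx
      obtain ⟨j, hj⟩ := Finset.nonempty_iff_ne_empty.mpr hempty2
      have hji : j ≠ i := by
        rintro rfl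
        exact hs2 hj
      obtain ⟨y, hy, r', hr', hry⟩ := h.exists_split r j
      have hy0 := h.split_ne_zero hj hr' hry
      obtain ⟨ht1, ht2⟩ := h.supp_add hy hy0 hr'
      have hcard2 : (supp D r').card + 2 = n := by
        rw [← hcard1, hry, ht1, Finset.card_insert_of_notMem ht2]
      have hr'i : r' ∈ perp (D i) := by
        have : r' = r - y := by rw [hry]; abel
        rw [this]
        exact (perp (D i)).sub_mem hr (h.le_perp_of_ne hji.symm hy)
      obtain ⟨z, hz, hyz⟩ := h.nd j y hy hy0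
      have hz0 : z ≠ 0 := by
        rintro rfl
        exact hyz (form_zero_right y)
      have ha : x + z ∈ dirSet M := hP i j hji.symm x hx hx0 z hz hz0
      have hb : (y - z) + r' ∈ dirSet M := by
        by_cases hyz0 : y - z = 0
        · rw [hyz0, zero_add]
          exact ih (supp D r').card (by omega) r' rfl
        · obtain ⟨hu1, hu2⟩ := h.supp_add ((D j).sub_mem hy hz) hyz0 hr'
          apply ih (supp D ((y - z) + r')).card _ _ rfl
          rw [hu1, Finset.card_insert_of_notMem hu2]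
          omega
      have hab : Cfsg.sympForm m F (x + z) ((y - z) + r') ≠ 0 := by
        have e1 : Cfsg.sympForm m F x y = 0 := h.ort i j hji.symm x hx y hy
        have e2 : Cfsg.sympForm m F x z = 0 := h.ort i j hji.symm x hx z hz
        have e3 : Cfsg.sympForm m F x r' = 0 := (mem_perp (D i) r').mp hr'i x hx
        have e4 : Cfsg.sympForm m F z r' = 0 := (mem_perp (D j) r').mp hr' z hz
        rw [sympForm_add_left, sympForm_add_right, sympForm_add_right, sympForm_sub_right,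
          sympForm_sub_right, e1, e2, e3, e4, sympForm_self]
        simp only [sub_zero, add_zero, zero_add]
        intro h0
        exact hyz (form_eq_zero_symm h0)
      have := dirSet_add_of_ne M ha hb hab
      have e : x + z + ((y - z) + r') = v := by
        rw [hvx, hry]; abel
      rwa [e] at this
  intro v
  exact key _ v rfl

include h hDC in
/-- Step II: reduce the support to size two. -/
theorem exists_pair_of_two_le
    (hgood : ∀ i j, i ≠ j → ∀ x ∈ D i, x ≠ 0 → ∀ y ∈ D j, y ≠ 0 →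
      ∃ x' ∈ D i, ∃ y' ∈ D j, x' ≠ 0 ∧ y' ≠ 0 ∧ x + x' ≠ 0 ∧ y + y' ≠ 0 ∧
        Cfsg.sympForm m F x x' + Cfsg.sympForm m F y y' ≠ 0)
    {u : Fin m ⊕ Fin m → F} (hu : u ∈ dirSet M) (hcard : 2 ≤ (supp D u).card) :
    ∃ i j, i ≠ j ∧ ∃ a ∈ D i, ∃ b ∈ D j, a ≠ 0 ∧ b ≠ 0 ∧ a + b ∈ dirSet M := by
  have hne : (supp D u).Nonempty := by
    rw [← Finset.card_pos]; omega
  obtain ⟨i, hi⟩ := hne
  obtain ⟨x, hx, r₁, hr₁, hux⟩ := h.exists_split u i
  have hx0 := h.split_ne_zero hi hr₁ hux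
  obtain ⟨hs1, hs2⟩ := h.supp_add hx hx0 hr₁
  have hne2 : (supp D r₁).Nonempty := by
    rw [← Finset.card_pos]
    rw [hux, hs1, Finset.card_insert_of_notMem hs2] at hcard
    omega
  obtain ⟨j, hj⟩ := hne2
  have hji : j ≠ i := by
    rintro rfl
    exact hs2 hj
  obtain ⟨y, hy, r, hr, hry⟩ := h.exists_split r₁ j
  have hy0 := h.split_ne_zero hj hr hry
  have hri : r ∈ perp (D i) := by
    have : r = r₁ - y := by rw [hry]; abel
    rw [this]
    exact (perp (D i)).sub_mem hr₁ (h.le_perp_of_ne hji.symm hy)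
  refine ⟨i, j, hji.symm, ?_⟩
  obtain ⟨x', hx', y', hy', hx'0, hy'0, hxx', hyy', hsum⟩ := hgood i j hji.symm x hx hx0 y hy hy0
  -- `(-x') + (y + r) ∈ C`
  have h1 : (-x') + (y + r) ∈ dirSet M := by
    apply spreadD h M hDC hx hx0 _ _ ((D i).neg_mem hx') (neg_ne_zero.mpr hx'0)
    · rw [← hry]; exact hr₁
    · rw [← hry, ← hux]; exact hu
  have h2 : y + ((-x') + r) ∈ dirSet M := by
    have e : y + ((-x') + r) = (-x') + (y + r) := by abel
    rw [e]; exact h1
  have hxr : (-x') + r ∈ perp (D j) :=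
    (perp (D j)).add_mem (h.le_perp_of_ne hji ((D i).neg_mem hx')) hr
  have h3 : (-y') + ((-x') + r) ∈ dirSet M :=
    spreadD h M hDC hy hy0 hxr h2 ((D j).neg_mem hy') (neg_ne_zero.mpr hy'0)
  have h4 : x' + y' + (-r) ∈ dirSet M := by
    have := dirSet_neg M h3
    have e : -((-y') + ((-x') + r)) = x' + y' + (-r) := by abel
    rwa [e] at this
  have hB : Cfsg.sympForm m F u (x' + y' + (-r)) ≠ 0 := by
    have e1 : Cfsg.sympForm m F x y' = 0 := h.ort i j hji.symm x hx y' hy'
    have e2 : Cfsg.sympForm m F x r = 0 := (mem_perp (D i) r).mp hri x hx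
    have e3 : Cfsg.sympForm m F y x' = 0 := h.ort j i hji y hy x' hx'
    have e4 : Cfsg.sympForm m F y r = 0 := (mem_perp (D j) r).mp hr y hy
    have e5 : Cfsg.sympForm m F r x' = 0 :=
      form_eq_zero_symm ((mem_perp (D i) r).mp hri x' hx')
    have e6 : Cfsg.sympForm m F r y' = 0 :=
      form_eq_zero_symm ((mem_perp (D j) r).mp hr y' hy')
    rw [hux, hry]
    simp only [sympForm_add_left, sympForm_add_right, form_neg_right, e1, e2, e3, e4, e5, e6,
      sympForm_self]
    simpa using hsum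
  have h5 := dirSet_add_of_ne M hu h4 hB
  have e : u + (x' + y' + (-r)) = (x + x') + (y + y') := by
    rw [hux, hry]; abel
  rw [e] at h5
  exact ⟨x + x', (D i).add_mem hx hx', y + y', (D j).add_mem hy hy', hxx', hyy', h5⟩

end

end Cfsg.Agent.H9SpDecomp
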