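import Mathlib
import Cfsg.Agent.Lib.Helper9.SpDecomp4

set_option autoImplicit false

namespace Cfsg.Agent.H9SpDecomp

open Cfsg.Agent.Lib.Helper1.SpBasic Cfsg.Agent.Lib.Helper2.Symp Cfsg.Agent.Lib.Helper2.SpIsom
  Cfsg.Agent.H9SpMax Matrix Module

variable {F : Type*} [Field F] {m : ℕ} {t : ℕ} {D : Fin t → Submodule F (Fin m ⊕ Fin m → F)}

/-- a partner with form value one inside a nondegenerate subspace -/
theorem exists_partner_in (W : Submodule F (Fin m ⊕ Fin m → F))
    (hnd : ∀ w ∈ W, w ≠ 0 → ∃ x ∈ W, Cfsg.sympForm m F w x ≠ 0) {x : Fin m ⊕ Fin m → F}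
    (hx : x ∈ W) (hx0 : x ≠ 0) : ∃ x₁ ∈ W, Cfsg.sympForm m F x x₁ = 1 := by
  obtain ⟨y, hy, hxy⟩ := hnd x hx hx0
  refine ⟨(Cfsg.sympForm m F x y)⁻¹ • y, W.smul_mem _ hy, ?_⟩
  rw [sympForm_smul_right, inv_mul_cancel₀ hxy]

/-- the choice lemma for Step II -/
theorem exists_good [Fintype F] (h : OrthDecomp D) {k : ℕ} (hfr : ∀ i, finrank F (D i) = k)
    (hcase : 3 ≤ k ∨ 3 ≤ Fintype.card F) :
    ∀ i j, i ≠ j → ∀ x ∈ D i, x ≠ 0 → ∀ y ∈ D j, y ≠ 0 →
      ∃ x' ∈ D i, ∃ y' ∈ D j, x' ≠ 0 ∧ y' ≠ 0 ∧ x + x' ≠ 0 ∧ y + y' ≠ 0 ∧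
        Cfsg.sympForm m F x x' + Cfsg.sympForm m F y y' ≠ 0 := by
  classical
  intro i j _ x hx hx0 y hy hy0
  obtain ⟨x₁, hx₁, hxx₁⟩ := exists_partner_in (D i) (h.nd i) hx hx0
  obtain ⟨y₁, hy₁, hyy₁⟩ := exists_partner_in (D j) (h.nd j) hy hy0
  have hx₁0 : x₁ ≠ 0 := by
    rintro rfl
    rw [form_zero_right] at hxx₁
    exact zero_ne_one hxx₁
  have hxx₁' : x + x₁ ≠ 0 := by
    intro h0
    have : Cfsg.sympForm m F x (x + x₁) = 1 := by
      rw [sympForm_add_right, sympForm_self, zero_add, hxx₁]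
    rw [h0, form_zero_right] at this
    exact zero_ne_one this
  rcases hcase with hk | hq
  · -- a vector `z ∈ D j` orthogonal to `y`, outside `span {y}`
    have hlt : Submodule.span F {y, y₁} < D j := by
      refine lt_of_le_of_ne ?_ ?_
      · rw [Submodule.span_le]
        rintro v (rfl | rfl)
        · exact hy
        · exact hy₁
      · intro heq
        have h1 : finrank F (Submodule.span F ({y, y₁} : Set (Fin m ⊕ Fin m → F))) ≤ 2 := by
          have := finrank_span_finset_le_card (R := F) ({y, y₁} : Finset (Fin m ⊕ Fin m → F))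
          have h2 : ({y, y₁} : Finset (Fin m ⊕ Fin m → F)).card ≤ 2 := Finset.card_le_two
          have h3 : ((({y, y₁} : Finset (Fin m ⊕ Fin m → F)) : Set (Fin m ⊕ Fin m → F))) =
              ({y, y₁} : Set (Fin m ⊕ Fin m → F)) := by simp
          rw [h3] at this
          change finrank F (Submodule.span F ({y, y₁} : Set (Fin m ⊕ Fin m → F))) ≤ _ at this
          omega
        rw [heq, hfr j] at h1
        omega
    obtain ⟨w, hwD, hw⟩ := SetLike.exists_of_lt hlt
    set z := w - Cfsg.sympForm m F y w • y₁ with hz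
    have hzD : z ∈ D j := (D j).sub_mem hwD ((D j).smul_mem _ hy₁)
    have hyz : Cfsg.sympForm m F y z = 0 := by
      rw [hz, sympForm_sub_right, sympForm_smul_right, hyy₁, mul_one, sub_self]
    have hzspan : ∀ c : F, z ≠ c • y := by
      intro c hc
      apply hw
      have : w = c • y + Cfsg.sympForm m F y w • y₁ := by
        rw [← hc, hz]; abel
      rw [this]
      exact Submodule.add_mem _ (Submodule.smul_mem _ _ (Submodule.subset_span (by simp)))
        (Submodule.smul_mem _ _ (Submodule.subset_span (by simp)))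
    refine ⟨x₁, hx₁, z, hzD, hx₁0, ?_, hxx₁', ?_, ?_⟩
    · intro h0
      exact hzspan 0 (by rw [h0, zero_smul])
    · intro h0
      apply hzspan (-1)
      rw [neg_one_smul]
      exact eq_neg_of_add_eq_zero_right h0
    · rw [hxx₁, hyz, add_zero]
      exact one_ne_zero
  · -- a scalar `l ∉ {0, -1}`
    obtain ⟨l, hl0, hl1⟩ : ∃ l : F, l ≠ 0 ∧ l ≠ -1 := by
      by_contra hcon
      push Not at hcon
      have : (Finset.univ : Finset F) ⊆ {0, -1} := by
        intro l _
        by_cases hl : l = 0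
        · simp [hl]
        · simp [hcon l hl]
      have h1 := Finset.card_le_card this
      have h2 : ({0, -1} : Finset F).card ≤ 2 := Finset.card_le_two
      rw [Finset.card_univ] at h1
      omega
    refine ⟨x₁, hx₁, l • y₁, (D j).smul_mem _ hy₁, hx₁0, ?_, hxx₁', ?_, ?_⟩
    · intro h0
      have : Cfsg.sympForm m F y (l • y₁) = l := by
        rw [sympForm_smul_right, hyy₁, mul_one]
      rw [h0, form_zero_right] at this
      exact hl0 this.symm
    · intro h0
      have : Cfsg.sympForm m F y (y + l • y₁) = l := by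
        rw [sympForm_add_right, sympForm_self, zero_add, sympForm_smul_right, hyy₁, mul_one]
      rw [h0, form_zero_right] at this
      exact hl0 this.symm
    · rw [hxx₁, sympForm_smul_right, hyy₁, mul_one]
      intro h0
      apply hl1
      linear_combination h0

/-- a matrix stabilizing `W` elementwise-iff maps `W` onto `W` -/
theorem map_eq_of_stab (W : Submodule F (Fin m ⊕ Fin m → F))
    (A : Matrix.symplecticGroup (Fin m) F)
    (hA : ∀ v, v ∈ W ↔ (A : Matrix (Fin m ⊕ Fin m) (Fin m ⊕ Fin m) F) *ᵥ v ∈ W) :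
    W.map (Matrix.toLin' (A : Matrix (Fin m ⊕ Fin m) (Fin m ⊕ Fin m) F)) = W := by
  ext w
  constructor
  · rintro ⟨v, hv, rfl⟩
    rw [Matrix.toLin'_apply]
    exact (hA v).mp hv
  · intro hw
    refine ⟨((A⁻¹ : Matrix.symplecticGroup (Fin m) F) :
      Matrix (Fin m ⊕ Fin m) (Fin m ⊕ Fin m) F) *ᵥ w, ?_, ?_⟩
    · rw [SetLike.mem_coe, hA, mulVec_inv_mulVec]
      exact hw
    · rw [Matrix.toLin'_apply, mulVec_inv_mulVec]

/-- transvections with direction in a block lie in the decomposition stabilizer -/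
theorem T_mem_stab (h : OrthDecomp D) {i : Fin t} {x : Fin m ⊕ Fin m → F} (hx : x ∈ D i) (c : F) :
    toGL m F (T x c) ∈ Cfsg.Geo.decompositionStabilizer D := by
  refine ⟨1, fun j => ?_⟩
  rw [Equiv.Perm.coe_one, id_eq, toGL_coe]
  by_cases hji : j = i
  · subst hji
    exact map_eq_of_stab (D j) _ (T_stab_of_mem (D j) hx c)
  · exact map_eq_of_stab (D j) _ (T_stab_of_perp (D j) (h.le_perp_of_ne hji hx) c)

/-- Step I: an element outside the stabilizer produces a vector of support at least two. -/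
theorem exists_two_le (h : OrthDecomp D) {k : ℕ} (hk : 0 < k) (hfr : ∀ i, finrank F (D i) = k)
    (M : Subgroup (Matrix.symplecticGroup (Fin m) F)) (hDC : ∀ i, ∀ x ∈ D i, x ∈ dirSet M)
    (g : Matrix.symplecticGroup (Fin m) F) (hgM : g ∈ M)
    (hg : toGL m F g ∉ Cfsg.Geo.decompositionStabilizer D) :
    ∃ u ∈ dirSet M, 2 ≤ (supp D u).card := by
  classical
  by_contra hcon
  push Not at hcon
  apply hg
  set e : (Fin m ⊕ Fin m → F) ≃ₗ[F] (Fin m ⊕ Fin m → F) := spEquiv g with he
  have hmap : ∀ i, (D i).map (Matrix.toLin' ((toGL m F g : GL (Fin m ⊕ Fin m) F) :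
      Matrix (Fin m ⊕ Fin m) (Fin m ⊕ Fin m) F)) = (D i).map e.toLinearMap := by
    intro i
    congr 1
  have hDne : ∀ i, D i ≠ ⊥ := by
    intro i h0
    have := hfr i
    rw [h0, finrank_bot] at this
    omega
  -- each image lies in some block
  have hex : ∀ i, ∃ j, (D i).map e.toLinearMap ≤ D j := by
    intro i
    obtain ⟨x₀, hx₀, hx₀0⟩ := (Submodule.ne_bot_iff (D i)).mp (hDne i)
    have hC : ∀ v ∈ (D i).map e.toLinearMap, v ∈ dirSet M := by
      rintro _ ⟨x, hx, rfl⟩
      exact dirSet_mulVec M hgM (hDC i x hx)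
    have hcard : ∀ v ∈ (D i).map e.toLinearMap, v ≠ 0 → ∃ j, supp D v = {j} := by
      intro v hv hv0
      have h1 := hcon v (hC v hv)
      have h2 : (supp D v).card ≠ 0 := by
        intro h0
        exact hv0 (h.eq_zero_of_supp_empty (Finset.card_eq_zero.mp h0))
      have h3 : (supp D v).card = 1 := by omega
      exact Finset.card_eq_one.mp h3
    have hx₁ : e x₀ ∈ (D i).map e.toLinearMap := ⟨x₀, hx₀, rfl⟩
    have hx₁0 : e x₀ ≠ 0 := by
      intro h0
      exact hx₀0 (e.map_eq_zero_iff.mp h0)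
    obtain ⟨j, hj⟩ := hcard _ hx₁ hx₁0
    have hx₁j : e x₀ ∈ D j := h.mem_of_supp_eq hj
    refine ⟨j, fun y hy => ?_⟩
    by_cases hy0 : y = 0
    · rw [hy0]; exact (D j).zero_mem
    obtain ⟨l, hl⟩ := hcard y hy hy0
    have hyl : y ∈ D l := h.mem_of_supp_eq hl
    by_cases hlj : l = j
    · rw [← hlj]; exact hyl
    · exfalso
      have hsum : e x₀ + y ∈ (D i).map e.toLinearMap := Submodule.add_mem _ hx₁ hy
      have h1 := hcon _ (hC _ hsum)
      obtain ⟨h2, h3⟩ := h.supp_add hx₁j hx₁0 (h.le_perp_of_ne (Ne.symm hlj) hyl)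
      rw [h2, Finset.card_insert_of_notMem h3, hl, Finset.card_singleton] at h1
      omega
  choose σ hσ using hex
  have hσeq : ∀ i, (D i).map e.toLinearMap = D (σ i) := by
    intro i
    apply Submodule.eq_of_le_of_finrank_eq (hσ i)
    rw [LinearEquiv.finrank_map_eq, hfr, hfr]
  have hDinj : Function.Injective D := by
    intro i j hij
    by_contra hne
    obtain ⟨x, hx, hx0⟩ := (Submodule.ne_bot_iff (D i)).mp (hDne i)
    have hx' : x ∈ D j := hij ▸ hx
    exact h.notMem_perp_of_mem hx hx0 (h.le_perp_of_ne hne hx')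
  have hσinj : Function.Injective σ := by
    intro i j hij
    apply hDinj
    have h1 : (D i).map e.toLinearMap = (D j).map e.toLinearMap := by
      rw [hσeq, hσeq, hij]
    exact Submodule.map_injective_of_injective e.injective h1
  refine ⟨Equiv.ofBijective σ ⟨hσinj, Finite.injective_iff_surjective.mp hσinj⟩, fun i => ?_⟩
  rw [hmap, hσeq]
  rfl

end Cfsg.Agent.H9SpDecomp
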