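import Mathlib
import Cfsg.Agent.Lib.Helper9.SpDecomp5

set_option autoImplicit false

namespace Cfsg.Agent.H9SpDecomp

open Cfsg.Agent.Lib.Helper1.SpBasic Cfsg.Agent.Lib.Helper2.Symp Cfsg.Agent.Lib.Helper2.SpIsom
  Cfsg.Agent.H9SpMax Matrix Module

variable {F : Type*} [Field F] {m : ℕ} {t : ℕ} {D : Fin t → Submodule F (Fin m ⊕ Fin m → F)}

theorem sp_mulVec_ne_zero (A : Matrix.symplecticGroup (Fin m) F) {v : Fin m ⊕ Fin m → F}
    (hv : v ≠ 0) : (A : Matrix (Fin m ⊕ Fin m) (Fin m ⊕ Fin m) F) *ᵥ v ≠ 0 := by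
  intro h0
  have := inv_mulVec_mulVec A v
  rw [h0, Matrix.mulVec_zero] at this
  exact hv this.symm

/-- Main theorem: an overgroup of the decomposition stabilizer containing an element outside it
is the whole symplectic group. -/
theorem eq_top_of_decomp [Fintype F] {k' : ℕ} (𝔅 : AdaptedBasis D k') (h : OrthDecomp D) {k : ℕ}
    (hk : 0 < k) (hfr : ∀ i, finrank F (D i) = k) (hcase : 3 ≤ k ∨ 3 ≤ Fintype.card F)
    (M : Subgroup (Matrix.symplecticGroup (Fin m) F))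
    (hNM : ∀ A : Matrix.symplecticGroup (Fin m) F,
      toGL m F A ∈ Cfsg.Geo.decompositionStabilizer D → A ∈ M)
    (g : Matrix.symplecticGroup (Fin m) F) (hgM : g ∈ M)
    (hg : toGL m F g ∉ Cfsg.Geo.decompositionStabilizer D) : M = ⊤ := by
  have hDC : ∀ i, ∀ x ∈ D i, x ∈ dirSet M := fun i x hx c => hNM _ (T_mem_stab h hx c)
  obtain ⟨u, huC, hu2⟩ := exists_two_le h hk hfr M hDC g hgM hg
  obtain ⟨i₀, j₀, hij₀, a₀, ha₀, b₀, hb₀, ha₀0, hb₀0, hab₀⟩ :=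
    exists_pair_of_two_le h M hDC (exists_good h hfr hcase) huC hu2
  apply eq_top_of_dirSet
  apply all_mem_of_pairs h M hDC
  intro i j hij
  obtain ⟨σ, hσi, hσj⟩ : ∃ σ : Equiv.Perm (Fin t), σ i₀ = i ∧ σ j₀ = j := by
    refine ⟨Equiv.swap (Equiv.swap i₀ i j₀) j * Equiv.swap i₀ i, ?_, ?_⟩
    · rw [Equiv.Perm.mul_apply, Equiv.swap_apply_left]
      apply Equiv.swap_apply_of_ne_of_ne
      · intro h1
        have h2 : Equiv.swap i₀ i (Equiv.swap i₀ i j₀) = Equiv.swap i₀ i i := by rw [← h1]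
        rw [Equiv.swap_apply_self, Equiv.swap_apply_right] at h2
        exact hij₀ h2.symm
      · exact hij
    · rw [Equiv.Perm.mul_apply, Equiv.swap_apply_left]
  have hA : permSp 𝔅 σ ∈ M := hNM _ (permSp_mem 𝔅 σ)
  have h1 := dirSet_mulVec M hA hab₀
  rw [Matrix.mulVec_add] at h1
  refine pair_of_one h M hDC hij ?_ (sp_mulVec_ne_zero _ ha₀0) ?_ (sp_mulVec_ne_zero _ hb₀0) h1
  · rw [← hσi]; exact permSp_mem_of_mem 𝔅 σ ha₀
  · rw [← hσj]; exact permSp_mem_of_mem 𝔅 σ hb₀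

/-- an element of `Sp` outside the decomposition stabilizer -/
theorem exists_not_mem_stab (h : OrthDecomp D) (ht : 2 ≤ t) (hDne : ∀ i, D i ≠ ⊥) :
    ∃ A : Matrix.symplecticGroup (Fin m) F,
      toGL m F A ∉ Cfsg.Geo.decompositionStabilizer D := by
  set i0 : Fin t := ⟨0, by omega⟩ with hi0
  set i1 : Fin t := ⟨1, by omega⟩ with hi1
  have h01 : i0 ≠ i1 := by simp [hi0, hi1, Fin.ext_iff]
  obtain ⟨d₀, hd₀, hd₀0⟩ := (Submodule.ne_bot_iff (D i0)).mp (hDne i0)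
  obtain ⟨d₁, hd₁, hd₁0⟩ := (Submodule.ne_bot_iff (D i1)).mp (hDne i1)
  obtain ⟨x, hx, hdx⟩ := h.nd i0 d₀ hd₀ hd₀0
  have hxd : Cfsg.sympForm m F x d₀ ≠ 0 := fun h0 => hdx (form_eq_zero_symm h0)
  set β := Cfsg.sympForm m F x d₀ with hβ
  refine ⟨T (d₀ + d₁) 1, ?_⟩
  rintro ⟨σ, hσ⟩
  have h1 : ((T (d₀ + d₁) (1 : F) : Matrix.symplecticGroup (Fin m) F) :
      Matrix (Fin m ⊕ Fin m) (Fin m ⊕ Fin m) F) *ᵥ x ∈ D (σ i0) := by
    rw [← hσ i0]
    exact ⟨x, hx, rfl⟩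
  have hxd₁ : Cfsg.sympForm m F x d₁ = 0 := h.ort i0 i1 h01 x hx d₁ hd₁
  rw [T_mulVec, one_mul, sympForm_add_right, hxd₁, add_zero, ← hβ] at h1
  have e : x + β • (d₀ + d₁) = (x + β • d₀) + β • d₁ := by
    rw [smul_add]; abel
  rw [e] at h1
  have h2 := h.supp_card_le_one_of_mem h1
  have hy : x + β • d₀ ∈ D i0 := (D i0).add_mem hx ((D i0).smul_mem _ hd₀)
  have hy0 : x + β • d₀ ≠ 0 := by
    intro h0
    have : Cfsg.sympForm m F (x + β • d₀) d₀ = β := by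
      rw [sympForm_add_left, sympForm_smul_left, sympForm_self, mul_zero, add_zero]
    rw [h0, form_zero_left] at this
    exact hxd this.symm
  have hz : β • d₁ ∈ D i1 := (D i1).smul_mem _ hd₁
  have hz0 : β • d₁ ≠ 0 := smul_ne_zero hxd hd₁0
  obtain ⟨h3, h4⟩ := h.supp_add hy hy0 (h.le_perp_of_ne h01 hz)
  rw [h3, Finset.card_insert_of_notMem h4, h.supp_of_mem hz hz0, Finset.card_singleton] at h2
  omega

end Cfsg.Agent.H9SpDecomp
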