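import Mathlib
import Cfsg.Agent.Lib.Helper9.SpDecomp6

set_option autoImplicit false

namespace Cfsg.Agent.H9SpDecomp

open Cfsg.Agent.Lib.Helper1.SpBasic Cfsg.Agent.Lib.Helper2.Symp Cfsg.Agent.Lib.Helper2.SpIsom
  Cfsg.Agent.H9SpMax Matrix Module

variable {F : Type*} [Field F] {m : ℕ} {t : ℕ} {D : Fin t → Submodule F (Fin m ⊕ Fin m → F)}

theorem form_sum_right {ι : Type*} (s : Finset ι) (x : Fin m ⊕ Fin m → F)
    (v : ι → (Fin m ⊕ Fin m → F)) :
    Cfsg.sympForm m F x (∑ i ∈ s, v i) = ∑ i ∈ s, Cfsg.sympForm m F x (v i) := by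
  classical
  induction s using Finset.induction_on with
  | empty => simp [form_zero_right]
  | insert a s ha ih => rw [Finset.sum_insert ha, Finset.sum_insert ha, sympForm_add_right, ih]

section K1

variable (𝔅 : AdaptedBasis D 1) (h : OrthDecomp D)

/-- first basis vector of block `i` -/
noncomputable def eV (i : Fin t) : Fin m ⊕ Fin m → F := 𝔅.b (i, Sum.inl 0)
/-- second basis vector of block `i` -/
noncomputable def fV (i : Fin t) : Fin m ⊕ Fin m → F := 𝔅.b (i, Sum.inr 0)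

theorem eV_mem (i : Fin t) : eV 𝔅 i ∈ D i := 𝔅.mem i _
theorem fV_mem (i : Fin t) : fV 𝔅 i ∈ D i := 𝔅.mem i _

theorem form_ee (i j : Fin t) : Cfsg.sympForm m F (eV 𝔅 i) (eV 𝔅 j) = 0 := by
  rw [eV, eV, 𝔅.form]
  split_ifs <;> simp [Matrix.J]

theorem form_ff (i j : Fin t) : Cfsg.sympForm m F (fV 𝔅 i) (fV 𝔅 j) = 0 := by
  rw [fV, fV, 𝔅.form]
  split_ifs <;> simp [Matrix.J]

theorem form_ef (i j : Fin t) :
    Cfsg.sympForm m F (eV 𝔅 i) (fV 𝔅 j) = if i = j then -1 else 0 := by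
  rw [eV, fV, 𝔅.form]
  split_ifs <;> simp [Matrix.J]

theorem form_fe (i j : Fin t) :
    Cfsg.sympForm m F (fV 𝔅 i) (eV 𝔅 j) = if i = j then 1 else 0 := by
  rw [eV, fV, 𝔅.form]
  split_ifs <;> simp [Matrix.J]

theorem mem_perp_iff (i : Fin t) (v : Fin m ⊕ Fin m → F) :
    v ∈ perp (D i) ↔ Cfsg.sympForm m F (eV 𝔅 i) v = 0 ∧ Cfsg.sympForm m F (fV 𝔅 i) v = 0 := by
  rw [mem_perp]
  constructor
  · intro hv
    exact ⟨hv _ (eV_mem 𝔅 i), hv _ (fV_mem 𝔅 i)⟩
  · rintro ⟨h1, h2⟩ w hw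
    rw [𝔅.span i] at hw
    refine Submodule.span_induction (p := fun w _ => Cfsg.sympForm m F w v = 0) ?_ ?_ ?_ ?_ hw
    · rintro _ ⟨x, rfl⟩
      rcases x with x | x
      · have : x = 0 := Subsingleton.elim _ _
        subst this
        exact h1
      · have : x = 0 := Subsingleton.elim _ _
        subst this
        exact h2
    · exact form_zero_left v
    · intro a b _ _ ha hb
      rw [sympForm_add_left, ha, hb, add_zero]
    · intro c a _ ha
      rw [sympForm_smul_left, ha, mul_zero]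

include h in
/-- expansion in the adapted symplectic basis -/
theorem expand (y : Fin m ⊕ Fin m → F) :
    y = ∑ i, (Cfsg.sympForm m F (fV 𝔅 i) y • eV 𝔅 i - Cfsg.sympForm m F (eV 𝔅 i) y • fV 𝔅 i) := by
  classical
  rw [← sub_eq_zero]
  apply h.eq_zero_of_supp_empty
  ext j
  simp only [Finset.notMem_empty, iff_false]
  rw [mem_supp, not_not, mem_perp_iff 𝔅]
  constructor
  · rw [sympForm_sub_right, form_sum_right]
    simp only [sympForm_sub_right, sympForm_smul_right, form_ee, form_ef, mul_zero, zero_sub,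
      mul_ite, mul_neg, mul_one, neg_zero]
    rw [Finset.sum_neg_distrib, Finset.sum_ite_eq Finset.univ j]
    simp
  · rw [sympForm_sub_right, form_sum_right]
    simp only [sympForm_sub_right, sympForm_smul_right, form_ff, form_fe, mul_zero, sub_zero,
      mul_ite, mul_one]
    rw [Finset.sum_ite_eq Finset.univ j]
    simp

include h in
/-- Parseval identity -/
theorem parseval (x y : Fin m ⊕ Fin m → F) :
    Cfsg.sympForm m F x y = ∑ i, (Cfsg.sympForm m F (eV 𝔅 i) y * Cfsg.sympForm m F (fV 𝔅 i) x -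
      Cfsg.sympForm m F (fV 𝔅 i) y * Cfsg.sympForm m F (eV 𝔅 i) x) := by
  conv_lhs => rw [expand 𝔅 h y]
  rw [form_sum_right]
  refine Finset.sum_congr rfl fun i _ => ?_
  rw [sympForm_sub_right, sympForm_smul_right, sympForm_smul_right, sympForm_swap x (eV 𝔅 i),
    sympForm_swap x (fV 𝔅 i)]
  ring

/-- the quadratic form attached to the decomposition into anisotropic planes -/
noncomputable def quadQ (v : Fin m ⊕ Fin m → F) : F :=
  ∑ i, (Cfsg.sympForm m F (fV 𝔅 i) v ^ 2 +
    Cfsg.sympForm m F (fV 𝔅 i) v * Cfsg.sympForm m F (eV 𝔅 i) v +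
    Cfsg.sympForm m F (eV 𝔅 i) v ^ 2)

include h in
theorem quadQ_add (h2 : (2 : F) = 0) (x y : Fin m ⊕ Fin m → F) :
    quadQ 𝔅 (x + y) = quadQ 𝔅 x + quadQ 𝔅 y + Cfsg.sympForm m F x y := by
  rw [parseval 𝔅 h x y, quadQ, quadQ, quadQ, ← Finset.sum_add_distrib, ← Finset.sum_add_distrib]
  refine Finset.sum_congr rfl fun i _ => ?_
  rw [sympForm_add_right, sympForm_add_right]
  linear_combination (Cfsg.sympForm m F (fV 𝔅 i) x * Cfsg.sympForm m F (fV 𝔅 i) y +
    Cfsg.sympForm m F (eV 𝔅 i) x * Cfsg.sympForm m F (eV 𝔅 i) y +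
    Cfsg.sympForm m F (fV 𝔅 i) y * Cfsg.sympForm m F (eV 𝔅 i) x) * h2

theorem quadQ_eq_card [Fintype F] (hq : Fintype.card F = 2) (v : Fin m ⊕ Fin m → F) :
    quadQ 𝔅 v = ((supp D v).card : F) := by
  classical
  have h01 : ∀ a : F, a = 0 ∨ a = 1 := by
    intro a
    by_contra hcon
    push Not at hcon
    have : ({0, 1, a} : Finset F).card = 3 := by
      rw [Finset.card_insert_of_notMem, Finset.card_insert_of_notMem, Finset.card_singleton]
      · simp [hcon.2.symm]
      · simp [hcon.1.symm]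
    have h3 := Finset.card_le_univ ({0, 1, a} : Finset F)
    omega
  have h2 : (2 : F) = 0 := by
    rcases h01 2 with h | h
    · exact h
    · exfalso
      have : (1 : F) = 0 := by linear_combination h
      exact one_ne_zero this
  rw [quadQ, supp, Finset.card_filter, Nat.cast_sum]
  refine Finset.sum_congr rfl fun i _ => ?_
  rw [mem_perp_iff 𝔅]
  rcases h01 (Cfsg.sympForm m F (eV 𝔅 i) v) with he | he <;>
    rcases h01 (Cfsg.sympForm m F (fV 𝔅 i) v) with hf | hf <;> simp [he, hf]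
  linear_combination h2

end K1

end Cfsg.Agent.H9SpDecomp
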