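import Mathlib
import Cfsg.Agent.Lib.Helper9.SpDecomp7

set_option autoImplicit false

namespace Cfsg.Agent.H9SpDecomp

open Cfsg.Agent.Lib.Helper1.SpBasic Cfsg.Agent.Lib.Helper2.Symp Cfsg.Agent.Lib.Helper2.SpIsom
  Cfsg.Agent.H9SpMax Matrix Module

variable {F : Type*} [Field F] {m : ℕ} {t : ℕ} {D : Fin t → Submodule F (Fin m ⊕ Fin m → F)}

/-- the stabilizer of a function on vectors, inside `Sp` -/
def funStab (Q : (Fin m ⊕ Fin m → F) → F) : Subgroup (Matrix.symplecticGroup (Fin m) F) where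
  carrier := {A | ∀ v, Q ((A : Matrix (Fin m ⊕ Fin m) (Fin m ⊕ Fin m) F) *ᵥ v) = Q v}
  one_mem' := fun v => by rw [coe_one_mulVec]
  mul_mem' := by
    intro A B hA hB v
    rw [coe_mul_mulVec, hA, hB]
  inv_mem' := by
    intro A hA v
    have := hA (((A⁻¹ : Matrix.symplecticGroup (Fin m) F) :
      Matrix (Fin m ⊕ Fin m) (Fin m ⊕ Fin m) F) *ᵥ v)
    rw [mulVec_inv_mulVec] at this
    exact this.symm

theorem mem_funStab (Q : (Fin m ⊕ Fin m → F) → F) (A : Matrix.symplecticGroup (Fin m) F) :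
    A ∈ funStab Q ↔
      ∀ v, Q ((A : Matrix (Fin m ⊕ Fin m) (Fin m ⊕ Fin m) F) *ᵥ v) = Q v := Iff.rfl

theorem toGL_injective : Function.Injective (toGL m F) := by
  intro A B hAB
  apply Subtype.ext
  have := congrArg (fun g : GL (Fin m ⊕ Fin m) F =>
    (g : Matrix (Fin m ⊕ Fin m) (Fin m ⊕ Fin m) F)) hAB
  exact this

/-- elements of the decomposition stabilizer preserve the size of the support -/
theorem card_supp_of_mem_stab (A : Matrix.symplecticGroup (Fin m) F)
    (hA : toGL m F A ∈ Cfsg.Geo.decompositionStabilizer D) (v : Fin m ⊕ Fin m → F) :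
    (supp D ((A : Matrix (Fin m ⊕ Fin m) (Fin m ⊕ Fin m) F) *ᵥ v)).card = (supp D v).card := by
  classical
  obtain ⟨σ, hσ⟩ := hA
  have key : ∀ i, (A : Matrix (Fin m ⊕ Fin m) (Fin m ⊕ Fin m) F) *ᵥ v ∈ perp (D (σ i)) ↔
      v ∈ perp (D i) := by
    intro i
    rw [mem_perp, mem_perp, ← hσ i]
    constructor
    · intro h1 w hw
      have := h1 _ ⟨w, hw, rfl⟩
      rw [toGL_coe, Matrix.toLin'_apply, form_mulVec] at this
      exact this
    · rintro h1 _ ⟨w, hw, rfl⟩
      rw [toGL_coe, Matrix.toLin'_apply, form_mulVec]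
      exact h1 w hw
  have : supp D ((A : Matrix (Fin m ⊕ Fin m) (Fin m ⊕ Fin m) F) *ᵥ v) =
      (supp D v).map σ.toEmbedding := by
    ext j
    rw [Finset.mem_map, mem_supp]
    constructor
    · intro hj
      refine ⟨σ.symm j, ?_, by simp⟩
      rw [mem_supp, ← key, Equiv.apply_symm_apply]
      exact hj
    · rintro ⟨i, hi, rfl⟩
      rw [mem_supp] at hi
      rw [Equiv.coe_toEmbedding, key]
      exact hi
  rw [this, Finset.card_map]

section K1

variable (𝔅 : AdaptedBasis D 1) (h : OrthDecomp D)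

theorem eV_ne_zero (i : Fin t) : eV 𝔅 i ≠ 0 := 𝔅.b.ne_zero _
theorem fV_ne_zero (i : Fin t) : fV 𝔅 i ≠ 0 := 𝔅.b.ne_zero _

include h in
theorem supp_two {a b : Fin t} (hab : a ≠ b) {x y : Fin m ⊕ Fin m → F} (hx : x ∈ D a)
    (hx0 : x ≠ 0) (hy : y ∈ D b) (hy0 : y ≠ 0) : (supp D (x + y)).card = 2 := by
  obtain ⟨h1, h2⟩ := h.supp_add hx hx0 (h.le_perp_of_ne hab hy)
  rw [h1, Finset.card_insert_of_notMem h2, h.supp_of_mem hy hy0, Finset.card_singleton]

include h in
theorem supp_three {a b c : Fin t} (hab : a ≠ b) (hac : a ≠ c) (hbc : b ≠ c)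
    {x y z : Fin m ⊕ Fin m → F} (hx : x ∈ D a) (hx0 : x ≠ 0) (hy : y ∈ D b) (hy0 : y ≠ 0)
    (hz : z ∈ D c) (hz0 : z ≠ 0) : (supp D (x + (y + z))).card = 3 := by
  have hyz : y + z ∈ perp (D a) :=
    (perp (D a)).add_mem (h.le_perp_of_ne hab hy) (h.le_perp_of_ne hac hz)
  obtain ⟨h1, h2⟩ := h.supp_add hx hx0 hyz
  rw [h1, Finset.card_insert_of_notMem h2, supp_two h hbc hy hy0 hz hz0]

include h in
/-- transvections along vectors with `Q = 1` preserve `Q` -/
theorem T_mem_funStab [Fintype F] (hq : Fintype.card F = 2) {u : Fin m ⊕ Fin m → F}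
    (hu : quadQ 𝔅 u = 1) : T u 1 ∈ funStab (quadQ 𝔅) := by
  classical
  have h01 : ∀ a : F, a = 0 ∨ a = 1 := by
    intro a
    by_contra hcon
    push Not at hcon
    have : ({0, 1, a} : Finset F).card = 3 := by
      rw [Finset.card_insert_of_notMem, Finset.card_insert_of_notMem, Finset.card_singleton]
      · simp [hcon.2.symm]
      · simp [hcon.1.symm]
    have h3 := Finset.card_le_univ ({0, 1, a} : Finset F)
    omega
  have h2 : (2 : F) = 0 := by
    rcases h01 2 with h | h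
    · exact h
    · exfalso
      have : (1 : F) = 0 := by linear_combination h
      exact one_ne_zero this
  intro v
  rw [T_mulVec, one_mul]
  rcases h01 (Cfsg.sympForm m F v u) with hc | hc
  · rw [hc, zero_smul, add_zero]
  · rw [hc, one_smul, quadQ_add 𝔅 h h2, hu, hc]
    linear_combination h2

end K1

end Cfsg.Agent.H9SpDecomp
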