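import Mathlib
import Cfsg.Prelude
import Cfsg.Agent.Lib.Helper9.SpFus3

set_option autoImplicit false

/-!
# The normalizer of the unitriangular subgroup of the symplectic group is triangular
-/

namespace Cfsg.Agent.H9SpF

open Matrix

variable {F : Type*} [Field F] {m : ℕ}

theorem transv_sum_row {i j : Fin m} (hij : i ≠ j) (c : F) (y : Fin m → F) (a : Fin m) :
    ∑ k, ((SpecialLinearGroup.transvection hij c : SpecialLinearGroup (Fin m) F) :
      Matrix (Fin m) (Fin m) F) a k * y k = y a + if a = i then c * y j else 0 := by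
  rw [SpecialLinearGroup.transvection_coe]
  simp only [Matrix.add_apply, Matrix.one_apply, Matrix.single_apply, add_mul, Finset.sum_add_distrib,
    ite_mul, one_mul, zero_mul, Finset.sum_ite_eq, Finset.mem_univ, if_true]
  congr 1
  by_cases h : a = i
  · subst h
    simp
  · have : ∀ k, ¬ (i = a ∧ j = k) := fun k hk => h hk.1.symm
    simp [h, this]

theorem transv_sum_col {i j : Fin m} (hij : i ≠ j) (c : F) (y : Fin m → F) (a : Fin m) :
    ∑ k, ((SpecialLinearGroup.transvection hij c : SpecialLinearGroup (Fin m) F) :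
      Matrix (Fin m) (Fin m) F) k a * y k = y a + if a = j then c * y i else 0 := by
  rw [SpecialLinearGroup.transvection_coe]
  simp only [Matrix.add_apply, Matrix.one_apply, Matrix.single_apply, add_mul, Finset.sum_add_distrib,
    ite_mul, one_mul, zero_mul, Finset.sum_ite_eq', Finset.mem_univ, if_true]
  congr 1
  by_cases h : a = j
  · subst h
    simp
  · have : ∀ k, ¬ (i = k ∧ j = a) := fun k hk => h hk.2.symm
    simp [h, this]

theorem levS_mulVec_inl (P : SpecialLinearGroup (Fin m) F) (x : Fin m ⊕ Fin m → F) (i : Fin m) :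
    (((levS P : symplecticGroup (Fin m) F) : Matrix (Fin m ⊕ Fin m) (Fin m ⊕ Fin m) F) *ᵥ x) (Sum.inl i) =
      ∑ k, (P : Matrix (Fin m) (Fin m) F) i k * x (Sum.inl k) :=
  lev_mulVec_inl _ x i

theorem levS_mulVec_inr (P : SpecialLinearGroup (Fin m) F) (x : Fin m ⊕ Fin m → F) (i : Fin m) :
    (((levS P : symplecticGroup (Fin m) F) : Matrix (Fin m ⊕ Fin m) (Fin m ⊕ Fin m) F) *ᵥ x) (Sum.inr i) =
      ∑ k, ((P⁻¹ : SpecialLinearGroup (Fin m) F) : Matrix (Fin m) (Fin m) F) k i * x (Sum.inr k) := by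
  rw [mulVec_sum]
  simp only [levS_apply_rl, levS_apply_rr, zero_mul, Finset.sum_const_zero, zero_add]

open Cfsg.Agent.Lib.Helper5.SLnBN in
theorem transvection_mem_unip {i j : Fin m} (hij : i < j) (c : F) :
    (SpecialLinearGroup.transvection (ne_of_lt hij) c : SpecialLinearGroup (Fin m) F) ∈ unip m F := by
  constructor
  · intro a b hab
    rw [SpecialLinearGroup.transvection_coe, Matrix.add_apply, Matrix.one_apply_ne (ne_of_gt hab),
      Matrix.single_apply, if_neg, add_zero]
    rintro ⟨rfl, rfl⟩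
    exact lt_asymm hij hab
  · intro a
    rw [SpecialLinearGroup.transvection_coe, Matrix.add_apply, Matrix.one_apply_eq, Matrix.single_apply,
      if_neg, add_zero]
    rintro ⟨rfl, rfl⟩
    exact lt_irrefl _ hij

/-- the predecessor of an index in the order of the basis -/
theorem exists_pred_step (hm : 1 ≤ m) (a : Fin m ⊕ Fin m) (ha : 1 ≤ ord m a) :
    ∃ b : Fin m ⊕ Fin m, ord m b + 1 = ord m a ∧ ∃ u ∈ Usp m F, ∃ ε : F, ε ≠ 0 ∧ ∀ x : Fin m ⊕ Fin m → F,
      ((u : Matrix (Fin m ⊕ Fin m) (Fin m ⊕ Fin m) F) *ᵥ x) b = x b + ε * x a := by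
  rcases a with i | i
  · -- `a = e_i`, `i ≥ 1`
    rw [ord_inl] at ha
    obtain ⟨j, hj⟩ : ∃ j : Fin m, j.val + 1 = i.val := ⟨⟨i.val - 1, by have := i.2; omega⟩, by simp; omega⟩
    have hji : j < i := Fin.lt_def.mpr (by omega)
    refine ⟨Sum.inl j, by rw [ord_inl, ord_inl]; exact hj, levS (SpecialLinearGroup.transvection (ne_of_lt hji) 1),
      levS_mem_Usp (transvection_mem_unip hji 1), 1, one_ne_zero, fun x => ?_⟩
    rw [levS_mulVec_inl, transv_sum_row, if_pos rfl]
  · by_cases hi : i.val + 1 = m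
    · -- `a = f_m`
      obtain ⟨S, hS⟩ : ∃ S : Matrix (Fin m) (Fin m) F, S = Matrix.single i i 1 := ⟨_, rfl⟩
      have hSs : S.IsSymm := by
        rw [hS]
        unfold Matrix.IsSymm
        rw [Matrix.transpose_single]
      refine ⟨Sum.inl i, by rw [ord_inl, ord_inr]; omega, sieg S hSs, sieg_mem_Usp S hSs, 1, one_ne_zero,
        fun x => ?_⟩
      rw [sieg_mulVec_inl, hS]
      simp only [Matrix.single_apply, true_and, ite_mul, one_mul, zero_mul, Finset.sum_ite_eq, Finset.mem_univ,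
        if_true]
    · -- `a = f_i`, `i < m`
      have hi' : i.val + 1 < m := by have := i.2; omega
      obtain ⟨j, hj⟩ : ∃ j : Fin m, j.val = i.val + 1 := ⟨⟨i.val + 1, hi'⟩, rfl⟩
      have hij : i < j := Fin.lt_def.mpr (by omega)
      refine ⟨Sum.inr j, by rw [ord_inr, ord_inr]; omega,
        levS (SpecialLinearGroup.transvection (ne_of_lt hij) 1),
        levS_mem_Usp (transvection_mem_unip hij 1), -1, neg_ne_zero.mpr one_ne_zero, fun x => ?_⟩
      rw [levS_mulVec_inr, SpecialLinearGroup.transvection_inv, transv_sum_col, if_pos rfl]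

theorem mulVec_single_one_apply (A : Matrix (Fin m ⊕ Fin m) (Fin m ⊕ Fin m) F) (p r : Fin m ⊕ Fin m) :
    (A *ᵥ (Pi.single p 1 : Fin m ⊕ Fin m → F)) r = A r p := by
  rw [Matrix.mulVec_single_one]
  rfl

/-- the key step: a vector moved only into the first `k` coordinates by every unitriangular element has
its coordinates beyond the `k`-th equal to zero -/
theorem coord_eq_zero_of_stable (hm : 1 ≤ m) (k : ℕ) (v : Fin m ⊕ Fin m → F)
    (hv : ∀ u ∈ Usp m F, ∀ s, k ≤ ord m s →
      ((u : Matrix (Fin m ⊕ Fin m) (Fin m ⊕ Fin m) F) *ᵥ v) s = v s)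
    (a : Fin m ⊕ Fin m) (ha : k < ord m a) : v a = 0 := by
  obtain ⟨b, hb, u, hu, ε, hε, hux⟩ := exists_pred_step (F := F) hm a (by omega)
  have h1 := hv u hu b (by omega)
  rw [hux] at h1
  have h2 : ε * v a = 0 := by
    have := sub_eq_zero.mpr h1
    rwa [add_sub_cancel_left] at this
  exact (mul_eq_zero.mp h2).resolve_left hε

theorem normalizer_Usp_le_Bsp (hm : 1 ≤ m) :
    Subgroup.normalizer ((Usp m F : Subgroup (symplecticGroup (Fin m) F)) : Set (symplecticGroup (Fin m) F)) ≤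
      Bsp m F := by
  intro g hg
  have hconj : ∀ u ∈ Usp m F, g⁻¹ * u * g ∈ Usp m F := by
    intro u hu
    have h1 : g⁻¹ ∈ Subgroup.normalizer ((Usp m F : Subgroup _) : Set _) := Subgroup.inv_mem _ hg
    have := (Subgroup.mem_normalizer_iff.mp h1 u).mp hu
    rwa [inv_inv] at this
  have key : ∀ k : ℕ, ∀ p : Fin m ⊕ Fin m, ord m p < k → ∀ r : Fin m ⊕ Fin m, ord m p < ord m r →
      (g : Matrix (Fin m ⊕ Fin m) (Fin m ⊕ Fin m) F) r p = 0 := by
    intro k
    induction k with
    | zero => intro p hp; exact absurd hp (Nat.not_lt_zero _)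
    | succ k ih =>
      intro p hp r hr
      by_cases hpk : ord m p < k
      · exact ih p hpk r hr
      have hpk' : ord m p = k := by omega
      obtain ⟨v, hv⟩ : ∃ v : Fin m ⊕ Fin m → F,
        v = (g : Matrix (Fin m ⊕ Fin m) (Fin m ⊕ Fin m) F) *ᵥ (Pi.single p 1) := ⟨_, rfl⟩
      have hvr : v r = (g : Matrix (Fin m ⊕ Fin m) (Fin m ⊕ Fin m) F) r p := by
        rw [hv, mulVec_single_one_apply]
      rw [← hvr]
      apply coord_eq_zero_of_stable hm k v _ r (by omega)
      intro u hu s hs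
      obtain ⟨u', hu'⟩ : ∃ u', u' = g⁻¹ * u * g := ⟨_, rfl⟩
      have hu'U : u' ∈ Usp m F := by rw [hu']; exact hconj u hu
      have e1 : u * g = g * u' := by rw [hu']; group
      have e2 : (u : Matrix (Fin m ⊕ Fin m) (Fin m ⊕ Fin m) F) *ᵥ v =
          (g : Matrix (Fin m ⊕ Fin m) (Fin m ⊕ Fin m) F) *ᵥ
            ((u' : Matrix (Fin m ⊕ Fin m) (Fin m ⊕ Fin m) F) *ᵥ (Pi.single p 1)) := by
        rw [hv, Matrix.mulVec_mulVec, Matrix.mulVec_mulVec, ← coe_mul', ← coe_mul', e1]
      rw [e2, hv, mulVec_single_one_apply]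
      have e3 : ((g : Matrix (Fin m ⊕ Fin m) (Fin m ⊕ Fin m) F) *ᵥ
          ((u' : Matrix (Fin m ⊕ Fin m) (Fin m ⊕ Fin m) F) *ᵥ (Pi.single p 1))) s =
          ∑ t, (g : Matrix (Fin m ⊕ Fin m) (Fin m ⊕ Fin m) F) s t *
            (u' : Matrix (Fin m ⊕ Fin m) (Fin m ⊕ Fin m) F) t p := by
        show ∑ t, (g : Matrix (Fin m ⊕ Fin m) (Fin m ⊕ Fin m) F) s t *
          ((u' : Matrix (Fin m ⊕ Fin m) (Fin m ⊕ Fin m) F) *ᵥ (Pi.single p 1)) t = _
        apply Finset.sum_congr rfl
        intro t _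
        rw [mulVec_single_one_apply]
      rw [e3, Finset.sum_eq_single p]
      · rw [hu'U.2, mul_one]
      · intro t _ htp
        rcases lt_or_gt_of_ne (fun h => htp (ord_injective h)) with hlt | hgt
        · rw [ih t (by omega) s (by omega), zero_mul]
        · rw [hu'U.1 hgt, mul_zero]
      · intro h
        exact absurd (Finset.mem_univ p) h
  intro r p hpr
  exact key (2 * m) p (ord_lt p) r hpr

end Cfsg.Agent.H9SpF
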