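import Mathlib
import Cfsg.Prelude
import Cfsg.Agent.Lib.Helper9.SpFus4

set_option autoImplicit false

/-!
# The triangular subgroup of the symplectic group: torus decomposition
-/

namespace Cfsg.Agent.H9SpF

open Matrix

variable {F : Type*} [Field F] {m : ℕ}

/-- the diagonal matrices as a subgroup of the general linear group -/
def dg : (Fin m → Fˣ) →* GL (Fin m) F :=
  (Units.map (Matrix.diagonalRingHom (Fin m) F).toMonoidHom).comp MulEquiv.piUnits.symm.toMonoidHom

theorem dg_coe (d : Fin m → Fˣ) :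
    ((dg d : GL (Fin m) F) : Matrix (Fin m) (Fin m) F) = Matrix.diagonal (fun i => (d i : F)) := rfl

theorem dg_inv_coe (d : Fin m → Fˣ) :
    (((dg d)⁻¹ : GL (Fin m) F) : Matrix (Fin m) (Fin m) F) =
      Matrix.diagonal (fun i => (((d i)⁻¹ : Fˣ) : F)) := by
  rw [← map_inv, dg_coe]
  rfl

theorem lev_dg_apply (d : Fin m → Fˣ) (a b : Fin m ⊕ Fin m) :
    ((lev (dg d) : symplecticGroup (Fin m) F) : Matrix (Fin m ⊕ Fin m) (Fin m ⊕ Fin m) F) a b =
      if a = b then Sum.elim (fun i => (d i : F)) (fun i => (((d i)⁻¹ : Fˣ) : F)) a else 0 := by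
  rcases a with i | i <;> rcases b with j | j
  · rw [lev_apply_ll, dg_coe, Matrix.diagonal_apply]
    by_cases h : i = j
    · subst h; simp
    · rw [if_neg h, if_neg (fun e => h (Sum.inl.inj e))]
  · rw [lev_apply_lr, if_neg (by simp)]
  · rw [lev_apply_rl, if_neg (by simp)]
  · rw [lev_apply_rr, dg_inv_coe, Matrix.diagonal_apply]
    by_cases h : i = j
    · subst h; simp
    · rw [if_neg (fun e => h e.symm), if_neg (fun e => h (Sum.inr.inj e))]

theorem lev_dg_mem_Bsp (d : Fin m → Fˣ) : lev (dg d) ∈ Bsp m F := by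
  intro a b hab
  rw [lev_dg_apply, if_neg]
  rintro rfl
  exact lt_irrefl _ hab

theorem Bsp_le_normalizer :
    Bsp m F ≤ Subgroup.normalizer ((Usp m F : Subgroup (symplecticGroup (Fin m) F)) : Set _) := by
  have key : ∀ b ∈ Bsp m F, ∀ u ∈ Usp m F, b * u * b⁻¹ ∈ Usp m F := by
    intro b hb u hu
    have hbi : b⁻¹ ∈ Bsp m F := (Bsp m F).inv_mem hb
    have hbu : b * u ∈ Bsp m F := (Bsp m F).mul_mem hb (Usp_le_Bsp hu)
    refine ⟨(Bsp m F).mul_mem hbu hbi, fun a => ?_⟩
    rw [coe_mul', blockTriangular_mul_diag hbu hbi, coe_mul', blockTriangular_mul_diag hb hu.1, hu.2, mul_one,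
      ← blockTriangular_mul_diag hb hbi, ← coe_mul', mul_inv_cancel, coe_one', Matrix.one_apply_eq]
  intro b hb
  rw [Subgroup.mem_normalizer_iff]
  intro u
  constructor
  · exact key b hb u
  · intro h
    have := key b⁻¹ ((Bsp m F).inv_mem hb) _ h
    have e : b⁻¹ * (b * u * b⁻¹) * b⁻¹⁻¹ = u := by group
    rwa [e] at this

/-- the inverse of a symplectic matrix, upper left block -/
theorem inv_apply_ll (g : symplecticGroup (Fin m) F) (i j : Fin m) :
    ((g⁻¹ : symplecticGroup (Fin m) F) : Matrix (Fin m ⊕ Fin m) (Fin m ⊕ Fin m) F) (Sum.inl i) (Sum.inl j) =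
      (g : Matrix (Fin m ⊕ Fin m) (Fin m ⊕ Fin m) F) (Sum.inr j) (Sum.inr i) := by
  rw [SymplecticGroup.coe_inv]
  rw [← Matrix.fromBlocks_toBlocks (g : Matrix (Fin m ⊕ Fin m) (Fin m ⊕ Fin m) F)]
  unfold Matrix.J
  rw [fromBlocks_transpose, fromBlocks_neg, fromBlocks_multiply, fromBlocks_multiply]
  simp [Matrix.toBlocks₂₂]

theorem diag_mul_eq_one {g : symplecticGroup (Fin m) F} (hg : g ∈ Bsp m F) (i : Fin m) :
    (g : Matrix (Fin m ⊕ Fin m) (Fin m ⊕ Fin m) F) (Sum.inl i) (Sum.inl i) *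
      (g : Matrix (Fin m ⊕ Fin m) (Fin m ⊕ Fin m) F) (Sum.inr i) (Sum.inr i) = 1 := by
  have h1 := blockTriangular_mul_diag hg ((Bsp m F).inv_mem hg) (Sum.inl i)
  rw [← coe_mul', mul_inv_cancel, coe_one', Matrix.one_apply_eq, inv_apply_ll] at h1
  exact h1.symm

/-- a triangular symplectic matrix is a torus element times a unitriangular one -/
theorem exists_dg_mul {g : symplecticGroup (Fin m) F} (hg : g ∈ Bsp m F) :
    ∃ d : Fin m → Fˣ, ∃ u ∈ Usp m F, g = lev (dg d) * u := by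
  have hne : ∀ i, (g : Matrix (Fin m ⊕ Fin m) (Fin m ⊕ Fin m) F) (Sum.inl i) (Sum.inl i) ≠ 0 := by
    intro i h0
    have := diag_mul_eq_one hg i
    rw [h0, zero_mul] at this
    exact zero_ne_one this
  obtain ⟨d, hd⟩ : ∃ d : Fin m → Fˣ, d = fun i => Units.mk0 _ (hne i) := ⟨_, rfl⟩
  have hdi : ∀ i, (d i : F) = (g : Matrix (Fin m ⊕ Fin m) (Fin m ⊕ Fin m) F) (Sum.inl i) (Sum.inl i) := by
    intro i; rw [hd]; rfl
  have htB : (lev (dg d))⁻¹ ∈ Bsp m F := (Bsp m F).inv_mem (lev_dg_mem_Bsp d)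
  refine ⟨d, (lev (dg d))⁻¹ * g, ⟨(Bsp m F).mul_mem htB hg, fun a => ?_⟩, by group⟩
  rw [coe_mul', blockTriangular_mul_diag htB hg, ← map_inv, ← map_inv, lev_dg_apply, if_pos rfl]
  rcases a with i | i
  · simp only [Sum.elim_inl, Pi.inv_apply]
    rw [Units.val_inv_eq_inv_val, hdi]
    exact inv_mul_cancel₀ (hne i)
  · simp only [Sum.elim_inr, Pi.inv_apply, inv_inv]
    rw [hdi]
    exact diag_mul_eq_one hg i

/-- the cocharacter supported at the last index -/
def lastU (m : ℕ) (t : Fˣ) : Fin m → Fˣ := fun i => if i.val + 1 = m then t else 1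

theorem prod_lastU (hm : 1 ≤ m) (t : Fˣ) : ∏ i, lastU m t i = t := by
  have h1 : ∀ i : Fin m, i.val + 1 = m ↔ i = ⟨m - 1, by omega⟩ := by
    intro i
    constructor
    · intro h; apply Fin.ext; simp; omega
    · intro h; rw [h]; simp; omega
  unfold lastU
  simp only [h1]
  rw [Finset.prod_ite_eq' Finset.univ (⟨m - 1, by omega⟩ : Fin m) (fun _ => t), if_pos (Finset.mem_univ _)]

/-- torus elements of determinant one on the Levi factor -/
def torS (m : ℕ) (F : Type*) [Field F] : Set (symplecticGroup (Fin m) F) :=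
  {x | ∃ d : Fin m → Fˣ, ∏ i, d i = 1 ∧ x = lev (dg d)}

/-- torus elements supported at the last index -/
def torL (m : ℕ) (F : Type*) [Field F] : Set (symplecticGroup (Fin m) F) :=
  {x | ∃ t : Fˣ, x = lev (dg (lastU m t))}

theorem normalizer_le_closure (hm : 1 ≤ m) :
    Subgroup.normalizer ((Usp m F : Subgroup (symplecticGroup (Fin m) F)) : Set _) ≤
      Subgroup.closure (((Usp m F : Subgroup _) : Set (symplecticGroup (Fin m) F)) ∪ torS m F ∪ torL m F) := by
  intro g hg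
  obtain ⟨d, u, hu, rfl⟩ := exists_dg_mul (normalizer_Usp_le_Bsp hm hg)
  obtain ⟨δ, hδ⟩ : ∃ δ : Fˣ, δ = ∏ i, d i := ⟨_, rfl⟩
  have e1 : d = (d * (lastU m δ)⁻¹) * lastU m δ := by
    rw [inv_mul_cancel_right]
  rw [e1, map_mul, map_mul]
  refine Subgroup.mul_mem _ (Subgroup.mul_mem _ ?_ ?_) ?_
  · apply Subgroup.subset_closure
    left; right
    refine ⟨_, ?_, rfl⟩
    simp only [Pi.mul_apply, Pi.inv_apply]
    rw [Finset.prod_mul_distrib, ← hδ, Finset.prod_inv_distrib, prod_lastU hm, mul_inv_cancel]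
  · apply Subgroup.subset_closure
    right
    exact ⟨δ, rfl⟩
  · apply Subgroup.subset_closure
    left; left
    exact hu

theorem torS_subset_normalizer : ∀ x ∈ torS m F,
    x ∈ Subgroup.normalizer ((Usp m F : Subgroup (symplecticGroup (Fin m) F)) : Set _) := by
  rintro _ ⟨d, -, rfl⟩
  exact Bsp_le_normalizer (lev_dg_mem_Bsp d)

theorem torL_subset_normalizer : ∀ x ∈ torL m F,
    x ∈ Subgroup.normalizer ((Usp m F : Subgroup (symplecticGroup (Fin m) F)) : Set _) := by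
  rintro _ ⟨t, rfl⟩
  exact Bsp_le_normalizer (lev_dg_mem_Bsp _)

end Cfsg.Agent.H9SpF
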