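import Mathlib
import Cfsg.Prelude
import Cfsg.Agent.Lib.Helper9.SpFus5
import Cfsg.Agent.S0246
import Cfsg.Agent.Lib.Helper1.SLn

set_option autoImplicit false

/-!
# The Siegel radical of the symplectic group and its centralizer
-/

namespace Cfsg.Agent.H9SpF

open Matrix

variable {F : Type*} [Field F] {m : ℕ}

/-- the Siegel radical: the group of all Siegel elements -/
def Rsg (m : ℕ) (F : Type*) [Field F] : Subgroup (symplecticGroup (Fin m) F) where
  carrier := {g | ∃ (S : Matrix (Fin m) (Fin m) F) (hS : S.IsSymm), g = sieg S hS}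
  mul_mem' := by
    rintro _ _ ⟨S, hS, rfl⟩ ⟨S', hS', rfl⟩
    exact ⟨S + S', hS.add hS', sieg_mul S S' hS hS'⟩
  one_mem' := ⟨0, Matrix.isSymm_zero, sieg_zero.symm⟩
  inv_mem' := by
    rintro _ ⟨S, hS, rfl⟩
    exact ⟨-S, hS.neg, sieg_inv S hS⟩

theorem sieg_mem_Rsg (S : Matrix (Fin m) (Fin m) F) (hS : S.IsSymm) : sieg S hS ∈ Rsg m F :=
  ⟨S, hS, rfl⟩

theorem Rsg_le_Usp : Rsg m F ≤ Usp m F := by
  rintro _ ⟨S, hS, rfl⟩
  exact sieg_mem_Usp S hS

theorem lev_mem_normalizer_Rsg (P : GL (Fin m) F) :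
    lev P ∈ Subgroup.normalizer ((Rsg m F : Subgroup (symplecticGroup (Fin m) F)) : Set _) := by
  have key : ∀ Q : GL (Fin m) F, ∀ r ∈ Rsg m F, lev Q * r * (lev Q)⁻¹ ∈ Rsg m F := by
    rintro Q _ ⟨S, hS, rfl⟩
    rw [lev_conj_sieg]
    exact sieg_mem_Rsg _ _
  rw [Subgroup.mem_normalizer_iff]
  intro r
  constructor
  · exact key P r
  · intro h
    have := key P⁻¹ _ h
    rw [map_inv] at this
    have e : (lev P)⁻¹ * (lev P * r * (lev P)⁻¹) * (lev P)⁻¹⁻¹ = r := by group
    rwa [e] at this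

theorem symm_single_diag (l : Fin m) : (Matrix.single l l (1 : F)).IsSymm := by
  unfold Matrix.IsSymm
  rw [Matrix.transpose_single]

theorem symm_single_off (l k : Fin m) : (Matrix.single l k (1 : F) + Matrix.single k l (1 : F)).IsSymm := by
  unfold Matrix.IsSymm
  rw [Matrix.transpose_add, Matrix.transpose_single, Matrix.transpose_single, add_comm]

/-- matrices intertwining all symmetric matrices are equal scalars -/
theorem scalar_of_intertwine (A D : Matrix (Fin m) (Fin m) F)
    (h : ∀ S : Matrix (Fin m) (Fin m) F, S.IsSymm → A * S = S * D) :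
    ∃ a : F, A = a • (1 : Matrix (Fin m) (Fin m) F) ∧ D = a • (1 : Matrix (Fin m) (Fin m) F) := by
  have h1 : ∀ l i j : Fin m, (if j = l then A i l else 0) = (if i = l then D l j else 0) := by
    intro l i j
    have := congrFun (congrFun (h _ (symm_single_diag l)) i) j
    simp only [Matrix.mul_apply, Matrix.single_apply, mul_ite, mul_one, mul_zero, ite_mul, one_mul, zero_mul,
      ite_and] at this
    rw [Finset.sum_ite_eq Finset.univ l] at this
    by_cases hil : l = i
    · simp only [hil, if_true] at this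
      rw [Finset.sum_ite_eq Finset.univ i] at this
      simp only [Finset.mem_univ, if_true] at this
      rw [hil]
      simpa [eq_comm] using this
    · simp only [hil, if_false, Finset.sum_const_zero, Finset.mem_univ, if_true] at this
      have hil' : ¬ i = l := fun e => hil e.symm
      simp only [hil', if_false]
      simpa [eq_comm] using this
  have hAoff : ∀ i l : Fin m, i ≠ l → A i l = 0 := by
    intro i l hil
    have := h1 l i l
    rwa [if_pos rfl, if_neg hil] at this
  have hDoff : ∀ l j : Fin m, j ≠ l → D l j = 0 := by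
    intro l j hjl
    have := h1 l l j
    rw [if_neg hjl, if_pos rfl] at this
    exact this.symm
  have hdiag : ∀ l : Fin m, A l l = D l l := by
    intro l
    have := h1 l l l
    rwa [if_pos rfl, if_pos rfl] at this
  have hcross : ∀ l k : Fin m, l ≠ k → A l l = D k k := by
    intro l k hlk
    have := congrFun (congrFun (h _ (symm_single_off l k)) l) k
    simp only [Matrix.mul_apply, Matrix.add_apply, Matrix.single_apply, mul_add, add_mul, mul_ite, mul_one,
      mul_zero, ite_mul, one_mul, zero_mul, Finset.sum_add_distrib, ite_and] at this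
    simp only [Finset.sum_ite_eq, Finset.sum_ite_eq', Finset.mem_univ, if_true, hlk, hlk.symm, if_false,
      Finset.sum_const_zero, add_zero, zero_add] at this
    simpa using this
  by_cases hm0 : m = 0
  · subst hm0
    exact ⟨1, Subsingleton.elim _ _, Subsingleton.elim _ _⟩
  obtain ⟨a, ha⟩ : ∃ a : F, a = A ⟨0, Nat.pos_of_ne_zero hm0⟩ ⟨0, Nat.pos_of_ne_zero hm0⟩ := ⟨_, rfl⟩
  have hD : ∀ k : Fin m, D k k = a := by
    intro k
    by_cases hk : (⟨0, Nat.pos_of_ne_zero hm0⟩ : Fin m) = k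
    · rw [ha, ← hk, hdiag]
    · rw [ha, hcross _ _ hk]
  refine ⟨a, ?_, ?_⟩
  · ext i j
    rw [Matrix.smul_apply, Matrix.one_apply, smul_eq_mul, mul_ite, mul_one, mul_zero]
    by_cases hij : i = j
    · rw [if_pos hij, ← hij, hdiag, hD]
    · rw [if_neg hij, hAoff i j hij]
  · ext i j
    rw [Matrix.smul_apply, Matrix.one_apply, smul_eq_mul, mul_ite, mul_one, mul_zero]
    by_cases hij : i = j
    · rw [if_pos hij, ← hij, hD]
    · rw [if_neg hij, hDoff i j (fun e => hij e.symm)]

/-- the centralizer of the Siegel radical -/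
theorem cent_Rsg (hm : 1 ≤ m) (x : symplecticGroup (Fin m) F)
    (hx : ∀ r ∈ Rsg m F, x * r = r * x) :
    x ∈ Rsg m F ∨ Cfsg.Agent.S0246.negOne m F * x ∈ Rsg m F := by
  obtain ⟨A, hA⟩ : ∃ A, A = (x : Matrix (Fin m ⊕ Fin m) (Fin m ⊕ Fin m) F).toBlocks₁₁ := ⟨_, rfl⟩
  obtain ⟨B, hB⟩ : ∃ B, B = (x : Matrix (Fin m ⊕ Fin m) (Fin m ⊕ Fin m) F).toBlocks₁₂ := ⟨_, rfl⟩
  obtain ⟨C, hC⟩ : ∃ C, C = (x : Matrix (Fin m ⊕ Fin m) (Fin m ⊕ Fin m) F).toBlocks₂₁ := ⟨_, rfl⟩
  obtain ⟨D, hD⟩ : ∃ D, D = (x : Matrix (Fin m ⊕ Fin m) (Fin m ⊕ Fin m) F).toBlocks₂₂ := ⟨_, rfl⟩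
  have hxb : (x : Matrix (Fin m ⊕ Fin m) (Fin m ⊕ Fin m) F) = fromBlocks A B C D := by
    rw [hA, hB, hC, hD, Matrix.fromBlocks_toBlocks]
  have hcomm : ∀ S : Matrix (Fin m) (Fin m) F, S.IsSymm → S * C = 0 ∧ A * S = S * D := by
    intro S hS
    have h1 := congrArg Subtype.val (hx _ (sieg_mem_Rsg S hS))
    change (x : Matrix (Fin m ⊕ Fin m) (Fin m ⊕ Fin m) F) * siegM S =
      siegM S * (x : Matrix (Fin m ⊕ Fin m) (Fin m ⊕ Fin m) F) at h1
    rw [hxb] at h1
    unfold siegM at h1
    rw [fromBlocks_multiply, fromBlocks_multiply, fromBlocks_inj] at h1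
    obtain ⟨h11, h12, -, -⟩ := h1
    simp only [Matrix.mul_one, Matrix.mul_zero, add_zero, Matrix.one_mul] at h11 h12
    refine ⟨?_, ?_⟩
    · have := sub_eq_zero.mpr h11.symm
      rwa [add_sub_cancel_left] at this
    · have := h12
      rw [add_comm] at this
      exact add_left_cancel this
  have hC0 : C = 0 := by
    ext l j
    have := congrFun (congrFun (hcomm _ (symm_single_diag l)).1 l) j
    simp only [Matrix.mul_apply, Matrix.single_apply, ite_mul, one_mul, zero_mul, true_and, Finset.sum_ite_eq,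
      Finset.mem_univ, if_true, Matrix.zero_apply] at this
    exact this
  obtain ⟨a, hAa, hDa⟩ := scalar_of_intertwine A D (fun S hS => (hcomm S hS).2)
  have hmem := x.2
  rw [hxb, SymplecticGroup.fromBlocks_mem_iff] at hmem
  obtain ⟨-, h2, h3⟩ := hmem
  rw [hC0, Matrix.transpose_zero, Matrix.zero_mul, sub_zero, hAa, hDa, Matrix.transpose_smul,
    Matrix.transpose_one, smul_mul_smul_comm, Matrix.one_mul] at h3
  have haa : a * a = 1 := by
    have := congrFun (congrFun h3 ⟨0, hm⟩) ⟨0, hm⟩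
    rwa [Matrix.smul_apply, Matrix.one_apply_eq, smul_eq_mul, mul_one] at this
  have ha0 : a ≠ 0 := by
    intro h0
    rw [h0, zero_mul] at haa
    exact zero_ne_one haa
  rw [hDa, Matrix.transpose_smul, Matrix.transpose_one, Matrix.mul_smul, Matrix.mul_one, Matrix.smul_mul,
    Matrix.one_mul] at h2
  have hBs : B.IsSymm := by
    unfold Matrix.IsSymm
    have := congrArg (fun M => a⁻¹ • M) h2
    simpa [smul_smul, inv_mul_cancel₀ ha0] using this
  have ha : a = 1 ∨ a = -1 := by
    have : (a - 1) * (a + 1) = 0 := by ring_nf; rw [sq, haa]; ring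
    rcases mul_eq_zero.mp this with h | h
    · left; exact sub_eq_zero.mp h
    · right; exact eq_neg_of_add_eq_zero_left h
  rcases ha with rfl | rfl
  · left
    refine ⟨B, hBs, ?_⟩
    apply Subtype.ext
    rw [hxb, sieg_coe, hAa, hDa, hC0, one_smul]
    rfl
  · right
    refine ⟨-B, hBs.neg, ?_⟩
    apply Subtype.ext
    show (-1 : Matrix (Fin m ⊕ Fin m) (Fin m ⊕ Fin m) F) * (x : Matrix (Fin m ⊕ Fin m) (Fin m ⊕ Fin m) F) = _
    rw [hxb, sieg_coe, hAa, hDa, hC0, neg_one_mul, fromBlocks_neg]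
    unfold siegM
    simp

theorem Usp_le_normalizer_Rsg :
    Usp m F ≤ Subgroup.normalizer ((Rsg m F : Subgroup (symplecticGroup (Fin m) F)) : Set _) := by
  intro u hu
  obtain ⟨P, -, S, hS, rfl⟩ := exists_levS_sieg hu
  exact Subgroup.mul_mem _ (lev_mem_normalizer_Rsg _) (Subgroup.le_normalizer (sieg_mem_Rsg S hS))

theorem sl_transvection_pow {i j : Fin m} (hij : i ≠ j) (c : F) (k : ℕ) :
    (SpecialLinearGroup.transvection hij c : SpecialLinearGroup (Fin m) F) ^ k =
      SpecialLinearGroup.transvection hij (k • c) := by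
  induction k with
  | zero => rw [pow_zero, zero_nsmul, SpecialLinearGroup.transvection_coeff_zero]
  | succ k ih => rw [pow_succ, ih, ← SpecialLinearGroup.transvection_add, succ_nsmul]

theorem exists_orderOf_of_pow_eq_one {G : Type*} [Group G] (p : ℕ) [Fact p.Prime] {g : G} (h : g ^ p = 1) :
    ∃ j : ℕ, orderOf g = p ^ j := by
  have h2 := orderOf_dvd_of_pow_eq_one h
  rcases (Nat.dvd_prime (Fact.out : p.Prime)).mp h2 with h3 | h3
  · exact ⟨0, by rw [h3, pow_zero]⟩
  · exact ⟨1, by rw [h3, pow_one]⟩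

/-- the torus elements of determinant one on the Levi factor are generated by `p`-elements normalizing the
Siegel radical -/
theorem torS_good (p : ℕ) [Fact p.Prime] [CharP F p] (hm : 2 ≤ m) : ∀ x ∈ torS m F,
    x ∈ Subgroup.closure {k : symplecticGroup (Fin m) F |
      k ∈ Subgroup.normalizer ((Rsg m F : Subgroup (symplecticGroup (Fin m) F)) : Set _) ∧
        ∃ j : ℕ, orderOf k = p ^ j} := by
  rintro _ ⟨d, hd, rfl⟩
  haveI : Nontrivial (Fin m) := Fin.nontrivial_iff_two_le.mpr hm
  have hdet : (Matrix.diagonal (fun i => (d i : F))).det = 1 := by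
    rw [Matrix.det_diagonal, ← Units.coe_prod, hd, Units.val_one]
  obtain ⟨P, hP⟩ : ∃ P : SpecialLinearGroup (Fin m) F, P = ⟨_, hdet⟩ := ⟨_, rfl⟩
  have hPd : SpecialLinearGroup.toGL P = dg d := by
    apply Units.ext
    rw [hP]
    rfl
  have htop := Cfsg.Agent.Lib.Helper1.eq_top_of_transvection_mem
    ((Subgroup.closure {k : symplecticGroup (Fin m) F |
      k ∈ Subgroup.normalizer ((Rsg m F : Subgroup (symplecticGroup (Fin m) F)) : Set _) ∧
        ∃ j : ℕ, orderOf k = p ^ j}).comap levS) (by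
    intro i j hij c
    rw [Subgroup.mem_comap]
    apply Subgroup.subset_closure
    refine ⟨lev_mem_normalizer_Rsg _, ?_⟩
    apply exists_orderOf_of_pow_eq_one p
    rw [← map_pow, sl_transvection_pow, nsmul_eq_mul, CharP.cast_eq_zero, zero_mul,
      SpecialLinearGroup.transvection_coeff_zero, map_one])
  have h1 : P ∈ (Subgroup.closure {k : symplecticGroup (Fin m) F |
      k ∈ Subgroup.normalizer ((Rsg m F : Subgroup (symplecticGroup (Fin m) F)) : Set _) ∧
        ∃ j : ℕ, orderOf k = p ^ j}).comap levS := by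
    rw [htop]; exact Subgroup.mem_top _
  rw [Subgroup.mem_comap] at h1
  have h2 : levS P = lev (dg d) := by
    show lev (SpecialLinearGroup.toGL P) = _
    rw [hPd]
  rwa [h2] at h1

theorem Usp_good (p : ℕ) [Fact p.Prime] [CharP F p] (hm : 1 ≤ m) : ∀ x ∈ Usp m F,
    x ∈ Subgroup.closure {k : symplecticGroup (Fin m) F |
      k ∈ Subgroup.normalizer ((Rsg m F : Subgroup (symplecticGroup (Fin m) F)) : Set _) ∧
        ∃ j : ℕ, orderOf k = p ^ j} := by
  intro x hx
  apply Subgroup.subset_closure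
  refine ⟨Usp_le_normalizer_Rsg hx, ?_⟩
  obtain ⟨j, hj⟩ := (IsPGroup.iff_orderOf.mp (isPGroup_Usp (F := F) p hm)) ⟨x, hx⟩
  refine ⟨j, ?_⟩
  rw [← hj]
  exact (Subgroup.orderOf_mk x hx).symm

end Cfsg.Agent.H9SpF
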