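import Mathlib
import Cfsg.Prelude
import Cfsg.Agent.Lib.Helper9.SpFus6
import Cfsg.Agent.Lib.Helper9.SpRoot3

set_option autoImplicit false

/-!
# The radical of the stabilizer of an isotropic line in the symplectic group
-/

namespace Cfsg.Agent.H9SpF

open Matrix
open Cfsg.Agent.Lib.Helper2.Symp
open Cfsg.Agent.H9SpRoot

variable {F : Type*} [Field F] {m : ℕ}

/-- the unipotent radical of the stabilizer of the line spanned by `v` -/
def Rad (v : Fin m ⊕ Fin m → F) : Subgroup (symplecticGroup (Fin m) F) where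
  carrier := {g | (g : Matrix (Fin m ⊕ Fin m) (Fin m ⊕ Fin m) F) *ᵥ v = v ∧
    ∀ x, Cfsg.sympForm m F x v = 0 →
      ∃ c : F, (g : Matrix (Fin m ⊕ Fin m) (Fin m ⊕ Fin m) F) *ᵥ x = x + c • v}
  mul_mem' := by
    rintro g h ⟨hg1, hg2⟩ ⟨hh1, hh2⟩
    refine ⟨by rw [coe_mul_mulVec, hh1, hg1], fun x hx => ?_⟩
    obtain ⟨c, hc⟩ := hh2 x hx
    obtain ⟨d, hd⟩ := hg2 x hx
    refine ⟨d + c, ?_⟩
    rw [coe_mul_mulVec, hc, Matrix.mulVec_add, Matrix.mulVec_smul, hg1, hd]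
    module
  one_mem' := ⟨coe_one_mulVec v, fun x _ => ⟨0, by rw [coe_one_mulVec, zero_smul, add_zero]⟩⟩
  inv_mem' := by
    rintro g ⟨hg1, hg2⟩
    have h1 : ((g⁻¹ : symplecticGroup (Fin m) F) : Matrix (Fin m ⊕ Fin m) (Fin m ⊕ Fin m) F) *ᵥ v = v := by
      conv_lhs => rw [← hg1]
      exact inv_mulVec_mulVec g v
    refine ⟨h1, fun x hx => ?_⟩
    obtain ⟨c, hc⟩ := hg2 x hx
    refine ⟨-c, ?_⟩
    have h2 := congrArg (fun y => ((g⁻¹ : symplecticGroup (Fin m) F) :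
      Matrix (Fin m ⊕ Fin m) (Fin m ⊕ Fin m) F) *ᵥ y) hc
    simp only [inv_mulVec_mulVec, Matrix.mulVec_add, Matrix.mulVec_smul, h1] at h2
    have h3 : ((g⁻¹ : symplecticGroup (Fin m) F) : Matrix (Fin m ⊕ Fin m) (Fin m ⊕ Fin m) F) *ᵥ x =
        x - c • v := by
      rw [eq_sub_iff_add_eq]; exact h2.symm
    rw [h3]
    module

theorem mem_Rad {v : Fin m ⊕ Fin m → F} {g : symplecticGroup (Fin m) F} :
    g ∈ Rad v ↔ (g : Matrix (Fin m ⊕ Fin m) (Fin m ⊕ Fin m) F) *ᵥ v = v ∧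
    ∀ x, Cfsg.sympForm m F x v = 0 →
      ∃ c : F, (g : Matrix (Fin m ⊕ Fin m) (Fin m ⊕ Fin m) F) *ᵥ x = x + c • v := Iff.rfl

theorem mem_normalizer_Rad {v : Fin m ⊕ Fin m → F} {g : symplecticGroup (Fin m) F}
    (hg : (g : Matrix (Fin m ⊕ Fin m) (Fin m ⊕ Fin m) F) *ᵥ v = v) :
    g ∈ Subgroup.normalizer ((Rad v : Subgroup (symplecticGroup (Fin m) F)) : Set _) := by
  have key : ∀ k : symplecticGroup (Fin m) F,
      (k : Matrix (Fin m ⊕ Fin m) (Fin m ⊕ Fin m) F) *ᵥ v = v → ∀ r ∈ Rad v, k * r * k⁻¹ ∈ Rad v := by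
    intro k hk r hr
    have hki : ((k⁻¹ : symplecticGroup (Fin m) F) : Matrix (Fin m ⊕ Fin m) (Fin m ⊕ Fin m) F) *ᵥ v = v := by
      conv_lhs => rw [← hk]
      exact inv_mulVec_mulVec k v
    obtain ⟨hr1, hr2⟩ := hr
    refine ⟨by rw [coe_mul_mulVec, coe_mul_mulVec, hki, hr1, hk], fun x hx => ?_⟩
    have h2 : Cfsg.sympForm m F
        (((k⁻¹ : symplecticGroup (Fin m) F) : Matrix (Fin m ⊕ Fin m) (Fin m ⊕ Fin m) F) *ᵥ x) v = 0 := by
      rw [form_inv_mulVec, hk, hx]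
    obtain ⟨c, hc⟩ := hr2 _ h2
    refine ⟨c, ?_⟩
    rw [coe_mul_mulVec, coe_mul_mulVec, hc, Matrix.mulVec_add, Matrix.mulVec_smul, hk, mulVec_inv_mulVec]
  have hgi : ((g⁻¹ : symplecticGroup (Fin m) F) : Matrix (Fin m ⊕ Fin m) (Fin m ⊕ Fin m) F) *ᵥ v = v := by
    conv_lhs => rw [← hg]
    exact inv_mulVec_mulVec g v
  rw [Subgroup.mem_normalizer_iff]
  intro r
  constructor
  · exact key g hg r
  · intro h
    have := key g⁻¹ hgi _ h
    have e : g⁻¹ * (g * r * g⁻¹) * g⁻¹⁻¹ = r := by group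
    rwa [e] at this

theorem tv_mem_Rad (v : Fin m ⊕ Fin m → F) (c : F) : tv v c ∈ Rad v := by
  refine ⟨by rw [tv_mulVec, sympForm_self, mul_zero, zero_smul, add_zero], fun x hx => ⟨0, ?_⟩⟩
  rw [tv_mulVec, hx, mul_zero, zero_smul]

/-- the Heisenberg-type elements of the radical -/
def rho (v u : Fin m ⊕ Fin m → F) (c : F) : symplecticGroup (Fin m) F :=
  tv (v + u) c * tv v (-c) * tv u (-c)

theorem rho_mulVec {v u : Fin m ⊕ Fin m → F} (h : Cfsg.sympForm m F u v = 0) (c : F)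
    (y : Fin m ⊕ Fin m → F) :
    ((rho v u c : symplecticGroup (Fin m) F) : Matrix (Fin m ⊕ Fin m) (Fin m ⊕ Fin m) F) *ᵥ y =
      y + (c * Cfsg.sympForm m F y u) • v + (c * Cfsg.sympForm m F y v) • u := by
  have h' : Cfsg.sympForm m F v u = 0 := by rw [sympForm_swap, h, neg_zero]
  unfold rho
  rw [coe_mul_mulVec, coe_mul_mulVec, tv_mulVec, tv_mulVec, tv_mulVec]
  simp only [sympForm_add_left, sympForm_add_right, sympForm_smul_left, sympForm_smul_right,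
    sympForm_self, h, h']
  module

theorem rho_mem_Rad {v u : Fin m ⊕ Fin m → F} (h : Cfsg.sympForm m F u v = 0) (c : F) :
    rho v u c ∈ Rad v := by
  have h' : Cfsg.sympForm m F v u = 0 := by rw [sympForm_swap, h, neg_zero]
  refine ⟨?_, fun x hx => ⟨c * Cfsg.sympForm m F x u, ?_⟩⟩
  · rw [rho_mulVec h, sympForm_self, h']
    module
  · rw [rho_mulVec h, hx]
    module

/-- the centralizer of the radical -/
theorem cent_Rad {v : Fin m ⊕ Fin m → F} (hv : v ≠ 0) (x : symplecticGroup (Fin m) F)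
    (hx : ∀ r ∈ Rad v, x * r = r * x) :
    x ∈ Rad v ∨ Cfsg.Agent.S0246.negOne m F * x ∈ Rad v := by
  obtain ⟨w0, hw0⟩ := exists_partner hv
  obtain ⟨f, hf⟩ : ∃ f, Cfsg.sympForm m F f v = 1 :=
    ⟨-w0, by rw [sympForm_swap, form_neg_right, hw0, neg_neg]⟩
  obtain ⟨lam, hlam⟩ : ∃ lam, lam = Cfsg.sympForm m F
    ((x : Matrix (Fin m ⊕ Fin m) (Fin m ⊕ Fin m) F) *ᵥ f) v := ⟨_, rfl⟩
  have h1 : ∀ y, Cfsg.sympForm m F y v • ((x : Matrix (Fin m ⊕ Fin m) (Fin m ⊕ Fin m) F) *ᵥ v) =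
      Cfsg.sympForm m F ((x : Matrix (Fin m ⊕ Fin m) (Fin m ⊕ Fin m) F) *ᵥ y) v • v := by
    intro y
    have := congrArg (fun g : symplecticGroup (Fin m) F =>
      (g : Matrix (Fin m ⊕ Fin m) (Fin m ⊕ Fin m) F) *ᵥ y) (hx _ (tv_mem_Rad v 1))
    simp only [coe_mul_mulVec, tv_mulVec, Matrix.mulVec_add, Matrix.mulVec_smul, one_mul] at this
    exact add_left_cancel this
  have hxv : (x : Matrix (Fin m ⊕ Fin m) (Fin m ⊕ Fin m) F) *ᵥ v = lam • v := by
    have := h1 f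
    rw [hf, one_smul, ← hlam] at this
    exact this
  have h2 : ∀ y, Cfsg.sympForm m F ((x : Matrix (Fin m ⊕ Fin m) (Fin m ⊕ Fin m) F) *ᵥ y) v =
      lam * Cfsg.sympForm m F y v := by
    intro y
    have := h1 y
    rw [hxv, smul_smul] at this
    have := smul_left_injective F hv this
    rw [← this, mul_comm]
  have hlam2 : lam * lam = 1 := by
    have := form_mulVec x f v
    rw [hxv, sympForm_smul_right, h2 f, hf, mul_one] at this
    exact this
  have h3 : ∀ u, Cfsg.sympForm m F u v = 0 →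
      (x : Matrix (Fin m ⊕ Fin m) (Fin m ⊕ Fin m) F) *ᵥ u = lam • u +
        (Cfsg.sympForm m F ((x : Matrix (Fin m ⊕ Fin m) (Fin m ⊕ Fin m) F) *ᵥ f) u -
          lam * Cfsg.sympForm m F f u) • v := by
    intro u hu
    have := congrArg (fun g : symplecticGroup (Fin m) F =>
      (g : Matrix (Fin m ⊕ Fin m) (Fin m ⊕ Fin m) F) *ᵥ f) (hx _ (rho_mem_Rad hu 1))
    simp only [coe_mul_mulVec, rho_mulVec hu, Matrix.mulVec_add, Matrix.mulVec_smul, one_mul, hf, hxv, h2,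
      one_smul, mul_one] at this
    have e : (x : Matrix (Fin m ⊕ Fin m) (Fin m ⊕ Fin m) F) *ᵥ u =
        ((x : Matrix (Fin m ⊕ Fin m) (Fin m ⊕ Fin m) F) *ᵥ f +
          Cfsg.sympForm m F ((x : Matrix (Fin m ⊕ Fin m) (Fin m ⊕ Fin m) F) *ᵥ f) u • v + lam • u) -
        ((x : Matrix (Fin m ⊕ Fin m) (Fin m ⊕ Fin m) F) *ᵥ f + Cfsg.sympForm m F f u • lam • v) := by
      rw [← this]; abel
    rw [e]
    module
  have hl : lam = 1 ∨ lam = -1 := by
    have : (lam - 1) * (lam + 1) = 0 := by ring_nf; rw [sq, hlam2]; ring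
    rcases mul_eq_zero.mp this with h | h
    · left; exact sub_eq_zero.mp h
    · right; exact eq_neg_of_add_eq_zero_left h
  rcases hl with rfl | rfl
  · left
    refine ⟨by rw [hxv, one_smul], fun u hu => ⟨Cfsg.sympForm m F
      ((x : Matrix (Fin m ⊕ Fin m) (Fin m ⊕ Fin m) F) *ᵥ f) u - 1 * Cfsg.sympForm m F f u, ?_⟩⟩
    rw [h3 u hu, one_smul]
  · right
    have hneg : ∀ y, ((Cfsg.Agent.S0246.negOne m F * x : symplecticGroup (Fin m) F) :
        Matrix (Fin m ⊕ Fin m) (Fin m ⊕ Fin m) F) *ᵥ y =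
        -((x : Matrix (Fin m ⊕ Fin m) (Fin m ⊕ Fin m) F) *ᵥ y) := by
      intro y
      rw [coe_mul_mulVec]
      show (-1 : Matrix (Fin m ⊕ Fin m) (Fin m ⊕ Fin m) F) *ᵥ _ = _
      rw [Matrix.neg_mulVec, Matrix.one_mulVec]
    refine ⟨by rw [hneg, hxv]; module, fun u hu => ⟨-(Cfsg.sympForm m F
      ((x : Matrix (Fin m ⊕ Fin m) (Fin m ⊕ Fin m) F) *ᵥ f) u - -1 * Cfsg.sympForm m F f u), ?_⟩⟩
    rw [hneg, h3 u hu]
    module

theorem Rad_le_Usp (hm : 1 ≤ m) :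
    Rad (Pi.single (Sum.inl ⟨0, hm⟩) 1 : Fin m ⊕ Fin m → F) ≤ Usp m F := by
  rintro g ⟨hg1, hg2⟩
  have hcol : ∀ b : Fin m ⊕ Fin m, b ≠ Sum.inr ⟨0, hm⟩ → b ≠ Sum.inl ⟨0, hm⟩ →
      ∃ c : F, ∀ a, (g : Matrix (Fin m ⊕ Fin m) (Fin m ⊕ Fin m) F) a b =
        (if a = b then 1 else 0) + c * (if a = Sum.inl ⟨0, hm⟩ then 1 else 0) := by
    intro b hb1 hb2
    have h0 : Cfsg.sympForm m F (Pi.single b 1 : Fin m ⊕ Fin m → F) (Pi.single (Sum.inl ⟨0, hm⟩) 1) = 0 := by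
      rw [sympForm_single_inl, Pi.single_apply, if_neg (fun e => hb1 e.symm)]
    obtain ⟨c, hc⟩ := hg2 _ h0
    refine ⟨c, fun a => ?_⟩
    rw [← mulVec_single_one_apply (g : Matrix (Fin m ⊕ Fin m) (Fin m ⊕ Fin m) F) b a, hc, Pi.add_apply,
      Pi.smul_apply, Pi.single_apply, Pi.single_apply, smul_eq_mul]
  have hcol0 : ∀ a, (g : Matrix (Fin m ⊕ Fin m) (Fin m ⊕ Fin m) F) a (Sum.inl ⟨0, hm⟩) =
      if a = Sum.inl ⟨0, hm⟩ then 1 else 0 := by
    intro a
    rw [← mulVec_single_one_apply (g : Matrix (Fin m ⊕ Fin m) (Fin m ⊕ Fin m) F) (Sum.inl ⟨0, hm⟩) a, hg1,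
      Pi.single_apply]
  have hlast : (g : Matrix (Fin m ⊕ Fin m) (Fin m ⊕ Fin m) F) (Sum.inr ⟨0, hm⟩) (Sum.inr ⟨0, hm⟩) = 1 := by
    have h1 := form_mulVec g (Pi.single (Sum.inr ⟨0, hm⟩) 1) (Pi.single (Sum.inl ⟨0, hm⟩) 1)
    rw [hg1, sympForm_single_inl, sympForm_single_inl, mulVec_single_one_apply, Pi.single_eq_same] at h1
    exact h1
  constructor
  · intro a b hab
    by_cases hb1 : b = Sum.inr ⟨0, hm⟩
    · exfalso
      rw [hb1, ord_inr] at hab
      have := ord_lt a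
      simp only at hab
      omega
    by_cases hb2 : b = Sum.inl ⟨0, hm⟩
    · rw [hb2, hcol0, if_neg]
      rintro rfl
      rw [hb2] at hab
      exact lt_irrefl _ hab
    · obtain ⟨c, hc⟩ := hcol b hb1 hb2
      rw [hc, if_neg, if_neg, mul_zero, add_zero]
      · rintro rfl
        rw [ord_inl] at hab
        simp only at hab
        omega
      · rintro rfl
        exact lt_irrefl _ hab
  · intro a
    by_cases hb1 : a = Sum.inr ⟨0, hm⟩
    · rw [hb1, hlast]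
    by_cases hb2 : a = Sum.inl ⟨0, hm⟩
    · rw [hb2, hcol0, if_pos rfl]
    · obtain ⟨c, hc⟩ := hcol a hb1 hb2
      rw [hc, if_pos rfl, if_neg hb2, mul_zero, add_zero]

theorem tv_pow (q : Fin m ⊕ Fin m → F) (d : F) (k : ℕ) : tv q d ^ k = tv q (k • d) := by
  induction k with
  | zero => rw [pow_zero, zero_nsmul, tv_zero]
  | succ k ih => rw [pow_succ, ih, tv_mul, succ_nsmul]

/-- the diagonal element of `SL₂` -/
def dSL (t : Fˣ) : SpecialLinearGroup (Fin 2) F :=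
  ⟨!![((t⁻¹ : Fˣ) : F), 0; 0, (t : F)], by rw [Matrix.det_fin_two_of]; simp⟩

theorem lev_dg_mulVec (d : Fin m → Fˣ) (v : Fin m ⊕ Fin m → F) (a : Fin m ⊕ Fin m) :
    (((lev (dg d) : symplecticGroup (Fin m) F) : Matrix (Fin m ⊕ Fin m) (Fin m ⊕ Fin m) F) *ᵥ v) a =
      Sum.elim (fun i => (d i : F)) (fun i => (((d i)⁻¹ : Fˣ) : F)) a * v a := by
  rw [Matrix.mulVec, dotProduct]
  simp only [lev_dg_apply, ite_mul, zero_mul]
  rw [Finset.sum_ite_eq Finset.univ a, if_pos (Finset.mem_univ _)]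

theorem lev_lastU_eq_phi (hm : 1 ≤ m) (t : Fˣ)
    (h0 : Cfsg.sympForm m F (Pi.single (Sum.inr ⟨m - 1, by omega⟩) 1 : Fin m ⊕ Fin m → F)
      (Pi.single (Sum.inl ⟨m - 1, by omega⟩) 1) = 1) :
    lev (dg (lastU m t)) = phi h0 (dSL t) := by
  apply sp_ext
  intro v
  funext a
  rw [lev_dg_mulVec, phi_mulVec, Lmap_apply, sympForm_single_inl, sympForm_swap, sympForm_single_inr]
  have hl : ∀ i : Fin m, i.val + 1 = m ↔ i = ⟨m - 1, by omega⟩ := by
    intro i
    constructor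
    · intro h; apply Fin.ext; simp; omega
    · intro h; rw [h]; simp; omega
  simp only [dSL, Matrix.of_apply, Matrix.cons_val', Matrix.cons_val_zero, Matrix.cons_val_one,
    Matrix.cons_val_fin_one, Pi.add_apply, Pi.smul_apply, Pi.single_apply, smul_eq_mul, zero_mul, add_zero,
    zero_add, neg_neg]
  rcases a with i | i
  · simp only [Sum.elim_inl, lastU, hl, Sum.inl.injEq, reduceCtorEq, if_false, mul_zero, add_zero]
    by_cases hi : i = ⟨m - 1, by omega⟩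
    · rw [if_pos hi, if_pos hi, hi]; ring
    · rw [if_neg hi, if_neg hi]; simp
  · simp only [Sum.elim_inr, lastU, hl, Sum.inr.injEq, reduceCtorEq, if_false, mul_zero, add_zero]
    by_cases hi : i = ⟨m - 1, by omega⟩
    · rw [if_pos hi, if_pos hi, hi]; ring
    · rw [if_neg hi, if_neg hi]; simp

theorem tv_good (p : ℕ) [Fact p.Prime] [CharP F p] {v q : Fin m ⊕ Fin m → F}
    (h : Cfsg.sympForm m F v q = 0) (d : F) :
    tv q d ∈ Subgroup.closure {k : symplecticGroup (Fin m) F |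
      k ∈ Subgroup.normalizer ((Rad v : Subgroup (symplecticGroup (Fin m) F)) : Set _) ∧
        ∃ j : ℕ, orderOf k = p ^ j} := by
  apply Subgroup.subset_closure
  refine ⟨mem_normalizer_Rad ?_, ?_⟩
  · rw [tv_mulVec, h, mul_zero, zero_smul, add_zero]
  · apply exists_orderOf_of_pow_eq_one p
    rw [tv_pow, nsmul_eq_mul, CharP.cast_eq_zero, zero_mul, tv_zero]

/-- the torus elements supported at the last index are generated by `p`-elements normalizing the radical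
of the stabilizer of the first basis line -/
theorem torL_good (p : ℕ) [Fact p.Prime] [CharP F p] (hm : 2 ≤ m) : ∀ x ∈ torL m F,
    x ∈ Subgroup.closure {k : symplecticGroup (Fin m) F |
      k ∈ Subgroup.normalizer ((Rad (Pi.single (Sum.inl ⟨0, by omega⟩) 1 : Fin m ⊕ Fin m → F) :
        Subgroup (symplecticGroup (Fin m) F)) : Set _) ∧ ∃ j : ℕ, orderOf k = p ^ j} := by
  rintro _ ⟨t, rfl⟩
  have h0 : Cfsg.sympForm m F (Pi.single (Sum.inr ⟨m - 1, by omega⟩) 1 : Fin m ⊕ Fin m → F)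
      (Pi.single (Sum.inl ⟨m - 1, by omega⟩) 1) = 1 := by
    rw [sympForm_single_inl, Pi.single_eq_same]
  have hne : (⟨0, by omega⟩ : Fin m) ≠ ⟨m - 1, by omega⟩ := by
    intro h
    have := congrArg Fin.val h
    simp only at this
    omega
  have hz1 : Cfsg.sympForm m F (Pi.single (Sum.inl ⟨0, by omega⟩) 1 : Fin m ⊕ Fin m → F)
      (Pi.single (Sum.inr ⟨m - 1, by omega⟩) 1) = 0 := by
    rw [sympForm_single_inr, Pi.single_apply, if_neg (fun e => hne (Sum.inl.inj e).symm), neg_zero]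
  have hz2 : Cfsg.sympForm m F (Pi.single (Sum.inl ⟨0, by omega⟩) 1 : Fin m ⊕ Fin m → F)
      (Pi.single (Sum.inl ⟨m - 1, by omega⟩) 1) = 0 := by
    rw [sympForm_single_inl, Pi.single_apply, if_neg (by simp)]
  rw [lev_lastU_eq_phi (by omega) t h0]
  have htop := Cfsg.Agent.Lib.Helper1.eq_top_of_transvection_mem
    ((Subgroup.closure {k : symplecticGroup (Fin m) F |
      k ∈ Subgroup.normalizer ((Rad (Pi.single (Sum.inl ⟨0, by omega⟩) 1 : Fin m ⊕ Fin m → F) :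
        Subgroup (symplecticGroup (Fin m) F)) : Set _) ∧ ∃ j : ℕ, orderOf k = p ^ j}).comap (phi h0)) (by
    intro i j hij c
    rw [Subgroup.mem_comap]
    fin_cases i <;> fin_cases j
    · exact absurd rfl hij
    · rw [phi_upper h0 _ (by simp [SpecialLinearGroup.transvection_coe, Matrix.single_apply])]
      exact tv_good p hz1 _
    · rw [phi_lower h0 _ (by simp [SpecialLinearGroup.transvection_coe, Matrix.single_apply])]
      exact tv_good p hz2 _
    · exact absurd rfl hij)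
  have h1 : dSL t ∈ (Subgroup.closure {k : symplecticGroup (Fin m) F |
      k ∈ Subgroup.normalizer ((Rad (Pi.single (Sum.inl ⟨0, by omega⟩) 1 : Fin m ⊕ Fin m → F) :
        Subgroup (symplecticGroup (Fin m) F)) : Set _) ∧ ∃ j : ℕ, orderOf k = p ^ j}).comap (phi h0) := by
    rw [htop]; exact Subgroup.mem_top _
  exact h1

end Cfsg.Agent.H9SpF
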