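import Mathlib
import Cfsg.Prelude
import Cfsg.Agent.Lib.Helper9.SpFus7
import Cfsg.Agent.Lib.Helper9.PSLFus2

set_option autoImplicit false

/-!
# Subgroups of the unitriangular subgroup of the symplectic group closed under conjugation
-/

namespace Cfsg.Agent.H9SpF

open Matrix
open Cfsg.Agent.Lib.Helper2.Symp
open Cfsg.Agent.H9SpRoot
open Cfsg.Agent.Lib.Helper5.SLnBN

variable {F : Type*} [Field F] {m : ℕ}

/-- conjugating a matrix by an elementary matrix, entrywise -/
theorem conj_transv_apply (S : Matrix (Fin m) (Fin m) F) (x y : Fin m) (β : F) (k l : Fin m) :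
    (((1 : Matrix (Fin m) (Fin m) F) + Matrix.single x y β) * S *
      ((1 : Matrix (Fin m) (Fin m) F) + Matrix.single x y β)ᵀ) k l =
      S k l + β * (if k = x then S y l else 0) + β * (if l = x then S k y else 0) +
        β * β * (if k = x ∧ l = x then S y y else 0) := by
  have e : ((1 : Matrix (Fin m) (Fin m) F) + Matrix.single x y β) * S *
      ((1 : Matrix (Fin m) (Fin m) F) + Matrix.single x y β)ᵀ =
      S + Matrix.single x y β * S + S * Matrix.single y x β +
        Matrix.single x y β * S * Matrix.single y x β := by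
    rw [Matrix.transpose_add, Matrix.transpose_one, Matrix.transpose_single]
    noncomm_ring
  rw [e]
  simp only [Matrix.add_apply]
  by_cases hk : k = x <;> by_cases hl : l = x
  · subst hk; subst hl
    rw [Matrix.mul_single_apply_same, Matrix.single_mul_apply_same, Matrix.mul_single_apply_same,
      Matrix.single_mul_apply_same]
    simp only [if_true, and_self]
    ring
  · subst hk
    rw [Matrix.mul_single_apply_of_ne (hbj := hl), Matrix.single_mul_apply_same,
      Matrix.mul_single_apply_of_ne (hbj := hl)]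
    simp only [if_true, hl, if_false, and_false]
    ring
  · subst hl
    rw [Matrix.mul_single_apply_same, Matrix.single_mul_apply_of_ne (h := hk),
      Matrix.mul_single_apply_same, Matrix.single_mul_apply_of_ne (h := hk)]
    simp only [if_true, hk, if_false, false_and]
    ring
  · rw [Matrix.mul_single_apply_of_ne (hbj := hl), Matrix.single_mul_apply_of_ne (h := hk),
      Matrix.mul_single_apply_of_ne (hbj := hl)]
    simp only [hk, hl, if_false, false_and]
    ring

theorem conj_diag_apply (S : Matrix (Fin m) (Fin m) F) (d : Fin m → F) (k l : Fin m) :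
    (Matrix.diagonal d * S * (Matrix.diagonal d)ᵀ) k l = d k * S k l * d l := by
  rw [Matrix.diagonal_transpose, Matrix.mul_diagonal, Matrix.diagonal_mul]

/-- the elementary symmetric matrix with entries at `(i, j)` and `(j, i)` -/
def Qm (i j : Fin m) : Matrix (Fin m) (Fin m) F := Matrix.single i j 1 + Matrix.single j i 1

theorem Qm_apply (i j k l : Fin m) :
    (Qm i j : Matrix (Fin m) (Fin m) F) k l =
      (if k = i ∧ l = j then 1 else 0) + (if k = j ∧ l = i then 1 else 0) := by
  unfold Qm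
  rw [Matrix.add_apply, Matrix.single_apply, Matrix.single_apply]
  simp only [eq_comm]

theorem Qm_comm (i j : Fin m) : (Qm i j : Matrix (Fin m) (Fin m) F) = Qm j i := by
  unfold Qm
  rw [add_comm]

/-- the diagonal cocharacter at the index `i` -/
def dU (i : Fin m) (s : Fˣ) : Fin m → Fˣ := fun a => if a = i then s else 1

theorem dU_coe (i : Fin m) (s : Fˣ) (a : Fin m) : ((dU i s a : Fˣ) : F) = if a = i then (s : F) else 1 := by
  unfold dU
  split_ifs <;> simp

theorem scalar_identity (S : Matrix (Fin m) (Fin m) F) {i j : Fin m} (hsym : S j i = S i j) (hij : i ≠ j)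
    (s t : F) :
    Matrix.diagonal (fun a => if a = i then s else 1) *
      (Matrix.diagonal (fun a => if a = j then t else 1) *
        (Matrix.diagonal (fun a => if a = i then t else 1) * S *
          (Matrix.diagonal (fun a => if a = i then t else 1))ᵀ - S) *
        (Matrix.diagonal (fun a => if a = j then t else 1))ᵀ -
        (Matrix.diagonal (fun a => if a = i then t else 1) * S *
          (Matrix.diagonal (fun a => if a = i then t else 1))ᵀ - S)) *
      (Matrix.diagonal (fun a => if a = i then s else 1))ᵀ =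
      (s * ((t - 1) * (t - 1) * S i j)) • Qm i j := by
  ext a c
  rw [conj_diag_apply]
  simp only [Matrix.sub_apply, conj_diag_apply, Matrix.smul_apply, Qm_apply, smul_eq_mul]
  have hji : j ≠ i := fun e => hij e.symm
  by_cases ha : a = i <;> by_cases hc : c = i <;> by_cases ha' : a = j <;> by_cases hc' : c = j <;>
    simp_all [-mul_eq_mul_left_iff, -mul_eq_mul_right_iff] <;> ring

theorem rho_conj (g : symplecticGroup (Fin m) F) (v u : Fin m ⊕ Fin m → F) (c : F) :
    g * rho v u c * g⁻¹ = rho ((g : Matrix (Fin m ⊕ Fin m) (Fin m ⊕ Fin m) F) *ᵥ v)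
      ((g : Matrix (Fin m ⊕ Fin m) (Fin m ⊕ Fin m) F) *ᵥ u) c := by
  unfold rho
  have e : g * (tv (v + u) c * tv v (-c) * tv u (-c)) * g⁻¹ =
      (g * tv (v + u) c * g⁻¹) * (g * tv v (-c) * g⁻¹) * (g * tv u (-c) * g⁻¹) := by group
  rw [e, tv_conj, tv_conj, tv_conj, Matrix.mulVec_add]

theorem sieg_Qm_eq_rho {i j : Fin m} (hij : i ≠ j) (β : F) (h : (β • (Qm i j : Matrix (Fin m) (Fin m) F)).IsSymm) :
    sieg (β • Qm i j) h = rho (Pi.single (Sum.inl i) 1) (Pi.single (Sum.inl j) 1) β := by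
  have h0 : Cfsg.sympForm m F (Pi.single (Sum.inl j) 1 : Fin m ⊕ Fin m → F) (Pi.single (Sum.inl i) 1) = 0 := by
    rw [sympForm_single_inl, Pi.single_apply, if_neg (by simp)]
  apply sp_ext
  intro y
  funext a
  rw [rho_mulVec h0, sympForm_single_inl, sympForm_single_inl]
  rcases a with a | a
  · rw [sieg_mulVec_inl]
    simp only [Matrix.smul_apply, Qm_apply, smul_eq_mul, Pi.add_apply, Pi.smul_apply, Pi.single_apply,
      Sum.inl.injEq, mul_add, add_mul, Finset.sum_add_distrib, mul_ite, mul_one, mul_zero, ite_mul, zero_mul,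
      ite_and]
    have hji : ¬ j = i := fun e => hij e.symm
    by_cases hai : a = i
    · subst hai
      simp [hij, Finset.sum_ite_eq']
    · by_cases haj : a = j
      · subst haj
        simp [hai, Finset.sum_ite_eq']
      · simp [hai, haj]
  · rw [sieg_mulVec_inr]
    simp

theorem levS_transv_eq_rho {i j : Fin m} (hij : i ≠ j) (β : F) :
    levS (SpecialLinearGroup.transvection hij β) =
      rho (Pi.single (Sum.inl i) 1) (Pi.single (Sum.inr j) 1) (-β) := by
  have h0 : Cfsg.sympForm m F (Pi.single (Sum.inr j) 1 : Fin m ⊕ Fin m → F) (Pi.single (Sum.inl i) 1) = 0 := by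
    rw [sympForm_single_inl, Pi.single_apply, if_neg (fun e => hij (Sum.inr.inj e))]
  apply sp_ext
  intro y
  funext a
  rw [rho_mulVec h0, sympForm_single_inl, sympForm_single_inr]
  rcases a with a | a
  · rw [levS_mulVec_inl, transv_sum_row]
    simp only [Pi.add_apply, Pi.smul_apply, Pi.single_apply, Sum.inl.injEq, reduceCtorEq, if_false, smul_eq_mul,
      mul_zero, add_zero, mul_ite, mul_one]
    by_cases hai : a = i <;> simp [hai]
  · rw [levS_mulVec_inr, SpecialLinearGroup.transvection_inv, transv_sum_col hij (-β) (fun k => y (Sum.inr k))]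
    simp only [Pi.add_apply, Pi.smul_apply, Pi.single_apply, Sum.inr.injEq, reduceCtorEq, if_false, smul_eq_mul,
      mul_zero, add_zero, mul_ite, mul_one]

theorem diag_identity {x y : Fin m} (hxy : x ≠ y) (c : F) :
    ((1 : Matrix (Fin m) (Fin m) F) + Matrix.single x y 1) * (c • Matrix.single y y 1) *
      ((1 : Matrix (Fin m) (Fin m) F) + Matrix.single x y 1)ᵀ - c • Matrix.single y y 1 =
      c • Qm x y + c • Matrix.single x x 1 := by
  ext a b
  rw [Matrix.sub_apply, conj_transv_apply]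
  simp only [Matrix.smul_apply, Matrix.add_apply, Qm_apply, Matrix.single_apply, smul_eq_mul,
    @eq_comm _ x a, @eq_comm _ x b, @eq_comm _ y a, @eq_comm _ y b]
  have hyx : y ≠ x := fun e => hxy e.symm
  by_cases ha : a = x <;> by_cases hb : b = x <;> by_cases ha' : a = y <;> by_cases hb' : b = y <;>
    simp_all

theorem term_apply (S : Matrix (Fin m) (Fin m) F) (i j k l : Fin m) :
    (if i = j then S i i • (Matrix.single i i 1 : Matrix (Fin m) (Fin m) F)
      else if i < j then S i j • Qm i j else 0) k l =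
    if i = j then (if k = i ∧ l = i then S i i else 0)
      else if i < j then (if k = i ∧ l = j then S i j else 0) + (if k = j ∧ l = i then S i j else 0)
      else 0 := by
  by_cases h1 : i = j
  · rw [if_pos h1, if_pos h1, Matrix.smul_apply, Matrix.single_apply, smul_eq_mul, mul_ite, mul_one, mul_zero]
    simp only [@eq_comm _ i k, @eq_comm _ i l]
  · rw [if_neg h1, if_neg h1]
    by_cases h2 : i < j
    · rw [if_pos h2, if_pos h2, Matrix.smul_apply, Qm_apply, smul_eq_mul, mul_add, mul_ite, mul_ite, mul_one,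
        mul_zero]
    · rw [if_neg h2, if_neg h2, Matrix.zero_apply]

theorem symm_decomp (S : Matrix (Fin m) (Fin m) F) (hS : S.IsSymm) :
    S = ∑ i, ∑ j, (if i = j then S i i • (Matrix.single i i 1 : Matrix (Fin m) (Fin m) F)
      else if i < j then S i j • Qm i j else 0) := by
  ext k l
  rw [Matrix.sum_apply]
  simp only [Matrix.sum_apply, term_apply]
  rcases lt_trichotomy k l with h | h | h
  · rw [Finset.sum_eq_single k, Finset.sum_eq_single l]
    · rw [if_neg (ne_of_lt h), if_pos h, if_pos ⟨rfl, rfl⟩, if_neg (by omega), add_zero]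
    · intro j _ hj
      split_ifs <;> (try (exfalso; omega)) <;> simp
    · intro h0; exact absurd (Finset.mem_univ _) h0
    · intro i _ hi
      apply Finset.sum_eq_zero
      intro j _
      split_ifs <;> (try (exfalso; omega)) <;> simp
    · intro h0; exact absurd (Finset.mem_univ _) h0
  · subst h
    rw [Finset.sum_eq_single k, Finset.sum_eq_single k]
    · rw [if_pos rfl, if_pos ⟨rfl, rfl⟩]
    · intro j _ hj
      split_ifs <;> (try (exfalso; omega)) <;> simp
    · intro h0; exact absurd (Finset.mem_univ _) h0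
    · intro i _ hi
      apply Finset.sum_eq_zero
      intro j _
      split_ifs <;> (try (exfalso; omega)) <;> simp
    · intro h0; exact absurd (Finset.mem_univ _) h0
  · rw [Finset.sum_eq_single l, Finset.sum_eq_single k]
    · rw [if_neg (ne_of_lt h), if_pos h, if_neg (by omega), if_pos ⟨rfl, rfl⟩, zero_add]
      exact (hS.apply k l).symm
    · intro j _ hj
      split_ifs <;> (try (exfalso; omega)) <;> simp
    · intro h0; exact absurd (Finset.mem_univ _) h0
    · intro i _ hi
      apply Finset.sum_eq_zero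
      intro j _
      split_ifs <;> (try (exfalso; omega)) <;> simp
    · intro h0; exact absurd (Finset.mem_univ _) h0

/-- the symmetric matrices whose Siegel elements lie in `T` -/
def Mset (T : Subgroup (symplecticGroup (Fin m) F)) : AddSubgroup (Matrix (Fin m) (Fin m) F) where
  carrier := {S | ∃ hS : S.IsSymm, sieg S hS ∈ T}
  zero_mem' := ⟨Matrix.isSymm_zero, by rw [sieg_zero]; exact T.one_mem⟩
  add_mem' := by
    rintro S S' ⟨h, hS⟩ ⟨h', hS'⟩
    refine ⟨h.add h', ?_⟩
    have := T.mul_mem hS hS'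
    rwa [sieg_mul] at this
  neg_mem' := by
    rintro S ⟨h, hS⟩
    refine ⟨h.neg, ?_⟩
    have := T.inv_mem hS
    rwa [sieg_inv] at this

theorem mem_Mset {T : Subgroup (symplecticGroup (Fin m) F)} {S : Matrix (Fin m) (Fin m) F} :
    S ∈ Mset T ↔ ∃ hS : S.IsSymm, sieg S hS ∈ T := Iff.rfl

theorem sieg_comm (S S' : Matrix (Fin m) (Fin m) F) (h : S.IsSymm) (h' : S'.IsSymm) :
    sieg S h * sieg S' h' = sieg S' h' * sieg S h := by
  apply Subtype.ext
  show siegM S * siegM S' = siegM S' * siegM S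
  rw [siegM_mul, siegM_mul, add_comm]

theorem exists_third (hm : 3 ≤ m) (i j : Fin m) : ∃ k : Fin m, k ≠ i ∧ k ≠ j := by
  by_contra h
  push Not at h
  have h1 : (Finset.univ : Finset (Fin m)) ⊆ {i, j} := by
    intro k _
    by_cases hk : k = i
    · rw [hk]; simp
    · rw [h k hk]; simp
  have h2 := Finset.card_le_card h1
  have h3 : ({i, j} : Finset (Fin m)).card ≤ 2 := Finset.card_le_two
  rw [Finset.card_univ, Fintype.card_fin] at h2
  omega

section closed

variable (T : Subgroup (symplecticGroup (Fin m) F))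
  (hcl : ∀ t ∈ T, ∀ g : symplecticGroup (Fin m) F, g * t * g⁻¹ ∈ Usp m F → g * t * g⁻¹ ∈ T)

include hcl

theorem Mset_conj (P : GL (Fin m) F) {S : Matrix (Fin m) (Fin m) F} (hS : S ∈ Mset T) :
    (P : Matrix (Fin m) (Fin m) F) * S * (P : Matrix (Fin m) (Fin m) F)ᵀ ∈ Mset T := by
  obtain ⟨h, hS⟩ := hS
  refine ⟨isSymm_conj h _, ?_⟩
  have := hcl _ hS (lev P)
  rw [lev_conj_sieg] at this
  exact this (sieg_mem_Usp _ _)

theorem Mset_transv {x y : Fin m} (hxy : x ≠ y) (β : F) {S : Matrix (Fin m) (Fin m) F}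
    (hS : S ∈ Mset T) :
    ((1 : Matrix (Fin m) (Fin m) F) + Matrix.single x y β) * S *
      ((1 : Matrix (Fin m) (Fin m) F) + Matrix.single x y β)ᵀ ∈ Mset T :=
  Mset_conj T hcl (SpecialLinearGroup.toGL (SpecialLinearGroup.transvection hxy β)) hS

theorem Mset_diag (d : Fin m → Fˣ) {S : Matrix (Fin m) (Fin m) F} (hS : S ∈ Mset T) :
    Matrix.diagonal (fun i => (d i : F)) * S * (Matrix.diagonal (fun i => (d i : F)))ᵀ ∈ Mset T :=
  Mset_conj T hcl (dg d) hS

theorem Mset_comm {P : SpecialLinearGroup (Fin m) F} (hP : P ∈ unip m F)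
    {S0 : Matrix (Fin m) (Fin m) F} (hS0 : S0.IsSymm)
    (ht : levS P * sieg S0 hS0 ∈ T) {S' : Matrix (Fin m) (Fin m) F} (hS' : S'.IsSymm) :
    (P : Matrix (Fin m) (Fin m) F) * S' * (P : Matrix (Fin m) (Fin m) F)ᵀ - S' ∈ Mset T := by
  rw [sub_eq_add_neg]
  refine ⟨(isSymm_conj hS' _).add hS'.neg, ?_⟩
  have hu : sieg S' hS' ∈ Usp m F := sieg_mem_Usp _ _
  have htU : levS P * sieg S0 hS0 ∈ Usp m F :=
    (Usp m F).mul_mem (levS_mem_Usp hP) (sieg_mem_Usp _ _)
  have h1 := hcl _ (T.inv_mem ht) (sieg S' hS')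
    ((Usp m F).mul_mem ((Usp m F).mul_mem hu ((Usp m F).inv_mem htU)) ((Usp m F).inv_mem hu))
  have h2 := T.mul_mem ht h1
  have e : levS P * sieg S0 hS0 * (sieg S' hS' * (levS P * sieg S0 hS0)⁻¹ * (sieg S' hS')⁻¹) =
      sieg ((P : Matrix (Fin m) (Fin m) F) * S' * (P : Matrix (Fin m) (Fin m) F)ᵀ + -S')
        ((isSymm_conj hS' _).add hS'.neg) := by
    have e1 : levS P * sieg S0 hS0 * (sieg S' hS' * (levS P * sieg S0 hS0)⁻¹ * (sieg S' hS')⁻¹) =
        levS P * (sieg S0 hS0 * sieg S' hS' * (sieg S0 hS0)⁻¹) * (levS P)⁻¹ * (sieg S' hS')⁻¹ := by group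
    rw [e1, sieg_comm S0 S', mul_inv_cancel_right, sieg_inv]
    show lev (SpecialLinearGroup.toGL P) * _ * (lev (SpecialLinearGroup.toGL P))⁻¹ * _ = _
    rw [lev_conj_sieg, sieg_mul]
    rfl
  rw [e] at h2
  exact h2

/-- step (A): a nontrivial closed subgroup meets the Siegel radical nontrivially -/
theorem exists_ne_zero_mem_Mset (hT : T ≤ Usp m F) (hTb : T ≠ ⊥) : ∃ S ∈ Mset T, S ≠ 0 := by
  obtain ⟨⟨t, ht⟩, hne⟩ := (Subgroup.ne_bot_iff_exists_ne_one).mp hTb
  have hne' : t ≠ 1 := fun h => hne (Subtype.ext h)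
  obtain ⟨P, hP, S0, hS0, rfl⟩ := exists_levS_sieg (hT ht)
  by_contra hall
  push Not at hall
  have hP1 : P = 1 := by
    have h1 : ∀ S' : Matrix (Fin m) (Fin m) F, S'.IsSymm →
        (P : Matrix (Fin m) (Fin m) F) * S' =
          S' * ((P⁻¹ : SpecialLinearGroup (Fin m) F) : Matrix (Fin m) (Fin m) F)ᵀ := by
      intro S' hS'
      have h2 := sub_eq_zero.mp (hall _ (Mset_comm T hcl hP hS0 ht hS'))
      have h3 : (P : Matrix (Fin m) (Fin m) F)ᵀ *
          ((P⁻¹ : SpecialLinearGroup (Fin m) F) : Matrix (Fin m) (Fin m) F)ᵀ = 1 := by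
        rw [← Matrix.transpose_mul]
        have e : ((P⁻¹ : SpecialLinearGroup (Fin m) F) : Matrix (Fin m) (Fin m) F) *
            (P : Matrix (Fin m) (Fin m) F) = 1 := congrArg Subtype.val (inv_mul_cancel P)
        rw [e, Matrix.transpose_one]
      calc (P : Matrix (Fin m) (Fin m) F) * S'
          = (P : Matrix (Fin m) (Fin m) F) * S' * ((P : Matrix (Fin m) (Fin m) F)ᵀ *
            ((P⁻¹ : SpecialLinearGroup (Fin m) F) : Matrix (Fin m) (Fin m) F)ᵀ) := by
              rw [h3, Matrix.mul_one]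
        _ = S' * ((P⁻¹ : SpecialLinearGroup (Fin m) F) : Matrix (Fin m) (Fin m) F)ᵀ := by
              rw [← Matrix.mul_assoc, h2]
    obtain ⟨a, ha, -⟩ := scalar_of_intertwine _ _ h1
    apply Subtype.ext
    ext i j
    show (P : Matrix (Fin m) (Fin m) F) i j = (1 : Matrix (Fin m) (Fin m) F) i j
    by_cases hij : i = j
    · subst hij
      rw [hP.2 i, Matrix.one_apply_eq]
    · rw [ha, Matrix.smul_apply, Matrix.one_apply_ne hij, smul_zero]
  rw [hP1, map_one, one_mul] at ht hne'
  have := hall S0 ⟨hS0, ht⟩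
  apply hne'
  rw [sieg_congr hS0 this]
  exact sieg_zero

/-- moving the second index of an elementary symmetric matrix -/
theorem move_Qm {i k : Fin m} (hik : i ≠ k) (h : ∀ b : F, b • Qm i k ∈ Mset T) {l : Fin m} (hli : l ≠ i)
    (b : F) : b • Qm i l ∈ Mset T := by
  by_cases hlk : l = k
  · rw [hlk]; exact h b
  have h1 := (Mset T).sub_mem (Mset_transv T hcl hlk 1 (h b)) (h b)
  have e : ((1 : Matrix (Fin m) (Fin m) F) + Matrix.single l k 1) * (b • Qm i k) *
      ((1 : Matrix (Fin m) (Fin m) F) + Matrix.single l k 1)ᵀ - b • Qm i k = b • Qm i l := by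
    ext a c
    rw [Matrix.sub_apply, conj_transv_apply]
    simp only [Matrix.smul_apply, Qm_apply, smul_eq_mul]
    have hki : k ≠ i := fun e => hik e.symm
    by_cases ha : a = l <;> by_cases hc : c = l <;> by_cases ha' : a = i <;> by_cases hc' : c = i <;>
      simp_all
  rwa [e] at h1

theorem offdiag_of_three {S : Matrix (Fin m) (Fin m) F} (hS : S ∈ Mset T) {i j k : Fin m} (hij : i ≠ j)
    (hki : k ≠ i) (hkj : k ≠ j) (hne : S i j ≠ 0) (b : F) : b • Qm i k ∈ Mset T := by
  obtain ⟨β, hβ⟩ : ∃ β : F, β * S i j = b := ⟨b / S i j, div_mul_cancel₀ b hne⟩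
  have hsym : S j i = S i j := hS.1.apply i j
  have h1 := (Mset T).sub_mem (Mset_transv T hcl hki β hS) hS
  have h2 := (Mset T).sub_mem (Mset_transv T hcl hij 1 h1) h1
  have e : ((1 : Matrix (Fin m) (Fin m) F) + Matrix.single i j 1) *
      (((1 : Matrix (Fin m) (Fin m) F) + Matrix.single k i β) * S *
        ((1 : Matrix (Fin m) (Fin m) F) + Matrix.single k i β)ᵀ - S) *
      ((1 : Matrix (Fin m) (Fin m) F) + Matrix.single i j 1)ᵀ -
      (((1 : Matrix (Fin m) (Fin m) F) + Matrix.single k i β) * S *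
        ((1 : Matrix (Fin m) (Fin m) F) + Matrix.single k i β)ᵀ - S) = b • Qm i k := by
    ext a c
    rw [Matrix.sub_apply, conj_transv_apply]
    simp only [Matrix.sub_apply, conj_transv_apply, Matrix.smul_apply, Qm_apply, smul_eq_mul]
    have hik : i ≠ k := fun e => hki e.symm
    have hjk : j ≠ k := fun e => hkj e.symm
    have hji : j ≠ i := fun e => hij e.symm
    by_cases ha : a = i <;> by_cases hc : c = i <;> by_cases ha' : a = k <;> by_cases hc' : c = k <;>
      simp_all
  rwa [e] at h2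

theorem offdiag_of_scalar {S : Matrix (Fin m) (Fin m) F} (hS : S ∈ Mset T) {i j : Fin m} (hij : i ≠ j)
    (hne : S i j ≠ 0) {t : F} (ht0 : t ≠ 0) (ht1 : t ≠ 1) (b : F) : b • Qm i j ∈ Mset T := by
  by_cases hb : b = 0
  · rw [hb, zero_smul]; exact (Mset T).zero_mem
  have ht1' : t - 1 ≠ 0 := sub_ne_zero.mpr ht1
  obtain ⟨s, hs⟩ : ∃ s : F, s * ((t - 1) * (t - 1) * S i j) = b :=
    ⟨b / ((t - 1) * (t - 1) * S i j), div_mul_cancel₀ b (mul_ne_zero (mul_ne_zero ht1' ht1') hne)⟩
  have hs0 : s ≠ 0 := by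
    rintro rfl
    rw [zero_mul] at hs
    exact hb hs.symm
  have h1 := (Mset T).sub_mem (Mset_diag T hcl (dU i (Units.mk0 t ht0)) hS) hS
  have h2 := (Mset T).sub_mem (Mset_diag T hcl (dU j (Units.mk0 t ht0)) h1) h1
  have h3 := Mset_diag T hcl (dU i (Units.mk0 s hs0)) h2
  simp only [dU_coe, Units.val_mk0] at h3
  rw [scalar_identity S (hS.1.apply i j) hij s t, hs] at h3
  exact h3

theorem exists_offdiag (hm : 2 ≤ m) (hne : ∃ S ∈ Mset T, S ≠ 0) :
    ∃ S ∈ Mset T, ∃ i j : Fin m, i ≠ j ∧ S i j ≠ 0 := by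
  obtain ⟨S, hS, hS0⟩ := hne
  by_cases h : ∃ i j : Fin m, i ≠ j ∧ S i j ≠ 0
  · exact ⟨S, hS, h⟩
  push Not at h
  have h1 : ∃ j : Fin m, S j j ≠ 0 := by
    by_contra h2
    push Not at h2
    apply hS0
    ext a c
    by_cases hac : a = c
    · rw [hac, h2, Matrix.zero_apply]
    · rw [h a c hac, Matrix.zero_apply]
  obtain ⟨j, hj⟩ := h1
  haveI : Nontrivial (Fin m) := Fin.nontrivial_iff_two_le.mpr hm
  obtain ⟨i, hi⟩ := exists_ne j
  refine ⟨_, Mset_transv T hcl hi 1 hS, i, j, hi, ?_⟩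
  rw [conj_transv_apply, h i j hi]
  have hji : ¬ j = i := fun e => hi e.symm
  simp [hji, hj]

/-- step (B): all off-diagonal elementary symmetric matrices -/
theorem offdiag_mem (hm : 2 ≤ m) (hex : m = 2 → ∃ t : F, t ≠ 0 ∧ t ≠ 1) (hne : ∃ S ∈ Mset T, S ≠ 0) :
    ∀ a c : Fin m, a ≠ c → ∀ b : F, b • Qm a c ∈ Mset T := by
  obtain ⟨S, hS, i, j, hij, hSij⟩ := exists_offdiag T hcl hm hne
  have key : ∃ i' k' : Fin m, i' ≠ k' ∧ ∀ b : F, b • Qm i' k' ∈ Mset T := by
    by_cases hm2 : m = 2
    · obtain ⟨t, ht0, ht1⟩ := hex hm2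
      exact ⟨i, j, hij, fun b => offdiag_of_scalar T hcl hS hij hSij ht0 ht1 b⟩
    · obtain ⟨k, hki, hkj⟩ := exists_third (by omega) i j
      exact ⟨i, k, fun e => hki e.symm, fun b => offdiag_of_three T hcl hS hij hki hkj hSij b⟩
  obtain ⟨i', k', hik', h⟩ := key
  intro a c hac b
  by_cases hai : a = i'
  · rw [hai]
    exact move_Qm T hcl hik' h (fun e => hac (hai.trans e.symm)) b
  · have h1 := move_Qm T hcl hik' h hai
    have h2 : ∀ b : F, b • Qm a i' ∈ Mset T := by
      intro b
      rw [Qm_comm]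
      exact h1 b
    exact move_Qm T hcl hai h2 (fun e => hac e.symm) b

/-- step (C): the root elements of the Levi factor -/
theorem levi_mem (h : ∀ a c : Fin m, a ≠ c → ∀ b : F, b • Qm a c ∈ Mset T) {i j : Fin m} (hij : i < j)
    (β : F) : levS (SpecialLinearGroup.transvection (ne_of_lt hij) β) ∈ T := by
  have hne : i ≠ j := ne_of_lt hij
  obtain ⟨hs, hmem⟩ := h i j hne (-β)
  rw [sieg_Qm_eq_rho hne] at hmem
  obtain ⟨g, hg⟩ : ∃ g : symplecticGroup (Fin m) F,
      g = tv (Pi.single (Sum.inl j) 1) (-1) * tv (Pi.single (Sum.inr j) 1) (-1) := ⟨_, rfl⟩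
  have hg1 : (g : Matrix (Fin m ⊕ Fin m) (Fin m ⊕ Fin m) F) *ᵥ (Pi.single (Sum.inl i) 1) =
      Pi.single (Sum.inl i) 1 := by
    have a1 : ((tv (Pi.single (Sum.inr j) 1) (-1) : symplecticGroup (Fin m) F) :
        Matrix (Fin m ⊕ Fin m) (Fin m ⊕ Fin m) F) *ᵥ (Pi.single (Sum.inl i) 1) = Pi.single (Sum.inl i) 1 := by
      rw [tv_mulVec, sympForm_single_inr, Pi.single_apply,
        if_neg (fun e => hne (Sum.inl.inj e).symm), neg_zero, mul_zero, zero_smul, add_zero]
    rw [hg, coe_mul_mulVec, a1, tv_mulVec,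
      sympForm_single_inl, Pi.single_apply, if_neg (by simp), mul_zero, zero_smul, add_zero]
  have hg2 : (g : Matrix (Fin m ⊕ Fin m) (Fin m ⊕ Fin m) F) *ᵥ (Pi.single (Sum.inl j) 1) =
      Pi.single (Sum.inr j) 1 := by
    have a2 : ((tv (Pi.single (Sum.inr j) 1) (-1) : symplecticGroup (Fin m) F) :
        Matrix (Fin m ⊕ Fin m) (Fin m ⊕ Fin m) F) *ᵥ (Pi.single (Sum.inl j) 1) =
        Pi.single (Sum.inl j) 1 + Pi.single (Sum.inr j) 1 := by
      rw [tv_mulVec, sympForm_single_inr, Pi.single_eq_same]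
      module
    rw [hg, coe_mul_mulVec, a2, tv_mulVec, sympForm_single_inl]
    simp only [Pi.add_apply, Pi.single_apply, reduceCtorEq, if_false, if_true, zero_add]
    module
  have h1 := hcl _ hmem g
  rw [rho_conj, hg1, hg2, ← levS_transv_eq_rho hne] at h1
  exact h1 (levS_mem_Usp (transvection_mem_unip hij β))

/-- step (D): the diagonal elementary symmetric matrices -/
theorem diag_mem (hm : 2 ≤ m) (h : ∀ a c : Fin m, a ≠ c → ∀ b : F, b • Qm a c ∈ Mset T) :
    ∀ (i : Fin m) (c : F), c • (Matrix.single i i 1 : Matrix (Fin m) (Fin m) F) ∈ Mset T := by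
  have h01 : (⟨0, by omega⟩ : Fin m) < ⟨1, by omega⟩ := by rw [Fin.lt_def]; simp
  have hne : (⟨0, by omega⟩ : Fin m) ≠ ⟨1, by omega⟩ := ne_of_lt h01
  have h0 : ∀ c : F, c • (Matrix.single (⟨0, by omega⟩ : Fin m) ⟨0, by omega⟩ 1 :
      Matrix (Fin m) (Fin m) F) ∈ Mset T := by
    intro c
    have hlev := levi_mem T hcl h h01 1
    have hlev' : levS (SpecialLinearGroup.transvection hne (1 : F)) *
        sieg (0 : Matrix (Fin m) (Fin m) F) Matrix.isSymm_zero ∈ T := by
      rw [sieg_zero, mul_one]; exact hlev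
    have h1 := Mset_comm T hcl (transvection_mem_unip h01 1) Matrix.isSymm_zero hlev'
      ((symm_single_diag (⟨1, by omega⟩ : Fin m)).smul c)
    rw [SpecialLinearGroup.transvection_coe, diag_identity hne] at h1
    have h2 := (Mset T).sub_mem h1 (h _ _ hne c)
    rwa [add_sub_cancel_left] at h2
  intro i c
  by_cases hi : i = ⟨0, by omega⟩
  · rw [hi]; exact h0 c
  · have h1 := (Mset T).sub_mem (Mset_transv T hcl hi 1 (h0 c)) (h0 c)
    rw [diag_identity hi] at h1
    have h2 := (Mset T).sub_mem h1 (h _ _ hi c)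
    rwa [add_sub_cancel_left] at h2

theorem all_mem (hm : 2 ≤ m) (h : ∀ a c : Fin m, a ≠ c → ∀ b : F, b • Qm a c ∈ Mset T)
    (S : Matrix (Fin m) (Fin m) F) (hS : S.IsSymm) : S ∈ Mset T := by
  have hd := diag_mem T hcl hm h
  rw [symm_decomp S hS]
  apply AddSubgroup.sum_mem
  intro i _
  apply AddSubgroup.sum_mem
  intro j _
  split_ifs with h1 h2
  · exact hd i _
  · exact h i j h1 _
  · exact (Mset T).zero_mem

/-- a nontrivial subgroup of the unitriangular subgroup of the symplectic group closed under conjugation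
into the unitriangular subgroup is the whole unitriangular subgroup -/
theorem Usp_le_of_closed (hm : 2 ≤ m) (hex : m = 2 → ∃ t : F, t ≠ 0 ∧ t ≠ 1)
    (hT : T ≤ Usp m F) (hTb : T ≠ ⊥) : Usp m F ≤ T := by
  have hne := exists_ne_zero_mem_Mset T hcl hT hTb
  have hoff := offdiag_mem T hcl hm hex hne
  have hall := all_mem T hcl hm hoff
  have hle : Subgroup.closure (Cfsg.Agent.H9PF.posRoots m F) ≤ T.comap levS := by
    rw [Subgroup.closure_le]
    rintro g ⟨a, b, hab, t, rfl⟩
    exact levi_mem T hcl hoff hab t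
  intro g hg
  obtain ⟨P, hP, S, hS, rfl⟩ := exists_levS_sieg hg
  obtain ⟨_, h2⟩ := hall S hS
  exact T.mul_mem (hle (Cfsg.Agent.H9PF.unip_le_closure hP)) h2

end closed

end Cfsg.Agent.H9SpF
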