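import Mathlib
import Cfsg.Prelude
import Cfsg.Agent.Lib.Helper9.SpFus8
import Cfsg.Agent.Lib.Helper9.PSLFus7

set_option autoImplicit false

/-!
# The fusion system of `PSp_{2m}(F)` in the defining characteristic is simple
-/

namespace Cfsg.Agent.H9SpF

open Matrix

variable {F : Type*} [Field F] {m : ℕ}

theorem negOne_eq_one_of_two [CharP F 2] : Cfsg.Agent.S0246.negOne m F = 1 := by
  apply Subtype.ext
  show (-1 : Matrix (Fin m ⊕ Fin m) (Fin m ⊕ Fin m) F) = 1
  have h2 : (2 : F) = 0 := by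
    have := CharP.cast_eq_zero F 2
    exact_mod_cast this
  ext a b
  rw [Matrix.neg_apply, Matrix.one_apply]
  split_ifs
  · linear_combination (-1 : F) * h2
  · simp

theorem central_eq_one (p : ℕ) [Fact p.Prime] [CharP F p] (hm : 1 ≤ m)
    {c : symplecticGroup (Fin m) F} (hc : c ∈ Subgroup.center (symplecticGroup (Fin m) F)) {k : ℕ}
    (hk : c ^ (p ^ k) = 1) : c = 1 := by
  rcases (Cfsg.Agent.S0246.mem_center_iff hm c).mp hc with rfl | rfl
  · rfl
  · by_cases hp : p = 2
    · subst hp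
      exact negOne_eq_one_of_two
    · have hodd : Odd (p ^ k) := ((Fact.out : p.Prime).odd_of_ne_two hp).pow
      have h1 : Cfsg.Agent.S0246.negOne m F ^ (p ^ k) = Cfsg.Agent.S0246.negOne m F := by
        apply Subtype.ext
        rw [SubmonoidClass.coe_pow]
        exact hodd.neg_one_pow
      rw [h1] at hk
      exact hk

/-- the projection onto the projective symplectic group -/
def piS : symplecticGroup (Fin m) F →* Cfsg.PSp m F :=
  QuotientGroup.mk' (Subgroup.center (symplecticGroup (Fin m) F))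

theorem piS_surjective : Function.Surjective (piS (m := m) (F := F)) := QuotientGroup.mk'_surjective _

theorem piS_eq_one_iff (x : symplecticGroup (Fin m) F) :
    piS x = 1 ↔ x ∈ Subgroup.center (symplecticGroup (Fin m) F) :=
  QuotientGroup.eq_one_iff x

theorem piS_eq_iff (x y : symplecticGroup (Fin m) F) :
    piS x = piS y ↔ x⁻¹ * y ∈ Subgroup.center (symplecticGroup (Fin m) F) :=
  QuotientGroup.eq

theorem piS_negOne_mul (x : symplecticGroup (Fin m) F) :
    piS (Cfsg.Agent.S0246.negOne m F * x) = piS x := by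
  rw [map_mul, (piS_eq_one_iff _).mpr Cfsg.Agent.S0246.negOne_mem_center, one_mul]

/-- elements commuting modulo the centre with a `p`-element actually commute with it -/
theorem commute_of_piS (p : ℕ) [Fact p.Prime] [CharP F p] (hm : 1 ≤ m)
    {y r : symplecticGroup (Fin m) F} {k : ℕ} (hr : r ^ (p ^ k) = 1)
    (h : piS y * piS r = piS r * piS y) : y * r = r * y := by
  rw [← map_mul, ← map_mul, piS_eq_iff] at h
  obtain ⟨c, hc⟩ : ∃ c, c = (y * r)⁻¹ * (r * y) := ⟨_, rfl⟩
  rw [← hc] at h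
  have h2 : y⁻¹ * r * y = r * c := by rw [hc]; group
  have h3 : (y⁻¹ * r * y) ^ (p ^ k) = 1 := by
    have e : y⁻¹ * r * y = y⁻¹ * r * y⁻¹⁻¹ := by rw [inv_inv]
    rw [e, conj_pow, hr, mul_one, mul_inv_cancel]
  have h4 : Commute r c := Subgroup.mem_center_iff.mp h r
  rw [h2, h4.mul_pow, hr, one_mul] at h3
  have h5 := central_eq_one p hm h h3
  rw [h5, mul_one] at h2
  calc y * r = y * (y⁻¹ * r * y) := by rw [h2]
    _ = r * y := by group

theorem Usp_inf_center (p : ℕ) [Fact p.Prime] [CharP F p] (hm : 1 ≤ m)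
    {u : symplecticGroup (Fin m) F} (hu : u ∈ Usp m F)
    (hc : u ∈ Subgroup.center (symplecticGroup (Fin m) F)) : u = 1 := by
  obtain ⟨k, hk⟩ := (isPGroup_Usp (F := F) p hm) ⟨u, hu⟩
  have hk' : u ^ (p ^ k) = 1 := by
    have := congrArg Subtype.val hk
    simpa using this
  exact central_eq_one p hm hc hk'

/-- the normalizer of the image of the unitriangular subgroup -/
theorem normalizer_map_Usp (p : ℕ) [Fact p.Prime] [CharP F p] (hm : 1 ≤ m) :
    Subgroup.normalizer ((((Usp m F).map piS : Subgroup (Cfsg.PSp m F))) : Set (Cfsg.PSp m F)) ≤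
      (Subgroup.normalizer ((Usp m F : Subgroup (symplecticGroup (Fin m) F)) : Set _)).map piS := by
  intro x hx
  obtain ⟨g, rfl⟩ := piS_surjective x
  refine ⟨g, ?_, rfl⟩
  have key : ∀ h : symplecticGroup (Fin m) F,
      piS h ∈ Subgroup.normalizer ((((Usp m F).map piS : Subgroup (Cfsg.PSp m F))) : Set (Cfsg.PSp m F)) →
      ∀ u ∈ Usp m F, h * u * h⁻¹ ∈ Usp m F := by
    intro h hh u hu
    rw [Subgroup.mem_normalizer_iff] at hh
    obtain ⟨u', hu', he⟩ := (hh (piS u)).mp (Subgroup.mem_map_of_mem _ hu)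
    rw [← map_inv, ← map_mul, ← map_mul, piS_eq_iff] at he
    obtain ⟨c, hc⟩ : ∃ c, c = u'⁻¹ * (h * u * h⁻¹) := ⟨_, rfl⟩
    rw [← hc] at he
    have e1 : h * u * h⁻¹ = u' * c := by rw [hc]; group
    obtain ⟨k1, hk1⟩ := (isPGroup_Usp (F := F) p hm) ⟨u, hu⟩
    obtain ⟨k2, hk2⟩ := (isPGroup_Usp (F := F) p hm) ⟨u', hu'⟩
    have hk1' : u ^ (p ^ k1) = 1 := by
      have := congrArg Subtype.val hk1
      simpa using this
    have hk2' : u' ^ (p ^ k2) = 1 := by
      have := congrArg Subtype.val hk2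
      simpa using this
    have a1 : u ^ (p ^ (k1 + k2)) = 1 := by rw [pow_add, pow_mul, hk1', one_pow]
    have a2 : u' ^ (p ^ (k1 + k2)) = 1 := by rw [pow_add, mul_comm, pow_mul, hk2', one_pow]
    have h3 : (h * u * h⁻¹) ^ (p ^ (k1 + k2)) = 1 := by
      rw [conj_pow, a1, mul_one, mul_inv_cancel]
    have h4 : Commute u' c := Subgroup.mem_center_iff.mp he u'
    rw [e1, h4.mul_pow, a2, one_mul] at h3
    have h5 := central_eq_one p hm he h3
    rw [e1, h5, mul_one]
    exact hu'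
  rw [SetLike.mem_coe, Subgroup.mem_normalizer_iff]
  intro u
  constructor
  · exact key g hx u
  · intro hu
    have := key g⁻¹ (by rw [map_inv]; exact Subgroup.inv_mem _ hx) _ hu
    have e : g⁻¹ * (g * u * g⁻¹) * g⁻¹⁻¹ = u := by group
    rwa [e] at this

/-- images of generating sets of `p`-elements normalizing a subgroup -/
theorem closure_good_map {G H : Type*} [Group G] [Group H] (f : G →* H) (p : ℕ) [Fact p.Prime]
    (R : Subgroup G) {γ : G}
    (h : γ ∈ Subgroup.closure {k : G | k ∈ Subgroup.normalizer (R : Set G) ∧ ∃ j : ℕ, orderOf k = p ^ j}) :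
    f γ ∈ Subgroup.closure {k : H | k ∈ Subgroup.normalizer ((R.map f : Subgroup H) : Set H) ∧
      ∃ j : ℕ, orderOf k = p ^ j} := by
  have h1 : f γ ∈ (Subgroup.closure {k : G | k ∈ Subgroup.normalizer (R : Set G) ∧
      ∃ j : ℕ, orderOf k = p ^ j}).map f := Subgroup.mem_map_of_mem _ h
  rw [MonoidHom.map_closure] at h1
  refine Subgroup.closure_mono ?_ h1
  rintro _ ⟨k, ⟨hk1, j, hj⟩, rfl⟩
  refine ⟨Subgroup.le_normalizer_map f (Subgroup.mem_map_of_mem _ hk1), ?_⟩
  have h2 : orderOf (f k) ∣ p ^ j := by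
    rw [← hj]
    exact orderOf_map_dvd f k
  obtain ⟨j', -, hj'⟩ := (Nat.dvd_prime_pow (Fact.out : p.Prime)).mp h2
  exact ⟨j', hj'⟩

/-- lifting centralizers from the projective group -/
theorem cent_map (p : ℕ) [Fact p.Prime] [CharP F p] (hm : 1 ≤ m) (R : Subgroup (symplecticGroup (Fin m) F))
    (hR : R ≤ Usp m F)
    (hcent : ∀ x : symplecticGroup (Fin m) F, (∀ r ∈ R, x * r = r * x) →
      x ∈ R ∨ Cfsg.Agent.S0246.negOne m F * x ∈ R)
    (x : Cfsg.PSp m F) (hx : ∀ r ∈ R.map piS, x * r = r * x) : x ∈ R.map piS := by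
  obtain ⟨y, rfl⟩ := piS_surjective x
  have hcomm : ∀ r ∈ R, y * r = r * y := by
    intro r hr
    obtain ⟨k, hk⟩ := (isPGroup_Usp (F := F) p hm) ⟨r, hR hr⟩
    have hk' : r ^ (p ^ k) = 1 := by
      have := congrArg Subtype.val hk
      simpa using this
    exact commute_of_piS p hm hk' (hx _ (Subgroup.mem_map_of_mem _ hr))
  rcases hcent y hcomm with h | h
  · exact Subgroup.mem_map_of_mem _ h
  · rw [← piS_negOne_mul]
    exact Subgroup.mem_map_of_mem _ h

theorem psp_simple [Fintype F] (p : ℕ) [Fact p.Prime] [CharP F p] (hm : 2 ≤ m)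
    (hex : m = 2 → 3 ≤ Fintype.card F) (S : Sylow p (Cfsg.PSp m F)) :
    (Cfsg.groupFusionSystem (S : Subgroup (Cfsg.PSp m F))).IsSimple p := by
  have hm1 : 1 ≤ m := by omega
  have hPG : IsPGroup p ((Usp m F).map (piS (m := m) (F := F))) := (isPGroup_Usp p hm1).map _
  have hidx : ¬ p ∣ ((Usp m F).map (piS (m := m) (F := F))).index := by
    rw [Subgroup.index_map, MonoidHom.range_eq_top.mpr piS_surjective, Subgroup.index_top, mul_one]
    intro h
    exact not_dvd_index_Usp p hm1 (dvd_trans h (Subgroup.index_dvd_of_le le_sup_left))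
  obtain ⟨P₀, hP₀⟩ : ∃ P₀ : Sylow p (Cfsg.PSp m F),
      (P₀ : Subgroup (Cfsg.PSp m F)) = (Usp m F).map piS :=
    ⟨hPG.toSylow hidx, IsPGroup.toSylow_coe _ _⟩
  have hex' : m = 2 → ∃ t : F, t ≠ 0 ∧ t ≠ 1 := by
    classical
    intro h2
    have h3 := hex h2
    by_contra hno
    push Not at hno
    have h1 : (Finset.univ : Finset F) ⊆ {0, 1} := by
      intro t _
      by_cases ht : t = 0
      · simp [ht]
      · simp [hno t ht]
    have h4 : Fintype.card F ≤ 2 :=
      calc Fintype.card F = (Finset.univ : Finset F).card := rfl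
        _ ≤ ({0, 1} : Finset F).card := Finset.card_le_card h1
        _ ≤ 2 := Finset.card_le_two
    omega
  apply Cfsg.Agent.H9PF.simple_of_data p P₀ _ _
    (piS '' (((Usp m F : Subgroup (symplecticGroup (Fin m) F)) : Set _) ∪ torS m F ∪ torL m F)) _ _ S
  · rw [hP₀]
    intro hb
    have h1 : piS (sieg (Matrix.single (⟨0, hm1⟩ : Fin m) ⟨0, hm1⟩ (1 : F)) (symm_single_diag _)) ∈
        (Usp m F).map piS := Subgroup.mem_map_of_mem _ (sieg_mem_Usp _ _)
    rw [hb, Subgroup.mem_bot, piS_eq_one_iff] at h1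
    have h2 := Usp_inf_center p hm1 (sieg_mem_Usp _ _) h1
    have h3 : siegM (Matrix.single (⟨0, hm1⟩ : Fin m) ⟨0, hm1⟩ (1 : F)) = siegM 0 := by
      rw [siegM_zero]
      exact congrArg Subtype.val h2
    have h4 := congrFun (congrFun (siegM_injective h3) ⟨0, hm1⟩) ⟨0, hm1⟩
    rw [Matrix.single_apply_same, Matrix.zero_apply] at h4
    exact one_ne_zero h4
  · rw [hP₀]
    intro T hT hTb hcl
    obtain ⟨T', hT'⟩ : ∃ T' : Subgroup (symplecticGroup (Fin m) F), T' = Usp m F ⊓ T.comap piS :=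
      ⟨_, rfl⟩
    have h1 : Usp m F ≤ T' := by
      apply Usp_le_of_closed T' _ hm hex' (hT' ▸ inf_le_left) _
      · intro t ht g hg
        rw [hT', Subgroup.mem_inf] at ht ⊢
        refine ⟨hg, ?_⟩
        rw [Subgroup.mem_comap, map_mul, map_mul, map_inv]
        apply hcl _ ht.2
        rw [← map_inv, ← map_mul, ← map_mul]
        exact Subgroup.mem_map_of_mem _ hg
      · intro hb
        apply hTb
        rw [Subgroup.eq_bot_iff_forall] at hb ⊢
        intro x hx
        obtain ⟨u, hu, rfl⟩ := hT hx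
        rw [hb u (hT' ▸ ⟨hu, hx⟩), map_one]
    rintro _ ⟨u, hu, rfl⟩
    have := h1 hu
    rw [hT'] at this
    exact this.2
  · rw [hP₀]
    refine (normalizer_map_Usp p hm1).trans ?_
    rw [← MonoidHom.map_closure]
    exact Subgroup.map_mono (normalizer_le_closure hm1)
  · rintro _ ⟨γ, hγ, rfl⟩
    rw [hP₀]
    have hN : γ ∈ Subgroup.normalizer ((Usp m F : Subgroup (symplecticGroup (Fin m) F)) : Set _) := by
      rcases hγ with (hγ | hγ) | hγ
      · exact Subgroup.le_normalizer hγ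
      · exact torS_subset_normalizer _ hγ
      · exact torL_subset_normalizer _ hγ
    refine ⟨Subgroup.le_normalizer_map piS (Subgroup.mem_map_of_mem _ hN), ?_⟩
    rcases hγ with (hγ | hγ) | hγ
    · exact ⟨(Rsg m F).map piS, Subgroup.map_mono Rsg_le_Usp, cent_map p hm1 _ Rsg_le_Usp (cent_Rsg hm1),
        closure_good_map piS p _ (Usp_good p hm1 γ hγ)⟩
    · exact ⟨(Rsg m F).map piS, Subgroup.map_mono Rsg_le_Usp, cent_map p hm1 _ Rsg_le_Usp (cent_Rsg hm1),
        closure_good_map piS p _ (torS_good p hm γ hγ)⟩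
    · have hv : (Pi.single (Sum.inl ⟨0, hm1⟩) 1 : Fin m ⊕ Fin m → F) ≠ 0 := by
        intro h0
        have := congrFun h0 (Sum.inl ⟨0, hm1⟩)
        rw [Pi.single_eq_same, Pi.zero_apply] at this
        exact one_ne_zero this
      exact ⟨(Rad (Pi.single (Sum.inl ⟨0, hm1⟩) 1 : Fin m ⊕ Fin m → F)).map piS,
        Subgroup.map_mono (Rad_le_Usp hm1), cent_map p hm1 _ (Rad_le_Usp hm1) (cent_Rad hv),
        closure_good_map piS p _ (torL_good p hm γ hγ)⟩

end Cfsg.Agent.H9SpF
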