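import Mathlib
import Cfsg.Agent.Lib.Helper9.SpMax3

set_option autoImplicit false

/-! Growing pairs of totally isotropic subspaces. -/

namespace Cfsg.Agent.H9SpInv

open Cfsg.Agent.Lib.Helper1.SpBasic Cfsg.Agent.Lib.Helper2.Symp Cfsg.Agent.Lib.Helper2.SpIsom
  Cfsg.Agent.H9SpMax Matrix Module

variable {F : Type*} [Field F] {m : ℕ}

local notation "V" => (Fin m ⊕ Fin m → F)

/-- a pair of totally isotropic subspaces whose join is nondegenerate -/
structure GoodPair (U W : Submodule F V) : Prop where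
  tiU : ∀ a ∈ U, ∀ a' ∈ U, Cfsg.sympForm m F a a' = 0
  tiW : ∀ b ∈ W, ∀ b' ∈ W, Cfsg.sympForm m F b b' = 0
  nd : ∀ h ∈ U ⊔ W, h ≠ 0 → ∃ y ∈ U ⊔ W, Cfsg.sympForm m F h y ≠ 0

theorem goodPair_bot : GoodPair (⊥ : Submodule F V) ⊥ := by
  refine ⟨?_, ?_, ?_⟩
  · intro a ha a' _
    rw [(Submodule.mem_bot F).1 ha, form_zero_left]
  · intro a ha a' _
    rw [(Submodule.mem_bot F).1 ha, form_zero_left]
  · intro h hh hne
    rw [sup_bot_eq, Submodule.mem_bot] at hh
    exact absurd hh hne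

theorem GoodPair.disjoint {U W : Submodule F V} (h : GoodPair U W) : Disjoint U W := by
  rw [Submodule.disjoint_def]
  intro y hyU hyW
  by_contra hy0
  obtain ⟨x, hx, hxy⟩ := h.nd y (Submodule.mem_sup_left hyU) hy0
  obtain ⟨a, ha, b, hb, rfl⟩ := Submodule.mem_sup.1 hx
  apply hxy
  rw [sympForm_add_right, h.tiU y hyU a ha, h.tiW y hyW b hb, add_zero]

theorem GoodPair.grow {U W : Submodule F V} (h : GoodPair U W) {u w : V}
    (hu : u ∈ perp (U ⊔ W)) (hw : w ∈ perp (U ⊔ W)) (huw : Cfsg.sympForm m F u w ≠ 0) :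
    GoodPair (U ⊔ Submodule.span F {u}) (W ⊔ Submodule.span F {w}) ∧
      U ⊔ W < (U ⊔ Submodule.span F {u}) ⊔ (W ⊔ Submodule.span F {w}) := by
  rw [mem_perp] at hu hw
  have huU : ∀ a ∈ U, Cfsg.sympForm m F a u = 0 := fun a ha => hu a (Submodule.mem_sup_left ha)
  have hwW : ∀ b ∈ W, Cfsg.sympForm m F b w = 0 := fun b hb => hw b (Submodule.mem_sup_right hb)
  have hwu : Cfsg.sympForm m F w u ≠ 0 := by
    intro h0; exact huw (form_eq_zero_symm h0)
  refine ⟨⟨?_, ?_, ?_⟩, ?_⟩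
  · intro a ha a' ha'
    obtain ⟨a₁, ha₁, u₁, hu₁, rfl⟩ := Submodule.mem_sup.1 ha
    obtain ⟨a₂, ha₂, u₂, hu₂, rfl⟩ := Submodule.mem_sup.1 ha'
    obtain ⟨α, rfl⟩ := Submodule.mem_span_singleton.1 hu₁
    obtain ⟨β, rfl⟩ := Submodule.mem_span_singleton.1 hu₂
    simp only [sympForm_add_left, sympForm_add_right, sympForm_smul_left, sympForm_smul_right,
      h.tiU a₁ ha₁ a₂ ha₂, huU a₁ ha₁, form_eq_zero_symm (huU a₂ ha₂), sympForm_self]
    ring
  · intro a ha a' ha'
    obtain ⟨a₁, ha₁, u₁, hu₁, rfl⟩ := Submodule.mem_sup.1 ha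
    obtain ⟨a₂, ha₂, u₂, hu₂, rfl⟩ := Submodule.mem_sup.1 ha'
    obtain ⟨α, rfl⟩ := Submodule.mem_span_singleton.1 hu₁
    obtain ⟨β, rfl⟩ := Submodule.mem_span_singleton.1 hu₂
    simp only [sympForm_add_left, sympForm_add_right, sympForm_smul_left, sympForm_smul_right,
      h.tiW a₁ ha₁ a₂ ha₂, hwW a₁ ha₁, form_eq_zero_symm (hwW a₂ ha₂), sympForm_self]
    ring
  · intro x hx hx0
    obtain ⟨x₁, hx₁, x₂, hx₂, rfl⟩ := Submodule.mem_sup.1 hx
    obtain ⟨a, ha, u₁, hu₁, rfl⟩ := Submodule.mem_sup.1 hx₁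
    obtain ⟨b, hb, w₁, hw₁, rfl⟩ := Submodule.mem_sup.1 hx₂
    obtain ⟨α, rfl⟩ := Submodule.mem_span_singleton.1 hu₁
    obtain ⟨β, rfl⟩ := Submodule.mem_span_singleton.1 hw₁
    have hab : a + b ∈ U ⊔ W := Submodule.add_mem_sup ha hb
    have hle : U ⊔ W ≤ (U ⊔ Submodule.span F {u}) ⊔ (W ⊔ Submodule.span F {w}) :=
      sup_le_sup le_sup_left le_sup_left
    have humem : u ∈ (U ⊔ Submodule.span F {u}) ⊔ (W ⊔ Submodule.span F {w}) :=
      Submodule.mem_sup_left (Submodule.mem_sup_right (Submodule.mem_span_singleton_self u))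
    have hwmem : w ∈ (U ⊔ Submodule.span F {u}) ⊔ (W ⊔ Submodule.span F {w}) :=
      Submodule.mem_sup_right (Submodule.mem_sup_right (Submodule.mem_span_singleton_self w))
    by_cases hab0 : a + b = 0
    · have hx' : a + α • u + (b + β • w) = α • u + β • w := by
        have : a + α • u + (b + β • w) = (a + b) + (α • u + β • w) := by abel
        rw [this, hab0, zero_add]
      by_cases hα : α = 0
      · have hβ : β ≠ 0 := by
          intro hβ
          apply hx0
          rw [hx', hα, hβ, zero_smul, zero_smul, add_zero]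
        refine ⟨u, humem, ?_⟩
        rw [hx', hα, zero_smul, zero_add, sympForm_smul_left]
        exact mul_ne_zero hβ hwu
      · refine ⟨w, hwmem, ?_⟩
        rw [hx', sympForm_add_left, sympForm_smul_left, sympForm_smul_left, sympForm_self, mul_zero,
          add_zero]
        exact mul_ne_zero hα huw
    · obtain ⟨y, hy, hy0⟩ := h.nd (a + b) hab hab0
      refine ⟨y, hle hy, ?_⟩
      have e1 : a + α • u + (b + β • w) = (a + b) + (α • u + β • w) := by abel
      have e2 : Cfsg.sympForm m F (α • u + β • w) y = 0 := by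
        rw [sympForm_add_left, sympForm_smul_left, sympForm_smul_left,
          form_eq_zero_symm (hu y hy), form_eq_zero_symm (hw y hy), mul_zero, mul_zero, add_zero]
      rw [e1, sympForm_add_left, e2, add_zero]
      exact hy0
  · refine lt_of_le_of_ne (sup_le_sup le_sup_left le_sup_left) ?_
    intro heq
    have humem : u ∈ (U ⊔ Submodule.span F {u}) ⊔ (W ⊔ Submodule.span F {w}) :=
      Submodule.mem_sup_left (Submodule.mem_sup_right (Submodule.mem_span_singleton_self u))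
    rw [← heq] at humem
    have hwmem : w ∈ (U ⊔ Submodule.span F {u}) ⊔ (W ⊔ Submodule.span F {w}) :=
      Submodule.mem_sup_right (Submodule.mem_sup_right (Submodule.mem_span_singleton_self w))
    rw [← heq] at hwmem
    exact hwu (hu w hwmem)

end Cfsg.Agent.H9SpInv
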