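import Mathlib
import Cfsg.Agent.Lib.Helper9.SpMax3

set_option autoImplicit false
set_option maxHeartbeats 800000

/-! Pairs of complementary totally isotropic subspaces of a symplectic space: basic facts. -/

namespace Cfsg.Agent.H9SpMax

open Cfsg.Agent.Lib.Helper1.SpBasic Cfsg.Agent.Lib.Helper2.Symp Cfsg.Agent.Lib.Helper2.SpIsom Matrix
open Module

variable {F : Type*} [Field F] {m : ℕ}

/-- a pair of complementary totally isotropic subspaces -/
structure SpPair (A B : Submodule F (Fin m ⊕ Fin m → F)) : Prop where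
  tiA : ∀ a ∈ A, ∀ a' ∈ A, Cfsg.sympForm m F a a' = 0
  tiB : ∀ b ∈ B, ∀ b' ∈ B, Cfsg.sympForm m F b b' = 0
  sum : ∀ x : Fin m ⊕ Fin m → F, ∃ a ∈ A, ∃ b ∈ B, x = a + b
  finA : finrank F A = m
  finB : finrank F B = m

namespace SpPair

variable {A B : Submodule F (Fin m ⊕ Fin m → F)}

theorem symm (h : SpPair A B) : SpPair B A where
  tiA := h.tiB
  tiB := h.tiA
  sum := fun x => by
    obtain ⟨a, ha, b, hb, rfl⟩ := h.sum x
    exact ⟨b, hb, a, ha, add_comm a b⟩
  finA := h.finB
  finB := h.finA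

theorem pairing (h : SpPair A B) {a : Fin m ⊕ Fin m → F} (ha : a ∈ A)
    (h0 : ∀ b ∈ B, Cfsg.sympForm m F a b = 0) : a = 0 := by
  apply sympForm_nondeg
  intro x
  obtain ⟨a', ha', b, hb, rfl⟩ := h.sum x
  rw [sympForm_add_right, h.tiA a ha a' ha', h0 b hb, add_zero]

theorem disj (h : SpPair A B) {x : Fin m ⊕ Fin m → F} (hA : x ∈ A) (hB : x ∈ B) : x = 0 :=
  h.pairing hA (fun b hb => h.tiB x hB b hb)

theorem inf_eq_bot (h : SpPair A B) : A ⊓ B = ⊥ := by
  rw [eq_bot_iff]
  intro x hx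
  exact h.disj hx.1 hx.2

theorem le_perp_left (h : SpPair A B) : A ≤ perp A := by
  intro a ha
  rw [mem_perp]
  intro a' ha'
  exact h.tiA a' ha' a ha

theorem finrank_space : finrank F (Fin m ⊕ Fin m → F) = 2 * m := by
  rw [Module.finrank_pi, Fintype.card_sum, Fintype.card_fin]
  ring

theorem finrank_perp (W : Submodule F (Fin m ⊕ Fin m → F)) :
    finrank F ↥(perp W) = 2 * m - finrank F W := by
  unfold perp
  rw [LinearMap.BilinForm.finrank_orthogonal sympBilin_nondegenerate, finrank_space]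

theorem perp_left (h : SpPair A B) : perp A = A := by
  symm
  apply Submodule.eq_of_le_of_finrank_eq h.le_perp_left
  rw [finrank_perp, h.finA]
  omega

theorem perp_sup (X H : Submodule F (Fin m ⊕ Fin m → F)) : perp (X ⊔ H) = perp X ⊓ perp H := by
  ext u
  simp only [mem_perp, Submodule.mem_inf]
  constructor
  · intro hu
    exact ⟨fun w hw => hu w (Submodule.mem_sup_left hw), fun w hw => hu w (Submodule.mem_sup_right hw)⟩
  · rintro ⟨h1, h2⟩ w hw
    obtain ⟨x, hx, y, hy, rfl⟩ := Submodule.mem_sup.1 hw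
    rw [sympForm_add_left, h1 x hx, h2 y hy, add_zero]

/-- dimension of `A ∩ H^⊥` -/
theorem finrank_inf_perp (h : SpPair A B) (H : Submodule F (Fin m ⊕ Fin m → F)) :
    finrank F ↥(A ⊓ perp H) + finrank F H = m + finrank F ↥(A ⊓ H) := by
  have h1 : A ⊓ perp H = perp (A ⊔ H) := by
    rw [perp_sup, h.perp_left]
  rw [h1, finrank_perp]
  have h2 := Submodule.finrank_sup_add_finrank_inf_eq A H
  have h3 : finrank F ↥(A ⊔ H) ≤ finrank F (Fin m ⊕ Fin m → F) := Submodule.finrank_le _
  rw [h.finA] at h2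
  rw [finrank_space] at h3
  omega

/-- separation: a functional from `B` vanishing on `X ≤ A` but not on `v ∈ A ∖ X` -/
theorem sep (h : SpPair A B) (X : Submodule F (Fin m ⊕ Fin m → F)) (hX : X ≤ A)
    {v : Fin m ⊕ Fin m → F} (hvA : v ∈ A) (hv : v ∉ X) :
    ∃ b ∈ B, (∀ x ∈ X, Cfsg.sympForm m F x b = 0) ∧ Cfsg.sympForm m F v b ≠ 0 := by
  by_contra hcon
  push Not at hcon
  obtain ⟨X', hX'⟩ : ∃ X', X' = X ⊔ Submodule.span F {v} := ⟨_, rfl⟩
  have hX'A : X' ≤ A := by
    rw [hX']
    apply sup_le hX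
    rw [Submodule.span_le]
    rintro _ rfl
    exact hvA
  have f1 := h.symm.finrank_inf_perp X
  have f2 := h.symm.finrank_inf_perp X'
  have hBX : B ⊓ X = ⊥ := by
    rw [eq_bot_iff, ← h.inf_eq_bot, inf_comm A B]
    exact inf_le_inf_left B hX
  have hBX' : B ⊓ X' = ⊥ := by
    rw [eq_bot_iff, ← h.inf_eq_bot, inf_comm A B]
    exact inf_le_inf_left B hX'A
  rw [hBX, finrank_bot] at f1
  rw [hBX', finrank_bot] at f2
  have hv0 : v ≠ 0 := by
    rintro rfl
    exact hv X.zero_mem
  have hdim : finrank F X' = finrank F X + 1 := by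
    have h2 := Submodule.finrank_sup_add_finrank_inf_eq X (Submodule.span F {v})
    have h3 : X ⊓ Submodule.span F {v} = ⊥ := by
      rw [← disjoint_iff, Submodule.disjoint_span_singleton' hv0]
      exact hv
    rw [h3, finrank_bot, finrank_span_singleton hv0, ← hX'] at h2
    omega
  have hle : B ⊓ perp X ≤ B ⊓ perp X' := by
    intro b hb
    refine ⟨hb.1, ?_⟩
    have hbX : ∀ x ∈ X, Cfsg.sympForm m F x b = 0 := (mem_perp X b).1 hb.2
    have hvb := hcon b hb.1 hbX
    apply (mem_perp X' b).2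
    intro y hy
    rw [hX'] at hy
    obtain ⟨x, hx, z, hz, rfl⟩ := Submodule.mem_sup.1 hy
    obtain ⟨c, rfl⟩ := Submodule.mem_span_singleton.1 hz
    rw [sympForm_add_left, sympForm_smul_left, hbX x hx, hvb, mul_zero, add_zero]
  have := Submodule.finrank_mono hle
  omega

/-- a vector of `A` orthogonal to a small subspace of `B` and outside a smaller subspace -/
theorem exists_in_perp (h : SpPair A B) (S : Submodule F (Fin m ⊕ Fin m → F)) (hS : S ≤ B)
    (L : Submodule F (Fin m ⊕ Fin m → F)) (hL : finrank F L + finrank F S < m) :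
    ∃ a ∈ A, (∀ s ∈ S, Cfsg.sympForm m F s a = 0) ∧ a ∉ L := by
  by_contra hcon
  push Not at hcon
  have f1 := h.finrank_inf_perp S
  have hAS : A ⊓ S = ⊥ := by
    rw [eq_bot_iff, ← h.inf_eq_bot]
    exact inf_le_inf_left A hS
  rw [hAS, finrank_bot] at f1
  have hle : A ⊓ perp S ≤ L := by
    intro a ha
    exact hcon a ha.1 ((mem_perp S a).1 ha.2)
  have := Submodule.finrank_mono hle
  omega

end SpPair

/-! ### the group `Q_u` -/

theorem eich_comm (w x : Fin m ⊕ Fin m → F) (hwx : Cfsg.sympForm m F w x = 0) :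
    eich w x = eich x w := by
  apply ext_mulVec
  intro y
  rw [eich_mulVec w x hwx, eich_mulVec x w (form_eq_zero_symm hwx)]
  abel

theorem eich_smul' (t : F) (w x : Fin m ⊕ Fin m → F) (hwx : Cfsg.sympForm m F w x = 0) :
    eich (t • w) x = eich w (t • x) := by
  apply ext_mulVec
  intro y
  rw [eich_mulVec _ _ (by rw [sympForm_smul_left, hwx, mul_zero]),
    eich_mulVec _ _ (by rw [sympForm_smul_right, hwx, mul_zero]), sympForm_smul_right,
    sympForm_smul_right]
  module

theorem conj_eich' (A : Matrix.symplecticGroup (Fin m) F) (w x : Fin m ⊕ Fin m → F) :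
    A * eich w x * A⁻¹ =
      eich ((A : Matrix (Fin m ⊕ Fin m) (Fin m ⊕ Fin m) F) *ᵥ w)
        ((A : Matrix (Fin m ⊕ Fin m) (Fin m ⊕ Fin m) F) *ᵥ x) := by
  unfold eich
  rw [← Matrix.mulVec_add, ← conj_T, ← conj_T, ← conj_T]
  group

/-- the product of two elements of `Q_u` -/
theorem eich_mul_eich (u v v' : Fin m ⊕ Fin m → F) (huv : Cfsg.sympForm m F u v = 0)
    (huv' : Cfsg.sympForm m F u v' = 0) :
    eich u v * eich u v' = T u (Cfsg.sympForm m F v' v) * eich u (v + v') := by
  have huvv : Cfsg.sympForm m F u (v + v') = 0 := by rw [sympForm_add_right, huv, huv', add_zero]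
  have hvu : Cfsg.sympForm m F v u = 0 := form_eq_zero_symm huv
  have hv'u : Cfsg.sympForm m F v' u = 0 := form_eq_zero_symm huv'
  apply ext_mulVec
  intro y
  rw [coe_mul_mulVec, coe_mul_mulVec, eich_mulVec u v' huv', eich_mulVec u v huv,
    eich_mulVec u (v + v') huvv, T_mulVec]
  simp only [sympForm_add_left, sympForm_add_right, sympForm_smul_left, sympForm_self, huv,
    hvu, hv'u, mul_zero, add_zero]
  module

/-- commutators in `Q_u` are transvections -/
theorem T_mem_of_eich (M : Subgroup (Matrix.symplecticGroup (Fin m) F))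
    (u v v' : Fin m ⊕ Fin m → F) (huv : Cfsg.sympForm m F u v = 0)
    (huv' : Cfsg.sympForm m F u v' = 0) (hv : eich u v ∈ M) (hv' : eich u v' ∈ M) :
    T u (2 * Cfsg.sympForm m F v' v) ∈ M := by
  have h1 := eich_mul_eich u v v' huv huv'
  have h2 := eich_mul_eich u v' v huv' huv
  have e : eich u (v' + v) = eich u (v + v') := by rw [add_comm]
  rw [e] at h2
  have h3 : T u (2 * Cfsg.sympForm m F v' v) =
      (eich u v * eich u v') * (eich u v' * eich u v)⁻¹ := by
    rw [h1, h2, _root_.mul_inv_rev, T_inv, mul_assoc, ← mul_assoc (eich u (v + v')), mul_inv_cancel,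
      one_mul, T_add]
    congr 1
    rw [sympForm_swap v v']
    ring
  rw [h3]
  exact M.mul_mem (M.mul_mem hv hv') (M.inv_mem (M.mul_mem hv' hv))

end Cfsg.Agent.H9SpMax
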