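import Mathlib
import Cfsg.Agent.Lib.Helper9.SpInv1
import Cfsg.Agent.Lib.Helper9.SpPair1

set_option autoImplicit false

namespace Cfsg.Agent.H9SpInv

open Cfsg.Agent.Lib.Helper1.SpBasic Cfsg.Agent.Lib.Helper2.Symp Cfsg.Agent.Lib.Helper2.SpIsom
  Cfsg.Agent.H9SpMax Matrix Module

variable {F : Type*} [Field F] {m : ℕ}

local notation "V" => (Fin m ⊕ Fin m → F)

theorem perp_invariant (X : V →ₗ[F] V)
    (hXf : ∀ u v, Cfsg.sympForm m F (X u) (X v) = Cfsg.sympForm m F u v)
    (H : Submodule F V) (hH : H.map X = H) : ∀ y ∈ perp H, X y ∈ perp H := by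
  intro y hy
  rw [mem_perp] at hy ⊢
  intro h hh
  rw [← hH] at hh
  obtain ⟨h', hh', rfl⟩ := hh
  rw [hXf]
  exact hy h' hh'

theorem exists_ne_zero_perp (H : Submodule F V)
    (hnd : ∀ w ∈ H, w ≠ 0 → ∃ x ∈ H, Cfsg.sympForm m F w x ≠ 0) (hH : H ≠ ⊤) :
    ∃ y ∈ perp H, y ≠ 0 := by
  have h1 := finrank_add_perp H hnd
  have h2 : finrank F H < 2 * m := by
    have := Submodule.finrank_lt hH
    rwa [SpPair.finrank_space] at this
  have h3 : 0 < finrank F (perp H) := by omega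
  obtain ⟨y, hy⟩ := Module.finrank_pos_iff_exists_ne_zero.1 h3
  exact ⟨y.1, y.2, fun h => hy (Subtype.ext h)⟩

theorem map_sup_span (X : V →ₗ[F] V) (U : Submodule F V) (e : V) :
    (U ⊔ Submodule.span F {e}).map X = U.map X ⊔ Submodule.span F {X e} := by
  rw [Submodule.map_sup, Submodule.map_span, Set.image_singleton]

/-- `X² = 1`: invariant pair of complementary totally isotropic subspaces. -/
theorem fix_mode (X : V →ₗ[F] V)
    (hXf : ∀ u v, Cfsg.sympForm m F (X u) (X v) = Cfsg.sympForm m F u v)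
    (hX2 : ∀ u, X (X u) = u) (h2 : (2 : F) ≠ 0) :
    ∀ n : ℕ, ∀ U W : Submodule F V, GoodPair U W → U.map X = U → W.map X = W →
      2 * m - finrank F ↥(U ⊔ W) = n →
      ∃ U' W' : Submodule F V, GoodPair U' W' ∧ U'.map X = U' ∧ W'.map X = W' ∧ U' ⊔ W' = ⊤ := by
  intro n
  induction n using Nat.strong_induction_on with
  | _ n ih =>
  intro U W hg hU hW hn
  by_cases htop : U ⊔ W = ⊤
  · exact ⟨U, W, hg, hU, hW, htop⟩
  have hHX : (U ⊔ W).map X = U ⊔ W := by rw [Submodule.map_sup, hU, hW]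
  obtain ⟨y, hy, hy0⟩ := exists_ne_zero_perp (U ⊔ W) hg.nd htop
  have hXy := perp_invariant X hXf _ hHX y hy
  -- an eigenvector in the perp
  obtain ⟨e, ε, he, he0, hεε, hXe⟩ : ∃ (e : V) (ε : F), e ∈ perp (U ⊔ W) ∧ e ≠ 0 ∧ ε * ε = 1 ∧
      X e = ε • e := by
    by_cases h : y + X y = 0
    · refine ⟨y, -1, hy, hy0, by ring, ?_⟩
      rw [neg_one_smul]
      exact eq_neg_of_add_eq_zero_right h
    · refine ⟨y + X y, 1, Submodule.add_mem _ hy hXy, h, by ring, ?_⟩
      rw [map_add, hX2, one_smul, add_comm]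
  have hε0 : ε ≠ 0 := by
    intro h; rw [h] at hεε; simp at hεε
  obtain ⟨y', hy', hey'⟩ := perp_nondeg (U ⊔ W) hg.nd e he he0
  have hXy' := perp_invariant X hXf _ hHX y' hy'
  set w : V := y' + ε • X y' with hw
  have hwmem : w ∈ perp (U ⊔ W) := Submodule.add_mem _ hy' (Submodule.smul_mem _ _ hXy')
  have hXw : X w = ε • w := by
    rw [hw, map_add, map_smul, hX2, smul_add, smul_smul, hεε, one_smul, add_comm]
  have hew : Cfsg.sympForm m F e w ≠ 0 := by
    have e1 : Cfsg.sympForm m F e (X y') = ε * Cfsg.sympForm m F e y' := by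
      have := hXf e (X y')
      rw [hXe, hX2, sympForm_smul_left] at this
      exact this.symm
    rw [hw, sympForm_add_right, sympForm_smul_right, e1, ← mul_assoc, hεε, one_mul, ← two_mul]
    exact mul_ne_zero h2 hey'
  obtain ⟨hg', hlt⟩ := hg.grow he hwmem hew
  have hU' : (U ⊔ Submodule.span F {e}).map X = U ⊔ Submodule.span F {e} := by
    rw [map_sup_span, hU, hXe, Submodule.span_singleton_smul_eq (IsUnit.mk0 ε hε0)]
  have hW' : (W ⊔ Submodule.span F {w}).map X = W ⊔ Submodule.span F {w} := by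
    rw [map_sup_span, hW, hXw, Submodule.span_singleton_smul_eq (IsUnit.mk0 ε hε0)]
  have hfl := Submodule.finrank_lt_finrank_of_lt hlt
  have hle : finrank F ↥((U ⊔ Submodule.span F {e}) ⊔ (W ⊔ Submodule.span F {w})) ≤ 2 * m := by
    rw [← SpPair.finrank_space (F := F)]
    exact Submodule.finrank_le _
  exact ih _ (by omega) _ _ hg' hU' hW' rfl

/-- `X² = -1`: swapped pair of complementary totally isotropic subspaces. -/
theorem swap_mode (X : V →ₗ[F] V)
    (hXf : ∀ u v, Cfsg.sympForm m F (X u) (X v) = Cfsg.sympForm m F u v)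
    (hX2 : ∀ u, X (X u) = -u) (h2 : (2 : F) ≠ 0) :
    ∀ n : ℕ, ∀ U W : Submodule F V, GoodPair U W → U.map X = W → W.map X = U →
      2 * m - finrank F ↥(U ⊔ W) = n →
      ∃ U' W' : Submodule F V, GoodPair U' W' ∧ U'.map X = W' ∧ W'.map X = U' ∧ U' ⊔ W' = ⊤ := by
  intro n
  induction n using Nat.strong_induction_on with
  | _ n ih =>
  intro U W hg hU hW hn
  by_cases htop : U ⊔ W = ⊤
  · exact ⟨U, W, hg, hU, hW, htop⟩
  have hHX : (U ⊔ W).map X = U ⊔ W := by rw [Submodule.map_sup, hU, hW, sup_comm]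
  obtain ⟨y, hy, hy0⟩ := exists_ne_zero_perp (U ⊔ W) hg.nd htop
  have hXy := perp_invariant X hXf _ hHX y hy
  have hXy0 : X y ≠ 0 := by
    intro h
    have := hX2 y
    rw [h, map_zero] at this
    exact hy0 (neg_eq_zero.1 this.symm)
  -- the symmetric form h(a,b) = f(a, X b)
  have hsymm : ∀ a b, Cfsg.sympForm m F a (X b) = Cfsg.sympForm m F b (X a) := by
    intro a b
    have := hXf a (X b)
    rw [hX2, form_neg_right] at this
    rw [← this, sympForm_swap (X a) b, neg_neg]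
  obtain ⟨y', hy', hyy'⟩ := perp_nondeg (U ⊔ W) hg.nd (X y) hXy hXy0
  have hXy' := perp_invariant X hXf _ hHX y' hy'
  have hy'y : Cfsg.sympForm m F y' (X y) ≠ 0 := fun h => hyy' (form_eq_zero_symm h)
  obtain ⟨v, hv, hvv⟩ : ∃ v ∈ perp (U ⊔ W), Cfsg.sympForm m F v (X v) ≠ 0 := by
    by_cases h1 : Cfsg.sympForm m F y (X y) = 0
    · by_cases h3 : Cfsg.sympForm m F y' (X y') = 0
      · refine ⟨y + y', Submodule.add_mem _ hy hy', ?_⟩
        rw [map_add, sympForm_add_left, sympForm_add_right, sympForm_add_right, h1, h3,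
          hsymm y y', zero_add, add_zero, ← two_mul]
        exact mul_ne_zero h2 hy'y
      · exact ⟨y', hy', h3⟩
    · exact ⟨y, hy, h1⟩
  have hXv := perp_invariant X hXf _ hHX v hv
  obtain ⟨hg', hlt⟩ := hg.grow hv hXv hvv
  have hU' : (U ⊔ Submodule.span F {v}).map X = W ⊔ Submodule.span F {X v} := by
    rw [map_sup_span, hU]
  have hW' : (W ⊔ Submodule.span F {X v}).map X = U ⊔ Submodule.span F {v} := by
    rw [map_sup_span, hW, hX2, ← neg_one_smul F v,
      Submodule.span_singleton_smul_eq (IsUnit.mk0 (-1 : F) (by simp))]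
  have hfl := Submodule.finrank_lt_finrank_of_lt hlt
  have hle : finrank F ↥((U ⊔ Submodule.span F {v}) ⊔ (W ⊔ Submodule.span F {X v})) ≤ 2 * m := by
    rw [← SpPair.finrank_space (F := F)]
    exact Submodule.finrank_le _
  exact ih _ (by omega) _ _ hg' hU' hW' rfl

end Cfsg.Agent.H9SpInv
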