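import Mathlib
import Cfsg.Agent.Lib.Helper9.SpInv2

set_option autoImplicit false

/-! Families of mutually orthogonal hyperbolic pairs. -/

namespace Cfsg.Agent.H9SpInv

open Cfsg.Agent.Lib.Helper1.SpBasic Cfsg.Agent.Lib.Helper2.Symp Cfsg.Agent.Lib.Helper2.SpIsom
  Cfsg.Agent.H9SpMax Matrix Module

variable {F : Type*} [Field F] {m : ℕ}

local notation "V" => (Fin m ⊕ Fin m → F)

/-- a family of mutually orthogonal hyperbolic pairs `(v (inl i), v (inr i))` -/
structure HypGram {ι : Type} (v : ι ⊕ ι → V) : Prop where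
  orth : ∀ k l, l ≠ Sum.swap k → Cfsg.sympForm m F (v k) (v l) = 0
  pair : ∀ i, Cfsg.sympForm m F (v (Sum.inl i)) (v (Sum.inr i)) ≠ 0

variable {ι : Type} {v : ι ⊕ ι → (Fin m ⊕ Fin m → F)}

theorem HypGram.pair_ne (h : HypGram v) (k : ι ⊕ ι) :
    Cfsg.sympForm m F (v k) (v (Sum.swap k)) ≠ 0 := by
  rcases k with i | i
  · exact h.pair i
  · intro h0
    exact h.pair i (form_eq_zero_symm h0)

theorem HypGram.pair_sum [Fintype ι] [DecidableEq ι] (h : HypGram v) (c : ι ⊕ ι → F) (k₀ : ι ⊕ ι) :
    Cfsg.sympForm m F (∑ k, c k • v k) (v (Sum.swap k₀))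
      = c k₀ * Cfsg.sympForm m F (v k₀) (v (Sum.swap k₀)) := by
  rw [← sympBilin_apply, LinearMap.BilinForm.sum_left, Finset.sum_eq_single k₀]
  · rw [LinearMap.BilinForm.smul_left, sympBilin_apply]
  · intro k _ hk
    rw [LinearMap.BilinForm.smul_left, sympBilin_apply, h.orth k (Sum.swap k₀), mul_zero]
    intro heq
    apply hk
    have := congrArg Sum.swap heq
    simpa using this.symm
  · intro hk
    exact absurd (Finset.mem_univ _) hk

theorem HypGram.li [Fintype ι] [DecidableEq ι] (h : HypGram v) : LinearIndependent F v := by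
  rw [Fintype.linearIndependent_iff]
  intro g hg k₀
  have h1 := h.pair_sum g k₀
  rw [hg, form_zero_left] at h1
  rcases mul_eq_zero.1 h1.symm with h2 | h2
  · exact h2
  · exact absurd h2 (h.pair_ne k₀)

theorem HypGram.nd [Fintype ι] [DecidableEq ι] (h : HypGram v) :
    ∀ x ∈ Submodule.span F (Set.range v), x ≠ 0 →
      ∃ y ∈ Submodule.span F (Set.range v), Cfsg.sympForm m F x y ≠ 0 := by
  intro x hx hx0
  obtain ⟨c, rfl⟩ := (Submodule.mem_span_range_iff_exists_fun F).1 hx
  obtain ⟨k₀, hk₀⟩ : ∃ k₀, c k₀ ≠ 0 := by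
    by_contra hcon
    push Not at hcon
    apply hx0
    apply Finset.sum_eq_zero
    intro k _
    rw [hcon k, zero_smul]
  refine ⟨v (Sum.swap k₀), Submodule.subset_span ⟨_, rfl⟩, ?_⟩
  rw [h.pair_sum c k₀]
  exact mul_ne_zero hk₀ (h.pair_ne k₀)

/-- extend a family by one more pair -/
def optFam (v : ι ⊕ ι → V) (u₀ w₀ : V) : Option ι ⊕ Option ι → V
  | Sum.inl none => u₀
  | Sum.inr none => w₀
  | Sum.inl (some i) => v (Sum.inl i)
  | Sum.inr (some i) => v (Sum.inr i)

theorem range_optFam (v : ι ⊕ ι → V) (u₀ w₀ : V) :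
    Submodule.span F (Set.range (optFam v u₀ w₀))
      = Submodule.span F (Set.range v) ⊔ Submodule.span F {u₀, w₀} := by
  apply le_antisymm
  · rw [Submodule.span_le]
    rintro _ ⟨k, rfl⟩
    rcases k with (_ | i) | (_ | i)
    · exact Submodule.mem_sup_right (Submodule.subset_span (by simp [optFam]))
    · exact Submodule.mem_sup_left (Submodule.subset_span ⟨Sum.inl i, rfl⟩)
    · exact Submodule.mem_sup_right (Submodule.subset_span (by simp [optFam]))
    · exact Submodule.mem_sup_left (Submodule.subset_span ⟨Sum.inr i, rfl⟩)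
  · apply sup_le
    · rw [Submodule.span_le]
      rintro _ ⟨k, rfl⟩
      rcases k with i | i
      · exact Submodule.subset_span ⟨Sum.inl (some i), rfl⟩
      · exact Submodule.subset_span ⟨Sum.inr (some i), rfl⟩
    · rw [Submodule.span_le]
      rintro _ (rfl | rfl)
      · exact Submodule.subset_span ⟨Sum.inl none, rfl⟩
      · exact Submodule.subset_span ⟨Sum.inr none, rfl⟩

theorem HypGram.ext (h : HypGram v) {u₀ w₀ : V} (hu : u₀ ∈ perp (Submodule.span F (Set.range v)))
    (hw : w₀ ∈ perp (Submodule.span F (Set.range v))) (huw : Cfsg.sympForm m F u₀ w₀ ≠ 0) :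
    HypGram (optFam v u₀ w₀) := by
  rw [mem_perp] at hu hw
  have hu' : ∀ k, Cfsg.sympForm m F (v k) u₀ = 0 := fun k => hu _ (Submodule.subset_span ⟨k, rfl⟩)
  have hw' : ∀ k, Cfsg.sympForm m F (v k) w₀ = 0 := fun k => hw _ (Submodule.subset_span ⟨k, rfl⟩)
  refine ⟨?_, ?_⟩
  · intro k l hkl
    rcases k with (_ | i) | (_ | i) <;> rcases l with (_ | j) | (_ | j)
    · exact sympForm_self _
    · exact form_eq_zero_symm (hu' _)
    · exact absurd rfl hkl
    · exact form_eq_zero_symm (hu' _)
    · exact hu' _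
    · exact h.orth (Sum.inl i) (Sum.inl j) (by simp)
    · exact hw' _
    · apply h.orth (Sum.inl i) (Sum.inr j)
      intro heq
      apply hkl
      simp only [Sum.swap_inl, Sum.inr.injEq] at heq ⊢
      rw [heq]
    · exact absurd rfl hkl
    · exact form_eq_zero_symm (hw' _)
    · exact sympForm_self _
    · exact form_eq_zero_symm (hw' _)
    · exact hu' _
    · apply h.orth (Sum.inr i) (Sum.inl j)
      intro heq
      apply hkl
      simp only [Sum.swap_inr, Sum.inl.injEq] at heq ⊢
      rw [heq]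
    · exact hw' _
    · exact h.orth (Sum.inr i) (Sum.inr j) (by simp)
  · intro i
    rcases i with _ | i
    · exact huw
    · exact h.pair i

end Cfsg.Agent.H9SpInv
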