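import Mathlib
import Cfsg.Agent.Lib.Helper9.SpInv3

set_option autoImplicit false

/-! Action data for families of hyperbolic pairs; the growth step. -/

namespace Cfsg.Agent.H9SpInv

open Cfsg.Agent.Lib.Helper1.SpBasic Cfsg.Agent.Lib.Helper2.Symp Cfsg.Agent.Lib.Helper2.SpIsom
  Cfsg.Agent.H9SpMax Matrix Module

variable {F : Type*} [Field F] {m : ℕ}

local notation "V" => (Fin m ⊕ Fin m → F)

/-- the planes of the family are permuted by `X` through the involution `π` -/
structure HypAct (X : V →ₗ[F] V) {ι : Type} (v : ι ⊕ ι → V) (π : ι → ι) : Prop where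
  inv : Function.Involutive π
  act : ∀ i, (Submodule.span F {v (Sum.inl i), v (Sum.inr i)}).map X
      = Submodule.span F {v (Sum.inl (π i)), v (Sum.inr (π i))}

variable {ι : Type} {v : ι ⊕ ι → (Fin m ⊕ Fin m → F)} {π : ι → ι} {X : (Fin m ⊕ Fin m → F) →ₗ[F] (Fin m ⊕ Fin m → F)}

theorem plane_le_span (v : ι ⊕ ι → (Fin m ⊕ Fin m → F)) (i : ι) :
    Submodule.span F {v (Sum.inl i), v (Sum.inr i)} ≤ Submodule.span F (Set.range v) := by
  apply Submodule.span_mono
  rintro _ (rfl | rfl)
  · exact ⟨_, rfl⟩
  · exact ⟨_, rfl⟩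

theorem mem_plane (v : ι ⊕ ι → (Fin m ⊕ Fin m → F)) (k : ι ⊕ ι) :
    v k ∈ Submodule.span F {v (Sum.inl (Sum.elim id id k)), v (Sum.inr (Sum.elim id id k))} := by
  rcases k with i | i
  · exact Submodule.subset_span (by simp)
  · exact Submodule.subset_span (by simp)

theorem HypAct.map_span (h : HypAct X v π) :
    (Submodule.span F (Set.range v)).map X = Submodule.span F (Set.range v) := by
  apply le_antisymm
  · rw [Submodule.map_span, Submodule.span_le]
    rintro _ ⟨_, ⟨k, rfl⟩, rfl⟩
    have h1 := Submodule.mem_map_of_mem (f := X) (mem_plane v k)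
    rw [h.act] at h1
    exact plane_le_span v _ h1
  · rw [Submodule.span_le]
    rintro _ ⟨k, rfl⟩
    have h1 := mem_plane v k
    rw [← h.inv (Sum.elim id id k), ← h.act] at h1
    exact Submodule.map_mono (plane_le_span v _) h1

theorem HypAct.ext1 (h : HypAct X v π) {u₀ w₀ : Fin m ⊕ Fin m → F}
    (hX : (Submodule.span F {u₀, w₀}).map X = Submodule.span F {u₀, w₀}) :
    HypAct X (optFam v u₀ w₀) (Option.map π) := by
  refine ⟨?_, ?_⟩
  · intro o
    cases o with
    | none => rfl
    | some i => simp [h.inv i]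
  · intro o
    cases o with
    | none => exact hX
    | some i => exact h.act i

theorem span_pair_smul {z : F} (hz : z ≠ 0) (a b : Fin m ⊕ Fin m → F) :
    Submodule.span F {z • a, z • b} = Submodule.span F {a, b} := by
  apply le_antisymm
  · rw [Submodule.span_le]
    rintro _ (rfl | rfl)
    · exact Submodule.smul_mem _ _ (Submodule.subset_span (by simp))
    · exact Submodule.smul_mem _ _ (Submodule.subset_span (by simp))
  · rw [Submodule.span_le]
    intro x hx
    have ha : z⁻¹ • (z • a) ∈ Submodule.span F {z • a, z • b} :=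
      Submodule.smul_mem _ _ (Submodule.subset_span (by simp))
    rw [smul_smul, inv_mul_cancel₀ hz, one_smul] at ha
    have hb : z⁻¹ • (z • b) ∈ Submodule.span F {z • a, z • b} :=
      Submodule.smul_mem _ _ (Submodule.subset_span (by simp))
    rw [smul_smul, inv_mul_cancel₀ hz, one_smul] at hb
    rcases hx with hx | hx
    · rw [hx]; exact ha
    · rw [Set.mem_singleton_iff.1 hx]; exact hb

theorem map_span_pair (X : (Fin m ⊕ Fin m → F) →ₗ[F] (Fin m ⊕ Fin m → F)) (a b : Fin m ⊕ Fin m → F) :
    (Submodule.span F {a, b}).map X = Submodule.span F {X a, X b} := by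
  rw [Submodule.map_span, Set.image_pair]

/-- the swapped-pair extension -/
def swapPi (π : ι → ι) : Option (Option ι) → Option (Option ι)
  | none => some none
  | some none => none
  | some (some i) => some (some (π i))

theorem HypAct.ext2 (h : HypAct X v π) {z : F} (hz : z ≠ 0) (hX2 : ∀ u, X (X u) = z • u)
    (u₀ w₀ : Fin m ⊕ Fin m → F) :
    HypAct X (optFam (optFam v u₀ w₀) (X u₀) (X w₀)) (swapPi π) := by
  refine ⟨?_, ?_⟩
  · intro o
    match o with
    | none => rfl
    | some none => rfl
    | some (some i) => simp [swapPi, h.inv i]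
  · intro o
    match o with
    | none =>
      show (Submodule.span F {X u₀, X w₀}).map X = Submodule.span F {u₀, w₀}
      rw [map_span_pair, hX2, hX2, span_pair_smul hz]
    | some none =>
      show (Submodule.span F {u₀, w₀}).map X = Submodule.span F {X u₀, X w₀}
      rw [map_span_pair]
    | some (some i) => exact h.act i

theorem mem_perp_span (S : Set (Fin m ⊕ Fin m → F)) (y : Fin m ⊕ Fin m → F)
    (h : ∀ s ∈ S, Cfsg.sympForm m F s y = 0) : y ∈ perp (Submodule.span F S) := by
  rw [mem_perp]
  intro x hx
  induction hx using Submodule.span_induction with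
  | mem s hs => exact h s hs
  | zero => exact form_zero_left _
  | add a b _ _ ha hb => rw [sympForm_add_left, ha, hb, add_zero]
  | smul c a _ ha => rw [sympForm_smul_left, ha, mul_zero]

end Cfsg.Agent.H9SpInv
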