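import Mathlib
import Cfsg.Agent.Lib.Helper9.SpInv4

set_option autoImplicit false

/-! The growth step and the growth theorem. -/

namespace Cfsg.Agent.H9SpInv

open Cfsg.Agent.Lib.Helper1.SpBasic Cfsg.Agent.Lib.Helper2.Symp Cfsg.Agent.Lib.Helper2.SpIsom
  Cfsg.Agent.H9SpMax Matrix Module

variable {F : Type*} [Field F] {m : ℕ}

/-- In a nonzero nondegenerate `X`-invariant subspace `K` one finds either an invariant hyperbolic
plane or a hyperbolic plane orthogonal to its image. -/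
theorem step (X : (Fin m ⊕ Fin m → F) →ₗ[F] (Fin m ⊕ Fin m → F))
    (hXf : ∀ u v, Cfsg.sympForm m F (X u) (X v) = Cfsg.sympForm m F u v)
    (z : F) (hz : z ≠ 0) (hX2 : ∀ u, X (X u) = z • u)
    (K : Submodule F (Fin m ⊕ Fin m → F)) (hKX : ∀ y ∈ K, X y ∈ K)
    (hKnd : ∀ u ∈ K, u ≠ 0 → ∃ y ∈ K, Cfsg.sympForm m F u y ≠ 0)
    (hK0 : ∃ y ∈ K, y ≠ 0) :
    ∃ u₀ ∈ K, ∃ w₀ ∈ K, Cfsg.sympForm m F u₀ w₀ ≠ 0 ∧
      ((Submodule.span F {u₀, w₀}).map X = Submodule.span F {u₀, w₀} ∨
        (Cfsg.sympForm m F u₀ (X u₀) = 0 ∧ Cfsg.sympForm m F u₀ (X w₀) = 0 ∧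
          Cfsg.sympForm m F w₀ (X u₀) = 0 ∧ Cfsg.sympForm m F w₀ (X w₀) = 0)) := by
  have hXne : ∀ y, y ≠ 0 → X y ≠ 0 := by
    intro y hy h
    have := hX2 y
    rw [h, map_zero] at this
    exact hy ((smul_eq_zero.1 this.symm).resolve_left hz)
  by_cases hI : ∃ v ∈ K, Cfsg.sympForm m F v (X v) ≠ 0
  · obtain ⟨v, hv, hvv⟩ := hI
    refine ⟨v, hv, X v, hKX v hv, hvv, Or.inl ?_⟩
    rw [map_span_pair, hX2]
    apply le_antisymm
    · rw [Submodule.span_le]
      intro x hx
      rcases hx with hx | hx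
      · rw [hx]; exact Submodule.subset_span (by simp)
      · rw [Set.mem_singleton_iff.1 hx]
        exact Submodule.smul_mem _ _ (Submodule.subset_span (by simp))
    · rw [Submodule.span_le]
      intro x hx
      rcases hx with hx | hx
      · rw [hx]
        have : z⁻¹ • (z • v) ∈ Submodule.span F {X v, z • v} :=
          Submodule.smul_mem _ _ (Submodule.subset_span (by simp))
        rwa [smul_smul, inv_mul_cancel₀ hz, one_smul] at this
      · rw [Set.mem_singleton_iff.1 hx]; exact Submodule.subset_span (by simp)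
  push Not at hI
  have halt : ∀ a ∈ K, ∀ b ∈ K, Cfsg.sympForm m F a (X b) = - Cfsg.sympForm m F b (X a) := by
    intro a ha b hb
    have h1 := hI (a + b) (K.add_mem ha hb)
    rw [map_add, sympForm_add_left, sympForm_add_right, sympForm_add_right, hI a ha, hI b hb] at h1
    linear_combination h1
  by_cases hII : ∃ v ∈ K, ∀ l : F, X v ≠ l • v
  · obtain ⟨v, hv, hvl⟩ := hII
    have hv0 : v ≠ 0 := by
      intro h
      apply hvl 0
      rw [h, map_zero, smul_zero]
    obtain ⟨w₁, hw₁, hvw₁⟩ := hKnd v hv hv0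
    set y : Fin m ⊕ Fin m → F :=
      Cfsg.sympForm m F (X v) w₁ • v - Cfsg.sympForm m F v w₁ • X v with hy
    have hyK : y ∈ K := K.sub_mem (K.smul_mem _ hv) (K.smul_mem _ (hKX v hv))
    have hy0 : y ≠ 0 := by
      intro h
      apply hvl ((Cfsg.sympForm m F v w₁)⁻¹ * Cfsg.sympForm m F (X v) w₁)
      have h1 : Cfsg.sympForm m F v w₁ • X v = Cfsg.sympForm m F (X v) w₁ • v := by
        rw [hy, sub_eq_zero] at h
        exact h.symm
      have := congrArg (fun t => (Cfsg.sympForm m F v w₁)⁻¹ • t) h1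
      simp only [smul_smul, inv_mul_cancel₀ hvw₁, one_smul] at this
      exact this
    obtain ⟨w₂, hw₂, hyw₂⟩ := hKnd y hyK hy0
    set w' : Fin m ⊕ Fin m → F :=
      Cfsg.sympForm m F (X v) w₂ • w₁ - Cfsg.sympForm m F (X v) w₁ • w₂ with hw'
    have hw'K : w' ∈ K := K.sub_mem (K.smul_mem _ hw₁) (K.smul_mem _ hw₂)
    have e1 : Cfsg.sympForm m F (X v) w' = 0 := by
      rw [hw', sympForm_sub_right, sympForm_smul_right, sympForm_smul_right]
      ring
    have e2 : Cfsg.sympForm m F v w' = - Cfsg.sympForm m F y w₂ := by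
      rw [hw', hy, sympForm_sub_right, sympForm_smul_right, sympForm_smul_right,
        sympForm_sub_left, sympForm_smul_left, sympForm_smul_left]
      ring
    have e3 : Cfsg.sympForm m F w' (X v) = 0 := form_eq_zero_symm e1
    refine ⟨v, hv, w', hw'K, ?_, Or.inr ⟨hI v hv, ?_, e3, hI w' hw'K⟩⟩
    · rw [e2]; exact neg_ne_zero.2 hyw₂
    · rw [halt v hv w' hw'K, e3, neg_zero]
  · push Not at hII
    obtain ⟨y, hy, hy0⟩ := hK0
    obtain ⟨w₀, hw₀, hyw₀⟩ := hKnd y hy hy0
    have hw₀0 : w₀ ≠ 0 := by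
      intro h; rw [h, form_zero_right] at hyw₀; exact hyw₀ rfl
    obtain ⟨l, hl⟩ := hII y hy
    obtain ⟨μ, hμ⟩ := hII w₀ hw₀
    have hl0 : l ≠ 0 := by
      intro h
      apply hXne y hy0
      rw [hl, h, zero_smul]
    have hμ0 : μ ≠ 0 := by
      intro h
      apply hXne w₀ hw₀0
      rw [hμ, h, zero_smul]
    refine ⟨y, hy, w₀, hw₀, hyw₀, Or.inl ?_⟩
    rw [map_span_pair, hl, hμ]
    apply le_antisymm
    · rw [Submodule.span_le]
      intro x hx
      rcases hx with hx | hx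
      · rw [hx]; exact Submodule.smul_mem _ _ (Submodule.subset_span (by simp))
      · rw [Set.mem_singleton_iff.1 hx]
        exact Submodule.smul_mem _ _ (Submodule.subset_span (by simp))
    · rw [Submodule.span_le]
      intro x hx
      rcases hx with hx | hx
      · rw [hx]
        have : l⁻¹ • (l • y) ∈ Submodule.span F {l • y, μ • w₀} :=
          Submodule.smul_mem _ _ (Submodule.subset_span (by simp))
        rwa [smul_smul, inv_mul_cancel₀ hl0, one_smul] at this
      · rw [Set.mem_singleton_iff.1 hx]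
        have : μ⁻¹ • (μ • w₀) ∈ Submodule.span F {l • y, μ • w₀} :=
          Submodule.smul_mem _ _ (Submodule.subset_span (by simp))
        rwa [smul_smul, inv_mul_cancel₀ hμ0, one_smul] at this

end Cfsg.Agent.H9SpInv
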