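import Mathlib
import Cfsg.Agent.Lib.Helper9.SpInv5

set_option autoImplicit false

/-! The growth theorem: a spanning family of hyperbolic pairs permuted by `X`. -/

namespace Cfsg.Agent.H9SpInv

open Cfsg.Agent.Lib.Helper1.SpBasic Cfsg.Agent.Lib.Helper2.Symp Cfsg.Agent.Lib.Helper2.SpIsom
  Cfsg.Agent.H9SpMax Matrix Module

variable {F : Type*} [Field F] {m : ℕ}

theorem span_lt_optFam {ι : Type} (v : ι ⊕ ι → (Fin m ⊕ Fin m → F)) (u₀ w₀ : Fin m ⊕ Fin m → F)
    (hu : u₀ ∉ Submodule.span F (Set.range v)) :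
    Submodule.span F (Set.range v) < Submodule.span F (Set.range (optFam v u₀ w₀)) := by
  rw [range_optFam]
  apply lt_of_le_of_ne le_sup_left
  intro h
  apply hu
  rw [h]
  exact Submodule.mem_sup_right (Submodule.subset_span (by simp))

theorem grow (X : (Fin m ⊕ Fin m → F) →ₗ[F] (Fin m ⊕ Fin m → F))
    (hXf : ∀ u v, Cfsg.sympForm m F (X u) (X v) = Cfsg.sympForm m F u v)
    (z : F) (hz : z ≠ 0) (hX2 : ∀ u, X (X u) = z • u) :
    ∀ n : ℕ, ∀ (ι : Type) [Fintype ι] [DecidableEq ι] (v : ι ⊕ ι → (Fin m ⊕ Fin m → F)) (π : ι → ι),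
      HypGram v → HypAct X v π → 2 * m - finrank F (Submodule.span F (Set.range v)) = n →
      ∃ (ι' : Type) (_ : Fintype ι') (_ : DecidableEq ι') (v' : ι' ⊕ ι' → (Fin m ⊕ Fin m → F))
        (π' : ι' → ι'), HypGram v' ∧ HypAct X v' π' ∧ Submodule.span F (Set.range v') = ⊤ := by
  intro n
  induction n using Nat.strong_induction_on with
  | _ n ih =>
  intro ι _ _ v π hG hA hn
  by_cases htop : Submodule.span F (Set.range v) = ⊤
  · exact ⟨ι, inferInstance, inferInstance, v, π, hG, hA, htop⟩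
  have hnd := hG.nd
  have hHX := hA.map_span
  have hKX := perp_invariant X hXf _ hHX
  have hKnd := perp_nondeg _ hnd
  have hK0 := exists_ne_zero_perp _ hnd htop
  obtain ⟨u₀, hu₀, w₀, hw₀, huw, hcase⟩ := step X hXf z hz hX2 _ hKX hKnd hK0
  have hu0 : u₀ ≠ 0 := by
    intro h
    apply huw
    rw [h, form_zero_left]
  have huH : u₀ ∉ Submodule.span F (Set.range v) := by
    intro h
    exact hu0 ((Submodule.disjoint_def.1 (disjoint_perp _ hnd)) u₀ h hu₀)
  have hG1 := hG.ext hu₀ hw₀ huw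
  have hlt1 := span_lt_optFam v u₀ w₀ huH
  have hfr1 := Submodule.finrank_lt_finrank_of_lt hlt1
  have hle : ∀ W : Submodule F (Fin m ⊕ Fin m → F), finrank F W ≤ 2 * m := by
    intro W
    have := Submodule.finrank_le W
    rwa [SpPair.finrank_space] at this
  rcases hcase with hX | ⟨h1, h2, h3, h4⟩
  · have hA1 := hA.ext1 hX
    have := hle (Submodule.span F (Set.range (optFam v u₀ w₀)))
    exact ih (2 * m - finrank F (Submodule.span F (Set.range (optFam v u₀ w₀)))) (by omega)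
      (Option ι) (optFam v u₀ w₀) (Option.map π) hG1 hA1 rfl
  · have hXu : X u₀ ∈ perp (Submodule.span F (Set.range (optFam v u₀ w₀))) := by
      apply mem_perp_span
      rintro _ ⟨k, rfl⟩
      rcases k with (_ | i) | (_ | i)
      · exact h1
      · exact (mem_perp _ _).1 (hKX u₀ hu₀) _ (Submodule.subset_span ⟨Sum.inl i, rfl⟩)
      · exact h3
      · exact (mem_perp _ _).1 (hKX u₀ hu₀) _ (Submodule.subset_span ⟨Sum.inr i, rfl⟩)
    have hXw : X w₀ ∈ perp (Submodule.span F (Set.range (optFam v u₀ w₀))) := by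
      apply mem_perp_span
      rintro _ ⟨k, rfl⟩
      rcases k with (_ | i) | (_ | i)
      · exact h2
      · exact (mem_perp _ _).1 (hKX w₀ hw₀) _ (Submodule.subset_span ⟨Sum.inl i, rfl⟩)
      · exact h4
      · exact (mem_perp _ _).1 (hKX w₀ hw₀) _ (Submodule.subset_span ⟨Sum.inr i, rfl⟩)
    have hG2 := hG1.ext hXu hXw (by rw [hXf]; exact huw)
    have hA2 := hA.ext2 hz hX2 u₀ w₀
    have hle2 : Submodule.span F (Set.range (optFam v u₀ w₀))
        ≤ Submodule.span F (Set.range (optFam (optFam v u₀ w₀) (X u₀) (X w₀))) := by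
      rw [range_optFam (optFam v u₀ w₀)]
      exact le_sup_left
    have hfr2 := Submodule.finrank_mono hle2
    have := hle (Submodule.span F (Set.range (optFam (optFam v u₀ w₀) (X u₀) (X w₀))))
    exact ih (2 * m - finrank F (Submodule.span F (Set.range (optFam (optFam v u₀ w₀) (X u₀) (X w₀)))))
      (by omega) (Option (Option ι)) (optFam (optFam v u₀ w₀) (X u₀) (X w₀)) (swapPi π) hG2 hA2 rfl

theorem exists_spanning (X : (Fin m ⊕ Fin m → F) →ₗ[F] (Fin m ⊕ Fin m → F))
    (hXf : ∀ u v, Cfsg.sympForm m F (X u) (X v) = Cfsg.sympForm m F u v)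
    (z : F) (hz : z ≠ 0) (hX2 : ∀ u, X (X u) = z • u) :
    ∃ (ι' : Type) (_ : Fintype ι') (_ : DecidableEq ι') (v' : ι' ⊕ ι' → (Fin m ⊕ Fin m → F))
        (π' : ι' → ι'), HypGram v' ∧ HypAct X v' π' ∧ Submodule.span F (Set.range v') = ⊤ := by
  refine grow X hXf z hz hX2 _ PEmpty (fun k => (k.elim PEmpty.elim PEmpty.elim)) id ?_ ?_ rfl
  · exact ⟨fun k => k.elim PEmpty.elim PEmpty.elim, fun i => i.elim⟩
  · exact ⟨fun i => rfl, fun i => i.elim⟩

end Cfsg.Agent.H9SpInv
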