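import Mathlib
import Cfsg.Agent.Lib.Helper9.SpInv6
import Cfsg.Agent.Lib.Helper9.InvPart2

set_option autoImplicit false

/-! From a spanning family of hyperbolic pairs permuted by `X` to an orthogonal decomposition. -/

namespace Cfsg.Agent.H9SpInv

open Cfsg.Agent.Lib.Helper1.SpBasic Cfsg.Agent.Lib.Helper2.Symp Cfsg.Agent.Lib.Helper2.SpIsom
  Cfsg.Agent.H9SpMax Matrix Module

variable {F : Type*} [Field F] {m : ℕ}

theorem form_span_span_zero (S T : Set (Fin m ⊕ Fin m → F))
    (h : ∀ s ∈ S, ∀ t ∈ T, Cfsg.sympForm m F s t = 0) :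
    ∀ u ∈ Submodule.span F S, ∀ w ∈ Submodule.span F T, Cfsg.sympForm m F u w = 0 := by
  intro u hu w hw
  have h1 : Submodule.span F T ≤ perp (Submodule.span F S) := by
    rw [Submodule.span_le]
    intro t ht
    exact mem_perp_span S t (fun s hs => h s hs t ht)
  exact (mem_perp _ _).1 (h1 hw) u hu

theorem hyp_decomp (X : (Fin m ⊕ Fin m → F) →ₗ[F] (Fin m ⊕ Fin m → F)) (hXinj : Function.Injective X)
    {ι : Type} [Fintype ι] [DecidableEq ι] (v : ι ⊕ ι → (Fin m ⊕ Fin m → F)) (π : ι → ι)
    (hG : HypGram v) (hA : HypAct X v π) (hspan : Submodule.span F (Set.range v) = ⊤)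
    (a' t : ℕ) (ha : 0 < a') (hcard : Fintype.card ι = a' * t) :
    ∃ D : Fin t → Submodule F (Fin m ⊕ Fin m → F), (∀ j, finrank F (D j) = 2 * a') ∧ iSupIndep D ∧
      iSup D = ⊤ ∧
      (∀ j, ∀ u ∈ D j, u ≠ 0 → ∃ w ∈ D j, Cfsg.sympForm m F u w ≠ 0) ∧
      (∀ j j', j ≠ j' → ∀ u ∈ D j, ∀ w ∈ D j', Cfsg.sympForm m F u w = 0) ∧
      ∃ σ : Equiv.Perm (Fin t), ∀ j, (D j).map X = D (σ j) := by
  classical
  obtain ⟨β, σ₀, hβ, hfib, hσ₀, hcomm⟩ := Cfsg.Agent.H9Inv.exists_partition π hA.inv
    (fun i => ((Fintype.equivFin ι i : Fin _) : ℕ))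
    (fun i j h => (Fintype.equivFin ι).injective (Fin.ext h)) a' ha t Finset.univ
    (fun i _ => Finset.mem_univ _) (by rw [Finset.card_univ, hcard])
  set b : ι ⊕ ι → ι := Sum.elim id id with hb
  have hbswap : ∀ k, b (Sum.swap k) = b k := by
    intro k; rcases k with i | i <;> rfl
  set D : Fin t → Submodule F (Fin m ⊕ Fin m → F) :=
    fun j => Submodule.span F (v '' {k | β (b k) = (j : ℕ)}) with hD
  have hv := hG.li
  have hfin : ∀ j, finrank F (D j) = 2 * a' := by
    intro j
    have hli : LinearIndependent F (fun k : {k // β (b k) = (j : ℕ)} => v k) :=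
      hv.comp _ Subtype.val_injective
    have hr : Set.range (fun k : {k // β (b k) = (j : ℕ)} => v k) = v '' {k | β (b k) = (j : ℕ)} := by
      have : (fun k : {k // β (b k) = (j : ℕ)} => v k) = v ∘ Subtype.val := rfl
      rw [this, Set.range_comp]
      congr 1
      exact Subtype.range_coe
    have h1 := finrank_span_eq_card hli
    rw [hr] at h1
    rw [hD]
    simp only
    rw [h1]
    have h2 : Fintype.card {i // β i = (j : ℕ)} = a' := by
      rw [Fintype.card_subtype]
      have := hfib j j.2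
      convert this using 2
    rw [Fintype.card_congr (Equiv.subtypeSum (p := fun k : ι ⊕ ι => β (b k) = (j : ℕ))),
      Fintype.card_sum]
    have h3 : Fintype.card {i : ι // β (b (Sum.inl i)) = (j : ℕ)} = a' := by
      rw [← h2]; rfl
    have h4 : Fintype.card {i : ι // β (b (Sum.inr i)) = (j : ℕ)} = a' := by
      rw [← h2]; rfl
    rw [h3, h4]
    ring
  have hindep : iSupIndep D := by
    rw [iSupIndep_def]
    intro j
    have hle : (⨆ k, ⨆ (_ : k ≠ j), D k) ≤ Submodule.span F (v '' {k | β (b k) ≠ (j : ℕ)}) := by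
      refine iSup_le fun k => iSup_le fun hk => ?_
      apply Submodule.span_mono
      apply Set.image_mono
      intro i hi
      simp only [Set.mem_setOf_eq] at hi ⊢
      rw [hi]
      intro h
      exact hk (Fin.ext h)
    refine Disjoint.mono_right hle ?_
    apply hv.disjoint_span_image
    rw [Set.disjoint_left]
    intro i h1 h2
    exact h2 h1
  have htop : iSup D = ⊤ := by
    rw [eq_top_iff, ← hspan, Submodule.span_le]
    rintro _ ⟨k, rfl⟩
    have hi : β (b k) < t := hβ (b k) (Finset.mem_univ _)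
    apply Submodule.mem_iSup_of_mem ⟨β (b k), hi⟩
    exact Submodule.subset_span ⟨k, rfl, rfl⟩
  have horth : ∀ j j', j ≠ j' → ∀ u ∈ D j, ∀ w ∈ D j', Cfsg.sympForm m F u w = 0 := by
    intro j j' hjj'
    apply form_span_span_zero
    rintro _ ⟨k, hk, rfl⟩ _ ⟨l, hl, rfl⟩
    simp only [Set.mem_setOf_eq] at hk hl
    apply hG.orth
    intro h
    apply hjj'
    apply Fin.ext
    rw [← hk, ← hl, h, hbswap]
  have hnd : ∀ j, ∀ u ∈ D j, u ≠ 0 → ∃ w ∈ D j, Cfsg.sympForm m F u w ≠ 0 := by
    intro j u hu hu0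
    by_contra hcon
    push Not at hcon
    apply hu0
    apply sympForm_nondeg
    intro y
    have h1 : iSup D ≤ perp (Submodule.span F {u}) := by
      apply iSup_le
      intro j' y hy
      apply mem_perp_span
      intro s hs
      rw [Set.mem_singleton_iff.1 hs]
      by_cases hjj' : j = j'
      · subst hjj'
        exact hcon y hy
      · exact horth j j' hjj' u hu y hy
    have h2 : y ∈ perp (Submodule.span F {u}) := by
      apply h1
      rw [htop]
      trivial
    exact (mem_perp _ _).1 h2 u (Submodule.subset_span rfl)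
  have hplane : ∀ i, Submodule.span F {v (Sum.inl i), v (Sum.inr i)} ≤
      D ⟨β i, hβ i (Finset.mem_univ _)⟩ := by
    intro i
    rw [Submodule.span_le]
    intro x hx
    rcases hx with hx | hx
    · rw [hx]; exact Submodule.subset_span ⟨Sum.inl i, rfl, rfl⟩
    · rw [Set.mem_singleton_iff.1 hx]; exact Submodule.subset_span ⟨Sum.inr i, rfl, rfl⟩
  set σ : Fin t → Fin t := fun j => ⟨σ₀ j, hσ₀ j j.2⟩ with hσ
  have hmap : ∀ j, (D j).map X = D (σ j) := by
    intro j
    have hle : (D j).map X ≤ D (σ j) := by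
      have : D j = Submodule.span F (v '' {k | β (b k) = (j : ℕ)}) := rfl
      rw [this, Submodule.map_span, Submodule.span_le]
      rintro _ ⟨_, ⟨k, hk, rfl⟩, rfl⟩
      simp only [Set.mem_setOf_eq] at hk
      have h1 := Submodule.mem_map_of_mem (f := X) (mem_plane v k)
      rw [hA.act] at h1
      have h2 := hplane _ h1
      have h3 : (⟨β (π (Sum.elim id id k)), hβ _ (Finset.mem_univ _)⟩ : Fin t) = σ j := by
        apply Fin.ext
        show β (π (b k)) = σ₀ j
        rw [hcomm _ (Finset.mem_univ _), hk]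
      rw [h3] at h2
      exact h2
    apply Submodule.eq_of_le_of_finrank_eq hle
    rw [hfin, ← (Submodule.equivMapOfInjective X hXinj (D j)).finrank_eq, hfin]
  have hne : ∀ j, D j ≠ ⊥ := by
    intro j h
    have := hfin j
    rw [h, finrank_bot] at this
    omega
  have hσinj : Function.Injective σ := by
    intro j j' h
    have h1 : (D j).map X = (D j').map X := by rw [hmap, hmap, h]
    have h2 := Submodule.map_injective_of_injective hXinj h1
    exact hindep.injective hne h2
  refine ⟨D, hfin, hindep, htop, hnd, horth,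
    Equiv.ofBijective σ (Finite.injective_iff_bijective.1 hσinj), ?_⟩
  intro j
  rw [hmap j]
  rfl

end Cfsg.Agent.H9SpInv
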