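import Mathlib

set_option autoImplicit false

namespace Cfsg.Agent.Lib.Helper9.SpOm

section Pure
variable {G : Type*} [Group G]

theorem card_le_of_forall_mem_list (S : Subgroup G) (l : List G) (h : ∀ x ∈ S, x ∈ l) :
    Nat.card S ≤ l.length := by
  classical
  have h1 : Nat.card S = (S : Set G).ncard := Nat.card_coe_set_eq (S : Set G)
  rw [h1]
  have h2 : (S : Set G) ⊆ ↑l.toFinset := by
    intro x hx
    simp only [Finset.mem_coe, List.mem_toFinset]
    exact h x hx
  calc (S : Set G).ncard ≤ (↑l.toFinset : Set G).ncard :=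
        Set.ncard_le_ncard h2 (Finset.finite_toSet _)
    _ = l.toFinset.card := Set.ncard_coe_finset _
    _ ≤ l.length := List.toFinset_card_le l

/-- Case A: no non-scalar involutions: order at most 8. -/
theorem card_le_eight (n : G) (hn : ∀ g, n * g = g * n) (hnn : n * n = 1) (S : Subgroup G)
    (hsq : ∀ g ∈ S, g * g = 1 ∨ g * g = n)
    (hA : ∀ g ∈ S, g * g = 1 → g = 1 ∨ g = n) (hnS : n ∈ S)
    (hc : ∀ g ∈ S, ∀ h ∈ S, g * h = h * g ∨ g * h = n * (h * g)) : Nat.card S ≤ 8 := by
  have hninv : n⁻¹ = n := inv_eq_of_mul_eq_one_right hnn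
  have hsq' : ∀ g ∈ S, ¬(g = 1 ∨ g = n) → g * g = n := by
    intro g hg hns
    rcases hsq g hg with h | h
    · exact absurd (hA g hg h) hns
    · exact h
  have A2 : ∀ g ∈ S, ∀ h ∈ S, ¬(g = 1 ∨ g = n) → ¬(h = 1 ∨ h = n) → g * h = h * g →
      h = g ∨ h = n * g := by
    intro g hg h hh hgs hhs hgh
    have hgg := hsq' g hg hgs
    have hhh := hsq' h hh hhs
    have hk : g * h⁻¹ ∈ S := S.mul_mem hg (S.inv_mem hh)
    have hcomm : Commute h⁻¹ g := (Commute.inv_left (show Commute h g from hgh.symm))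
    have hkk : g * h⁻¹ * (g * h⁻¹) = 1 := by
      rw [hcomm.mul_mul_mul_comm g h⁻¹, hgg, ← mul_inv_rev, hhh, hninv, hnn]
    rcases hA _ hk hkk with h1 | h1
    · left
      exact (mul_inv_eq_one.mp h1).symm
    · right
      have h2 : g = n * h := by rw [← h1, inv_mul_cancel_right]
      rw [h2, ← mul_assoc, hnn, one_mul]
  by_cases c1 : ∀ g ∈ S, g = 1 ∨ g = n
  · refine (card_le_of_forall_mem_list S [1, n] ?_).trans (by norm_num)
    intro x hx
    rcases c1 x hx with h | h <;> simp [h]
  push Not at c1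
  obtain ⟨g, hg, hg1, hgn⟩ := c1
  have hgs : ¬(g = 1 ∨ g = n) := by
    rintro (h | h)
    · exact hg1 h
    · exact hgn h
  by_cases c2 : ∀ h ∈ S, h = 1 ∨ h = n ∨ h = g ∨ h = n * g
  · refine (card_le_of_forall_mem_list S [1, n, g, n * g] ?_).trans (by norm_num)
    intro x hx
    rcases c2 x hx with h | h | h | h <;> simp [h]
  push Not at c2
  obtain ⟨h, hh, hh1, hhn, hhg, hhng⟩ := c2
  have hhs : ¬(h = 1 ∨ h = n) := by
    rintro (h' | h')
    · exact hh1 h'
    · exact hhn h'
  have hgg := hsq' g hg hgs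
  have hginv : g⁻¹ = n * g := by
    apply inv_eq_of_mul_eq_one_right
    rw [← mul_assoc, ← hn g, mul_assoc, hgg, hnn]
  have hghS : g * h ∈ S := S.mul_mem hg hh
  have hghs : ¬(g * h = 1 ∨ g * h = n) := by
    rintro (h' | h')
    · apply hhng
      rw [← hginv]
      exact (inv_eq_of_mul_eq_one_right h').symm
    · apply hhg
      have : h = g⁻¹ * n := by rw [← h', inv_mul_cancel_left]
      rw [this, hginv, mul_assoc, ← hn g, ← mul_assoc, hnn, one_mul]
  refine (card_le_of_forall_mem_list S [1, n, g, n * g, h, n * h, g * h, n * (g * h)] ?_).trans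
    (by norm_num)
  intro k hk
  by_cases ks : k = 1 ∨ k = n
  · rcases ks with h' | h' <;> simp [h']
  by_cases kg : g * k = k * g
  · rcases A2 g hg k hk hgs ks kg with h' | h' <;> simp [h']
  by_cases kh : h * k = k * h
  · rcases A2 h hh k hk hhs ks kh with h' | h' <;> simp [h']
  have kg' : g * k = n * (k * g) := (hc g hg k hk).resolve_left kg
  have kh' : h * k = n * (k * h) := (hc h hh k hk).resolve_left kh
  have kgh : g * h * k = k * (g * h) := by
    calc g * h * k = g * (h * k) := mul_assoc _ _ _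
      _ = g * (n * (k * h)) := by rw [kh']
      _ = n * (g * k * h) := by rw [← mul_assoc g n, ← hn g, mul_assoc n, mul_assoc g k h]
      _ = n * (n * (k * g) * h) := by rw [kg']
      _ = n * n * (k * (g * h)) := by simp only [mul_assoc]
      _ = k * (g * h) := by rw [hnn, one_mul]
  rcases A2 (g * h) hghS k hk hghs ks kgh with h' | h' <;> simp [h']

/-- the centraliser of an element in a group with the (anti)commutation property has
index at most two. -/
theorem card_le_two_mul_centralizer (n : G) (hn : ∀ g, n * g = g * n) (hnn : n * n = 1)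
    (S : Subgroup G) [Finite S] (g : G)
    (hc : ∀ h ∈ S, g * h = h * g ∨ g * h = n * (h * g)) :
    Nat.card S ≤ 2 * Nat.card (S ⊓ Subgroup.centralizer {g} : Subgroup G) := by
  classical
  set S₀ : Subgroup G := S ⊓ Subgroup.centralizer {g} with hS₀
  have hmem : ∀ k, k ∈ S₀ ↔ k ∈ S ∧ g * k = k * g := by
    intro k
    rw [hS₀, Subgroup.mem_inf, Subgroup.mem_centralizer_iff]
    simp
  have hfinS : (S : Set G).Finite := Set.toFinite _
  have hfin0 : (S₀ : Set G).Finite := hfinS.subset (fun x hx => ((hmem x).1 hx).1)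
  have e1 : Nat.card S = (S : Set G).ncard := Nat.card_coe_set_eq (S : Set G)
  have e2 : Nat.card S₀ = (S₀ : Set G).ncard := Nat.card_coe_set_eq (S₀ : Set G)
  rw [e1, e2]
  by_cases hall : ∀ h ∈ S, g * h = h * g
  · have : (S : Set G) ⊆ (S₀ : Set G) := fun x hx => (hmem x).2 ⟨hx, hall x hx⟩
    exact (Set.ncard_le_ncard this hfin0).trans (by omega)
  push Not at hall
  obtain ⟨t, ht, htg⟩ := hall
  have htg' : g * t = n * (t * g) := (hc t ht).resolve_left htg
  have hninv : n⁻¹ = n := inv_eq_of_mul_eq_one_right hnn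
  -- t⁻¹ * g = n * (g * t⁻¹)
  have htinv : t⁻¹ * g = n * (g * t⁻¹) := by
    have h1 : t⁻¹ * (g * t) * t⁻¹ = t⁻¹ * (n * (t * g)) * t⁻¹ := by rw [htg']
    have h2 : t⁻¹ * (g * t) * t⁻¹ = t⁻¹ * g := by
      simp only [mul_assoc, mul_inv_cancel, mul_one]
    have h3 : t⁻¹ * (n * (t * g)) * t⁻¹ = n * (g * t⁻¹) := by
      rw [← mul_assoc t⁻¹ n, ← hn t⁻¹]
      simp only [mul_assoc, inv_mul_cancel_left]
    rw [← h2, h1, h3]
  have hsub : (S : Set G) ⊆ (S₀ : Set G) ∪ (fun x => t * x) '' (S₀ : Set G) := by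
    intro k hk
    by_cases hkg : g * k = k * g
    · exact Or.inl ((hmem k).2 ⟨hk, hkg⟩)
    · right
      have hkg' : g * k = n * (k * g) := (hc k hk).resolve_left hkg
      refine ⟨t⁻¹ * k, (hmem _).2 ⟨S.mul_mem (S.inv_mem ht) hk, ?_⟩, by simp⟩
      have hkg2 : k * g = n * (g * k) := by
        rw [hkg', ← mul_assoc, hnn, one_mul]
      calc g * (t⁻¹ * k) = n * n * (g * (t⁻¹ * k)) := by rw [hnn, one_mul]
        _ = n * (n * (g * t⁻¹)) * k := by simp only [mul_assoc]
        _ = n * (t⁻¹ * g) * k := by rw [htinv]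
        _ = t⁻¹ * (n * (g * k)) := by
            rw [← mul_assoc n t⁻¹, hn t⁻¹]
            simp only [mul_assoc]
        _ = t⁻¹ * (k * g) := by rw [hkg2]
        _ = t⁻¹ * k * g := (mul_assoc _ _ _).symm
  calc (S : Set G).ncard ≤ ((S₀ : Set G) ∪ (fun x => t * x) '' (S₀ : Set G)).ncard :=
        Set.ncard_le_ncard hsub (hfin0.union (hfin0.image _))
    _ ≤ (S₀ : Set G).ncard + ((fun x => t * x) '' (S₀ : Set G)).ncard := Set.ncard_union_le _ _
    _ ≤ (S₀ : Set G).ncard + (S₀ : Set G).ncard := by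
        have := Set.ncard_image_le (f := fun x => t * x) hfin0
        omega
    _ = 2 * (S₀ : Set G).ncard := by ring

/-- transfer of an elementary abelian subgroup along an injective homomorphism to the
central quotient of the commutator subgroup. -/
theorem exists_elemAb_of_hom {G' : Type*} [Group G'] (Ξ : G' →* G)
    (hΞ : Function.Injective Ξ) (E : Subgroup G') (hE2 : ∀ x ∈ E, x * x = 1)
    (hEc : E ≤ commutator G')
    (hEnc : ∀ x ∈ E, x ≠ 1 → ∃ w ∈ commutator G', w * x ≠ x * w) :
    ∃ H : Subgroup (commutator G ⧸ Subgroup.center (commutator G)),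
      (∀ h ∈ H, h * h = 1) ∧ Nat.card H = Nat.card E := by
  have hmap : ∀ x ∈ commutator G', Ξ x ∈ commutator G := by
    intro x hx
    rw [← Abelianization.ker_of, MonoidHom.mem_ker]
    have h1 : x ∈ ((Abelianization.of (G := G)).comp Ξ).ker := by
      rw [← Abelianization.ker_of] at hx
      have : (Abelianization.of (G := G')).ker ≤ ((Abelianization.of (G := G)).comp Ξ).ker := by
        intro y hy
        rw [MonoidHom.mem_ker] at hy ⊢
        have h2 : ((Abelianization.of (G := G)).comp Ξ) =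
            (Abelianization.lift ((Abelianization.of (G := G)).comp Ξ)).comp
              (Abelianization.of (G := G')) := by
          ext z
          simp
        rw [h2, MonoidHom.comp_apply, hy, map_one]
      exact this hx
    exact h1
  let φ₀ : E →* commutator G :=
    { toFun := fun x => ⟨Ξ x.1, hmap x.1 (hEc x.2)⟩
      map_one' := by
        apply Subtype.ext
        simp
      map_mul' := by
        intro a b
        apply Subtype.ext
        simp }
  let φ : E →* commutator G ⧸ Subgroup.center (commutator G) :=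
    (QuotientGroup.mk' _).comp φ₀
  have hφ : Function.Injective φ := by
    rw [injective_iff_map_eq_one]
    intro x hx
    by_contra hx1
    have hx1' : x.1 ≠ 1 := fun h => hx1 (Subtype.ext h)
    obtain ⟨w, hw, hwx⟩ := hEnc x.1 x.2 hx1'
    have h1 : φ₀ x ∈ Subgroup.center (commutator G) := by
      have : (QuotientGroup.mk' (Subgroup.center (commutator G))) (φ₀ x) = 1 := hx
      rwa [QuotientGroup.mk'_apply, QuotientGroup.eq_one_iff] at this
    have h2 := Subgroup.mem_center_iff.mp h1 ⟨Ξ w, hmap w hw⟩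
    have h3 : Ξ w * Ξ x.1 = Ξ x.1 * Ξ w := congrArg Subtype.val h2
    rw [← map_mul, ← map_mul] at h3
    exact hwx (hΞ h3)
  refine ⟨φ.range, ?_, ?_⟩
  · rintro _ ⟨x, rfl⟩
    rw [← map_mul]
    have : x * x = 1 := Subtype.ext (hE2 x.1 x.2)
    rw [this, map_one]
  · exact (Nat.card_congr (MonoidHom.ofInjective hφ).toEquiv).symm

end Pure

end Cfsg.Agent.Lib.Helper9.SpOm
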