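import Mathlib
import Cfsg.Agent.Lib.Helper9.SpOmA

set_option autoImplicit false

namespace Cfsg.Agent.Lib.Helper9.SpOm

section Lin
variable {K : Type*} {V : Type*} [Field K] [AddCommGroup V] [Module K V]

/-- the +1 eigenspace -/
def fixSub (g : V ≃ₗ[K] V) : Submodule K V :=
  LinearMap.eqLocus (g : V →ₗ[K] V) LinearMap.id

theorem mem_fixSub {g : V ≃ₗ[K] V} {v : V} : v ∈ fixSub g ↔ g v = v := by
  unfold fixSub
  rw [LinearMap.mem_eqLocus]
  simp

/-- negation as an element of the group of linear automorphisms -/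
abbrev ngL (K : Type*) (V : Type*) [Field K] [AddCommGroup V] [Module K V] : V ≃ₗ[K] V :=
  LinearEquiv.neg K

theorem ngL_mul_apply (g : V ≃ₗ[K] V) (v : V) : (ngL K V * g) v = -(g v) := by
  rw [LinearEquiv.mul_apply, LinearEquiv.neg_apply]

theorem ngL_comm (g : V ≃ₗ[K] V) : ngL K V * g = g * ngL K V := by
  ext v
  simp [LinearEquiv.mul_apply]

theorem ngL_mul_self : ngL K V * ngL K V = 1 := by
  ext v
  simp [LinearEquiv.mul_apply]

/-- the -1 eigenspace -/
abbrev negSub (g : V ≃ₗ[K] V) : Submodule K V := fixSub (ngL K V * g)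

theorem mem_negSub {g : V ≃ₗ[K] V} {v : V} : v ∈ negSub g ↔ g v = -v := by
  rw [mem_fixSub, ngL_mul_apply, neg_eq_iff_eq_neg]

theorem half_add_half (h2 : (2 : K) ≠ 0) (x : V) :
    (2⁻¹ : K) • x + (2⁻¹ : K) • x = x := by
  rw [← add_smul, ← two_mul, mul_inv_cancel₀ h2, one_smul]

theorem eq_zero_of_eq_neg (h2 : (2 : K) ≠ 0) {x : V} (h : x = -x) : x = 0 := by
  have h1 : (2 : K) • x = 0 := by
    rw [two_smul]
    nth_rewrite 1 [h]
    exact neg_add_cancel x
  rcases smul_eq_zero.mp h1 with h3 | h3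
  · exact absurd h3 h2
  · exact h3

/-- projection to the +1 eigenspace of an involution -/
def pPlus (g : V ≃ₗ[K] V) (v : V) : V := (2⁻¹ : K) • (v + g v)

/-- projection to the -1 eigenspace of an involution -/
def pMinus (g : V ≃ₗ[K] V) (v : V) : V := (2⁻¹ : K) • (v - g v)

theorem pPlus_add_pMinus (h2 : (2 : K) ≠ 0) (g : V ≃ₗ[K] V) (v : V) :
    pPlus g v + pMinus g v = v := by
  unfold pPlus pMinus
  rw [← smul_add]
  have : v + g v + (v - g v) = v + v := by abel
  rw [this, smul_add, half_add_half h2]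

theorem pPlus_mem {g : V ≃ₗ[K] V} (hg : g * g = 1) (v : V) : pPlus g v ∈ fixSub g := by
  rw [mem_fixSub]
  unfold pPlus
  have h1 : g (g v) = v := by
    have := LinearEquiv.congr_fun hg v
    simpa [LinearEquiv.mul_apply] using this
  rw [map_smul, map_add, h1, add_comm]

theorem pMinus_mem {g : V ≃ₗ[K] V} (hg : g * g = 1) (v : V) : pMinus g v ∈ negSub g := by
  rw [mem_negSub]
  unfold pMinus
  have h1 : g (g v) = v := by
    have := LinearEquiv.congr_fun hg v
    simpa [LinearEquiv.mul_apply] using this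
  rw [map_smul, map_sub, h1, ← smul_neg, neg_sub]

theorem isCompl_fix_neg (h2 : (2 : K) ≠ 0) {g : V ≃ₗ[K] V} (hg : g * g = 1) :
    IsCompl (fixSub g) (negSub g) := by
  constructor
  · rw [Submodule.disjoint_def]
    intro x hx hx'
    rw [mem_fixSub] at hx
    rw [mem_negSub] at hx'
    exact eq_zero_of_eq_neg h2 (hx.symm.trans hx')
  · rw [codisjoint_iff, Submodule.eq_top_iff']
    intro x
    rw [Submodule.mem_sup]
    exact ⟨pPlus g x, pPlus_mem hg x, pMinus g x, pMinus_mem hg x, pPlus_add_pMinus h2 g x⟩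

theorem finrank_fix_add_neg [FiniteDimensional K V] (h2 : (2 : K) ≠ 0) {g : V ≃ₗ[K] V}
    (hg : g * g = 1) :
    Module.finrank K (fixSub g) + Module.finrank K (negSub g) = Module.finrank K V :=
  Submodule.finrank_add_eq_of_isCompl (isCompl_fix_neg h2 hg)

theorem fixSub_ne_bot (h2 : (2 : K) ≠ 0) {g : V ≃ₗ[K] V} (hg : g * g = 1)
    (hgn : g ≠ ngL K V) : fixSub g ≠ ⊥ := by
  intro hbot
  apply hgn
  ext v
  have h1 := pPlus_mem hg v
  rw [hbot, Submodule.mem_bot] at h1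
  unfold pPlus at h1
  rcases smul_eq_zero.mp h1 with h3 | h3
  · exact absurd (inv_eq_zero.mp h3) h2
  · rw [LinearEquiv.neg_apply]
    exact (neg_eq_of_add_eq_zero_right h3).symm

theorem ngL_mul_sq {g : V ≃ₗ[K] V} (hg : g * g = 1) : (ngL K V * g) * (ngL K V * g) = 1 := by
  rw [mul_assoc, ← mul_assoc g, ← ngL_comm g, mul_assoc, hg, mul_one, ngL_mul_self]

theorem negSub_ne_bot (h2 : (2 : K) ≠ 0) {g : V ≃ₗ[K] V} (hg : g * g = 1)
    (hg1 : g ≠ 1) : negSub g ≠ ⊥ := by
  apply fixSub_ne_bot h2 (ngL_mul_sq hg)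
  intro h
  apply hg1
  have : ngL K V * (ngL K V * g) = ngL K V * ngL K V := by rw [h]
  rwa [← mul_assoc, ngL_mul_self, one_mul] at this

theorem negSub_ngL_mul (g : V ≃ₗ[K] V) : negSub (ngL K V * g) = fixSub g := by
  unfold negSub
  rw [← mul_assoc, ngL_mul_self, one_mul]

/-! ### alternating forms -/

variable (B : V →ₗ[K] V →ₗ[K] K)

theorem two_le_finrank_of_alt_nondeg [FiniteDimensional K V] (hA : ∀ v, B v v = 0)
    (hN : ∀ v, (∀ w, B v w = 0) → v = 0) (hV : Nontrivial V) :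
    2 ≤ Module.finrank K V := by
  have hpos : 0 < Module.finrank K V := Module.finrank_pos
  by_contra hlt
  have h1 : Module.finrank K V = 1 := by omega
  obtain ⟨v, hv, hspan⟩ := finrank_eq_one_iff'.mp h1
  apply hv
  apply hN
  intro w
  obtain ⟨c, rfl⟩ := hspan w
  rw [map_smul, hA, smul_zero]

theorem orth_fix_neg (h2 : (2 : K) ≠ 0) {g : V ≃ₗ[K] V}
    (hp : ∀ u v, B (g u) (g v) = B u v) {u v : V} (hu : u ∈ fixSub g) (hv : v ∈ negSub g) :
    B u v = 0 := by
  rw [mem_fixSub] at hu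
  rw [mem_negSub] at hv
  have h1 := hp u v
  rw [hu, hv, map_neg] at h1
  have h3 : B u v = -(B u v) := h1.symm
  have h4 : (2 : K) * B u v = 0 := by
    rw [two_mul]
    nth_rewrite 1 [h3]
    exact neg_add_cancel _
  rcases mul_eq_zero.mp h4 with h5 | h5
  · exact absurd h5 h2
  · exact h5

theorem nondeg_fixSub (h2 : (2 : K) ≠ 0) {g : V ≃ₗ[K] V} (hg : g * g = 1)
    (hp : ∀ u v, B (g u) (g v) = B u v) (hN : ∀ v, (∀ w, B v w = 0) → v = 0) :
    ∀ v : fixSub g, (∀ w : fixSub g, (B.domRestrict₁₂ (fixSub g) (fixSub g)) v w = 0) → v = 0 := by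
  intro v hv
  apply Subtype.ext
  apply hN
  intro x
  rw [← pPlus_add_pMinus h2 g x, map_add]
  have h1 := hv ⟨pPlus g x, pPlus_mem hg x⟩
  rw [LinearMap.domRestrict₁₂_apply] at h1
  rw [h1, orth_fix_neg B h2 hp v.2 (pMinus_mem hg x), add_zero]

theorem ngL_mul_pres {g : V ≃ₗ[K] V} (hp : ∀ u v, B (g u) (g v) = B u v) :
    ∀ u v, B ((ngL K V * g) u) ((ngL K V * g) v) = B u v := by
  intro u v
  rw [ngL_mul_apply, ngL_mul_apply, map_neg, map_neg, LinearMap.neg_apply, neg_neg, hp]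

theorem nondeg_negSub (h2 : (2 : K) ≠ 0) {g : V ≃ₗ[K] V} (hg : g * g = 1)
    (hp : ∀ u v, B (g u) (g v) = B u v) (hN : ∀ v, (∀ w, B v w = 0) → v = 0) :
    ∀ v : negSub g, (∀ w : negSub g, (B.domRestrict₁₂ (negSub g) (negSub g)) v w = 0) → v = 0 :=
  nondeg_fixSub B h2 (ngL_mul_sq hg) (ngL_mul_pres B hp) hN

/-! ### restriction to an invariant subspace -/

/-- restriction of a linear automorphism to an invariant subspace -/
def resEquiv (W : Submodule K V) (g : V ≃ₗ[K] V) (h1 : ∀ w ∈ W, g w ∈ W)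
    (h2 : ∀ w ∈ W, g.symm w ∈ W) : W ≃ₗ[K] W where
  toFun := fun w => ⟨g w, h1 w w.2⟩
  map_add' := fun a b => Subtype.ext (by simp)
  map_smul' := fun c a => Subtype.ext (by simp)
  invFun := fun w => ⟨g.symm w, h2 w w.2⟩
  left_inv := fun a => Subtype.ext (by simp)
  right_inv := fun a => Subtype.ext (by simp)

/-- restriction homomorphism of a group of linear automorphisms stabilising a subspace -/
def resHom (S : Subgroup (V ≃ₗ[K] V)) (W : Submodule K V)
    (hS : ∀ g ∈ S, ∀ w ∈ W, g w ∈ W) : S →* (W ≃ₗ[K] W) where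
  toFun := fun g => resEquiv W g.1 (hS g.1 g.2) (fun w hw => hS g.1⁻¹ (S.inv_mem g.2) w hw)
  map_one' := by
    ext w
    rfl
  map_mul' := by
    intro a b
    ext w
    rfl

theorem resHom_apply (S : Subgroup (V ≃ₗ[K] V)) (W : Submodule K V)
    (hS : ∀ g ∈ S, ∀ w ∈ W, g w ∈ W) (g : S) (w : W) :
    ((resHom S W hS g) w : V) = g.1 w := rfl

theorem resHom_ngL (S : Subgroup (V ≃ₗ[K] V)) (W : Submodule K V)
    (hS : ∀ g ∈ S, ∀ w ∈ W, g w ∈ W) (hn : ngL K V ∈ S) :
    resHom S W hS ⟨ngL K V, hn⟩ = ngL K W := by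
  ext w
  rw [resHom_apply]
  simp

end Lin

end Cfsg.Agent.Lib.Helper9.SpOm
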