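import Mathlib
import Cfsg.Agent.Lib.Helper9.SpOmB

set_option autoImplicit false

namespace Cfsg.Agent.Lib.Helper9.SpOm

universe u v

section SubE

theorem card_le_one_of_finrank_zero {K : Type v} [Field K] {V : Type u} [AddCommGroup V]
    [Module K V] [FiniteDimensional K V] (E : Subgroup (V ≃ₗ[K] V))
    (hn : Module.finrank K V = 0) : Nat.card E ≤ 1 := by
  haveI : Subsingleton V := Module.finrank_zero_iff.mp hn
  haveI : Subsingleton E :=
    ⟨fun a b => Subtype.ext (LinearEquiv.ext fun v => Subsingleton.elim _ _)⟩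
  exact Finite.card_le_one_iff_subsingleton.mpr inferInstance

theorem finite_range' {G N : Type*} [Group G] [Group N] [Finite G] (f : G →* N) :
    Finite f.range :=
  Finite.of_surjective f.rangeRestrict f.rangeRestrict_surjective

theorem card_le_of_elemAb {K : Type v} [Field K] (h2 : (2 : K) ≠ 0) (n : ℕ) :
    ∀ {V : Type u} [AddCommGroup V] [Module K V] [FiniteDimensional K V]
      (B : V →ₗ[K] V →ₗ[K] K) (_ : ∀ v, B v v = 0) (_ : ∀ v, (∀ w, B v w = 0) → v = 0)
      (E : Subgroup (V ≃ₗ[K] V)) [Finite E]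
      (_ : ∀ g ∈ E, ∀ u v, B (g u) (g v) = B u v)
      (_ : ∀ g ∈ E, g * g = 1) (_ : ∀ g ∈ E, ∀ h ∈ E, g * h = h * g),
      Module.finrank K V = n → Nat.card E ≤ 2 ^ (n / 2) := by
  induction n using Nat.strong_induction_on with
  | _ n ih =>
  intro V _ _ _ B hA hN E _ hp hinv hc hn
  by_cases hsc : ∀ g ∈ E, g = 1 ∨ g = ngL K V
  · rcases Nat.eq_zero_or_pos n with h0 | hpos
    · subst h0
      exact (card_le_one_of_finrank_zero E hn).trans (by simp)
    · have hV : Nontrivial V := Module.nontrivial_of_finrank_pos (R := K) (hn ▸ hpos)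
      have h2n : 2 ≤ n := hn ▸ two_le_finrank_of_alt_nondeg B hA hN hV
      have h1 := card_le_of_forall_mem_list E [1, ngL K V]
        (fun x hx => by rcases hsc x hx with h | h <;> simp [h])
      calc Nat.card E ≤ 2 := h1
        _ = 2 ^ 1 := rfl
        _ ≤ 2 ^ (n / 2) := Nat.pow_le_pow_right (by norm_num) (by omega)
  · push Not at hsc
    obtain ⟨g, hgE, hg1, hgn⟩ := hsc
    have hgg := hinv g hgE
    have hS1 : ∀ h ∈ E, ∀ w ∈ fixSub g, h w ∈ fixSub g := by
      intro h hh w hw
      rw [mem_fixSub] at hw ⊢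
      have := LinearEquiv.congr_fun (hc g hgE h hh) w
      rw [LinearEquiv.mul_apply, LinearEquiv.mul_apply, hw] at this
      exact this
    have hS2 : ∀ h ∈ E, ∀ w ∈ negSub g, h w ∈ negSub g := by
      intro h hh w hw
      rw [mem_negSub] at hw ⊢
      have := LinearEquiv.congr_fun (hc g hgE h hh) w
      rw [LinearEquiv.mul_apply, LinearEquiv.mul_apply, hw, map_neg] at this
      exact this
    have hd := finrank_fix_add_neg (V := V) h2 hgg
    have hd1 : 0 < Module.finrank K (fixSub g) := by
      rw [Nat.pos_iff_ne_zero, Ne, Submodule.finrank_eq_zero]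
      exact fixSub_ne_bot h2 hgg hgn
    have hd2 : 0 < Module.finrank K (negSub g) := by
      rw [Nat.pos_iff_ne_zero, Ne, Submodule.finrank_eq_zero]
      exact negSub_ne_bot h2 hgg hg1
    have key : ∀ (W : Submodule K V) (hS : ∀ h ∈ E, ∀ w ∈ W, h w ∈ W)
        (_ : ∀ v : W, (∀ w : W, (B.domRestrict₁₂ W W) v w = 0) → v = 0)
        (_ : Module.finrank K W < n),
        Nat.card (resHom E W hS).range ≤ 2 ^ (Module.finrank K W / 2) := by
      intro W hS hNW hlt
      haveI := finite_range' (resHom E W hS)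
      refine ih (Module.finrank K W) hlt (B.domRestrict₁₂ W W) ?_ hNW (resHom E W hS).range
        ?_ ?_ ?_ rfl
      · intro v
        rw [LinearMap.domRestrict₁₂_apply]
        exact hA v
      · rintro _ ⟨h, rfl⟩ u v
        rw [LinearMap.domRestrict₁₂_apply, LinearMap.domRestrict₁₂_apply, resHom_apply,
          resHom_apply]
        exact hp h.1 h.2 u v
      · rintro _ ⟨h, rfl⟩
        rw [← map_mul]
        have : h * h = 1 := Subtype.ext (hinv h.1 h.2)
        rw [this, map_one]
      · rintro _ ⟨h, rfl⟩ _ ⟨h', rfl⟩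
        rw [← map_mul, ← map_mul]
        congr 1
        exact Subtype.ext (hc _ h.2 _ h'.2)
    have k1 := key (fixSub g) hS1 (nondeg_fixSub B h2 hgg (hp g hgE) hN) (by omega)
    have k2 := key (negSub g) hS2 (nondeg_negSub B h2 hgg (hp g hgE) hN) (by omega)
    set ρ₁ := resHom E (fixSub g) hS1 with hρ₁
    set ρ₂ := resHom E (negSub g) hS2 with hρ₂
    haveI := finite_range' ρ₁
    haveI := finite_range' ρ₂
    let f : E → ρ₁.range × ρ₂.range := fun h => (ρ₁.rangeRestrict h, ρ₂.rangeRestrict h)
    have hf : Function.Injective f := by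
      intro a b hab
      have e1 : ρ₁ a = ρ₁ b := congrArg Subtype.val (congrArg Prod.fst hab)
      have e2 : ρ₂ a = ρ₂ b := congrArg Subtype.val (congrArg Prod.snd hab)
      apply Subtype.ext
      ext x
      rw [← pPlus_add_pMinus h2 g x, map_add, map_add]
      have t1 : a.1 (pPlus g x) = b.1 (pPlus g x) := by
        have := congrArg Subtype.val (LinearEquiv.congr_fun e1 ⟨pPlus g x, pPlus_mem hgg x⟩)
        rwa [resHom_apply, resHom_apply] at this
      have t2 : a.1 (pMinus g x) = b.1 (pMinus g x) := by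
        have := congrArg Subtype.val (LinearEquiv.congr_fun e2 ⟨pMinus g x, pMinus_mem hgg x⟩)
        rwa [resHom_apply, resHom_apply] at this
      rw [t1, t2]
    calc Nat.card E ≤ Nat.card (ρ₁.range × ρ₂.range) := Nat.card_le_card_of_injective f hf
      _ = Nat.card ρ₁.range * Nat.card ρ₂.range := Nat.card_prod _ _
      _ ≤ 2 ^ (Module.finrank K (fixSub g) / 2) * 2 ^ (Module.finrank K (negSub g) / 2) :=
          Nat.mul_le_mul k1 k2
      _ = 2 ^ (Module.finrank K (fixSub g) / 2 + Module.finrank K (negSub g) / 2) :=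
          (pow_add _ _ _).symm
      _ ≤ 2 ^ (n / 2) := Nat.pow_le_pow_right (by norm_num) (by omega)

end SubE

end Cfsg.Agent.Lib.Helper9.SpOm
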