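import Mathlib
import Cfsg.Agent.Lib.Helper9.SpOmC

set_option autoImplicit false

namespace Cfsg.Agent.Lib.Helper9.SpOm

universe u v

/-- the exponent bound -/
def Fb (d : ℕ) : ℕ := if d = 0 then 0 else if d ≤ 3 then 3 else if d ≤ 5 then 5 else d - 1

theorem Fb_pos {d : ℕ} (hd : 0 < d) : 3 ≤ Fb d := by
  unfold Fb
  split_ifs <;> omega

theorem Fb_lt {d₁ d₂ : ℕ} (h1 : 2 ≤ d₁) (h12 : d₁ < d₂) : Fb d₁ + d₂ / 2 ≤ Fb (d₁ + d₂) := by
  unfold Fb
  split_ifs <;> omega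

theorem Fb_eq {d₁ : ℕ} (h1 : 2 ≤ d₁) : Fb d₁ + 2 ≤ Fb (d₁ + d₁) := by
  unfold Fb
  split_ifs <;> omega

section Lin
variable {K : Type v} {V : Type u} [Field K] [AddCommGroup V] [Module K V]

theorem ker_resHom_apply (S₀ : Subgroup (V ≃ₗ[K] V)) (W : Submodule K V)
    (hS : ∀ g ∈ S₀, ∀ w ∈ W, g w ∈ W) (k : S₀) (hk : k ∈ (resHom S₀ W hS).ker) (w : V)
    (hw : w ∈ W) : k.1 w = w := by
  have h1 : resHom S₀ W hS k = 1 := hk
  have := congrArg Subtype.val (LinearEquiv.congr_fun h1 ⟨w, hw⟩)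
  rw [resHom_apply] at this
  simpa using this

theorem ext_of_fix_neg (h2 : (2 : K) ≠ 0) {g : V ≃ₗ[K] V} (hgg : g * g = 1) (a b : V ≃ₗ[K] V)
    (hp : ∀ w ∈ fixSub g, a w = b w) (hm : ∀ w ∈ negSub g, a w = b w) : a = b := by
  ext x
  rw [← pPlus_add_pMinus h2 g x, map_add, map_add, hp _ (pPlus_mem hgg x),
    hm _ (pMinus_mem hgg x)]

theorem negSub_le_of_fix (h2 : (2 : K) ≠ 0) {g k : V ≃ₗ[K] V} (hkg : g * k = k * g)
    (hk : ∀ w ∈ fixSub g, k w = w) (hgg : g * g = 1) : negSub k ≤ negSub g := by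
  intro v hv
  rw [mem_negSub] at hv ⊢
  have h1 : k (pPlus g v) = pPlus g v := hk _ (pPlus_mem hgg v)
  have h3 : k (g v) = g (k v) := by
    have := LinearEquiv.congr_fun hkg v
    rw [LinearEquiv.mul_apply, LinearEquiv.mul_apply] at this
    exact this.symm
  have h4 : k (pPlus g v) = -pPlus g v := by
    unfold pPlus
    rw [map_smul, map_add, h3, hv, map_neg, ← neg_add, smul_neg]
  have h5 : pPlus g v = 0 := eq_zero_of_eq_neg h2 (h1.symm.trans h4)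
  unfold pPlus at h5
  rcases smul_eq_zero.mp h5 with h6 | h6
  · exact absurd (inv_eq_zero.mp h6) h2
  · exact (neg_eq_of_add_eq_zero_right h6).symm

end Lin

end Cfsg.Agent.Lib.Helper9.SpOm
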