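import Mathlib
import Cfsg.Agent.Lib.Helper9.SpOmD

set_option autoImplicit false

namespace Cfsg.Agent.Lib.Helper9.SpOm

universe u v

set_option maxHeartbeats 1600000 in
theorem card_le_of_projElemAb {K : Type v} [Field K] (h2 : (2 : K) ≠ 0) (n : ℕ) :
    ∀ {V : Type u} [AddCommGroup V] [Module K V] [FiniteDimensional K V]
      (B : V →ₗ[K] V →ₗ[K] K) (_ : ∀ v, B v v = 0) (_ : ∀ v, (∀ w, B v w = 0) → v = 0)
      (S : Subgroup (V ≃ₗ[K] V)) [Finite S]
      (_ : ∀ g ∈ S, ∀ u v, B (g u) (g v) = B u v)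
      (_ : ∀ g ∈ S, g * g = 1 ∨ g * g = ngL K V)
      (_ : ∀ g ∈ S, ∀ h ∈ S, g * h = h * g ∨ g * h = ngL K V * (h * g))
      (_ : ngL K V ∈ S),
      Module.finrank K V = n → Nat.card S ≤ 2 ^ Fb n := by
  induction n using Nat.strong_induction_on with
  | _ n ih =>
  intro V _ _ _ B hA hN S _ hp hsq hc hneg hn
  rcases Nat.eq_zero_or_pos n with h0 | hpos
  · subst h0
    exact (card_le_one_of_finrank_zero S hn).trans (Nat.one_le_two_pow)
  by_cases hcaseA : ∀ g ∈ S, g * g = 1 → g = 1 ∨ g = ngL K V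
  · have := card_le_eight (ngL K V) ngL_comm ngL_mul_self S hsq hcaseA hneg hc
    calc Nat.card S ≤ 8 := this
      _ = 2 ^ 3 := by norm_num
      _ ≤ 2 ^ Fb n := Nat.pow_le_pow_right (by norm_num) (Fb_pos hpos)
  push Not at hcaseA
  classical
  let P : ℕ → Prop := fun d =>
    ∃ g ∈ S, g * g = 1 ∧ g ≠ 1 ∧ g ≠ ngL K V ∧ Module.finrank K (fixSub g) = d
  have hP : ∃ d, P d := by
    obtain ⟨g, hg, h1, h3, h4⟩ := hcaseA
    exact ⟨_, g, hg, h1, h3, h4, rfl⟩
  obtain ⟨g, hgS, hgg, hg1, hgn, hgd⟩ := Nat.find_spec hP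
  have hmin : ∀ g' ∈ S, g' * g' = 1 → g' ≠ 1 → g' ≠ ngL K V →
      Module.finrank K (fixSub g) ≤ Module.finrank K (fixSub g') := by
    intro g' h1 h3 h4 h5
    rw [hgd]
    exact Nat.find_min' hP ⟨g', h1, h3, h4, h5, rfl⟩
  clear hgd
  have hd := finrank_fix_add_neg (V := V) h2 hgg
  have hng : ngL K V * g ∈ S := S.mul_mem hneg hgS
  have hng1 : ngL K V * g ≠ 1 := by
    intro h
    apply hgn
    have : ngL K V * (ngL K V * g) = ngL K V * 1 := by rw [h]
    rwa [← mul_assoc, ngL_mul_self, one_mul, mul_one] at this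
  have hngn : ngL K V * g ≠ ngL K V := by
    intro h
    apply hg1
    exact mul_left_cancel (a := ngL K V) (by rw [h, mul_one])
  have h12 : Module.finrank K (fixSub g) ≤ Module.finrank K (negSub g) :=
    hmin _ hng (ngL_mul_sq hgg) hng1 hngn
  have hd1 : 2 ≤ Module.finrank K (fixSub g) := by
    have hnt : Nontrivial (fixSub g) :=
      Submodule.nontrivial_iff_ne_bot.mpr (fixSub_ne_bot h2 hgg hgn)
    refine two_le_finrank_of_alt_nondeg (B.domRestrict₁₂ _ _) ?_
      (nondeg_fixSub B h2 hgg (hp g hgS) hN) hnt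
    intro v
    rw [LinearMap.domRestrict₁₂_apply]
    exact hA v
  obtain ⟨w₀, hw₀, hw₀0⟩ := Submodule.exists_mem_ne_zero_of_ne_bot (fixSub_ne_bot h2 hgg hgn)
  -- the centraliser
  obtain ⟨S₀, hS₀⟩ : ∃ S₀ : Subgroup (V ≃ₗ[K] V), S₀ = S ⊓ Subgroup.centralizer {g} := ⟨_, rfl⟩
  have hmem₀ : ∀ k, k ∈ S₀ ↔ k ∈ S ∧ g * k = k * g := by
    intro k
    rw [hS₀, Subgroup.mem_inf, Subgroup.mem_centralizer_iff]
    simp
  have hle₀ : S₀ ≤ S := fun k hk => ((hmem₀ k).1 hk).1
  haveI : Finite S₀ := Finite.of_injective _ (Subgroup.inclusion_injective hle₀)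
  have hidx : Nat.card S ≤ 2 * Nat.card S₀ := by
    rw [hS₀]
    exact card_le_two_mul_centralizer (ngL K V) ngL_comm ngL_mul_self S g
      (fun h hh => hc g hgS h hh)
  have hfull : Module.finrank K (fixSub g) ≠ Module.finrank K (negSub g) →
      Nat.card S ≤ Nat.card S₀ := by
    intro hne
    have hle : S ≤ S₀ := by
      intro k hk
      rw [hmem₀]
      refine ⟨hk, ?_⟩
      rcases hc g hgS k hk with h | h
      · exact h
      · exfalso
        have hpt : ∀ w, g (k w) = -(k (g w)) := by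
          intro w
          have := LinearEquiv.congr_fun h w
          rw [LinearEquiv.mul_apply, ngL_mul_apply, LinearEquiv.mul_apply] at this
          exact this
        have m1 : (fixSub g).map (k : V →ₗ[K] V) ≤ negSub g := by
          rintro _ ⟨w, hw, rfl⟩
          rw [mem_negSub]
          have hw' : g w = w := mem_fixSub.mp hw
          have := hpt w
          rw [hw'] at this
          exact this
        have m2 : (negSub g).map (k : V →ₗ[K] V) ≤ fixSub g := by
          rintro _ ⟨w, hw, rfl⟩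
          rw [mem_fixSub]
          have hw' : g w = -w := mem_negSub.mp hw
          have := hpt w
          rw [hw', map_neg, neg_neg] at this
          exact this
        have e1 := Submodule.finrank_mono m1
        have e2 := Submodule.finrank_mono m2
        rw [LinearEquiv.finrank_map_eq] at e1 e2
        omega
    exact Nat.card_le_card_of_injective _ (Subgroup.inclusion_injective hle)
  have hS1 : ∀ h ∈ S₀, ∀ w ∈ fixSub g, h w ∈ fixSub g := by
    intro h hh w hw
    rw [mem_fixSub] at hw ⊢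
    have := LinearEquiv.congr_fun ((hmem₀ h).1 hh).2 w
    rw [LinearEquiv.mul_apply, LinearEquiv.mul_apply, hw] at this
    exact this
  have hS2 : ∀ h ∈ S₀, ∀ w ∈ negSub g, h w ∈ negSub g := by
    intro h hh w hw
    rw [mem_negSub] at hw ⊢
    have := LinearEquiv.congr_fun ((hmem₀ h).1 hh).2 w
    rw [LinearEquiv.mul_apply, LinearEquiv.mul_apply, hw, map_neg] at this
    exact this
  have hnegS₀ : ngL K V ∈ S₀ := (hmem₀ _).2 ⟨hneg, (ngL_comm g).symm⟩
  have hgS₀ : g ∈ S₀ := (hmem₀ _).2 ⟨hgS, rfl⟩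
  obtain ⟨ρ₁, hρ₁⟩ : ∃ ρ₁ : S₀ →* (fixSub g ≃ₗ[K] fixSub g), ρ₁ = resHom S₀ (fixSub g) hS1 :=
    ⟨_, rfl⟩
  haveI := finite_range' ρ₁
  have k1 : Nat.card ρ₁.range ≤ 2 ^ Fb (Module.finrank K (fixSub g)) := by
    refine ih (Module.finrank K (fixSub g)) (by omega) (B.domRestrict₁₂ _ _) ?_
      (nondeg_fixSub B h2 hgg (hp g hgS) hN) ρ₁.range ?_ ?_ ?_ ?_ rfl
    · intro v
      rw [LinearMap.domRestrict₁₂_apply]
      exact hA v
    · rintro _ ⟨h, rfl⟩ u v
      rw [LinearMap.domRestrict₁₂_apply, LinearMap.domRestrict₁₂_apply, hρ₁, resHom_apply,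
        resHom_apply]
      exact hp h.1 (hle₀ h.2) u v
    · rintro _ ⟨h, rfl⟩
      rcases hsq h.1 (hle₀ h.2) with e | e
      · left
        rw [← map_mul]
        have : h * h = 1 := Subtype.ext e
        rw [this, map_one]
      · right
        rw [← map_mul]
        have : h * h = ⟨ngL K V, hnegS₀⟩ := Subtype.ext e
        rw [this, hρ₁, resHom_ngL]
    · rintro _ ⟨h, rfl⟩ _ ⟨h', rfl⟩
      rcases hc h.1 (hle₀ h.2) h'.1 (hle₀ h'.2) with e | e
      · left
        rw [← map_mul, ← map_mul]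
        congr 1
        exact Subtype.ext e
      · right
        have e' : h * h' = ⟨ngL K V, hnegS₀⟩ * (h' * h) := Subtype.ext e
        rw [← map_mul, e', map_mul, map_mul, hρ₁, resHom_ngL]
    · refine ⟨⟨ngL K V, hnegS₀⟩, ?_⟩
      rw [hρ₁, resHom_ngL]
  have hcard₀ : Nat.card S₀ = Nat.card ρ₁.ker * Nat.card ρ₁.range := by
    rw [← Subgroup.index_ker, Subgroup.card_mul_index]
  -- facts on the kernel
  have hkfix : ∀ k : S₀, k ∈ ρ₁.ker → ∀ w ∈ fixSub g, k.1 w = w := by
    intro k hk w hw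
    rw [hρ₁] at hk
    exact ker_resHom_apply S₀ (fixSub g) hS1 k hk w hw
  have hkinv : ∀ k : S₀, k ∈ ρ₁.ker → k.1 * k.1 = 1 := by
    intro k hk
    rcases hsq k.1 (hle₀ k.2) with e | e
    · exact e
    · exfalso
      have := LinearEquiv.congr_fun e w₀
      rw [LinearEquiv.mul_apply, hkfix k hk w₀ hw₀, hkfix k hk w₀ hw₀,
        LinearEquiv.neg_apply] at this
      exact hw₀0 (eq_zero_of_eq_neg h2 this)
  have hkcomm : ∀ k : S₀, k ∈ ρ₁.ker → ∀ k' : S₀, k' ∈ ρ₁.ker → k.1 * k'.1 = k'.1 * k.1 := by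
    intro k hk k' hk'
    rcases hc k.1 (hle₀ k.2) k'.1 (hle₀ k'.2) with e | e
    · exact e
    · exfalso
      have := LinearEquiv.congr_fun e w₀
      rw [LinearEquiv.mul_apply, ngL_mul_apply, LinearEquiv.mul_apply, hkfix k hk w₀ hw₀,
        hkfix k' hk' w₀ hw₀, hkfix k hk w₀ hw₀] at this
      exact hw₀0 (eq_zero_of_eq_neg h2 this)
  haveI : Finite ρ₁.ker := Finite.of_injective _ Subtype.val_injective
  rcases Nat.lt_or_ge (Module.finrank K (fixSub g)) (Module.finrank K (negSub g)) with hlt | hge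
  · -- unequal dimensions
    obtain ⟨ρ₂, hρ₂⟩ : ∃ ρ₂ : S₀ →* (negSub g ≃ₗ[K] negSub g),
        ρ₂ = resHom S₀ (negSub g) hS2 := ⟨_, rfl⟩
    let f : ρ₁.ker →* (negSub g ≃ₗ[K] negSub g) := ρ₂.comp ρ₁.ker.subtype
    have hfapp : ∀ (k : ρ₁.ker) (w : negSub g), ((f k) w : V) = k.1.1 w := by
      intro k w
      show ((ρ₂ k.1) w : V) = _
      rw [hρ₂, resHom_apply]
    have hf : Function.Injective f := by
      intro a b hab
      apply Subtype.ext
      apply Subtype.ext
      apply ext_of_fix_neg h2 hgg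
      · intro w hw
        rw [hkfix a.1 a.2 w hw, hkfix b.1 b.2 w hw]
      · intro w hw
        have := congrArg Subtype.val (LinearEquiv.congr_fun hab ⟨w, hw⟩)
        rwa [hfapp, hfapp] at this
    haveI := finite_range' f
    have k2 : Nat.card f.range ≤ 2 ^ (Module.finrank K (negSub g) / 2) := by
      refine card_le_of_elemAb h2 (Module.finrank K (negSub g)) (B.domRestrict₁₂ _ _) ?_
        (nondeg_negSub B h2 hgg (hp g hgS) hN) f.range ?_ ?_ ?_ rfl
      · intro v
        rw [LinearMap.domRestrict₁₂_apply]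
        exact hA v
      · rintro _ ⟨k, rfl⟩ u v
        rw [LinearMap.domRestrict₁₂_apply, LinearMap.domRestrict₁₂_apply, hfapp, hfapp]
        exact hp k.1.1 (hle₀ k.1.2) u v
      · rintro _ ⟨k, rfl⟩
        rw [← map_mul]
        have : k * k = 1 := Subtype.ext (Subtype.ext (hkinv k.1 k.2))
        rw [this, map_one]
      · rintro _ ⟨k, rfl⟩ _ ⟨k', rfl⟩
        rw [← map_mul, ← map_mul]
        congr 1
        exact Subtype.ext (Subtype.ext (hkcomm k.1 k.2 k'.1 k'.2))
    have k3 : Nat.card ρ₁.ker = Nat.card f.range :=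
      Nat.card_congr (MonoidHom.ofInjective hf).toEquiv
    calc Nat.card S ≤ Nat.card S₀ := hfull (by omega)
      _ = Nat.card ρ₁.ker * Nat.card ρ₁.range := hcard₀
      _ ≤ 2 ^ (Module.finrank K (negSub g) / 2) * 2 ^ Fb (Module.finrank K (fixSub g)) := by
          rw [k3]
          exact Nat.mul_le_mul k2 k1
      _ = 2 ^ (Fb (Module.finrank K (fixSub g)) + Module.finrank K (negSub g) / 2) := by
          rw [← pow_add, add_comm]
      _ ≤ 2 ^ Fb n := by
          apply Nat.pow_le_pow_right (by norm_num)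
          rw [← hn, ← hd]
          exact Fb_lt hd1 hlt
  · -- equal dimensions
    have heq : Module.finrank K (fixSub g) = Module.finrank K (negSub g) := le_antisymm h12 hge
    have hker : ∀ k ∈ ρ₁.ker, k = 1 ∨ k = ⟨g, hgS₀⟩ := by
      intro k hk
      by_cases hk1 : k = 1
      · exact Or.inl hk1
      right
      apply Subtype.ext
      show k.1 = g
      have hk1' : k.1 ≠ 1 := fun h => hk1 (Subtype.ext h)
      have hkn : k.1 ≠ ngL K V := by
        intro h
        have := hkfix k hk w₀ hw₀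
        rw [h, LinearEquiv.neg_apply] at this
        exact hw₀0 (eq_zero_of_eq_neg h2 this.symm)
      have hkk := hkinv k hk
      have hnk : ngL K V * k.1 ∈ S := S.mul_mem hneg (hle₀ k.2)
      have hnk1 : ngL K V * k.1 ≠ 1 := by
        intro h
        apply hkn
        have : ngL K V * (ngL K V * k.1) = ngL K V * 1 := by rw [h]
        rwa [← mul_assoc, ngL_mul_self, one_mul, mul_one] at this
      have hnkn : ngL K V * k.1 ≠ ngL K V := by
        intro h
        apply hk1'
        exact mul_left_cancel (a := ngL K V) (by rw [h, mul_one])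
      have hm : Module.finrank K (fixSub g) ≤ Module.finrank K (negSub k.1) :=
        hmin _ hnk (ngL_mul_sq hkk) hnk1 hnkn
      have hle : negSub k.1 ≤ negSub g :=
        negSub_le_of_fix h2 ((hmem₀ k.1).1 k.2).2 (hkfix k hk) hgg
      have hfr := Submodule.finrank_mono hle
      have hEq : negSub k.1 = negSub g :=
        Submodule.eq_of_le_of_finrank_eq hle (by omega)
      apply ext_of_fix_neg h2 hgg
      · intro w hw
        rw [hkfix k hk w hw, mem_fixSub.mp hw]
      · intro w hw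
        have hw' : w ∈ negSub k.1 := hEq ▸ hw
        rw [mem_negSub.mp hw', mem_negSub.mp hw]
    have k2 : Nat.card ρ₁.ker ≤ 2 :=
      card_le_of_forall_mem_list ρ₁.ker [1, ⟨g, hgS₀⟩]
        (fun x hx => by rcases hker x hx with h | h <;> simp [h])
    calc Nat.card S ≤ 2 * Nat.card S₀ := hidx
      _ = 2 * (Nat.card ρ₁.ker * Nat.card ρ₁.range) := by rw [hcard₀]
      _ ≤ 2 * (2 * 2 ^ Fb (Module.finrank K (fixSub g))) :=
          Nat.mul_le_mul_left _ (Nat.mul_le_mul k2 k1)
      _ = 2 ^ (Fb (Module.finrank K (fixSub g)) + 2) := by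
          rw [pow_add]
          ring
      _ ≤ 2 ^ Fb n := by
          apply Nat.pow_le_pow_right (by norm_num)
          rw [← hn, ← hd, ← heq]
          exact Fb_eq hd1

end Cfsg.Agent.Lib.Helper9.SpOm
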