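import Mathlib
import Cfsg.Prelude
import Cfsg.Agent.S0246
import Cfsg.Agent.Lib.Helper9.SpOmE

set_option autoImplicit false

namespace Cfsg.Agent.Lib.Helper9.SpOm

open Cfsg.Agent.Lib.Helper2.Symp

section SpSide
variable {F : Type*} [Field F] {m : ℕ}

/-- the symplectic group acting on the natural module, as linear automorphisms -/
noncomputable def spToLE (m : ℕ) (F : Type*) [Field F] :
    Matrix.symplecticGroup (Fin m) F →* ((Fin m ⊕ Fin m → F) ≃ₗ[F] (Fin m ⊕ Fin m → F)) where
  toFun := fun A => LinearEquiv.ofLinear (Matrix.toLin' A.1) (Matrix.toLin' (A⁻¹).1)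
    (by
      rw [← Matrix.toLin'_mul]
      have : A.1 * (A⁻¹).1 = 1 := congrArg Subtype.val (mul_inv_cancel A)
      rw [this, Matrix.toLin'_one])
    (by
      rw [← Matrix.toLin'_mul]
      have : (A⁻¹).1 * A.1 = 1 := congrArg Subtype.val (inv_mul_cancel A)
      rw [this, Matrix.toLin'_one])
  map_one' := by
    ext v
    simp
  map_mul' := by
    intro A B
    ext v
    simp [Matrix.toLin'_mul]

theorem spToLE_apply (A : Matrix.symplecticGroup (Fin m) F) (v : Fin m ⊕ Fin m → F) :
    spToLE m F A v = A.1.mulVec v := by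
  simp [spToLE]

theorem spToLE_injective : Function.Injective (spToLE m F) := by
  intro A A' h
  apply Subtype.ext
  ext i j
  have := LinearEquiv.congr_fun h (Pi.single j 1)
  rw [spToLE_apply, spToLE_apply, Matrix.mulVec_single_one, Matrix.mulVec_single_one] at this
  exact congrFun this i

theorem spToLE_negOne : spToLE m F (Cfsg.Agent.S0246.negOne m F) = ngL F _ := by
  apply LinearEquiv.ext
  intro v
  rw [spToLE_apply]
  show (-1 : Matrix (Fin m ⊕ Fin m) (Fin m ⊕ Fin m) F).mulVec v = -v
  rw [Matrix.neg_mulVec, Matrix.one_mulVec]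

/-- the symplectic form as a bilinear map -/
noncomputable def sympBil (m : ℕ) (F : Type*) [Field F] :
    (Fin m ⊕ Fin m → F) →ₗ[F] (Fin m ⊕ Fin m → F) →ₗ[F] F :=
  LinearMap.mk₂ F (Cfsg.sympForm m F) sympForm_add_left
    (fun c x z => by rw [sympForm_smul_left, smul_eq_mul]) sympForm_add_right
    (fun c x z => by rw [sympForm_smul_right, smul_eq_mul])

theorem sympBil_apply (u v : Fin m ⊕ Fin m → F) : sympBil m F u v = Cfsg.sympForm m F u v := rfl

end SpSide

end Cfsg.Agent.Lib.Helper9.SpOm
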