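import Mathlib
import Cfsg.Prelude
import Cfsg.Agent.S0246
import Cfsg.Agent.Lib.Helper9.SpOmF

set_option autoImplicit false

namespace Cfsg.Agent.Lib.Helper9.SpOm

open Cfsg.Agent.Lib.Helper2.Symp

section SpSide

theorem Fb_two_mul {m : ℕ} (hm : 3 ≤ m) : Fb (2 * m) = 2 * m - 1 := by
  unfold Fb
  split_ifs <;> omega

theorem negOne_ne_one {F : Type*} [Field F] (h2 : (2 : F) ≠ 0) {m : ℕ} (hm : 1 ≤ m) :
    Cfsg.Agent.S0246.negOne m F ≠ 1 := by
  intro h
  have h1 : (-1 : Matrix (Fin m ⊕ Fin m) (Fin m ⊕ Fin m) F) = 1 := congrArg Subtype.val h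
  have h3 := congrFun (congrFun h1 (Sum.inl ⟨0, hm⟩)) (Sum.inl ⟨0, hm⟩)
  rw [Matrix.neg_apply, Matrix.one_apply_eq] at h3
  apply h2
  calc (2 : F) = 1 - (-1) := by ring
    _ = 1 - 1 := by rw [h3]
    _ = 0 := sub_self 1

theorem not_elemAb_PSp {F : Type*} [Field F] [Fintype F] (h2 : (2 : F) ≠ 0) (m : ℕ)
    (hm : 3 ≤ m) (H : Subgroup (Cfsg.PSp m F)) (hH : ∀ h ∈ H, h * h = 1) :
    Nat.card H < 2 ^ (2 * m - 1) := by
  classical
  have hm1 : 1 ≤ m := by omega
  have hab : ∀ a ∈ H, ∀ b ∈ H, a * b = b * a := by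
    intro a ha b hb
    have ha' : a⁻¹ = a := inv_eq_of_mul_eq_one_right (hH a ha)
    have hb' : b⁻¹ = b := inv_eq_of_mul_eq_one_right (hH b hb)
    have : (a * b)⁻¹ = a * b := inv_eq_of_mul_eq_one_right (hH _ (H.mul_mem ha hb))
    rw [mul_inv_rev, ha', hb'] at this
    exact this.symm
  obtain ⟨π, hπ⟩ : ∃ π : Matrix.symplecticGroup (Fin m) F →* Cfsg.PSp m F,
      π = QuotientGroup.mk' (Subgroup.center (Matrix.symplecticGroup (Fin m) F)) := ⟨_, rfl⟩
  have hπ1 : ∀ A, π A = 1 ↔ A ∈ Subgroup.center (Matrix.symplecticGroup (Fin m) F) := by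
    intro A
    rw [hπ]
    exact QuotientGroup.eq_one_iff A
  have hπsurj : Function.Surjective π := by
    rw [hπ]
    exact QuotientGroup.mk'_surjective _
  have hcen : ∀ A, π A = 1 → A = 1 ∨ A = Cfsg.Agent.S0246.negOne m F := fun A hA =>
    (Cfsg.Agent.S0246.mem_center_iff hm1 A).1 ((hπ1 A).1 hA)
  have hπneg : π (Cfsg.Agent.S0246.negOne m F) = 1 :=
    (hπ1 _).2 Cfsg.Agent.S0246.negOne_mem_center
  obtain ⟨Hh, hHh⟩ : ∃ Hh : Subgroup (Matrix.symplecticGroup (Fin m) F), Hh = H.comap π :=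
    ⟨_, rfl⟩
  have hmemHh : ∀ A, A ∈ Hh ↔ π A ∈ H := by
    intro A
    rw [hHh, Subgroup.mem_comap]
  have hnegHh : Cfsg.Agent.S0246.negOne m F ∈ Hh := by
    rw [hmemHh, hπneg]
    exact H.one_mem
  obtain ⟨S, hS⟩ : ∃ S : Subgroup ((Fin m ⊕ Fin m → F) ≃ₗ[F] (Fin m ⊕ Fin m → F)),
      S = Hh.map (spToLE m F) := ⟨_, rfl⟩
  haveI : Finite S := by
    rw [hS]
    exact Finite.of_equiv _ (Hh.equivMapOfInjective _ spToLE_injective).toEquiv
  have hfr : Module.finrank F (Fin m ⊕ Fin m → F) = 2 * m := by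
    rw [Module.finrank_fintype_fun_eq_card, Fintype.card_sum, Fintype.card_fin]
    ring
  have hbound : Nat.card S ≤ 2 ^ Fb (2 * m) := by
    refine card_le_of_projElemAb h2 (2 * m) (sympBil m F) ?_ ?_ S ?_ ?_ ?_ ?_ hfr
    · intro v
      rw [sympBil_apply]
      exact sympForm_self v
    · intro v hv
      by_contra hv0
      obtain ⟨x, hx⟩ := Cfsg.Agent.S0271.exists_partner m v hv0
      have := hv x
      rw [sympBil_apply, hx] at this
      exact one_ne_zero this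
    · rw [hS]
      rintro _ ⟨A, -, rfl⟩ u v
      rw [sympBil_apply, sympBil_apply, spToLE_apply, spToLE_apply]
      exact sympForm_mulVec A.1 A.2 u v
    · rw [hS]
      rintro _ ⟨A, hA, rfl⟩
      have hA' : π A ∈ H := (hmemHh A).1 hA
      have h1 : π (A * A) = 1 := by
        rw [map_mul]
        exact hH _ hA'
      rcases hcen _ h1 with e | e
      · left
        rw [← map_mul, e, map_one]
      · right
        rw [← map_mul, e, spToLE_negOne]
    · rw [hS]
      rintro _ ⟨A, hA, rfl⟩ _ ⟨A', hA', rfl⟩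
      have hA1 : π A ∈ H := (hmemHh A).1 hA
      have hA1' : π A' ∈ H := (hmemHh A').1 hA'
      have h1 : π (A * A' * (A' * A)⁻¹) = 1 := by
        rw [map_mul, map_inv, map_mul, map_mul, hab _ hA1 _ hA1', mul_inv_cancel]
      rcases hcen _ h1 with e | e
      · left
        rw [← map_mul, ← map_mul, mul_inv_eq_one.mp e]
      · right
        rw [← spToLE_negOne, ← map_mul, ← map_mul, ← map_mul, mul_inv_eq_iff_eq_mul.mp e]
    · rw [hS]
      exact ⟨_, hnegHh, spToLE_negOne⟩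
  have hcardS : Nat.card S = Nat.card Hh := by
    rw [hS]
    exact Subgroup.card_map_of_injective spToLE_injective
  -- the projection restricted to the preimage
  obtain ⟨φ, hφ⟩ : ∃ φ : Hh →* H, ∀ A : Hh, (φ A : Cfsg.PSp m F) = π A.1 := by
    subst hHh
    exact ⟨π.subgroupComap H, fun A => rfl⟩
  have hφsurj : Function.Surjective φ := by
    intro h
    obtain ⟨A, hA⟩ := hπsurj h.1
    have hAm : A ∈ Hh := by
      rw [hmemHh, hA]
      exact h.2
    exact ⟨⟨A, hAm⟩, Subtype.ext ((hφ _).trans hA)⟩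
  have hcardHh : Nat.card Hh = Nat.card φ.ker * Nat.card H := by
    rw [← Subgroup.card_mul_index φ.ker, Subgroup.index_ker,
      MonoidHom.range_eq_top.mpr hφsurj, Subgroup.card_top]
  haveI : Finite Hh := inferInstance
  haveI : Finite φ.ker := inferInstance
  have hker : 2 ≤ Nat.card φ.ker := by
    have hne : φ.ker ≠ ⊥ := by
      intro hbot
      have hmem : (⟨Cfsg.Agent.S0246.negOne m F, hnegHh⟩ : Hh) ∈ φ.ker := by
        rw [MonoidHom.mem_ker]
        apply Subtype.ext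
        rw [hφ]
        exact hπneg
      rw [hbot, Subgroup.mem_bot] at hmem
      exact negOne_ne_one h2 hm1 (congrArg Subtype.val hmem)
    exact (Subgroup.one_lt_card_iff_ne_bot _).2 hne
  rw [Fb_two_mul hm] at hbound
  obtain ⟨k, hk⟩ : ∃ k, 2 * m - 1 = k + 1 := ⟨2 * m - 2, by omega⟩
  rw [hk] at hbound ⊢
  have h5 : 2 * Nat.card H ≤ 2 ^ k * 2 := by
    calc 2 * Nat.card H ≤ Nat.card φ.ker * Nat.card H := Nat.mul_le_mul_right _ hker
      _ = Nat.card S := by rw [hcardS, hcardHh]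
      _ ≤ 2 ^ (k + 1) := hbound
      _ = 2 ^ k * 2 := pow_succ 2 k
  have h6 : Nat.card H ≤ 2 ^ k := by omega
  exact lt_of_le_of_lt h6 (Nat.pow_lt_pow_right (by norm_num) (Nat.lt_succ_self k))

end SpSide

end Cfsg.Agent.Lib.Helper9.SpOm
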