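import Mathlib
import Cfsg.Agent.Lib.Helper9.SpOmA

set_option autoImplicit false

namespace Cfsg.Agent.Lib.Helper9.SpOm

section Orth
variable {F : Type*} [Field F] {ι : Type*} [Fintype ι] [DecidableEq ι]

/-- the group of linear automorphisms preserving a function -/
def LO (q : (ι → F) → F) : Subgroup ((ι → F) ≃ₗ[F] (ι → F)) where
  carrier := {e | ∀ v, q (e v) = q v}
  mul_mem' := by
    intro a b ha hb v
    rw [LinearEquiv.mul_apply, ha, hb]
  one_mem' := by
    intro v
    rfl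
  inv_mem' := by
    intro a ha v
    show q (a.symm v) = q v
    rw [← ha (a.symm v), LinearEquiv.apply_symm_apply]

theorem mem_LO {q : (ι → F) → F} {e : (ι → F) ≃ₗ[F] (ι → F)} :
    e ∈ LO q ↔ ∀ v, q (e v) = q v := Iff.rfl

/-- a sign as a field element -/
def sgn (F : Type*) [Field F] (u : ℤˣ) : F := ((u : ℤ) : F)

theorem sgn_one : sgn F 1 = 1 := by simp [sgn]

theorem sgn_neg_one : sgn F (-1) = -1 := by simp [sgn]

theorem sgn_mul (u u' : ℤˣ) : sgn F (u * u') = sgn F u * sgn F u' := by simp [sgn]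

theorem sgn_mul_self (u : ℤˣ) : sgn F u * sgn F u = 1 := by
  rw [← sgn_mul, Int.units_mul_self, sgn_one]

theorem sgn_inj (h2 : (2 : F) ≠ 0) {u u' : ℤˣ} (h : sgn F u = sgn F u') : u = u' := by
  have hne : (1 : F) ≠ -1 := by
    intro h1
    apply h2
    calc (2 : F) = 1 + 1 := by ring
      _ = -1 + 1 := by rw [← h1]
      _ = 0 := neg_add_cancel 1
  rcases Int.units_eq_one_or u with rfl | rfl <;> rcases Int.units_eq_one_or u' with rfl | rfl
  · rfl
  · rw [sgn_one, sgn_neg_one] at h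
    exact absurd h hne
  · rw [sgn_one, sgn_neg_one] at h
    exact absurd h.symm hne
  · rfl

/-- the diagonal quadratic form with coefficients `ν` -/
def dQ (ν : ι → F) (z : ι → F) : F := ∑ k, ν k * z k ^ 2

/-- diagonal sign change -/
def dgL (ε : ι → ℤˣ) : (ι → F) ≃ₗ[F] (ι → F) where
  toFun := fun z k => sgn F (ε k) * z k
  map_add' := by
    intro a b
    ext k
    simp [mul_add]
  map_smul' := by
    intro c a
    ext k
    simp only [Pi.smul_apply, smul_eq_mul, RingHom.id_apply]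
    ring
  invFun := fun z k => sgn F (ε k) * z k
  left_inv := by
    intro z
    ext k
    simp only
    rw [← mul_assoc, sgn_mul_self, one_mul]
  right_inv := by
    intro z
    ext k
    simp only
    rw [← mul_assoc, sgn_mul_self, one_mul]

theorem dgL_apply (ε : ι → ℤˣ) (z : ι → F) (k : ι) : dgL ε z k = sgn F (ε k) * z k := rfl

/-- diagonal sign changes as a homomorphism -/
def dgHom : (ι → ℤˣ) →* ((ι → F) ≃ₗ[F] (ι → F)) where
  toFun := dgL
  map_one' := by
    ext z k
    rw [dgL_apply]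
    simp [sgn_one]
  map_mul' := by
    intro a b
    ext z k
    rw [LinearEquiv.mul_apply, dgL_apply, dgL_apply, dgL_apply, Pi.mul_apply, sgn_mul,
      mul_assoc]

theorem dgL_mem (ν : ι → F) (ε : ι → ℤˣ) : (dgL ε : (ι → F) ≃ₗ[F] (ι → F)) ∈ LO (dQ ν) := by
  intro z
  unfold dQ
  apply Finset.sum_congr rfl
  intro k _
  rw [dgL_apply, mul_pow, pow_two (sgn F (ε k)), sgn_mul_self, one_mul]

/-- coordinate permutation -/
def pmL (π : Equiv.Perm ι) : (ι → F) ≃ₗ[F] (ι → F) where
  toFun := fun z k => z (π.symm k)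
  map_add' := by
    intro a b
    rfl
  map_smul' := by
    intro c a
    rfl
  invFun := fun z k => z (π k)
  left_inv := by
    intro z
    ext k
    simp
  right_inv := by
    intro z
    ext k
    simp

theorem pmL_apply (π : Equiv.Perm ι) (z : ι → F) (k : ι) : pmL π z k = z (π.symm k) := rfl

theorem pmL_inv_apply (π : Equiv.Perm ι) (z : ι → F) (k : ι) :
    ((pmL π : (ι → F) ≃ₗ[F] (ι → F))⁻¹) z k = z (π k) := rfl

/-- coordinate permutations as a homomorphism -/
def pmHom : Equiv.Perm ι →* ((ι → F) ≃ₗ[F] (ι → F)) where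
  toFun := pmL
  map_one' := by
    ext z k
    rfl
  map_mul' := by
    intro a b
    ext z k
    rfl

theorem pmL_mem (ν : ι → F) (π : Equiv.Perm ι) (hπ : ∀ k, ν (π k) = ν k) :
    (pmL π : (ι → F) ≃ₗ[F] (ι → F)) ∈ LO (dQ ν) := by
  intro z
  unfold dQ
  rw [← Equiv.sum_comp π.symm (fun j => ν j * z j ^ 2)]
  apply Finset.sum_congr rfl
  intro k _
  rw [pmL_apply]
  have : ν (π.symm k) = ν k := by
    have := hπ (π.symm k)
    rw [Equiv.apply_symm_apply] at this
    exact this.symm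
  rw [this]

/-- permutations preserving the coefficient function -/
def nuPerm (ν : ι → F) : Subgroup (Equiv.Perm ι) where
  carrier := {π | ∀ k, ν (π k) = ν k}
  mul_mem' := by
    intro a b ha hb k
    rw [Equiv.Perm.mul_apply, ha, hb]
  one_mem' := by
    intro k
    rfl
  inv_mem' := by
    intro a ha k
    have := ha (a⁻¹ k)
    have h1 : a (a⁻¹ k) = k := by
      rw [← Equiv.Perm.mul_apply, mul_inv_cancel, Equiv.Perm.one_apply]
    rw [h1] at this
    exact this.symm

theorem mem_nuPerm {ν : ι → F} {π : Equiv.Perm ι} : π ∈ nuPerm ν ↔ ∀ k, ν (π k) = ν k :=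
  Iff.rfl

theorem swap_mem_nuPerm {ν : ι → F} {k k' : ι} (h : ν k = ν k') :
    Equiv.swap k k' ∈ nuPerm ν := by
  intro j
  rw [Equiv.swap_apply_def]
  split_ifs with h1 h2
  · rw [h1, h]
  · rw [h2, h]
  · rfl

/-- sign changes into the isometry group -/
def dgG (ν : ι → F) : (ι → ℤˣ) →* LO (dQ ν) :=
  (dgHom (F := F)).codRestrict _ (dgL_mem ν)

/-- permutations into the isometry group -/
def pmG (ν : ι → F) : nuPerm ν →* LO (dQ ν) :=
  ((pmHom (F := F)).comp (nuPerm ν).subtype).codRestrict _ (fun π => pmL_mem ν π.1 π.2)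

theorem dgG_coe (ν : ι → F) (ε : ι → ℤˣ) : ((dgG ν ε : LO (dQ ν)) : (ι → F) ≃ₗ[F] (ι → F)) = dgL ε :=
  rfl

theorem pmG_coe (ν : ι → F) (π : nuPerm ν) :
    ((pmG ν π : LO (dQ ν)) : (ι → F) ≃ₗ[F] (ι → F)) = pmL π.1 := rfl

theorem dgG_injective (h2 : (2 : F) ≠ 0) (ν : ι → F) : Function.Injective (dgG ν) := by
  intro ε ε' h
  funext k
  have h1 : (dgL ε : (ι → F) ≃ₗ[F] (ι → F)) = dgL ε' := congrArg Subtype.val h
  have h3 := congrFun (LinearEquiv.congr_fun h1 (Pi.single k 1)) k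
  rw [dgL_apply, dgL_apply, Pi.single_eq_same, mul_one, mul_one] at h3
  exact sgn_inj h2 h3

theorem pmG_conj (ν : ι → F) (π : nuPerm ν) (ε : ι → ℤˣ) :
    pmG ν π * dgG ν ε * (pmG ν π)⁻¹ = dgG ν (fun k => ε (π.1.symm k)) := by
  apply Subtype.ext
  apply LinearEquiv.ext
  intro z
  funext k
  show (pmL π.1 (dgL ε ((pmL π.1 : (ι → F) ≃ₗ[F] (ι → F))⁻¹ z))) k = _
  rw [pmL_apply, dgL_apply, pmL_inv_apply, dgG_coe, dgL_apply, Equiv.apply_symm_apply]

end Orth

end Cfsg.Agent.Lib.Helper9.SpOm
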