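import Mathlib
import Cfsg.Agent.Lib.Helper9.SpOmH

set_option autoImplicit false

namespace Cfsg.Agent.Lib.Helper9.SpOm

/-- index type of the odd-dimensional orthogonal space -/
abbrev Idx (m : ℕ) : Type := Unit ⊕ (Fin m ⊕ Fin m)

section OrthOdd
variable {F : Type*} [Field F] {m : ℕ}

/-- coefficients of the diagonalised form -/
def nu (m : ℕ) (F : Type*) [Field F] : Idx m → F :=
  Sum.elim (fun _ => 1) (Sum.elim (fun _ => 1) (fun _ => -1))

@[simp] theorem nu_inl (u : Unit) : nu m F (Sum.inl u) = 1 := rfl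
@[simp] theorem nu_inr_inl (i : Fin m) : nu m F (Sum.inr (Sum.inl i)) = 1 := rfl
@[simp] theorem nu_inr_inr (i : Fin m) : nu m F (Sum.inr (Sum.inr i)) = -1 := rfl

/-- parity homomorphism -/
def parHom (m : ℕ) : (Idx m → ℤˣ) →* ℤˣ × ℤˣ where
  toFun := fun ε => (ε (Sum.inl ()) * ∏ i : Fin m, ε (Sum.inr (Sum.inl i)),
    ∏ i : Fin m, ε (Sum.inr (Sum.inr i)))
  map_one' := by simp
  map_mul' := by
    intro a b
    apply Prod.ext
    · simp only [Pi.mul_apply, Finset.prod_mul_distrib, Prod.fst_mul]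
      exact mul_mul_mul_comm _ _ _ _
    · simp only [Pi.mul_apply, Finset.prod_mul_distrib, Prod.snd_mul]

theorem parHom_fst (ε : Idx m → ℤˣ) :
    (parHom m ε).1 = ε (Sum.inl ()) * ∏ i : Fin m, ε (Sum.inr (Sum.inl i)) := rfl

theorem parHom_snd (ε : Idx m → ℤˣ) :
    (parHom m ε).2 = ∏ i : Fin m, ε (Sum.inr (Sum.inr i)) := rfl

theorem two_pow_le_card_ker (hm : 1 ≤ m) : 2 ^ (2 * m - 1) ≤ Nat.card (parHom m).ker := by
  have h1 : Nat.card (Idx m → ℤˣ) = 2 ^ (2 * m + 1) := by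
    rw [Nat.card_eq_fintype_card, Fintype.card_fun, Fintype.card_units_int, Fintype.card_sum,
      Fintype.card_sum, Fintype.card_unit, Fintype.card_fin]
    congr 1
    omega
  have h3 : Nat.card (Idx m → ℤˣ) = Nat.card (parHom m).ker * Nat.card (parHom m).range := by
    rw [← Subgroup.index_ker, Subgroup.card_mul_index]
  have h4 : Nat.card (parHom m).range ≤ 4 := by
    have := Nat.card_le_card_of_injective (fun x : (parHom m).range => x.1)
      Subtype.val_injective
    have h5 : Nat.card ℤˣ = 2 := by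
      rw [Nat.card_eq_fintype_card, Fintype.card_units_int]
    rw [Nat.card_prod, h5] at this
    exact this
  have h5 : 2 ^ (2 * m + 1) = 2 ^ (2 * m - 1) * 4 := by
    have : 2 * m + 1 = (2 * m - 1) + 2 := by omega
    rw [this, pow_add]
    norm_num
  have h6 : 2 ^ (2 * m - 1) * 4 ≤ Nat.card (parHom m).ker * 4 := by
    rw [← h5, ← h1, h3]
    exact Nat.mul_le_mul_left _ h4
  exact Nat.le_of_mul_le_mul_right h6 (by norm_num)

/-- sign changes composed with the abelianisation map -/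
noncomputable def abPhi (m : ℕ) (F : Type*) [Field F] :
    (Idx m → ℤˣ) →* Abelianization (LO (dQ (nu m F))) :=
  (Abelianization.of).comp (dgG (nu m F))

theorem abPhi_same {k k' : Idx m} (h : nu m F k = nu m F k') (u : ℤˣ) :
    abPhi m F (Pi.mulSingle k' u) = abPhi m F (Pi.mulSingle k u) := by
  have h1 := pmG_conj (nu m F) ⟨Equiv.swap k k', swap_mem_nuPerm h⟩ (Pi.mulSingle k u)
  have h3 : (fun j => (Pi.mulSingle k u : Idx m → ℤˣ) ((Equiv.swap k k').symm j)) =
      Pi.mulSingle k' u := by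
    funext j
    rw [Equiv.symm_swap, Pi.mulSingle_apply, Pi.mulSingle_apply]
    have : (Equiv.swap k k') j = k ↔ j = k' := by
      rw [Equiv.swap_apply_eq_iff, Equiv.swap_apply_left]
    simp only [this]
  rw [h3] at h1
  unfold abPhi
  rw [MonoidHom.comp_apply, MonoidHom.comp_apply, ← h1, map_mul, map_mul, map_inv,
    mul_comm, ← mul_assoc, inv_mul_cancel, one_mul]

theorem abPhi_eq_one (hm : 1 ≤ m) (ε : Idx m → ℤˣ) (hε : ε ∈ (parHom m).ker) :
    abPhi m F ε = 1 := by
  have h1 : abPhi m F ε = ∏ k, abPhi m F (Pi.mulSingle k (ε k)) := by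
    rw [← map_prod, Finset.univ_prod_mulSingle]
  let i₀ : Fin m := ⟨0, hm⟩
  let ψp : ℤˣ →* Abelianization (LO (dQ (nu m F))) :=
    (abPhi m F).comp (MonoidHom.mulSingle (fun _ : Idx m => ℤˣ) (Sum.inl ()))
  let ψm : ℤˣ →* Abelianization (LO (dQ (nu m F))) :=
    (abPhi m F).comp (MonoidHom.mulSingle (fun _ : Idx m => ℤˣ) (Sum.inr (Sum.inr i₀)))
  have hp : ∀ (i : Fin m) (u : ℤˣ), abPhi m F (Pi.mulSingle (Sum.inr (Sum.inl i)) u) = ψp u := by
    intro i u
    exact abPhi_same (by simp) u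
  have hmn : ∀ (i : Fin m) (u : ℤˣ),
      abPhi m F (Pi.mulSingle (Sum.inr (Sum.inr i)) u) = ψm u := by
    intro i u
    exact abPhi_same (by simp) u
  have h0 : ∀ u : ℤˣ, abPhi m F (Pi.mulSingle (Sum.inl ()) u) = ψp u := fun u => rfl
  rw [h1, Fintype.prod_sum_type, Fintype.prod_sum_type]
  simp only [Finset.univ_unique, Finset.prod_singleton, PUnit.default_eq_unit]
  simp only [hp, hmn, h0]
  rw [← map_prod, ← map_prod, ← mul_assoc, ← map_mul, ← parHom_fst, ← parHom_snd]
  have h5 : parHom m ε = 1 := hε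
  rw [h5]
  simp

theorem dgG_mem_commutator (hm : 1 ≤ m) (ε : Idx m → ℤˣ) (hε : ε ∈ (parHom m).ker) :
    dgG (nu m F) ε ∈ commutator (LO (dQ (nu m F))) := by
  rw [← Abelianization.ker_of, MonoidHom.mem_ker]
  exact abPhi_eq_one hm ε hε

end OrthOdd

end Cfsg.Agent.Lib.Helper9.SpOm
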