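import Mathlib
import Cfsg.Agent.Lib.Helper9.SpOmH

set_option autoImplicit false

namespace Cfsg.Agent.Lib.Helper9.SpOm

section Refl
variable {F : Type*} [Field F] {ι : Type*} [Fintype ι] [DecidableEq ι]

/-- half the polar form of the diagonal form -/
def bl (ν : ι → F) (x w : ι → F) : F := ∑ k, ν k * x k * w k

theorem bl_self (ν : ι → F) (w : ι → F) : bl ν w w = dQ ν w := by
  unfold bl dQ
  apply Finset.sum_congr rfl
  intro k _
  ring

theorem bl_add_left (ν : ι → F) (x y w : ι → F) : bl ν (x + y) w = bl ν x w + bl ν y w := by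
  unfold bl
  rw [← Finset.sum_add_distrib]
  apply Finset.sum_congr rfl
  intro k _
  simp only [Pi.add_apply]
  ring

theorem bl_smul_left (ν : ι → F) (c : F) (x w : ι → F) : bl ν (c • x) w = c * bl ν x w := by
  unfold bl
  rw [Finset.mul_sum]
  apply Finset.sum_congr rfl
  intro k _
  simp only [Pi.smul_apply, smul_eq_mul]
  ring

theorem bl_sub_smul (ν : ι → F) (c : F) (x w' w : ι → F) :
    bl ν (x - c • w') w = bl ν x w - c * bl ν w' w := by
  unfold bl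
  rw [Finset.mul_sum, ← Finset.sum_sub_distrib]
  apply Finset.sum_congr rfl
  intro k _
  simp only [Pi.sub_apply, Pi.smul_apply, smul_eq_mul]
  ring

theorem dQ_sub_smul (ν : ι → F) (c : F) (x w : ι → F) :
    dQ ν (x - c • w) = dQ ν x - 2 * c * bl ν x w + c ^ 2 * dQ ν w := by
  unfold dQ bl
  rw [Finset.mul_sum, Finset.mul_sum, ← Finset.sum_sub_distrib, ← Finset.sum_add_distrib]
  apply Finset.sum_congr rfl
  intro k _
  simp only [Pi.sub_apply, Pi.smul_apply, smul_eq_mul]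
  ring

/-- the reflection in a vector of norm one, as a linear map -/
def rflLin (ν : ι → F) (w : ι → F) : (ι → F) →ₗ[F] (ι → F) where
  toFun := fun x => x - (2 * bl ν x w) • w
  map_add' := by
    intro x y
    rw [bl_add_left]
    ext k
    simp only [Pi.sub_apply, Pi.add_apply, Pi.smul_apply, smul_eq_mul]
    ring
  map_smul' := by
    intro c x
    rw [bl_smul_left]
    ext k
    simp only [Pi.sub_apply, Pi.smul_apply, smul_eq_mul, RingHom.id_apply]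
    ring

theorem rflLin_apply (ν : ι → F) (w x : ι → F) : rflLin ν w x = x - (2 * bl ν x w) • w := rfl

theorem rflLin_invol (ν : ι → F) (w : ι → F) (hw : dQ ν w = 1) :
    Function.Involutive (rflLin ν w) := by
  intro x
  rw [rflLin_apply, rflLin_apply, bl_sub_smul, bl_self, hw]
  ext k
  simp only [Pi.sub_apply, Pi.smul_apply, smul_eq_mul]
  ring

/-- the reflection in a vector of norm one -/
def rflL (ν : ι → F) (w : ι → F) (hw : dQ ν w = 1) : (ι → F) ≃ₗ[F] (ι → F) :=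
  LinearEquiv.ofInvolutive (rflLin ν w) (rflLin_invol ν w hw)

theorem rflL_apply (ν : ι → F) (w : ι → F) (hw : dQ ν w = 1) (x : ι → F) (k : ι) :
    rflL ν w hw x k = x k - 2 * bl ν x w * w k := rfl

theorem rflL_mul_self (ν : ι → F) (w : ι → F) (hw : dQ ν w = 1) :
    rflL ν w hw * rflL ν w hw = 1 := by
  apply LinearEquiv.ext
  intro x
  exact rflLin_invol ν w hw x

theorem rflL_mem (ν : ι → F) (w : ι → F) (hw : dQ ν w = 1) : rflL ν w hw ∈ LO (dQ ν) := by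
  intro x
  show dQ ν (x - (2 * bl ν x w) • w) = dQ ν x
  rw [dQ_sub_smul, hw]
  ring

/-- a sum of three basis vectors -/
def w3 (a₁ a₂ b₁ : ι) : ι → F := Pi.single a₁ 1 + Pi.single a₂ 1 + Pi.single b₁ 1

theorem bl_w3 (ν : ι → F) (x : ι → F) (a₁ a₂ b₁ : ι) :
    bl ν x (w3 a₁ a₂ b₁) = ν a₁ * x a₁ + ν a₂ * x a₂ + ν b₁ * x b₁ := by
  unfold bl w3
  simp only [Pi.add_apply, mul_add, Finset.sum_add_distrib, Pi.single_apply, mul_ite, mul_one,
    mul_zero, Finset.sum_ite_eq', Finset.mem_univ, if_true]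

theorem w3_apply_1 {a₁ a₂ b₁ : ι} (h12 : a₁ ≠ a₂) (h1b : a₁ ≠ b₁) :
    (w3 a₁ a₂ b₁ : ι → F) a₁ = 1 := by
  unfold w3
  simp [Pi.single_apply, h12, h1b]

theorem w3_apply_2 {a₁ a₂ b₁ : ι} (h12 : a₁ ≠ a₂) (h2b : a₂ ≠ b₁) :
    (w3 a₁ a₂ b₁ : ι → F) a₂ = 1 := by
  unfold w3
  simp [Pi.single_apply, h12.symm, h2b]

theorem w3_apply_3 {a₁ a₂ b₁ : ι} (h1b : a₁ ≠ b₁) (h2b : a₂ ≠ b₁) :
    (w3 a₁ a₂ b₁ : ι → F) b₁ = 1 := by
  unfold w3
  simp [Pi.single_apply, h1b.symm, h2b.symm]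

theorem dQ_w3 (ν : ι → F) {a₁ a₂ b₁ : ι} (h12 : a₁ ≠ a₂) (h1b : a₁ ≠ b₁) (h2b : a₂ ≠ b₁)
    (hν1 : ν a₁ = 1) (hν2 : ν a₂ = 1) (hν3 : ν b₁ = -1) : dQ ν (w3 a₁ a₂ b₁ : ι → F) = 1 := by
  rw [← bl_self, bl_w3, w3_apply_1 h12 h1b, w3_apply_2 h12 h2b, w3_apply_3 h1b h2b, hν1, hν2, hν3]
  ring

end Refl

end Cfsg.Agent.Lib.Helper9.SpOm
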