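import Mathlib
import Cfsg.Agent.Lib.Helper9.SpOmJ

set_option autoImplicit false

namespace Cfsg.Agent.Lib.Helper9.SpOm

open scoped commutatorElement

section Wit
variable {F : Type*} [Field F] {ι : Type*} [Fintype ι] [DecidableEq ι]

theorem commutatorElement_mem_commutator {G : Type*} [Group G] (a b : G) :
    ⁅a, b⁆ ∈ commutator G := by
  rw [commutator_def]
  exact Subgroup.commutator_mem_commutator (Subgroup.mem_top _) (Subgroup.mem_top _)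

theorem noncomm_three (h2 : (2 : F) ≠ 0) (ν : ι → F) {k₁ k₂ k₃ : ι} (h12 : ν k₁ = ν k₂)
    (h13 : ν k₁ = ν k₃) (n31 : k₃ ≠ k₁) (n32 : k₃ ≠ k₂) (ε : ι → ℤˣ) (hε : ε k₁ ≠ ε k₂) :
    ∃ w ∈ commutator (LO (dQ ν)), w * dgG ν ε ≠ dgG ν ε * w := by
  let σ : nuPerm ν := ⟨Equiv.swap k₁ k₂, swap_mem_nuPerm h12⟩
  let σ' : nuPerm ν := ⟨Equiv.swap k₁ k₃, swap_mem_nuPerm h13⟩
  refine ⟨⁅pmG ν σ, pmG ν σ'⁆, commutatorElement_mem_commutator _ _, ?_⟩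
  intro hcomm
  rw [← map_commutatorElement] at hcomm
  obtain ⟨τ, hτ⟩ : ∃ τ : nuPerm ν, τ = ⁅σ, σ'⁆ := ⟨_, rfl⟩
  rw [← hτ] at hcomm
  have hτ1 : τ.1 k₁ = k₂ := by
    rw [hτ, commutatorElement_def]
    show (Equiv.swap k₁ k₂ * Equiv.swap k₁ k₃ * (Equiv.swap k₁ k₂)⁻¹ *
      (Equiv.swap k₁ k₃)⁻¹) k₁ = k₂
    simp [Equiv.swap_inv, Equiv.Perm.mul_apply, Equiv.swap_apply_of_ne_of_ne n31 n32]
  have hτs : τ.1.symm k₂ = k₁ := by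
    rw [Equiv.symm_apply_eq]
    exact hτ1.symm
  have h1 := congrFun (LinearEquiv.congr_fun (congrArg Subtype.val hcomm) (Pi.single k₁ 1)) k₂
  change (pmL τ.1 (dgL ε (Pi.single k₁ 1))) k₂ = (dgL ε (pmL τ.1 (Pi.single k₁ 1))) k₂ at h1
  rw [pmL_apply, dgL_apply, dgL_apply, pmL_apply, hτs, Pi.single_eq_same, mul_one, mul_one] at h1
  exact hε (sgn_inj h2 h1)

theorem noncomm_refl (h2 : (2 : F) ≠ 0) (ν : ι → F) {a₁ a₂ b₁ : ι} (h12 : a₁ ≠ a₂)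
    (h1b : a₁ ≠ b₁) (h2b : a₂ ≠ b₁) (hν1 : ν a₁ = 1) (hν2 : ν a₂ = 1) (hν3 : ν b₁ = -1)
    (ε : ι → ℤˣ) (hε : ε a₂ ≠ ε b₁) :
    ∃ w ∈ commutator (LO (dQ ν)), w * dgG ν ε ≠ dgG ν ε * w := by
  have hw := dQ_w3 ν h12 h1b h2b hν1 hν2 hν3
  obtain ⟨ρ, hρ⟩ : ∃ ρ : LO (dQ ν), ρ = ⟨rflL ν (w3 a₁ a₂ b₁) hw, rflL_mem ν _ hw⟩ := ⟨_, rfl⟩
  obtain ⟨η, hη⟩ : ∃ η : ι → ℤˣ, η = Pi.mulSingle a₁ (-1) := ⟨_, rfl⟩
  obtain ⟨s, hs⟩ : ∃ s : LO (dQ ν), s = dgG ν η := ⟨_, rfl⟩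
  refine ⟨⁅ρ, s⁆, commutatorElement_mem_commutator _ _, ?_⟩
  intro hcomm
  have hρinv : ρ⁻¹ = ρ := by
    apply inv_eq_of_mul_eq_one_right
    rw [hρ]
    exact Subtype.ext (rflL_mul_self ν _ hw)
  have hsinv : s⁻¹ = s := by
    apply inv_eq_of_mul_eq_one_right
    rw [hs, ← map_mul]
    have : η * η = 1 := by
      funext k
      rw [Pi.mul_apply, Int.units_mul_self, Pi.one_apply]
    rw [this, map_one]
  have hact : ∀ x : ι → F,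
      ((⁅ρ, s⁆ : LO (dQ ν)) : (ι → F) ≃ₗ[F] (ι → F)) x = ρ.1 (s.1 (ρ.1 (s.1 x))) := by
    intro x
    rw [commutatorElement_def, hρinv, hsinv]
    rfl
  have ρa : ∀ (x : ι → F) (k : ι),
      ρ.1 x k = x k - 2 * (x a₁ + x a₂ - x b₁) * (w3 a₁ a₂ b₁ : ι → F) k := by
    intro x k
    rw [hρ]
    show rflL ν _ hw x k = _
    rw [rflL_apply, bl_w3, hν1, hν2, hν3]
    ring
  have sa : ∀ (x : ι → F) (k : ι), s.1 x k = sgn F (η k) * x k := by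
    intro x k
    rw [hs]
    rfl
  have η1 : sgn F (η a₁) = -1 := by
    rw [hη, Pi.mulSingle_eq_same, sgn_neg_one]
  have η2 : sgn F (η a₂) = 1 := by
    rw [hη, Pi.mulSingle_eq_of_ne h12.symm, sgn_one]
  have η3 : sgn F (η b₁) = 1 := by
    rw [hη, Pi.mulSingle_eq_of_ne h1b.symm, sgn_one]
  have w1 := w3_apply_1 (F := F) h12 h1b
  have w2 := w3_apply_2 (F := F) h12 h2b
  have w3' := w3_apply_3 (F := F) h1b h2b
  obtain ⟨x, hx⟩ : ∃ x : ι → F, x = Pi.single a₂ 1 := ⟨_, rfl⟩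
  have x1 : x a₁ = 0 := by rw [hx, Pi.single_eq_of_ne h12]
  have x2 : x a₂ = 1 := by rw [hx, Pi.single_eq_same]
  have x3 : x b₁ = 0 := by rw [hx, Pi.single_eq_of_ne h2b.symm]
  have y11 : s.1 x a₁ = 0 := by rw [sa, x1, mul_zero]
  have y12 : s.1 x a₂ = 1 := by rw [sa, x2, η2, mul_one]
  have y13 : s.1 x b₁ = 0 := by rw [sa, x3, mul_zero]
  have y21 : ρ.1 (s.1 x) a₁ = -2 := by
    rw [ρa, y11, y12, y13, w1]
    ring
  have y22 : ρ.1 (s.1 x) a₂ = -1 := by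
    rw [ρa, y11, y12, y13, w2]
    ring
  have y23 : ρ.1 (s.1 x) b₁ = -2 := by
    rw [ρa, y11, y12, y13, w3']
    ring
  have y31 : s.1 (ρ.1 (s.1 x)) a₁ = 2 := by
    rw [sa, y21, η1]
    ring
  have y32 : s.1 (ρ.1 (s.1 x)) a₂ = -1 := by
    rw [sa, y22, η2]
    ring
  have y33 : s.1 (ρ.1 (s.1 x)) b₁ = -2 := by
    rw [sa, y23, η3]
    ring
  have y43 : ρ.1 (s.1 (ρ.1 (s.1 x))) b₁ = -8 := by
    rw [ρa, y31, y32, y33, w3']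
    ring
  have key : ((⁅ρ, s⁆ : LO (dQ ν)) : (ι → F) ≃ₗ[F] (ι → F)) x b₁ = -8 := by
    rw [hact, y43]
  have hdx : dgL ε x = sgn F (ε a₂) • x := by
    funext k
    rw [dgL_apply, Pi.smul_apply, smul_eq_mul, hx]
    by_cases hk : k = a₂
    · rw [hk]
    · rw [Pi.single_eq_of_ne hk, mul_zero, mul_zero]
  have h1 := congrFun (LinearEquiv.congr_fun (congrArg Subtype.val hcomm) x) b₁
  change ((⁅ρ, s⁆ : LO (dQ ν)) : (ι → F) ≃ₗ[F] (ι → F)) (dgL ε x) b₁ =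
    dgL ε (((⁅ρ, s⁆ : LO (dQ ν)) : (ι → F) ≃ₗ[F] (ι → F)) x) b₁ at h1
  rw [hdx, map_smul, Pi.smul_apply, smul_eq_mul, dgL_apply, key] at h1
  have h8 : (-8 : F) ≠ 0 := by
    have : (-8 : F) = -(2 * 2 * 2) := by norm_num
    rw [this]
    exact neg_ne_zero.mpr (mul_ne_zero (mul_ne_zero h2 h2) h2)
  exact hε (sgn_inj h2 (mul_right_cancel₀ h8 h1))

end Wit

end Cfsg.Agent.Lib.Helper9.SpOm
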