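import Mathlib
import Cfsg.Agent.Lib.Helper9.SpOmI
import Cfsg.Agent.Lib.Helper9.SpOmK

set_option autoImplicit false

namespace Cfsg.Agent.Lib.Helper9.SpOm

section OrthOdd
variable {F : Type*} [Field F] {m : ℕ}

theorem exists_ne_of_three {α : Type*} (c0 c1 c2 k₁ k₂ : α) (h01 : c0 ≠ c1) (h02 : c0 ≠ c2)
    (h12 : c1 ≠ c2) : ∃ c, (c = c0 ∨ c = c1 ∨ c = c2) ∧ c ≠ k₁ ∧ c ≠ k₂ := by
  classical
  by_cases a0 : c0 ≠ k₁ ∧ c0 ≠ k₂
  · exact ⟨c0, Or.inl rfl, a0⟩
  by_cases a1 : c1 ≠ k₁ ∧ c1 ≠ k₂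
  · exact ⟨c1, Or.inr (Or.inl rfl), a1⟩
  refine ⟨c2, Or.inr (Or.inr rfl), ?_, ?_⟩
  · intro h
    subst h
    have b0 : c0 = k₂ := by
      by_contra hne
      exact a0 ⟨h02, hne⟩
    have b1 : c1 = k₂ := by
      by_contra hne
      exact a1 ⟨h12, hne⟩
    exact h01 (b0.trans b1.symm)
  · intro h
    subst h
    have b0 : c0 = k₁ := by
      by_contra hne
      exact a0 ⟨hne, h02⟩
    have b1 : c1 = k₁ := by
      by_contra hne
      exact a1 ⟨hne, h12⟩
    exact h01 (b0.trans b1.symm)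

theorem exists_third (hm : 3 ≤ m) (k₁ k₂ : Idx m) :
    ∃ k₃ : Idx m, nu m F k₁ = nu m F k₃ ∧ k₃ ≠ k₁ ∧ k₃ ≠ k₂ := by
  let i0 : Fin m := ⟨0, by omega⟩
  let i1 : Fin m := ⟨1, by omega⟩
  let i2 : Fin m := ⟨2, by omega⟩
  have h01 : i0 ≠ i1 := by
    intro h
    have := congrArg Fin.val h
    simp [i0, i1] at this
  have h02 : i0 ≠ i2 := by
    intro h
    have := congrArg Fin.val h
    simp [i0, i2] at this
  have h12 : i1 ≠ i2 := by
    intro h
    have := congrArg Fin.val h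
    simp [i1, i2] at this
  rcases k₁ with u | i | i
  · obtain ⟨c, hc, hc1, hc2⟩ := exists_ne_of_three
      (Sum.inr (Sum.inl i0) : Idx m) (Sum.inr (Sum.inl i1)) (Sum.inr (Sum.inl i2))
      (Sum.inl u) k₂ (by simpa using h01) (by simpa using h02) (by simpa using h12)
    refine ⟨c, ?_, hc1, hc2⟩
    rcases hc with rfl | rfl | rfl <;> rfl
  · obtain ⟨c, hc, hc1, hc2⟩ := exists_ne_of_three
      (Sum.inr (Sum.inl i0) : Idx m) (Sum.inr (Sum.inl i1)) (Sum.inr (Sum.inl i2))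
      (Sum.inr (Sum.inl i)) k₂ (by simpa using h01) (by simpa using h02) (by simpa using h12)
    refine ⟨c, ?_, hc1, hc2⟩
    rcases hc with rfl | rfl | rfl <;> rfl
  · obtain ⟨c, hc, hc1, hc2⟩ := exists_ne_of_three
      (Sum.inr (Sum.inr i0) : Idx m) (Sum.inr (Sum.inr i1)) (Sum.inr (Sum.inr i2))
      (Sum.inr (Sum.inr i)) k₂ (by simpa using h01) (by simpa using h02) (by simpa using h12)
    refine ⟨c, ?_, hc1, hc2⟩
    rcases hc with rfl | rfl | rfl <;> rfl

theorem exists_elemAb_LO (h2 : (2 : F) ≠ 0) (hm : 3 ≤ m) :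
    ∃ E : Subgroup (LO (dQ (nu m F))), (∀ x ∈ E, x * x = 1) ∧
      E ≤ commutator (LO (dQ (nu m F))) ∧
      (∀ x ∈ E, x ≠ 1 → ∃ w ∈ commutator (LO (dQ (nu m F))), w * x ≠ x * w) ∧
      2 ^ (2 * m - 1) ≤ Nat.card E := by
  have hm1 : 1 ≤ m := by omega
  refine ⟨(parHom m).ker.map (dgG (nu m F)), ?_, ?_, ?_, ?_⟩
  · rintro _ ⟨ε, -, rfl⟩
    rw [← map_mul]
    have : ε * ε = 1 := by
      funext k
      rw [Pi.mul_apply, Int.units_mul_self, Pi.one_apply]
    rw [this, map_one]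
  · rintro _ ⟨ε, hε, rfl⟩
    exact dgG_mem_commutator hm1 ε hε
  · rintro _ ⟨ε, hε, rfl⟩ hne
    by_cases hc : ∃ k₁ k₂ : Idx m, nu m F k₁ = nu m F k₂ ∧ ε k₁ ≠ ε k₂
    · obtain ⟨k₁, k₂, hν, hk⟩ := hc
      obtain ⟨k₃, h13, n31, n32⟩ := exists_third (F := F) hm k₁ k₂
      exact noncomm_three h2 (nu m F) hν h13 n31 n32 ε hk
    · push Not at hc
      let i0 : Fin m := ⟨0, by omega⟩
      let i1 : Fin m := ⟨1, by omega⟩
      have h01 : i0 ≠ i1 := by
        intro h
        have := congrArg Fin.val h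
        simp [i0, i1] at this
      apply noncomm_refl h2 (nu m F) (a₁ := Sum.inr (Sum.inl i0)) (a₂ := Sum.inr (Sum.inl i1))
        (b₁ := Sum.inr (Sum.inr i0)) (by simpa using h01) (by simp) (by simp) rfl rfl rfl ε
      intro hab
      apply hne
      -- ε is constant
      have hconst : ∀ k : Idx m, ε k = ε (Sum.inr (Sum.inl i1)) := by
        intro k
        rcases k with u | i | i
        · exact hc _ _ rfl
        · exact hc _ _ rfl
        · rw [hab]
          exact hc _ _ rfl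
      have hker : parHom m ε = 1 := hε
      have h1 := congrArg Prod.fst hker
      have h3 := congrArg Prod.snd hker
      rw [parHom_fst] at h1
      rw [parHom_snd] at h3
      simp only [hconst, Finset.prod_const, Finset.card_univ, Fintype.card_fin, Prod.fst_one,
        Prod.snd_one] at h1 h3
      rw [h3, mul_one] at h1
      have hε1 : ε = 1 := by
        funext k
        rw [hconst k, h1, Pi.one_apply]
      rw [hε1, map_one]
  · rw [Subgroup.card_map_of_injective (dgG_injective h2 _)]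
    exact two_pow_le_card_ker hm1

end OrthOdd

end Cfsg.Agent.Lib.Helper9.SpOm
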