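import Mathlib
import Cfsg.Prelude
import Cfsg.Agent.Lib.Helper9.SpOmL

set_option autoImplicit false

namespace Cfsg.Agent.Lib.Helper9.SpOm

section Transfer
variable {F : Type*} [Field F] {ι : Type} [Fintype ι] [DecidableEq ι]

/-- conjugation by a linear automorphism carrying one form to another -/
def conjHom (L : (ι → F) ≃ₗ[F] (ι → F)) (q q' : (ι → F) → F) (h : ∀ z, q (L z) = q' z) :
    LO q' →* LO q where
  toFun := fun e => ⟨L * e.1 * L⁻¹, by
    intro v
    show q (L (e.1 (L.symm v))) = q v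
    rw [h, e.2, ← h, LinearEquiv.apply_symm_apply]⟩
  map_one' := by
    apply Subtype.ext
    show L * 1 * L⁻¹ = 1
    rw [mul_one, mul_inv_cancel]
  map_mul' := by
    intro a b
    apply Subtype.ext
    show L * (a.1 * b.1) * L⁻¹ = (L * a.1 * L⁻¹) * (L * b.1 * L⁻¹)
    group

theorem conjHom_injective (L : (ι → F) ≃ₗ[F] (ι → F)) (q q' : (ι → F) → F)
    (h : ∀ z, q (L z) = q' z) : Function.Injective (conjHom L q q' h) := by
  intro a b hab
  apply Subtype.ext
  have h1 : L * a.1 * L⁻¹ = L * b.1 * L⁻¹ := congrArg Subtype.val hab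
  exact mul_left_cancel (mul_right_cancel h1)

/-- linear automorphisms as invertible matrices -/
noncomputable def leToGL : ((ι → F) ≃ₗ[F] (ι → F)) →* Matrix.GeneralLinearGroup ι F where
  toFun := fun f => ⟨LinearMap.toMatrix' (f : (ι → F) →ₗ[F] (ι → F)),
    LinearMap.toMatrix' (f.symm : (ι → F) →ₗ[F] (ι → F)),
    by rw [← LinearMap.toMatrix'_comp, LinearEquiv.comp_symm, LinearMap.toMatrix'_id],
    by rw [← LinearMap.toMatrix'_comp, LinearEquiv.symm_comp, LinearMap.toMatrix'_id]⟩
  map_one' := by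
    apply Units.ext
    exact LinearMap.toMatrix'_id
  map_mul' := by
    intro a b
    apply Units.ext
    exact LinearMap.toMatrix'_comp _ _

theorem leToGL_mulVec (f : (ι → F) ≃ₗ[F] (ι → F)) (v : ι → F) :
    ((leToGL f : Matrix.GeneralLinearGroup ι F) : Matrix ι ι F).mulVec v = f v := by
  show (LinearMap.toMatrix' (f : (ι → F) →ₗ[F] (ι → F))).mulVec v = f v
  rw [← Matrix.toLin'_apply, Matrix.toLin'_toMatrix']
  rfl

theorem leToGL_injective : Function.Injective (leToGL (F := F) (ι := ι)) := by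
  intro a b hab
  apply LinearEquiv.ext
  intro v
  rw [← leToGL_mulVec, ← leToGL_mulVec, hab]

/-- the isometry group of linear automorphisms into the isometry group of matrices -/
noncomputable def loToIso (q : (ι → F) → F) : LO q →* Cfsg.isometryGroup F q :=
  (leToGL.comp (LO q).subtype).codRestrict _ (by
    intro e u v
    show q (((leToGL e.1 : Matrix.GeneralLinearGroup ι F) : Matrix ι ι F).mulVec u) = q u
    rw [leToGL_mulVec]
    exact e.2 u)

theorem loToIso_injective (q : (ι → F) → F) : Function.Injective (loToIso q) := by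
  intro a b hab
  apply Subtype.ext
  apply leToGL_injective
  exact congrArg Subtype.val hab

end Transfer

section OrthOdd
variable {F : Type*} [Field F] {m : ℕ}

/-- the change of basis diagonalising the form -/
noncomputable def diagL (h2 : (2 : F) ≠ 0) (m : ℕ) : (Idx m → F) ≃ₗ[F] (Idx m → F) where
  toFun := fun z => Sum.elim (fun _ => z (Sum.inl ()))
    (Sum.elim (fun i => z (Sum.inr (Sum.inl i)) + z (Sum.inr (Sum.inr i)))
      (fun i => z (Sum.inr (Sum.inl i)) - z (Sum.inr (Sum.inr i))))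
  map_add' := by
    intro a b
    ext k
    rcases k with u | i | i <;> simp <;> ring
  map_smul' := by
    intro c a
    ext k
    rcases k with u | i | i <;> simp <;> ring
  invFun := fun x => Sum.elim (fun _ => x (Sum.inl ()))
    (Sum.elim (fun i => 2⁻¹ * (x (Sum.inr (Sum.inl i)) + x (Sum.inr (Sum.inr i))))
      (fun i => 2⁻¹ * (x (Sum.inr (Sum.inl i)) - x (Sum.inr (Sum.inr i)))))
  left_inv := by
    intro z
    ext k
    rcases k with u | i | i
    · rfl
    · simp only [Sum.elim_inr, Sum.elim_inl]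
      field_simp
      ring
    · simp only [Sum.elim_inr, Sum.elim_inl]
      field_simp
      ring
  right_inv := by
    intro z
    ext k
    rcases k with u | i | i
    · rfl
    · simp only [Sum.elim_inr, Sum.elim_inl]
      field_simp
      ring
    · simp only [Sum.elim_inr, Sum.elim_inl]
      field_simp
      ring

theorem quadFormOdd_diagL (h2 : (2 : F) ≠ 0) (z : Idx m → F) :
    Cfsg.quadFormOdd m F (diagL h2 m z) = dQ (nu m F) z := by
  unfold Cfsg.quadFormOdd dQ
  rw [Fintype.sum_sum_type, Fintype.sum_sum_type]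
  simp only [Finset.univ_unique, Finset.sum_singleton, PUnit.default_eq_unit, nu_inl, nu_inr_inl,
    nu_inr_inr, one_mul]
  rw [← Finset.sum_add_distrib]
  congr 1
  apply Finset.sum_congr rfl
  intro i _
  show (z (Sum.inr (Sum.inl i)) + z (Sum.inr (Sum.inr i))) *
    (z (Sum.inr (Sum.inl i)) - z (Sum.inr (Sum.inr i))) = _
  ring

theorem exists_elemAb_POmega (h2 : (2 : F) ≠ 0) (hm : 3 ≤ m) :
    ∃ H : Subgroup (Cfsg.POmega F (Cfsg.quadFormOdd m F)),
      (∀ h ∈ H, h * h = 1) ∧ 2 ^ (2 * m - 1) ≤ Nat.card H := by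
  obtain ⟨E, hE2, hEc, hEnc, hEcard⟩ := exists_elemAb_LO (F := F) h2 hm
  let Ξ : LO (dQ (nu m F)) →* Cfsg.isometryGroup F (Cfsg.quadFormOdd m F) :=
    (loToIso (Cfsg.quadFormOdd m F)).comp
      (conjHom (diagL h2 m) (Cfsg.quadFormOdd m F) (dQ (nu m F)) (quadFormOdd_diagL h2))
  have hΞ : Function.Injective Ξ :=
    (loToIso_injective _).comp (conjHom_injective _ _ _ _)
  obtain ⟨H, hH2, hHcard⟩ := exists_elemAb_of_hom Ξ hΞ E hE2 hEc hEnc
  exact ⟨H, hH2, hHcard ▸ hEcard⟩

end OrthOdd

end Cfsg.Agent.Lib.Helper9.SpOm
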