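import Mathlib
import Cfsg.Agent.Lib.Helper9.SpPair1

set_option autoImplicit false
set_option maxHeartbeats 800000

/-! Pairs of complementary totally isotropic subspaces of a symplectic space: producing
transvections in an overgroup of the stabiliser. -/

namespace Cfsg.Agent.H9SpMax

open Cfsg.Agent.Lib.Helper1.SpBasic Cfsg.Agent.Lib.Helper2.Symp Cfsg.Agent.Lib.Helper2.SpIsom Matrix
open Module

variable {F : Type*} [Field F] {m : ℕ}

/-- `M` contains the elements `E_{a,b}` with `a ∈ A`, `b ∈ B` -/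
def HasSpPairElts (M : Subgroup (Matrix.symplecticGroup (Fin m) F))
    (A B : Submodule F (Fin m ⊕ Fin m → F)) : Prop :=
  ∀ a b : Fin m ⊕ Fin m → F, a ∈ A → b ∈ B → Cfsg.sympForm m F a b = 0 → eich a b ∈ M

theorem HasSpPairElts.symm {M : Subgroup (Matrix.symplecticGroup (Fin m) F)}
    {A B : Submodule F (Fin m ⊕ Fin m → F)} (hH : HasSpPairElts M A B) :
    HasSpPairElts M B A := by
  intro b a hb ha hba
  rw [eich_comm b a hba]
  exact hH a b ha hb (form_eq_zero_symm hba)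

theorem finrank_span_singleton_le (w : Fin m ⊕ Fin m → F) :
    finrank F ↥(Submodule.span F {w}) ≤ 1 := by
  have := finrank_span_le_card (R := F) ({w} : Set (Fin m ⊕ Fin m → F))
  simpa using this

theorem finrank_span_pair_le' (u v : Fin m ⊕ Fin m → F) :
    finrank F ↥(Submodule.span F {u, v}) ≤ 2 := by
  classical
  have h : finrank F ↥(Submodule.span F ((({u, v} : Finset (Fin m ⊕ Fin m → F)) :
      Set (Fin m ⊕ Fin m → F)))) ≤ 2 :=
    (finrank_span_finset_le_card ({u, v} : Finset (Fin m ⊕ Fin m → F))).trans Finset.card_le_two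
  have e : ((({u, v} : Finset (Fin m ⊕ Fin m → F)) : Set (Fin m ⊕ Fin m → F))) = {u, v} := by
    ext; simp
  rw [e] at h
  exact h

theorem finrank_span_triple_le' (x y z : Fin m ⊕ Fin m → F) :
    finrank F ↥(Submodule.span F ({x, y, z} : Set (Fin m ⊕ Fin m → F))) ≤ 3 := by
  classical
  have h : finrank F ↥(Submodule.span F ((({x, y, z} : Finset (Fin m ⊕ Fin m → F)) :
      Set (Fin m ⊕ Fin m → F)))) ≤ 3 :=
    (finrank_span_finset_le_card ({x, y, z} : Finset (Fin m ⊕ Fin m → F))).trans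
      Finset.card_le_three
  have e : ((({x, y, z} : Finset (Fin m ⊕ Fin m → F)) : Set (Fin m ⊕ Fin m → F))) =
      {x, y, z} := by
    ext; simp
  rw [e] at h
  exact h

namespace SpPair

variable {A B : Submodule F (Fin m ⊕ Fin m → F)}

/-- **Dichotomy**: elements `E_{a, t z}` with the `A`-component of `z` off `⟨a⟩` give the
transvections at `a`. -/
theorem dir_of_extra (h : SpPair A B) (h2 : (2 : F) ≠ 0)
    {M : Subgroup (Matrix.symplecticGroup (Fin m) F)} (hH : HasSpPairElts M A B)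
    {a z₁ z₂ : Fin m ⊕ Fin m → F} (ha : a ∈ A) (hz₁ : z₁ ∈ A) (hz₂ : z₂ ∈ B)
    (haz : Cfsg.sympForm m F a z₂ = 0) (hne : z₁ ∉ Submodule.span F {a})
    (hall : ∀ t : F, eich a (t • (z₁ + z₂)) ∈ M) : a ∈ dirSet M := by
  have hXA : Submodule.span F {a} ≤ A := by
    rw [Submodule.span_le]
    rintro _ rfl
    exact ha
  obtain ⟨b, hb, hbX, hbz⟩ := h.sep _ hXA hz₁ hne
  have hab : Cfsg.sympForm m F a b = 0 := hbX a (Submodule.subset_span rfl)
  have haz' : Cfsg.sympForm m F a (z₁ + z₂) = 0 := by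
    rw [sympForm_add_right, h.tiA a ha z₁ hz₁, haz, add_zero]
  have hβ : Cfsg.sympForm m F b (z₁ + z₂) = - Cfsg.sympForm m F z₁ b := by
    rw [sympForm_add_right, h.tiB b hb z₂ hz₂, add_zero, sympForm_swap]
  intro c
  obtain ⟨t, ht⟩ : ∃ t : F, t = - c / (2 * Cfsg.sympForm m F z₁ b) := ⟨_, rfl⟩
  have h1 := T_mem_of_eich M a (t • (z₁ + z₂)) b
    (by rw [sympForm_smul_right, haz', mul_zero]) hab (hall t) (hH a b ha hb hab)
  have e : 2 * Cfsg.sympForm m F b (t • (z₁ + z₂)) = c := by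
    rw [sympForm_smul_right, hβ, ht]
    field_simp
  rw [e] at h1
  exact h1

/-- the key step -/
theorem step (h : SpPair A B) (hm : 5 ≤ m) (h2 : (2 : F) ≠ 0)
    {M : Subgroup (Matrix.symplecticGroup (Fin m) F)} (hH : HasSpPairElts M A B)
    {z z₁ z₂ r r₁ r₂ : Fin m ⊕ Fin m → F} (hz₁ : z₁ ∈ A) (hz₂ : z₂ ∈ B)
    (hr₁ : r₁ ∈ A) (hr₂ : r₂ ∈ B) (hzdec : z = z₁ + z₂) (hrdec : r = r₁ + r₂) (hz₁0 : z₁ ≠ 0)
    (hzr : Cfsg.sympForm m F z r = 0) (hr : ∀ t : F, eich z (t • r) ∈ M)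
    (hne : r₁ ∉ Submodule.span F {z₁}) : ∃ a ∈ A, a ≠ 0 ∧ a ∈ dirSet M := by
  have hXA : Submodule.span F {z₁} ≤ A := by
    rw [Submodule.span_le]
    rintro _ rfl
    exact hz₁
  obtain ⟨b, hb, hbX, hbr⟩ := h.sep _ hXA hr₁ hne
  have hz₁b : Cfsg.sympForm m F z₁ b = 0 := hbX z₁ (Submodule.subset_span rfl)
  have hSB : Submodule.span F ({r₂, z₂, b} : Set (Fin m ⊕ Fin m → F)) ≤ B := by
    rw [Submodule.span_le]
    rintro x hx
    rcases hx with rfl | rfl | rfl
    · exact hr₂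
    · exact hz₂
    · exact hb
  obtain ⟨a, ha, haS, haL⟩ := h.exists_in_perp _ hSB (Submodule.span F {z₁}) (by
    have h1 := finrank_span_triple_le' r₂ z₂ b
    have h2 := finrank_span_singleton_le z₁
    omega)
  have hr₂a : Cfsg.sympForm m F r₂ a = 0 := haS r₂ (Submodule.subset_span (by simp))
  have hz₂a : Cfsg.sympForm m F z₂ a = 0 := haS z₂ (Submodule.subset_span (by simp))
  have hba : Cfsg.sympForm m F b a = 0 := haS b (Submodule.subset_span (by simp))
  have hab : Cfsg.sympForm m F a b = 0 := form_eq_zero_symm hba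
  have ha0 : a ≠ 0 := by
    rintro rfl
    exact haL (Submodule.zero_mem _)
  have hρM := hH a b ha hb hab
  have hza : Cfsg.sympForm m F z a = 0 := by
    rw [hzdec, sympForm_add_left, h.tiA z₁ hz₁ a ha, hz₂a, add_zero]
  have hzb : Cfsg.sympForm m F z b = 0 := by
    rw [hzdec, sympForm_add_left, hz₁b, h.tiB z₂ hz₂ b hb, add_zero]
  have hra : Cfsg.sympForm m F r a = 0 := by
    rw [hrdec, sympForm_add_left, h.tiA r₁ hr₁ a ha, hr₂a, add_zero]
  have hrb : Cfsg.sympForm m F r b = Cfsg.sympForm m F r₁ b := by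
    rw [hrdec, sympForm_add_left, h.tiB r₂ hr₂ b hb, add_zero]
  have hρz : ((eich a b : Matrix.symplecticGroup (Fin m) F) :
      Matrix (Fin m ⊕ Fin m) (Fin m ⊕ Fin m) F) *ᵥ z = z := by
    rw [eich_mulVec a b hab, hza, hzb]
    simp
  obtain ⟨β, hβ⟩ : ∃ β : F, β = Cfsg.sympForm m F r₁ b := ⟨_, rfl⟩
  have hβ0 : β ≠ 0 := by rw [hβ]; exact hbr
  have hρr : ∀ t : F, ((eich a b : Matrix.symplecticGroup (Fin m) F) :
      Matrix (Fin m ⊕ Fin m) (Fin m ⊕ Fin m) F) *ᵥ (t • r) = (t * β) • a + t • r := by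
    intro t
    rw [eich_mulVec a b hab, sympForm_smul_left, sympForm_smul_left, hra, hrb, ← hβ]
    module
  -- `E_{z, tβ a} ∈ M`
  have h1 : ∀ t : F, eich z ((t * β) • a) ∈ M := by
    intro t
    have hc := conj_eich' (eich a b) z (t • r)
    rw [hρz, hρr] at hc
    have h3 : eich z ((t * β) • a + t • r) ∈ M := by
      rw [← hc]
      exact M.mul_mem (M.mul_mem hρM (hr t)) (M.inv_mem hρM)
    have h4 := eich_mul_eich z ((t * β) • a) (t • r)
      (by rw [sympForm_smul_right, hza, mul_zero]) (by rw [sympForm_smul_right, hzr, mul_zero])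
    have h5 : Cfsg.sympForm m F (t • r) ((t * β) • a) = 0 := by
      rw [sympForm_smul_left, sympForm_smul_right, hra, mul_zero, mul_zero]
    rw [h5, T_zero, one_mul] at h4
    have h6 : eich z ((t * β) • a) = eich z ((t * β) • a + t • r) * (eich z (t • r))⁻¹ := by
      rw [← h4, mul_assoc, mul_inv_cancel, mul_one]
    rw [h6]
    exact M.mul_mem h3 (M.inv_mem (hr t))
  have haz : Cfsg.sympForm m F a z = 0 := form_eq_zero_symm hza
  have h7 : ∀ t : F, eich a (t • (z₁ + z₂)) ∈ M := by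
    intro t
    have h8 := h1 (t / β)
    rw [div_mul_cancel₀ t hβ0] at h8
    rw [eich_comm z (t • a) (by rw [sympForm_smul_right, hza, mul_zero]),
      eich_smul' t a z haz, hzdec] at h8
    exact h8
  refine ⟨a, ha, ha0, ?_⟩
  apply h.dir_of_extra h2 hH ha hz₁ hz₂ (form_eq_zero_symm hz₂a) _ h7
  intro hmem
  obtain ⟨c, hc⟩ := Submodule.mem_span_singleton.1 hmem
  have hc0 : c ≠ 0 := by
    rintro rfl
    rw [zero_smul] at hc
    exact hz₁0 hc.symm
  apply haL
  have : a = c⁻¹ • z₁ := by rw [← hc, smul_smul, inv_mul_cancel₀ hc0, one_smul]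
  rw [this]
  exact Submodule.smul_mem _ _ (Submodule.subset_span rfl)

/-- **Existence of a transvection direction** in `A ∪ B` for a group containing the pair
elements and an element moving a point of `A` off `A ∪ B`. -/
theorem exists_dir (h : SpPair A B) (hm : 5 ≤ m) (h2 : (2 : F) ≠ 0)
    {M : Subgroup (Matrix.symplecticGroup (Fin m) F)} (hH : HasSpPairElts M A B)
    (γ : Matrix.symplecticGroup (Fin m) F) (hγM : γ ∈ M) {w z₁ z₂ : Fin m ⊕ Fin m → F}
    (hwA : w ∈ A) (hz₁ : z₁ ∈ A) (hz₂ : z₂ ∈ B) (hz₁0 : z₁ ≠ 0) (hz₂0 : z₂ ≠ 0)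
    (hγw : (γ : Matrix (Fin m ⊕ Fin m) (Fin m ⊕ Fin m) F) *ᵥ w = z₁ + z₂) :
    (∃ a ∈ A, a ≠ 0 ∧ a ∈ dirSet M) ∨ (∃ b ∈ B, b ≠ 0 ∧ b ∈ dirSet M) := by
  obtain ⟨z, hzdec⟩ : ∃ z, z = z₁ + z₂ := ⟨_, rfl⟩
  rw [← hzdec] at hγw
  have hR : ∀ b ∈ B, Cfsg.sympForm m F w b = 0 → ∀ t : F,
      eich z (t • ((γ : Matrix (Fin m ⊕ Fin m) (Fin m ⊕ Fin m) F) *ᵥ b)) ∈ M := by
    intro b hb hwb t
    have hc := conj_eich' γ w (t • b)
    rw [hγw, Matrix.mulVec_smul] at hc
    rw [← hc]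
    exact M.mul_mem (M.mul_mem hγM (hH w (t • b) hwA (B.smul_mem t hb)
      (by rw [sympForm_smul_right, hwb, mul_zero]))) (M.inv_mem hγM)
  -- a root vector off the plane `⟨z₁, z₂⟩`
  obtain ⟨b₀, hb₀B, hwb₀, hrP⟩ : ∃ b₀ ∈ B, Cfsg.sympForm m F w b₀ = 0 ∧
      (γ : Matrix (Fin m ⊕ Fin m) (Fin m ⊕ Fin m) F) *ᵥ b₀ ∉ Submodule.span F {z₁, z₂} := by
    by_contra hcon
    push Not at hcon
    have f1 := h.symm.finrank_inf_perp (Submodule.span F {w})
    have hsp := finrank_span_singleton_le w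
    set f := Matrix.toLin' (γ : Matrix (Fin m ⊕ Fin m) (Fin m ⊕ Fin m) F) with hf
    have hfinj : Function.Injective f := by
      intro y y' hyy'
      rw [hf, Matrix.toLin'_apply, Matrix.toLin'_apply] at hyy'
      have := congrArg (fun x => ((γ⁻¹ : Matrix.symplecticGroup (Fin m) F) :
        Matrix (Fin m ⊕ Fin m) (Fin m ⊕ Fin m) F) *ᵥ x) hyy'
      simp only [inv_mulVec_mulVec] at this
      exact this
    have hle : (B ⊓ perp (Submodule.span F {w})).map f ≤ Submodule.span F {z₁, z₂} := by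
      rintro _ ⟨b, hb, rfl⟩
      rw [hf, Matrix.toLin'_apply]
      apply hcon b hb.1
      exact (mem_perp _ b).1 hb.2 w (Submodule.subset_span rfl)
    have h1 := Submodule.finrank_mono hle
    have h3 : finrank F ↥((B ⊓ perp (Submodule.span F {w})).map f) =
        finrank F ↥(B ⊓ perp (Submodule.span F {w})) :=
      (LinearEquiv.finrank_eq (Submodule.equivMapOfInjective f hfinj _)).symm
    have h4 := finrank_span_pair_le' z₁ z₂
    omega
  obtain ⟨r, hrdef⟩ : ∃ r, r = (γ : Matrix (Fin m ⊕ Fin m) (Fin m ⊕ Fin m) F) *ᵥ b₀ :=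
    ⟨_, rfl⟩
  rw [← hrdef] at hrP
  have hr : ∀ t : F, eich z (t • r) ∈ M := fun t => by rw [hrdef]; exact hR b₀ hb₀B hwb₀ t
  have hzr : Cfsg.sympForm m F z r = 0 := by
    rw [← hγw, hrdef, form_mulVec]; exact hwb₀
  obtain ⟨r₁, hr₁, r₂, hr₂, hrdec⟩ := h.sum r
  by_cases hcase : r₁ ∈ Submodule.span F {z₁}
  · right
    have hne : r₂ ∉ Submodule.span F {z₂} := by
      intro hmem
      apply hrP
      rw [hrdec]
      obtain ⟨c, hc⟩ := Submodule.mem_span_singleton.1 hcase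
      obtain ⟨d, hd⟩ := Submodule.mem_span_singleton.1 hmem
      rw [← hc, ← hd]
      exact Submodule.add_mem _
        (Submodule.smul_mem _ _ (Submodule.subset_span (by simp)))
        (Submodule.smul_mem _ _ (Submodule.subset_span (by simp)))
    exact h.symm.step hm h2 hH.symm hz₂ hz₁ hr₂ hr₁ (hzdec.trans (add_comm _ _))
      (hrdec.trans (add_comm _ _)) hz₂0 hzr hr hne
  · left
    exact h.step hm h2 hH hz₁ hz₂ hr₁ hr₂ hzdec hrdec hz₁0 hzr hr hcase

end SpPair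

end Cfsg.Agent.H9SpMax
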