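import Mathlib
import Cfsg.Agent.Lib.Helper9.SpPair2
import Cfsg.Agent.Lib.Helper9.ProdFam

set_option autoImplicit false
set_option maxHeartbeats 800000

/-! The stabiliser of a pair of complementary totally isotropic subspaces is maximal in
`Sp_{2m}(q)`, `q` odd. -/

namespace Cfsg.Agent.H9SpMax

open Cfsg.Agent.Lib.Helper1.SpBasic Cfsg.Agent.Lib.Helper2.Symp Cfsg.Agent.Lib.Helper2.SpIsom Matrix
open Module Cfsg.Agent.H9Prod

variable {F : Type*} [Field F] {m : ℕ}

theorem sp_toLin_inj (g : Matrix.symplecticGroup (Fin m) F) :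
    Function.Injective (Matrix.toLin' (g : Matrix (Fin m ⊕ Fin m) (Fin m ⊕ Fin m) F)) := by
  intro y y' hyy'
  rw [Matrix.toLin'_apply, Matrix.toLin'_apply] at hyy'
  have := congrArg (fun x => ((g⁻¹ : Matrix.symplecticGroup (Fin m) F) :
    Matrix (Fin m ⊕ Fin m) (Fin m ⊕ Fin m) F) *ᵥ x) hyy'
  simp only [inv_mulVec_mulVec] at this
  exact this

/-- mapping a subspace into a subspace of the same dimension -/
theorem sp_map_eq_of_mapsTo (W W' : Submodule F (Fin m ⊕ Fin m → F))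
    (hfin : finrank F W = finrank F W') (g : Matrix.symplecticGroup (Fin m) F)
    (h : ∀ v ∈ W, (g : Matrix (Fin m ⊕ Fin m) (Fin m ⊕ Fin m) F) *ᵥ v ∈ W') :
    W.map (Matrix.toLin' (g : Matrix (Fin m ⊕ Fin m) (Fin m ⊕ Fin m) F)) = W' := by
  apply Submodule.eq_of_le_of_finrank_eq
  · rintro _ ⟨v, hv, rfl⟩
    rw [Matrix.toLin'_apply]
    exact h v hv
  · rw [← hfin]
    exact (LinearEquiv.finrank_eq (Submodule.equivMapOfInjective _ (sp_toLin_inj g) W)).symm

/-- a subspace contained in the union of two subspaces lies in one of them -/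
theorem sp_le_or_le_of_subset_union (X A B : Submodule F (Fin m ⊕ Fin m → F))
    (h : ∀ x ∈ X, x ∈ A ∨ x ∈ B) : X ≤ A ∨ X ≤ B := by
  by_contra hcon
  push Not at hcon
  obtain ⟨hA, hB⟩ := hcon
  rw [SetLike.not_le_iff_exists] at hA hB
  obtain ⟨x, hx, hxA⟩ := hA
  obtain ⟨y, hy, hyB⟩ := hB
  have hxB : x ∈ B := (h x hx).resolve_left hxA
  have hyA : y ∈ A := (h y hy).resolve_right hyB
  rcases h (x + y) (X.add_mem hx hy) with h1 | h1
  · apply hxA
    have := A.sub_mem h1 hyA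
    rwa [add_sub_cancel_right] at this
  · apply hyB
    have := B.sub_mem h1 hxB
    rwa [add_sub_cancel_left] at this

namespace SpPair

variable {A B : Submodule F (Fin m ⊕ Fin m → F)}

/-- if one point of `A` is a transvection direction, all are -/
theorem all_dir (h : SpPair A B) {M : Subgroup (Matrix.symplecticGroup (Fin m) F)}
    (hH : HasSpPairElts M A B) {a₀ : Fin m ⊕ Fin m → F} (ha₀ : a₀ ∈ A) (ha₀0 : a₀ ≠ 0)
    (hd : a₀ ∈ dirSet M) : ∀ a ∈ A, a ∈ dirSet M := by
  intro a ha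
  by_cases haa : a ∈ Submodule.span F {a₀}
  · obtain ⟨c, rfl⟩ := Submodule.mem_span_singleton.1 haa
    exact dirSet_smul M c hd
  · have ha0 : a ≠ 0 := by
      rintro rfl
      exact haa (Submodule.zero_mem _)
    have haa' : a₀ ∉ Submodule.span F {a} := by
      intro hmem
      obtain ⟨c, hc⟩ := Submodule.mem_span_singleton.1 hmem
      have hc0 : c ≠ 0 := by
        rintro rfl
        rw [zero_smul] at hc
        exact ha₀0 hc.symm
      apply haa
      have : a = c⁻¹ • a₀ := by rw [← hc, smul_smul, inv_mul_cancel₀ hc0, one_smul]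
      rw [this]
      exact Submodule.smul_mem _ _ (Submodule.subset_span rfl)
    have hX₀ : Submodule.span F {a₀} ≤ A := by
      rw [Submodule.span_le]; rintro _ rfl; exact ha₀
    have hX : Submodule.span F {a} ≤ A := by
      rw [Submodule.span_le]; rintro _ rfl; exact ha
    obtain ⟨b₁, hb₁, hb₁X, hb₁a⟩ := h.sep _ hX₀ ha haa
    obtain ⟨b₂, hb₂, hb₂X, hb₂a⟩ := h.sep _ hX ha₀ haa'
    have h1 : Cfsg.sympForm m F a₀ b₁ = 0 := hb₁X a₀ (Submodule.subset_span rfl)
    have h2 : Cfsg.sympForm m F a b₂ = 0 := hb₂X a (Submodule.subset_span rfl)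
    obtain ⟨b, hbdef⟩ : ∃ b, b = (Cfsg.sympForm m F a b₁)⁻¹ • b₁ +
        (Cfsg.sympForm m F a₀ b₂)⁻¹ • b₂ := ⟨_, rfl⟩
    have hbB : b ∈ B := by
      rw [hbdef]; exact B.add_mem (B.smul_mem _ hb₁) (B.smul_mem _ hb₂)
    have hab : Cfsg.sympForm m F a b = 1 := by
      rw [hbdef, sympForm_add_right, sympForm_smul_right, sympForm_smul_right, h2, mul_zero,
        add_zero, inv_mul_cancel₀ hb₁a]
    have ha₀b : Cfsg.sympForm m F a₀ b = 1 := by
      rw [hbdef, sympForm_add_right, sympForm_smul_right, sympForm_smul_right, h1, mul_zero,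
        zero_add, inv_mul_cancel₀ hb₂a]
    have hdb : Cfsg.sympForm m F (a - a₀) b = 0 := by
      rw [sympForm_sub_left, hab, ha₀b, sub_self]
    have hρ := hH (a - a₀) b (A.sub_mem ha ha₀) hbB hdb
    have h3 := dirSet_mulVec M hρ hd
    rw [eich_mulVec _ _ hdb, ha₀b, h.tiA a₀ ha₀ (a - a₀) (A.sub_mem ha ha₀)] at h3
    have e : a₀ + (1 : F) • (a - a₀) + (0 : F) • b = a := by
      rw [one_smul, zero_smul, add_zero]; abel
    rw [e] at h3
    exact h3

/-- **an element of `Sp` interchanging `A` and `B`** -/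
theorem exists_swap (h : SpPair A B) :
    ∃ s : Matrix.symplecticGroup (Fin m) F,
      (∀ a ∈ A, (s : Matrix (Fin m ⊕ Fin m) (Fin m ⊕ Fin m) F) *ᵥ a ∈ B) ∧
      (∀ b ∈ B, (s : Matrix (Fin m ⊕ Fin m) (Fin m ⊕ Fin m) F) *ᵥ b ∈ A) := by
  classical
  have e : Basis (Fin m) F ↥A := Module.finBasisOfFinrankEq F ↥A h.finA
  let Φ : ↥B →ₗ[F] Module.Dual F ↥A :=
    ((sympBilin m F).compl₁₂ A.subtype B.subtype).flip
  have hΦ : ∀ (b : ↥B) (a : ↥A), Φ b a =
      Cfsg.sympForm m F (a : Fin m ⊕ Fin m → F) (b : Fin m ⊕ Fin m → F) := by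
    intro b a
    show sympBilin m F _ _ = _
    rw [sympBilin_apply]
    rfl
  have hΦinj : Function.Injective Φ := by
    rw [← LinearMap.ker_eq_bot, LinearMap.ker_eq_bot']
    intro b hb
    apply Subtype.ext
    apply h.symm.pairing b.2
    intro a ha
    have := LinearMap.congr_fun hb ⟨a, ha⟩
    rw [hΦ] at this
    exact form_eq_zero_symm this
  have hfin : finrank F ↥B = finrank F (Module.Dual F ↥A) := by
    rw [Subspace.dual_finrank_eq, h.finA, h.finB]
  have hΦsurj : Function.Surjective Φ :=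
    (LinearMap.injective_iff_surjective_of_finrank_eq_finrank hfin).1 hΦinj
  choose f' hf' using fun j : Fin m => hΦsurj (e.coord j)
  obtain ⟨E, hE⟩ : ∃ E : Fin m → Fin m ⊕ Fin m → F,
      ∀ i, E i = ((e i : ↥A) : Fin m ⊕ Fin m → F) := ⟨_, fun _ => rfl⟩
  obtain ⟨fv, hfv⟩ : ∃ fv : Fin m → Fin m ⊕ Fin m → F,
      ∀ j, fv j = ((f' j : ↥B) : Fin m ⊕ Fin m → F) := ⟨_, fun _ => rfl⟩
  have hEA : ∀ i, E i ∈ A := fun i => by rw [hE]; exact (e i).2
  have hfB : ∀ j, fv j ∈ B := fun j => by rw [hfv]; exact (f' j).2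
  have hEf : ∀ i j, Cfsg.sympForm m F (E i) (fv j) = if i = j then 1 else 0 := by
    intro i j
    rw [hE, hfv, ← hΦ, hf', Basis.coord_apply, Basis.repr_self, Finsupp.single_apply]
  have hfE : ∀ i j, Cfsg.sympForm m F (fv j) (E i) = if i = j then -1 else 0 := by
    intro i j
    rw [sympForm_swap, hEf]
    split_ifs <;> simp
  have hEE : ∀ i j, Cfsg.sympForm m F (E i) (E j) = 0 := fun i j =>
    h.tiA _ (hEA i) _ (hEA j)
  have hff : ∀ i j, Cfsg.sympForm m F (fv i) (fv j) = 0 := fun i j =>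
    h.tiB _ (hfB i) _ (hfB j)
  obtain ⟨r, hr⟩ : ∃ r : Fin m → Matrix.symplecticGroup (Fin m) F,
      ∀ i, r i = T (E i) 1 * (T (fv i) 1 * T (E i) 1) := ⟨_, fun _ => rfl⟩
  have hT : ∀ (v x : Fin m ⊕ Fin m → F) (t : F), Cfsg.sympForm m F x v = t →
      ((T v 1 : Matrix.symplecticGroup (Fin m) F) :
        Matrix (Fin m ⊕ Fin m) (Fin m ⊕ Fin m) F) *ᵥ x = x + t • v := by
    intro v x t ht
    rw [T_mulVec, ht, one_mul]
  have hrE : ∀ i j, ((r i : Matrix.symplecticGroup (Fin m) F) :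
      Matrix (Fin m ⊕ Fin m) (Fin m ⊕ Fin m) F) *ᵥ E j = if i = j then fv j else E j := by
    intro i j
    rw [hr, coe_mul_mulVec, coe_mul_mulVec]
    have h1 : ((T (E i) 1 : Matrix.symplecticGroup (Fin m) F) :
        Matrix (Fin m ⊕ Fin m) (Fin m ⊕ Fin m) F) *ᵥ E j = E j := by
      rw [hT _ _ 0 (hEE j i), zero_smul, add_zero]
    rw [h1]
    by_cases hij : i = j
    · subst hij
      rw [if_pos rfl]
      have h2 : ((T (fv i) 1 : Matrix.symplecticGroup (Fin m) F) :
          Matrix (Fin m ⊕ Fin m) (Fin m ⊕ Fin m) F) *ᵥ E i = E i + fv i := by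
        rw [hT _ _ 1 (by rw [hEf, if_pos rfl]), one_smul]
      rw [h2]
      have h3 : Cfsg.sympForm m F (E i + fv i) (E i) = -1 := by
        rw [sympForm_add_left, hEE, hfE, if_pos rfl, zero_add]
      rw [hT _ _ (-1) h3]
      module
    · rw [if_neg hij]
      have h2 : ((T (fv i) 1 : Matrix.symplecticGroup (Fin m) F) :
          Matrix (Fin m ⊕ Fin m) (Fin m ⊕ Fin m) F) *ᵥ E j = E j := by
        rw [hT _ _ 0 (by rw [hEf, if_neg (fun h' => hij h'.symm)]), zero_smul, add_zero]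
      rw [h2, h1]
  have hrf : ∀ i j, ((r i : Matrix.symplecticGroup (Fin m) F) :
      Matrix (Fin m ⊕ Fin m) (Fin m ⊕ Fin m) F) *ᵥ fv j = if i = j then - E j else fv j := by
    intro i j
    rw [hr, coe_mul_mulVec, coe_mul_mulVec]
    by_cases hij : i = j
    · subst hij
      rw [if_pos rfl]
      have h1 : ((T (E i) 1 : Matrix.symplecticGroup (Fin m) F) :
          Matrix (Fin m ⊕ Fin m) (Fin m ⊕ Fin m) F) *ᵥ fv i = fv i + (-1 : F) • E i := by
        rw [hT _ _ (-1) (by rw [hfE, if_pos rfl])]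
      rw [h1]
      have h3 : Cfsg.sympForm m F (fv i + (-1 : F) • E i) (fv i) = -1 := by
        rw [sympForm_add_left, sympForm_smul_left, hff, hEf, if_pos rfl, zero_add, mul_one]
      have h2 : ((T (fv i) 1 : Matrix.symplecticGroup (Fin m) F) :
          Matrix (Fin m ⊕ Fin m) (Fin m ⊕ Fin m) F) *ᵥ (fv i + (-1 : F) • E i) = - E i := by
        rw [hT _ _ (-1) h3]
        module
      rw [h2]
      have h4 : Cfsg.sympForm m F (- E i) (E i) = 0 := by
        have : - E i = (-1 : F) • E i := by module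
        rw [this, sympForm_smul_left, hEE, mul_zero]
      rw [hT _ _ 0 h4, zero_smul, add_zero]
    · rw [if_neg hij]
      have h1 : ((T (E i) 1 : Matrix.symplecticGroup (Fin m) F) :
          Matrix (Fin m ⊕ Fin m) (Fin m ⊕ Fin m) F) *ᵥ fv j = fv j := by
        rw [hT _ _ 0 (by rw [hfE, if_neg hij]), zero_smul, add_zero]
      have h2 : ((T (fv i) 1 : Matrix.symplecticGroup (Fin m) F) :
          Matrix (Fin m ⊕ Fin m) (Fin m ⊕ Fin m) F) *ᵥ fv j = fv j := by
        rw [hT _ _ 0 (hff j i), zero_smul, add_zero]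
      rw [h1, h2, h1]
  have hrE' : ∀ i j, i ≠ j → ((r i : Matrix.symplecticGroup (Fin m) F) :
      Matrix (Fin m ⊕ Fin m) (Fin m ⊕ Fin m) F) *ᵥ (- E j) = - E j := by
    intro i j hij
    rw [Matrix.mulVec_neg, hrE, if_neg hij]
  obtain ⟨s, hs⟩ : ∃ s, s = prodFam r m := ⟨_, rfl⟩
  have hact := prodFam_act (fun (g : Matrix.symplecticGroup (Fin m) F) x =>
    (g : Matrix (Fin m ⊕ Fin m) (Fin m ⊕ Fin m) F) *ᵥ x)
    (fun g h' x => coe_mul_mulVec g h' x) (fun x => coe_one_mulVec x) r E fv (fun j => - E j)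
    hrE hrf hrE'
  rw [← hs] at hact
  have hsE : ∀ i, (s : Matrix (Fin m ⊕ Fin m) (Fin m ⊕ Fin m) F) *ᵥ E i = fv i :=
    fun i => (hact i).1
  have hsf : ∀ i, (s : Matrix (Fin m ⊕ Fin m) (Fin m ⊕ Fin m) F) *ᵥ fv i = - E i :=
    fun i => (hact i).2
  refine ⟨s, ?_, ?_⟩
  · intro a ha
    have h1 : a = ∑ i, (e.repr ⟨a, ha⟩ i) • E i := by
      have h2 := e.sum_repr ⟨a, ha⟩
      have h3 := congrArg (fun x : ↥A => (x : Fin m ⊕ Fin m → F)) h2
      simp only [Submodule.coe_sum, Submodule.coe_smul] at h3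
      refine h3.symm.trans ?_
      apply Finset.sum_congr rfl
      intro i _
      rw [hE]
    rw [h1, ← Matrix.toLin'_apply, map_sum]
    apply B.sum_mem
    intro i _
    rw [map_smul, Matrix.toLin'_apply, hsE]
    exact B.smul_mem _ (hfB i)
  · intro b hb
    have h1 : b = ∑ j, Cfsg.sympForm m F (E j) b • fv j := by
      have hmem : ∑ j, Cfsg.sympForm m F (E j) b • fv j ∈ B :=
        B.sum_mem (fun j _ => B.smul_mem _ (hfB j))
      have h2 : Φ ⟨b, hb⟩ = Φ ⟨_, hmem⟩ := by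
        apply e.ext
        intro i
        rw [hΦ, hΦ]
        show Cfsg.sympForm m F ((e i : ↥A) : Fin m ⊕ Fin m → F) b =
          Cfsg.sympForm m F ((e i : ↥A) : Fin m ⊕ Fin m → F)
            (∑ j, Cfsg.sympForm m F (E j) b • fv j)
        rw [← hE]
        have hlin : Cfsg.sympForm m F (E i) (∑ j, Cfsg.sympForm m F (E j) b • fv j) =
            ∑ j, Cfsg.sympForm m F (E j) b * Cfsg.sympForm m F (E i) (fv j) := by
          rw [← sympBilin_apply, map_sum]
          apply Finset.sum_congr rfl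
          intro j _
          rw [map_smul, smul_eq_mul, sympBilin_apply]
        rw [hlin]
        simp only [hEf, mul_ite, mul_one, mul_zero]
        rw [Finset.sum_ite_eq Finset.univ i]
        simp
      exact congrArg (fun x : ↥B => (x : Fin m ⊕ Fin m → F)) (hΦinj h2)
    rw [h1, ← Matrix.toLin'_apply, map_sum]
    apply A.sum_mem
    intro j _
    rw [map_smul, Matrix.toLin'_apply, hsf]
    exact A.smul_mem _ (A.neg_mem (hEA j))

end SpPair

end Cfsg.Agent.H9SpMax
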