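import Mathlib
import Cfsg.Agent.Lib.Helper9.SpPair3

set_option autoImplicit false
set_option maxHeartbeats 800000

/-! The stabiliser of a pair of complementary totally isotropic subspaces is maximal in
`Sp_{2m}(q)`, `q` odd: assembly. -/

namespace Cfsg.Agent.H9SpMax

open Cfsg.Agent.Lib.Helper1.SpBasic Cfsg.Agent.Lib.Helper2.Symp Cfsg.Agent.Lib.Helper2.SpIsom Matrix
open Module

variable {F : Type*} [Field F] {m : ℕ}

theorem sp_pair_stab_maximal (hm : 5 ≤ m) (h2 : (2 : F) ≠ 0)
    (D : Fin 2 → Submodule F (Fin m ⊕ Fin m → F)) (hD : Cfsg.Geo.IsMDecomposition m D)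
    (hts : ∀ i, Cfsg.Geo.IsTotallySingularFor (Cfsg.sympForm m F) (D i)) :
    Cfsg.Geo.IsMaximalIn (Cfsg.spGL m F)
      (Cfsg.Geo.decompositionStabilizer D ⊓ Cfsg.spGL m F) := by
  classical
  obtain ⟨A, hA⟩ : ∃ A, A = D 0 := ⟨_, rfl⟩
  obtain ⟨B, hB⟩ : ∃ B, B = D 1 := ⟨_, rfl⟩
  have hsup : A ⊔ B = ⊤ := by
    rw [hA, hB, ← hD.iSup_eq_top]
    apply le_antisymm
    · exact sup_le (le_iSup D 0) (le_iSup D 1)
    · apply iSup_le
      intro i
      fin_cases i
      · exact le_sup_left
      · exact le_sup_right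
  have hAk : finrank F A = m := by rw [hA]; exact hD.finrank_eq 0
  have hBk : finrank F B = m := by rw [hB]; exact hD.finrank_eq 1
  have h : SpPair A B :=
    { tiA := by rw [hA]; exact hts 0
      tiB := by rw [hB]; exact hts 1
      sum := fun x => by
        have hx : x ∈ A ⊔ B := by rw [hsup]; trivial
        obtain ⟨a, ha, b, hb, rfl⟩ := Submodule.mem_sup.1 hx
        exact ⟨a, ha, b, hb, rfl⟩
      finA := hAk
      finB := hBk }
  have hA0 : A ≠ ⊥ := by
    intro h0
    rw [h0, finrank_bot] at hAk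
    omega
  have hAB : A ≠ B := by
    intro heq
    have := h.inf_eq_bot
    rw [← heq, inf_idem] at this
    exact hA0 this
  -- membership in the decomposition stabiliser
  have hstab : ∀ g : Matrix.symplecticGroup (Fin m) F,
      (∀ a ∈ A, (g : Matrix (Fin m ⊕ Fin m) (Fin m ⊕ Fin m) F) *ᵥ a ∈ A) →
      (∀ b ∈ B, (g : Matrix (Fin m ⊕ Fin m) (Fin m ⊕ Fin m) F) *ᵥ b ∈ B) →
      toGL m F g ∈ Cfsg.Geo.decompositionStabilizer D := by
    intro g hgA hgB
    refine ⟨1, fun i => ?_⟩
    fin_cases i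
    · show (D 0).map _ = D 0
      rw [← hA]
      exact sp_map_eq_of_mapsTo A A rfl g hgA
    · show (D 1).map _ = D 1
      rw [← hB]
      exact sp_map_eq_of_mapsTo B B rfl g hgB
  have hswapmem : ∀ g : Matrix.symplecticGroup (Fin m) F,
      (∀ a ∈ A, (g : Matrix (Fin m ⊕ Fin m) (Fin m ⊕ Fin m) F) *ᵥ a ∈ B) →
      (∀ b ∈ B, (g : Matrix (Fin m ⊕ Fin m) (Fin m ⊕ Fin m) F) *ᵥ b ∈ A) →
      toGL m F g ∈ Cfsg.Geo.decompositionStabilizer D := by
    intro g hgA hgB
    refine ⟨Equiv.swap 0 1, fun i => ?_⟩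
    fin_cases i
    · show (D 0).map _ = D (Equiv.swap 0 1 0)
      rw [Equiv.swap_apply_left, ← hA, ← hB]
      exact sp_map_eq_of_mapsTo A B (hAk.trans hBk.symm) g hgA
    · show (D 1).map _ = D (Equiv.swap 0 1 1)
      rw [Equiv.swap_apply_right, ← hA, ← hB]
      exact sp_map_eq_of_mapsTo B A (hBk.trans hAk.symm) g hgB
  have hmemS : ∀ g : Matrix.symplecticGroup (Fin m) F, toGL m F g ∈ Cfsg.spGL m F := by
    intro g
    rw [← toGL_range]; exact ⟨_, rfl⟩
  -- the pair elements lie in the stabiliser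
  have hHH : HasSpPairElts
      ((Cfsg.Geo.decompositionStabilizer D ⊓ Cfsg.spGL m F).comap (toGL m F)) A B := by
    intro a b ha hb hab
    rw [Subgroup.mem_comap]
    refine Subgroup.mem_inf.2 ⟨?_, hmemS _⟩
    apply hstab
    · intro x hx
      rw [eich_mulVec _ _ hab, h.tiA x hx a ha, zero_smul, add_zero]
      exact A.add_mem hx (A.smul_mem _ ha)
    · intro x hx
      rw [eich_mulVec _ _ hab, h.tiB x hx b hb, zero_smul, add_zero]
      exact B.add_mem hx (B.smul_mem _ hb)
  constructor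
  · -- properness
    apply lt_of_le_of_ne inf_le_right
    intro heq
    obtain ⟨a, haA, ha0⟩ := Submodule.exists_mem_ne_zero_of_ne_bot hA0
    obtain ⟨b, hbB, hab⟩ : ∃ b ∈ B, Cfsg.sympForm m F a b ≠ 0 := by
      by_contra hcon
      push Not at hcon
      exact ha0 (h.pairing haA hcon)
    have hE := hmemS (T a 1)
    rw [← heq] at hE
    obtain ⟨σ, hσ⟩ := (Subgroup.mem_inf.1 hE).1
    have hfix : ∀ x ∈ A, ((T a 1 : Matrix.symplecticGroup (Fin m) F) :
        Matrix (Fin m ⊕ Fin m) (Fin m ⊕ Fin m) F) *ᵥ x = x := by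
      intro x hx
      rw [T_mulVec, h.tiA x hx a haA, mul_zero, zero_smul, add_zero]
    have h0 : D (σ 0) = D 0 := by
      rw [← hσ 0, ← hA]
      apply le_antisymm
      · rintro _ ⟨x, hx, rfl⟩
        rw [Matrix.toLin'_apply, toGL_coe, hfix x hx]
        exact hx
      · intro x hx
        exact ⟨x, hx, by rw [Matrix.toLin'_apply, toGL_coe, hfix x hx]⟩
    have hσ0 : σ 0 = 0 := by
      by_contra hne
      have : σ 0 = 1 := by
        have : ∀ j : Fin 2, j ≠ 0 → j = 1 := by decide
        exact this _ hne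
      rw [this, ← hA, ← hB] at h0
      exact hAB h0.symm
    have hσ1 : σ 1 = 1 := by
      by_contra hne
      have h1 : σ 1 = 0 := by
        have : ∀ j : Fin 2, j ≠ 1 → j = 0 := by decide
        exact this _ hne
      have := σ.injective (h1.trans hσ0.symm)
      exact absurd this (by decide)
    have hEb : ((T a 1 : Matrix.symplecticGroup (Fin m) F) :
        Matrix (Fin m ⊕ Fin m) (Fin m ⊕ Fin m) F) *ᵥ b ∈ B := by
      have h1 := hσ 1
      rw [hσ1, ← hB] at h1
      have hmem : ((T a 1 : Matrix.symplecticGroup (Fin m) F) :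
          Matrix (Fin m ⊕ Fin m) (Fin m ⊕ Fin m) F) *ᵥ b ∈ B.map (Matrix.toLin'
            ((toGL m F (T a 1) : GL (Fin m ⊕ Fin m) F) :
              Matrix (Fin m ⊕ Fin m) (Fin m ⊕ Fin m) F)) :=
        ⟨b, hbB, by rw [Matrix.toLin'_apply, toGL_coe]⟩
      rw [h1] at hmem
      exact hmem
    rw [T_mulVec, one_mul] at hEb
    have hba : Cfsg.sympForm m F b a ≠ 0 := fun h0 => hab (form_eq_zero_symm h0)
    have h3 : Cfsg.sympForm m F b a • a ∈ B := by
      have := B.sub_mem hEb hbB
      rwa [add_sub_cancel_left] at this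
    have h4 : a ∈ B := by
      have := B.smul_mem (Cfsg.sympForm m F b a)⁻¹ h3
      rwa [smul_smul, inv_mul_cancel₀ hba, one_smul] at this
    exact ha0 (h.disj haA h4)
  · intro M hHM hMK
    by_cases hMH : M ≤ Cfsg.Geo.decompositionStabilizer D ⊓ Cfsg.spGL m F
    · left
      exact le_antisymm hMH hHM
    · right
      apply le_antisymm hMK
      rw [SetLike.not_le_iff_exists] at hMH
      obtain ⟨g₀, hg₀M, hg₀H⟩ := hMH
      have hg₀ : g₀ ∈ (toGL m F).range := by rw [toGL_range]; exact hMK hg₀M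
      obtain ⟨γ, rfl⟩ := hg₀
      obtain ⟨M', hM'⟩ : ∃ M', M' = M.comap (toGL m F) := ⟨_, rfl⟩
      have hγM : γ ∈ M' := by rw [hM']; exact hg₀M
      have hH : HasSpPairElts M' A B := by
        intro a b ha hb hab
        rw [hM', Subgroup.mem_comap]
        exact hHM (hHH a b ha hb hab)
      have hHs := hH.symm
      -- a point of `A ∪ B` moved off `A ∪ B`
      have hmove : (∃ w ∈ A, (γ : Matrix (Fin m ⊕ Fin m) (Fin m ⊕ Fin m) F) *ᵥ w ∉ A ∧
          (γ : Matrix (Fin m ⊕ Fin m) (Fin m ⊕ Fin m) F) *ᵥ w ∉ B) ∨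
          (∃ w ∈ B, (γ : Matrix (Fin m ⊕ Fin m) (Fin m ⊕ Fin m) F) *ᵥ w ∉ A ∧
          (γ : Matrix (Fin m ⊕ Fin m) (Fin m ⊕ Fin m) F) *ᵥ w ∉ B) := by
        by_contra hcon
        push Not at hcon
        obtain ⟨hcA, hcB⟩ := hcon
        apply hg₀H
        refine Subgroup.mem_inf.2 ⟨?_, hMK hg₀M⟩
        obtain ⟨L, hL⟩ : ∃ L, L = Matrix.toLin'
          (γ : Matrix (Fin m ⊕ Fin m) (Fin m ⊕ Fin m) F) := ⟨_, rfl⟩
        have hLinj : Function.Injective L := by rw [hL]; exact sp_toLin_inj γ
        have hLap : ∀ x, L x = (γ : Matrix (Fin m ⊕ Fin m) (Fin m ⊕ Fin m) F) *ᵥ x := by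
          intro x; rw [hL, Matrix.toLin'_apply]
        have hfr : ∀ X : Submodule F (Fin m ⊕ Fin m → F), finrank F (X.map L) = finrank F X :=
          fun X => (LinearEquiv.finrank_eq (Submodule.equivMapOfInjective L hLinj X)).symm
        have hA' : A.map L ≤ A ∨ A.map L ≤ B := by
          apply sp_le_or_le_of_subset_union
          rintro _ ⟨a, ha, rfl⟩
          rw [hLap]
          by_cases h1 : (γ : Matrix (Fin m ⊕ Fin m) (Fin m ⊕ Fin m) F) *ᵥ a ∈ A
          · left; exact h1
          · right; exact hcA a ha h1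
        have hB' : B.map L ≤ A ∨ B.map L ≤ B := by
          apply sp_le_or_le_of_subset_union
          rintro _ ⟨b, hb, rfl⟩
          rw [hLap]
          by_cases h1 : (γ : Matrix (Fin m ⊕ Fin m) (Fin m ⊕ Fin m) F) *ᵥ b ∈ A
          · left; exact h1
          · right; exact hcB b hb h1
        have hne : A.map L ≠ B.map L := by
          intro heq
          apply hAB
          exact Submodule.map_injective_of_injective hLinj heq
        have eqA : ∀ X : Submodule F (Fin m ⊕ Fin m → F), finrank F X = m → X.map L ≤ A →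
            X.map L = A :=
          fun X hX hle => Submodule.eq_of_le_of_finrank_eq hle (by rw [hfr, hX, hAk])
        have eqB : ∀ X : Submodule F (Fin m ⊕ Fin m → F), finrank F X = m → X.map L ≤ B →
            X.map L = B :=
          fun X hX hle => Submodule.eq_of_le_of_finrank_eq hle (by rw [hfr, hX, hBk])
        rcases hA' with h1 | h1 <;> rcases hB' with h2' | h2'
        · exact absurd ((eqA A hAk h1).trans (eqA B hBk h2').symm) hne
        · apply hstab
          · intro a ha
            rw [← hLap]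
            exact h1 ⟨a, ha, rfl⟩
          · intro b hb
            rw [← hLap]
            exact h2' ⟨b, hb, rfl⟩
        · apply hswapmem
          · intro a ha
            rw [← hLap]
            exact h1 ⟨a, ha, rfl⟩
          · intro b hb
            rw [← hLap]
            exact h2' ⟨b, hb, rfl⟩
        · exact absurd ((eqB A hAk h1).trans (eqB B hBk h2').symm) hne
      -- a transvection direction
      have hdir : (∃ y ∈ A, y ≠ 0 ∧ y ∈ dirSet M') ∨ (∃ y ∈ B, y ≠ 0 ∧ y ∈ dirSet M') := by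
        rcases hmove with ⟨w, hwA, hγwA, hγwB⟩ | ⟨w, hwB, hγwA, hγwB⟩
        · obtain ⟨z₁, hz₁, z₂, hz₂, hdec⟩ :=
            h.sum ((γ : Matrix (Fin m ⊕ Fin m) (Fin m ⊕ Fin m) F) *ᵥ w)
          have hz₁0 : z₁ ≠ 0 := by
            rintro rfl
            rw [zero_add] at hdec
            exact hγwB (hdec ▸ hz₂)
          have hz₂0 : z₂ ≠ 0 := by
            rintro rfl
            rw [add_zero] at hdec
            exact hγwA (hdec ▸ hz₁)
          exact h.exists_dir hm h2 hH γ hγM hwA hz₁ hz₂ hz₁0 hz₂0 hdec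
        · obtain ⟨z₁, hz₁, z₂, hz₂, hdec⟩ :=
            h.sum ((γ : Matrix (Fin m ⊕ Fin m) (Fin m ⊕ Fin m) F) *ᵥ w)
          have hz₁0 : z₁ ≠ 0 := by
            rintro rfl
            rw [zero_add] at hdec
            exact hγwB (hdec ▸ hz₂)
          have hz₂0 : z₂ ≠ 0 := by
            rintro rfl
            rw [add_zero] at hdec
            exact hγwA (hdec ▸ hz₁)
          exact (h.symm.exists_dir hm h2 hHs γ hγM hwB hz₂ hz₁ hz₂0 hz₁0
            (hdec.trans (add_comm _ _))).symm
      -- the swap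
      obtain ⟨s, hsA, hsB⟩ := h.exists_swap
      have hsM : s ∈ M' := by
        rw [hM', Subgroup.mem_comap]
        apply hHM
        exact Subgroup.mem_inf.2 ⟨hswapmem s hsA hsB, hmemS s⟩
      have hs0 : ∀ y, y ≠ 0 → (s : Matrix (Fin m ⊕ Fin m) (Fin m ⊕ Fin m) F) *ᵥ y ≠ 0 := by
        intro y hy0 h0
        apply hy0
        have := inv_mulVec_mulVec s y
        rw [← this, h0, Matrix.mulVec_zero]
      -- all points of `A` and of `B` are directions
      have hboth : (∀ a ∈ A, a ∈ dirSet M') ∧ (∀ b ∈ B, b ∈ dirSet M') := by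
        rcases hdir with ⟨y, hy, hy0, hfy⟩ | ⟨y, hy, hy0, hfy⟩
        · exact ⟨h.all_dir hH hy hy0 hfy,
            h.symm.all_dir hHs (hsA y hy) (hs0 y hy0) (dirSet_mulVec M' hsM hfy)⟩
        · exact ⟨h.all_dir hH (hsB y hy) (hs0 y hy0) (dirSet_mulVec M' hsM hfy),
            h.symm.all_dir hHs hy hy0 hfy⟩
      obtain ⟨hallA, hallB⟩ := hboth
      have htop : M' = ⊤ := by
        apply eq_top_of_dirSet
        intro x
        obtain ⟨a, ha, b, hb, rfl⟩ := h.sum x
        by_cases ha0 : a = 0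
        · rw [ha0, zero_add]
          exact hallB b hb
        · obtain ⟨b', hb'B, hab'⟩ : ∃ b' ∈ B, Cfsg.sympForm m F a b' ≠ 0 := by
            by_contra hcon
            push Not at hcon
            exact ha0 (h.pairing ha hcon)
          by_cases hab : Cfsg.sympForm m F a b = 0
          · have e : a + b = (a + b') + (b - b') := by abel
            rw [e]
            apply dirSet_add_of_ne M' (dirSet_add_of_ne M' (hallA a ha) (hallB b' hb'B) hab')
              (hallB _ (B.sub_mem hb hb'B))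
            rw [sympForm_add_left, sympForm_sub_right, sympForm_sub_right, hab,
              h.tiB b' hb'B b hb, h.tiB b' hb'B b' hb'B]
            simpa using hab'
          · exact dirSet_add_of_ne M' (hallA a ha) (hallB b hb) hab
      rw [← toGL_range]
      rintro _ ⟨g, rfl⟩
      have : g ∈ M' := by rw [htop]; trivial
      rw [hM'] at this
      exact this

end Cfsg.Agent.H9SpMax
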