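import Mathlib
import Cfsg.Agent.Lib.Helper9.SpMax1
import Cfsg.Agent.Lib.Helper2.HypTrans
import Cfsg.Agent.Lib.Helper5.QuadFin

set_option autoImplicit false

namespace Cfsg.Agent.H9SpQuad

open Cfsg.Agent.Lib.Helper1.SpBasic Cfsg.Agent.Lib.Helper2.Symp Cfsg.Agent.Lib.Helper2.SpIsom
  Cfsg.Agent.H9SpMax Matrix

variable {F : Type*} [Field F] {m : ℕ}

section General

variable (Q : QuadraticForm F (Fin m ⊕ Fin m → F))

/-- `Q (x + a • u)`. -/
theorem map_add_smul' (x u : Fin m ⊕ Fin m → F) (a : F) :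
    Q (x + a • u) = Q x + a * a * Q u + a * QuadraticMap.polar (⇑Q) x u := by
  rw [QuadraticMap.map_add (⇑Q), QuadraticMap.map_smul, QuadraticMap.polar_smul_right, smul_eq_mul,
    smul_eq_mul]

/-- a singular vector on which a given additive map does not vanish -/
theorem exists_singular_ne [Finite F] (hQnd : (QuadraticMap.polarBilin Q).Nondegenerate)
    (hm : 2 ≤ m) (D : (Fin m ⊕ Fin m → F) → F) (hDadd : ∀ x y, D (x + y) = D x + D y)
    (hDs : ∀ (c : F) x, D x = 0 → D (c • x) = 0) (hD : ∃ x, D x ≠ 0) :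
    ∃ a, Q a = 0 ∧ D a ≠ 0 := by
  have hfr : 3 ≤ Module.finrank F (Fin m ⊕ Fin m → F) := by
    rw [Module.finrank_pi, Fintype.card_sum, Fintype.card_fin]; omega
  obtain ⟨e, he0, he⟩ := Cfsg.Agent.Lib.Helper5.exists_singular_of_finrank Q hfr
  obtain ⟨f, hef, hf⟩ := Cfsg.Agent.Lib.Helper5.exists_partner Q hQnd he0 he
  by_cases hDe : D e = 0
  · by_cases hDf : D f = 0
    · obtain ⟨x, hx⟩ := hD
      by_cases hp : QuadraticMap.polar (⇑Q) x e = 0
      · by_cases hr : QuadraticMap.polar (⇑Q) x f = 0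
        · refine ⟨x + ((-Q x) • e + f), ?_, ?_⟩
          · have h1 : Q ((-Q x) • e + f) = -Q x := by
              rw [add_comm, map_add_smul', he, hf, QuadraticMap.polar_comm, hef]
              ring
            rw [QuadraticMap.map_add (⇑Q), h1, QuadraticMap.polar_add_right,
              QuadraticMap.polar_smul_right, hp, hr]
            simp
          · rw [hDadd, hDadd, hDs _ e hDe, hDf, add_zero, add_zero]
            exact hx
        · refine ⟨x + (-Q x * (QuadraticMap.polar (⇑Q) x f)⁻¹) • f, ?_, ?_⟩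
          · rw [map_add_smul', hf]
            field_simp
            ring
          · rw [hDadd, hDs _ f hDf, add_zero]
            exact hx
      · refine ⟨x + (-Q x * (QuadraticMap.polar (⇑Q) x e)⁻¹) • e, ?_, ?_⟩
        · rw [map_add_smul', he]
          field_simp
          ring
        · rw [hDadd, hDs _ e hDe, add_zero]
          exact hx
    · exact ⟨f, hf, hDf⟩
  · exact ⟨e, he, hDe⟩

variable (hpol : ∀ u v, QuadraticMap.polar (⇑Q) u v = Cfsg.sympForm m F u v)

include hpol in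
/-- value of `Q` after a transvection -/
theorem Q_T (u : Fin m ⊕ Fin m → F) (c : F) (x : Fin m ⊕ Fin m → F) :
    Q (((T u c : Matrix.symplecticGroup (Fin m) F) :
      Matrix (Fin m ⊕ Fin m) (Fin m ⊕ Fin m) F) *ᵥ x) =
      Q x + (Cfsg.sympForm m F x u) ^ 2 * (c + c ^ 2 * Q u) := by
  rw [T_mulVec, map_add_smul', hpol]
  ring

include hpol in
theorem polarBilin_nondegenerate : (QuadraticMap.polarBilin Q).Nondegenerate := by
  have : QuadraticMap.polarBilin Q = sympBilin m F := by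
    apply LinearMap.ext
    intro x
    apply LinearMap.ext
    intro y
    rw [sympBilin_apply, ← hpol]
    rfl
  rw [this]
  exact sympBilin_nondegenerate

include hpol in
/-- an isometry of `Q` in `GL` comes from a symplectic matrix -/
theorem exists_sp_of_isometry (g : ↥(Cfsg.isometryGroup F ⇑Q)) :
    ∃ A : Matrix.symplecticGroup (Fin m) F,
      (A : Matrix (Fin m ⊕ Fin m) (Fin m ⊕ Fin m) F) =
        ((g : Matrix.GeneralLinearGroup (Fin m ⊕ Fin m) F) :
          Matrix (Fin m ⊕ Fin m) (Fin m ⊕ Fin m) F) := by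
  have hg : ∀ v, Q (((g : Matrix.GeneralLinearGroup (Fin m ⊕ Fin m) F) :
      Matrix (Fin m ⊕ Fin m) (Fin m ⊕ Fin m) F) *ᵥ v) = Q v := fun v => g.2 v v
  have hmem : ((g : Matrix.GeneralLinearGroup (Fin m ⊕ Fin m) F) :
      Matrix (Fin m ⊕ Fin m) (Fin m ⊕ Fin m) F) ∈ Matrix.symplecticGroup (Fin m) F := by
    rw [Cfsg.Agent.Lib.Helper1.SpCard.mem_symplectic_iff_form]
    intro x y
    rw [← hpol, ← hpol]
    unfold QuadraticMap.polar
    rw [← Matrix.mulVec_add, hg, hg, hg]
  exact ⟨⟨_, hmem⟩, rfl⟩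

end General

section Main

variable [Fintype F] (Q : QuadraticForm F (Fin m ⊕ Fin m → F))
  (hpol : ∀ u v, QuadraticMap.polar (⇑Q) u v = Cfsg.sympForm m F u v)
  (h2 : (2 : F) = 0) (hm : 2 ≤ m)
  (M : Subgroup (Matrix.symplecticGroup (Fin m) F))
  (hOM : ∀ A : Matrix.symplecticGroup (Fin m) F,
    (∀ v, Q ((A : Matrix (Fin m ⊕ Fin m) (Fin m ⊕ Fin m) F) *ᵥ v) = Q v) → A ∈ M)

include hpol h2 hOM in
/-- the orthogonal transvection of a nonsingular vector lies in `M` -/
theorem T_nonsingular_mem {u : Fin m ⊕ Fin m → F} (hu : Q u ≠ 0) : T u (Q u)⁻¹ ∈ M := by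
  apply hOM
  intro v
  rw [Q_T Q hpol]
  have : (Q u)⁻¹ + (Q u)⁻¹ ^ 2 * Q u = 0 := by
    field_simp
    linear_combination h2
  rw [this, mul_zero, add_zero]

include hpol h2 hm hOM in
/-- Main theorem: a subgroup of `Sp` properly containing `O(Q)` (char 2) is `Sp`. -/
theorem eq_top_of_quad (g : Matrix.symplecticGroup (Fin m) F) (hgM : g ∈ M)
    (hg : ¬ ∀ v, Q ((g : Matrix (Fin m ⊕ Fin m) (Fin m ⊕ Fin m) F) *ᵥ v) = Q v) : M = ⊤ := by
  classical
  have hQnd := polarBilin_nondegenerate Q hpol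
  have hchar : ringChar F = 2 := by
    have : CharP F 2 := by
      apply CharTwo.of_one_ne_zero_of_two_eq_zero one_ne_zero h2
    exact ringChar.eq F 2
  have hadd2 : ∀ x : Fin m ⊕ Fin m → F, x + x = 0 := by
    intro x
    rw [← two_smul F x, h2, zero_smul]
  -- Step 1: the difference map
  set D : (Fin m ⊕ Fin m → F) → F :=
    fun x => Q ((g : Matrix (Fin m ⊕ Fin m) (Fin m ⊕ Fin m) F) *ᵥ x) - Q x with hD
  have hDadd : ∀ x y, D (x + y) = D x + D y := by
    intro x y
    simp only [hD]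
    rw [Matrix.mulVec_add, QuadraticMap.map_add (⇑Q), QuadraticMap.map_add (⇑Q) x y, hpol, hpol,
      form_mulVec]
    ring
  have hDs : ∀ (c : F) x, D x = 0 → D (c • x) = 0 := by
    intro c x hx
    simp only [hD] at hx ⊢
    rw [Matrix.mulVec_smul, QuadraticMap.map_smul, QuadraticMap.map_smul, ← smul_sub, hx, smul_zero]
  have hDne : ∃ x, D x ≠ 0 := by
    push Not at hg
    obtain ⟨v, hv⟩ := hg
    exact ⟨v, sub_ne_zero.mpr hv⟩
  -- Step 2: a singular vector `u₀` with a nontrivial transvection in `M`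
  obtain ⟨u₀, hu₀, hDu₀⟩ := exists_singular_ne Q hQnd hm D hDadd hDs hDne
  have hu₀0 : u₀ ≠ 0 := by
    rintro rfl
    apply hDu₀
    simp [hD]
  set v₀ := (g : Matrix (Fin m ⊕ Fin m) (Fin m ⊕ Fin m) F) *ᵥ u₀ with hv₀
  have hQv₀ : Q v₀ ≠ 0 := by
    have : D u₀ = Q v₀ := by simp only [hD, hu₀, sub_zero, hv₀]
    rwa [← this]
  set c₀ : F := (Q v₀)⁻¹ with hc₀
  have hc₀0 : c₀ ≠ 0 := inv_ne_zero hQv₀
  have hT₀ : T u₀ c₀ ∈ M := by
    have h1 : T v₀ c₀ ∈ M := T_nonsingular_mem Q hpol h2 M hOM hQv₀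
    have h2' : g⁻¹ * T v₀ c₀ * g⁻¹⁻¹ ∈ M := M.mul_mem (M.mul_mem (M.inv_mem hgM) h1)
      (M.inv_mem (M.inv_mem hgM))
    rw [conj_T, hv₀, inv_mulVec_mulVec] at h2'
    exact h2'
  -- Step 3: all singular vectors are in `dirSet M`
  have hsing : ∀ u, Q u = 0 → u ∈ dirSet M := by
    intro u hu c
    by_cases hu0 : u = 0
    · rw [hu0, T_zero_left]; exact M.one_mem
    by_cases hc : c = 0
    · rw [hc, T_zero]; exact M.one_mem
    obtain ⟨s, hs⟩ := FiniteField.isSquare_of_char_two hchar (c * c₀⁻¹)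
    have hs0 : s ≠ 0 := by
      rintro rfl
      rw [mul_zero] at hs
      exact (mul_ne_zero hc (inv_ne_zero hc₀0)) hs
    have hsu0 : s • u ≠ 0 := smul_ne_zero hs0 hu0
    have hsu : Q (s • u) = 0 := by rw [QuadraticMap.map_smul, hu, smul_zero]
    obtain ⟨h, hh⟩ := Cfsg.Agent.Lib.Helper2.HypTrans.exists_map_singular hQnd u₀ (s • u) hu₀0 hsu0
      hu₀ hsu
    obtain ⟨A, hA⟩ := exists_sp_of_isometry Q hpol h
    have hAM : A ∈ M := by
      apply hOM
      intro v
      rw [hA]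
      exact h.2 v v
    have h3 : A * T u₀ c₀ * A⁻¹ ∈ M := M.mul_mem (M.mul_mem hAM hT₀) (M.inv_mem hAM)
    rw [conj_T, hA, hh, T_smul] at h3
    have : s * s * c₀ = c := by
      rw [← hs, mul_assoc, inv_mul_cancel₀ hc₀0, mul_one]
    rwa [this] at h3
  -- Step 4: nonsingular vectors
  apply eq_top_of_dirSet
  intro u
  by_cases hu : Q u = 0
  · exact hsing u hu
  have hu0 : u ≠ 0 := by
    rintro rfl
    exact hu (map_zero Q)
  obtain ⟨a', ha', hua'⟩ := exists_singular_ne Q hQnd hm (fun x => Cfsg.sympForm m F u x)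
    (fun x y => sympForm_add_right u x y)
    (fun c x hx => by rw [sympForm_smul_right, hx, mul_zero])
    (by
      by_contra hcon
      push Not at hcon
      exact hu0 (sympForm_nondeg u hcon))
  set a := (Q u * (Cfsg.sympForm m F u a')⁻¹) • a' with ha
  have hQa : Q a = 0 := by rw [ha, QuadraticMap.map_smul, ha', smul_zero]
  have hua : Cfsg.sympForm m F u a = Q u := by
    rw [ha, sympForm_smul_right, mul_assoc, inv_mul_cancel₀ hua', mul_one]
  have hQb : Q (u + a) = 0 := by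
    rw [QuadraticMap.map_add (⇑Q), hQa, hpol, hua, add_zero]
    linear_combination (Q u) * h2
  have h4 : a + (u + a) ∈ dirSet M := by
    apply dirSet_add_of_ne M (hsing a hQa) (hsing _ hQb)
    rw [sympForm_add_right, sympForm_self, add_zero, sympForm_swap, hua, neg_ne_zero]
    exact hu
  have : a + (u + a) = u := by
    rw [add_comm u a, ← add_assoc, hadd2, zero_add]
  rwa [this] at h4

end Main

end Cfsg.Agent.H9SpQuad
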