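import Mathlib
import Cfsg.Agent.S2400
import Cfsg.Agent.Lib.Helper9.SpStH

set_option autoImplicit false

/-!
# The Schur multiplier of `Sp₄(K)` is trivial for `|K| ≥ 3`
-/

namespace Cfsg.Agent.Lib.Helper9.SpSt

open Cfsg Cfsg.Lie

universe u

/-- the Schur multiplier of `Sp₄(K)` is trivial for `|K| ≥ 3` -/
theorem sp4_split {K : Type u} [Field K] [Fintype K] (hK : 3 ≤ Fintype.card K) :
    Cfsg.HasCyclicSchurMultiplier (Matrix.symplecticGroup (Fin 2) K) 1 :=
  sp4_split_of hK (Cfsg.Agent.S2400.result (K := K) (Cfsg.Lie.chevB2, 2) (by simp)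
    (by show Fintype.card K ≠ 2; omega))

end Cfsg.Agent.Lib.Helper9.SpSt
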