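import Mathlib

set_option autoImplicit false
set_option maxHeartbeats 800000

namespace Cfsg.Agent.Lib.Helper9.SpUnE

open Finset

/-- `(t;t)_n`-type product with step `d`: `∏_{j<n} (1 - T^(d (j+1)))`. -/
noncomputable def poch (T : ℚ) (d n : ℕ) : ℚ := ∏ j ∈ range n, (1 - T ^ (d * (j + 1)))

theorem poch_zero (T : ℚ) (d : ℕ) : poch T d 0 = 1 := by simp [poch]

theorem poch_succ (T : ℚ) (d n : ℕ) :
    poch T d (n + 1) = poch T d n * (1 - T ^ (d * (n + 1))) := by
  simp [poch, prod_range_succ]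

theorem one_sub_pow_ne_zero {T : ℚ} (h0 : 0 < T) (h1 : T < 1) {m : ℕ} (hm : m ≠ 0) :
    1 - T ^ m ≠ 0 := by
  have : T ^ m < 1 := pow_lt_one₀ h0.le h1 hm
  linarith

theorem poch_ne_zero {T : ℚ} (h0 : 0 < T) (h1 : T < 1) {d : ℕ} (hd : d ≠ 0) (n : ℕ) :
    poch T d n ≠ 0 := by
  unfold poch
  rw [prod_ne_zero_iff]
  intro j _
  exact one_sub_pow_ne_zero h0 h1 (Nat.mul_ne_zero hd (Nat.succ_ne_zero j))

/-- the convolution `c_n = ∑_k T^k / (P2 k * P2 (n-k))`. -/
noncomputable def cc (T : ℚ) (n : ℕ) : ℚ :=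
  ∑ k ∈ range (n + 1), T ^ k / (poch T 2 k * poch T 2 (n - k))

theorem cc_step {T : ℚ} (h0 : 0 < T) (h1 : T < 1) (n : ℕ) :
    cc T (n + 1) * (1 - T ^ (n + 1)) = cc T n := by
  have hP : ∀ m, poch T 2 m ≠ 0 := poch_ne_zero h0 h1 (by norm_num)
  set N := n + 1 with hN
  set w : ℕ → ℚ := fun k => 1 / (poch T 2 k * poch T 2 (N - k)) with hw
  have hsym : ∀ k ∈ range (N + 1), w (N - k) = w k := by
    intro k hk
    have hk' : k ≤ N := Nat.lt_succ_iff.1 (mem_range.1 hk)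
    simp only [hw]
    rw [Nat.sub_sub_self hk', mul_comm]
  -- `c_n` in terms of `w`
  have e1 : cc T n = ∑ k ∈ range (N + 1), T ^ k * (1 - T ^ (2 * (N - k))) * w k := by
    rw [sum_range_succ (n := N)]
    have : T ^ N * (1 - T ^ (2 * (N - N))) * w N = 0 := by simp
    rw [this, add_zero]
    unfold cc
    apply sum_congr rfl
    intro k hk
    have hk' : k ≤ n := Nat.lt_succ_iff.1 (mem_range.1 hk)
    have e : N - k = (n - k) + 1 := by omega
    simp only [hw]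
    rw [e, poch_succ]
    have h3 : 1 - T ^ (2 * (n - k + 1)) ≠ 0 := one_sub_pow_ne_zero h0 h1 (by omega)
    field_simp
  have e2 : cc T N * (1 - T ^ N) = ∑ k ∈ range (N + 1), T ^ k * (1 - T ^ N) * w k := by
    unfold cc
    rw [sum_mul]
    apply sum_congr rfl
    intro k _
    simp only [hw]
    ring
  have e3 : ∑ k ∈ range (N + 1), T ^ (k + 2 * (N - k)) * w k
      = ∑ k ∈ range (N + 1), T ^ (k + N) * w k := by
    rw [← sum_range_reflect]
    apply sum_congr rfl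
    intro k hk
    have hk' : k ≤ N := Nat.lt_succ_iff.1 (mem_range.1 hk)
    have e : N + 1 - 1 - k = N - k := by omega
    rw [e, hsym k hk, Nat.sub_sub_self hk']
    congr 2
    omega
  rw [e1, e2]
  have e4 : ∀ k ∈ range (N + 1), T ^ k * (1 - T ^ N) * w k - T ^ k * (1 - T ^ (2 * (N - k))) * w k
      = T ^ (k + 2 * (N - k)) * w k - T ^ (k + N) * w k := by
    intro k _
    rw [pow_add, pow_add]
    ring
  have e5 := sum_congr rfl e4
  rw [sum_sub_distrib, sum_sub_distrib, e3, sub_self] at e5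
  linarith

theorem cc_eq {T : ℚ} (h0 : 0 < T) (h1 : T < 1) (n : ℕ) : cc T n = 1 / poch T 1 n := by
  induction n with
  | zero => simp [cc, poch]
  | succ n ih =>
    have h := cc_step h0 h1 n
    rw [ih] at h
    have h3 : 1 - T ^ (n + 1) ≠ 0 := one_sub_pow_ne_zero h0 h1 (by omega)
    have hP : poch T 1 n ≠ 0 := poch_ne_zero h0 h1 (by norm_num) n
    rw [poch_succ, one_mul]
    rw [eq_div_iff (mul_ne_zero hP h3)]
    field_simp at h
    linarith

theorem lam_sum {T : ℚ} (h0 : 0 < T) (h1 : T < 1) (n : ℕ) :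
    ∑ k ∈ range (n + 1), T ^ k / poch T 1 k = 1 / poch T 1 n := by
  induction n with
  | zero => simp [poch]
  | succ n ih =>
    rw [sum_range_succ, ih, poch_succ, one_mul]
    have h3 : 1 - T ^ (n + 1) ≠ 0 := one_sub_pow_ne_zero h0 h1 (by omega)
    have hP : poch T 1 n ≠ 0 := poch_ne_zero h0 h1 (by norm_num) n
    field_simp
    ring


theorem pow_sub_one_eq {Q : ℚ} (hQ : Q ≠ 0) (m : ℕ) : Q ^ m - 1 = Q ^ m * (1 - Q⁻¹ ^ m) := by
  rw [mul_sub, mul_one, ← mul_pow, mul_inv_cancel₀ hQ, one_pow]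

theorem prod_closed {Q : ℚ} (hQ : Q ≠ 0) (n : ℕ) :
    ∏ j ∈ range n, (Q ^ (2 * (j + 1)) - 1) = Q ^ (n ^ 2 + n) * poch Q⁻¹ 2 n := by
  induction n with
  | zero => simp [poch]
  | succ n ih =>
    rw [prod_range_succ, ih, poch_succ, pow_sub_one_eq hQ]
    have e : (n + 1) ^ 2 + (n + 1) = (n ^ 2 + n) + 2 * (n + 1) := by ring
    rw [e, pow_add]
    ring

theorem s_closed (q : ℕ) (hq : 2 ≤ q) (n : ℕ) :
    ((q ^ (n ^ 2) * ∏ j ∈ range n, (q ^ (2 * (j + 1)) - 1) : ℕ) : ℚ)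
      = (q : ℚ) ^ (2 * n ^ 2 + n) * poch ((q : ℚ)⁻¹) 2 n := by
  have hq0 : (q : ℚ) ≠ 0 := by
    have : (0 : ℚ) < q := by exact_mod_cast (by omega : 0 < q)
    exact this.ne'
  have hc : ∀ j, ((q ^ (2 * (j + 1)) - 1 : ℕ) : ℚ) = (q : ℚ) ^ (2 * (j + 1)) - 1 := by
    intro j
    rw [Nat.cast_sub (Nat.one_le_pow _ _ (by omega))]
    push_cast
    rfl
  rw [Nat.cast_mul, Nat.cast_prod]
  simp only [hc]
  rw [prod_closed hq0]
  push_cast
  have e : 2 * n ^ 2 + n = n ^ 2 + (n ^ 2 + n) := by ring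
  rw [e, pow_add (q : ℚ) (n ^ 2)]
  ring

theorem gl_closed {Q : ℚ} (hQ : Q ≠ 0) (n : ℕ) :
    ∏ j : Fin n, (Q ^ n - Q ^ (j : ℕ)) = Q ^ (n ^ 2) * poch Q⁻¹ 1 n := by
  rw [Fin.prod_univ_eq_prod_range (fun j => Q ^ n - Q ^ j) n]
  have h1 : ∀ j ∈ range n, Q ^ n - Q ^ j = Q ^ n * (1 - Q⁻¹ ^ (1 * ((n - 1 - j) + 1))) := by
    intro j hj
    have hj' : j < n := mem_range.1 hj
    obtain ⟨m, rfl⟩ := Nat.exists_eq_add_of_lt hj'
    have e : 1 * ((j + m + 1 - 1 - j) + 1) = m + 1 := by omega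
    rw [e, mul_sub, mul_one]
    congr 1
    have e2 : j + m + 1 = j + (m + 1) := by ring
    rw [e2, pow_add, mul_assoc, ← mul_pow, mul_inv_cancel₀ hQ, one_pow, mul_one]
  rw [prod_congr rfl h1, prod_mul_distrib, prod_const, card_range]
  rw [prod_range_reflect (fun j => 1 - Q⁻¹ ^ (1 * (j + 1))) n]
  unfold poch
  rw [← pow_mul, sq]


/-- **PACKAGE E (pure arithmetic).**  The two Fitting relations determine the number of
unipotents. -/
theorem uN_eq_of_relations (q : ℕ) (hq : 2 ≤ q) (s u e a i h gl nil : ℕ → ℕ) (t1 t3 : ℕ → ℕ → ℕ)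
    (hs : ∀ n, s n = q ^ (n ^ 2) * ∏ j ∈ Finset.range n, (q ^ (2 * (j + 1)) - 1))
    (hgl : ∀ n, (gl n : ℚ) = ∏ j : Fin n, ((q : ℚ) ^ n - (q : ℚ) ^ (j : ℕ)))
    (hnil : ∀ n, nil n = q ^ (n * (n - 1)))
    (ha : ∀ n, a n = q ^ (n * (2 * n + 1)))
    (hie : ∀ n, i n = e n)
    (hh : ∀ n, h n * gl n = s n * nil n)
    (h1 : ∀ n k, k ≤ n → t1 n k * (s k * s (n - k)) = s n * (u k * e (n - k)))
    (h1s : ∀ n, ∑ k ∈ Finset.range (n + 1), t1 n k = s n)
    (h3 : ∀ n k, k ≤ n → t3 n k * (s k * s (n - k)) = s n * (h k * i (n - k)))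
    (h3s : ∀ n, ∑ k ∈ Finset.range (n + 1), t3 n k = a n) :
    ∀ n, u n = q ^ (2 * n ^ 2) := by
  have hQ2 : (2 : ℚ) ≤ (q : ℚ) := by exact_mod_cast hq
  have hQ0 : (0 : ℚ) < (q : ℚ) := by linarith
  have hQne : (q : ℚ) ≠ 0 := hQ0.ne'
  set T : ℚ := (q : ℚ)⁻¹ with hT
  have hT0 : 0 < T := inv_pos.2 hQ0
  have hT1 : T < 1 := inv_lt_one_of_one_lt₀ (by linarith)
  have hTQ : ∀ m : ℕ, T ^ m * (q : ℚ) ^ m = 1 := by
    intro m
    rw [← mul_pow, hT, inv_mul_cancel₀ hQne, one_pow]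
  have hP1 : ∀ m, poch T 1 m ≠ 0 := poch_ne_zero hT0 hT1 (by norm_num)
  have hP2 : ∀ m, poch T 2 m ≠ 0 := poch_ne_zero hT0 hT1 (by norm_num)
  -- closed forms
  have hS : ∀ n, (s n : ℚ) = (q : ℚ) ^ (2 * n ^ 2 + n) * poch T 2 n := by
    intro n
    rw [hs n]
    exact s_closed q hq n
  have hSne : ∀ n, (s n : ℚ) ≠ 0 := by
    intro n
    rw [hS n]
    exact mul_ne_zero (pow_ne_zero _ hQne) (hP2 n)
  have hGL : ∀ n, (gl n : ℚ) = (q : ℚ) ^ (n ^ 2) * poch T 1 n := by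
    intro n
    rw [hgl n]
    exact gl_closed hQne n
  have hGLne : ∀ n, (gl n : ℚ) ≠ 0 := by
    intro n
    rw [hGL n]
    exact mul_ne_zero (pow_ne_zero _ hQne) (hP1 n)
  -- the three explicit sequences
  have hlam : ∀ k, (h k : ℚ) / s k = T ^ k / poch T 1 k := by
    intro k
    have hc : (h k : ℚ) * gl k = s k * nil k := by exact_mod_cast hh k
    have hn : (nil k : ℚ) * (q : ℚ) ^ k = (q : ℚ) ^ (k ^ 2) := by
      rw [hnil k]
      push_cast
      rw [← pow_add]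
      congr 1
      cases k with
      | zero => rfl
      | succ m => simp only [Nat.add_sub_cancel]; ring
    rw [div_eq_div_iff (hSne k) (hP1 k)]
    have h5 : (h k : ℚ) * (gl k : ℚ) * poch T 1 k = T ^ k * (s k : ℚ) * (gl k : ℚ) := by
      rw [hc]
      have h6 : (nil k : ℚ) = T ^ k * (q : ℚ) ^ (k ^ 2) := by
        rw [← hn, mul_comm (nil k : ℚ), ← mul_assoc, hTQ k, one_mul]
      rw [h6, hGL k]
      ring
    have h7 : (h k : ℚ) * poch T 1 k * (gl k : ℚ) = T ^ k * (s k : ℚ) * (gl k : ℚ) := by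
      rw [← h5]; ring
    exact mul_right_cancel₀ (hGLne k) h7
  have hg : ∀ n, (a n : ℚ) / s n = 1 / poch T 2 n := by
    intro n
    rw [div_eq_div_iff (hSne n) (hP2 n), hS n, ha n]
    push_cast
    have e : n * (2 * n + 1) = 2 * n ^ 2 + n := by ring
    rw [e]
    ring
  have hal : ∀ n, ((q : ℚ) ^ (2 * n ^ 2)) / s n = T ^ n / poch T 2 n := by
    intro n
    rw [div_eq_div_iff (hSne n) (hP2 n), hS n, pow_add]
    have := hTQ n
    calc (q : ℚ) ^ (2 * n ^ 2) * poch T 2 n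
        = (T ^ n * (q : ℚ) ^ n) * ((q : ℚ) ^ (2 * n ^ 2) * poch T 2 n) := by rw [this, one_mul]
      _ = T ^ n * ((q : ℚ) ^ (2 * n ^ 2) * (q : ℚ) ^ n * poch T 2 n) := by ring
  -- the two relations over `ℚ`
  have R1 : ∀ n, ∑ k ∈ range (n + 1), ((u k : ℚ) / s k) * ((e (n - k) : ℚ) / s (n - k)) = 1 := by
    intro n
    have hsum : ((∑ k ∈ range (n + 1), t1 n k : ℕ) : ℚ) = s n := by rw [h1s n]
    rw [Nat.cast_sum] at hsum
    have hterm : ∀ k ∈ range (n + 1), (t1 n k : ℚ)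
        = (s n : ℚ) * (((u k : ℚ) / s k) * ((e (n - k) : ℚ) / s (n - k))) := by
      intro k hk
      have hk' : k ≤ n := Nat.lt_succ_iff.1 (mem_range.1 hk)
      have hc : (t1 n k : ℚ) * ((s k : ℚ) * (s (n - k) : ℚ)) = (s n : ℚ) * ((u k : ℚ) * (e (n - k) : ℚ)) := by
        exact_mod_cast h1 n k hk'
      have h2 := hSne k
      have h3 := hSne (n - k)
      field_simp
      linarith
    rw [sum_congr rfl hterm, ← mul_sum] at hsum
    exact mul_left_cancel₀ (hSne n) (hsum.trans (mul_one _).symm)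
  have R3 : ∀ n, ∑ k ∈ range (n + 1), ((h k : ℚ) / s k) * ((e (n - k) : ℚ) / s (n - k))
      = (a n : ℚ) / s n := by
    intro n
    have hsum : ((∑ k ∈ range (n + 1), t3 n k : ℕ) : ℚ) = a n := by rw [h3s n]
    rw [Nat.cast_sum] at hsum
    have hterm : ∀ k ∈ range (n + 1), (t3 n k : ℚ)
        = (s n : ℚ) * (((h k : ℚ) / s k) * ((e (n - k) : ℚ) / s (n - k))) := by
      intro k hk
      have hk' : k ≤ n := Nat.lt_succ_iff.1 (mem_range.1 hk)
      have hc : (t3 n k : ℚ) * ((s k : ℚ) * (s (n - k) : ℚ)) = (s n : ℚ) * ((h k : ℚ) * (e (n - k) : ℚ)) := by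
        have := h3 n k hk'
        rw [hie] at this
        exact_mod_cast this
      have h2 := hSne k
      have h3 := hSne (n - k)
      field_simp
      linarith
    rw [sum_congr rfl hterm, ← mul_sum] at hsum
    rw [eq_div_iff (hSne n), mul_comm]
    exact hsum
  -- power series
  let A : PowerSeries ℚ := PowerSeries.mk fun k => (u k : ℚ) / s k
  let B : PowerSeries ℚ := PowerSeries.mk fun k => (e k : ℚ) / s k
  let L : PowerSeries ℚ := PowerSeries.mk fun k => T ^ k / poch T 1 k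
  let Gs : PowerSeries ℚ := PowerSeries.mk fun k => 1 / poch T 2 k
  let A0 : PowerSeries ℚ := PowerSeries.mk fun k => T ^ k / poch T 2 k
  let One : PowerSeries ℚ := PowerSeries.mk fun _ => (1 : ℚ)
  have hAB : A * B = One := by
    ext n
    rw [PowerSeries.coeff_mul,
      Finset.Nat.sum_antidiagonal_eq_sum_range_succ
        (fun i j => PowerSeries.coeff i A * PowerSeries.coeff j B)]
    simp only [A, B, One, PowerSeries.coeff_mk]
    exact R1 n
  have hLB : L * B = Gs := by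
    ext n
    rw [PowerSeries.coeff_mul,
      Finset.Nat.sum_antidiagonal_eq_sum_range_succ
        (fun i j => PowerSeries.coeff i L * PowerSeries.coeff j B)]
    simp only [L, B, Gs, PowerSeries.coeff_mk]
    rw [← hg n, ← R3 n]
    apply sum_congr rfl
    intro k _
    rw [hlam k]
  have hId : A0 * Gs = L * One := by
    ext n
    rw [PowerSeries.coeff_mul, PowerSeries.coeff_mul,
      Finset.Nat.sum_antidiagonal_eq_sum_range_succ
        (fun i j => PowerSeries.coeff i A0 * PowerSeries.coeff j Gs),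
      Finset.Nat.sum_antidiagonal_eq_sum_range_succ
        (fun i j => PowerSeries.coeff i L * PowerSeries.coeff j One)]
    simp only [A0, Gs, L, One, PowerSeries.coeff_mk, mul_one]
    rw [lam_sum hT0 hT1 n, ← cc_eq hT0 hT1 n]
    unfold cc
    apply sum_congr rfl
    intro k _
    rw [div_mul_div_comm, mul_one]
  have hL0 : L ≠ 0 := by
    intro hL
    have := congrArg (PowerSeries.coeff 0) hL
    simp [L, poch] at this
  have hOne0 : One ≠ 0 := by
    intro hO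
    have := congrArg (PowerSeries.coeff 0) hO
    simp [One] at this
  have hB0 : B ≠ 0 := by
    intro hB
    rw [hB, mul_zero] at hAB
    exact hOne0 hAB.symm
  have h8 : L * (A0 * B) = L * One := by
    calc L * (A0 * B) = A0 * (L * B) := by ring
      _ = A0 * Gs := by rw [hLB]
      _ = L * One := hId
  have h9 : A0 * B = One := mul_left_cancel₀ hL0 h8
  have h10 : A0 = A := mul_right_cancel₀ hB0 (h9.trans hAB.symm)
  intro n
  have h11 := congrArg (PowerSeries.coeff n) h10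
  simp only [A0, A, PowerSeries.coeff_mk] at h11
  rw [← hal n] at h11
  have h12 : ((q : ℚ) ^ (2 * n ^ 2)) = (u n : ℚ) := by
    have := hSne n
    field_simp at h11
    linarith
  have h13 : ((q ^ (2 * n ^ 2) : ℕ) : ℚ) = (u n : ℚ) := by
    push_cast
    exact h12
  exact (Nat.cast_injective h13).symm

end Cfsg.Agent.Lib.Helper9.SpUnE
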