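import Mathlib
import Cfsg.Prelude.Def_FusionComponents
import Cfsg.Agent.Lib.Helper9.Realize2
import Cfsg.Agent.Lib.Helper9.FusionAG1

set_option autoImplicit false
open Cfsg
open Cfsg.FusionSystem

/-! The model `R ⋊ ⟨χ⟩` of a `p`-group `R` with an automorphism `χ`, and the fusion systems it induces. -/

namespace Cfsg.Agent.Lib.Helper9

variable {Ω : Type*} [Group Ω]

section
variable (R : Subgroup Ω) (χ : MulAut R)

/-- The model group `R ⋊ ⟨χ⟩`. -/
abbrev SModel : Type _ := SemidirectProduct R (Subgroup.zpowers χ) (Subgroup.zpowers χ).subtype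

/-- The embedding of `R` in the model. -/
def sIota : R →* SModel R χ := SemidirectProduct.inl

theorem sIota_injective : Function.Injective (sIota R χ) := SemidirectProduct.inl_injective

theorem sIota_apply (x : R) : sIota R χ x = SemidirectProduct.inl x := rfl

theorem smodel_conj_inl (n : SModel R χ) (x : R) :
    n * sIota R χ x * n⁻¹ = sIota R χ (n.left * (n.right : MulAut R) x * n.left⁻¹) := by
  apply SemidirectProduct.ext
  · simp only [SemidirectProduct.mul_left, SemidirectProduct.mul_right, SemidirectProduct.inv_left,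
      SemidirectProduct.inv_right, sIota_apply, SemidirectProduct.left_inl,
      SemidirectProduct.right_inl, mul_one, Subgroup.coe_subtype, ← MulAut.mul_apply,
      ← Subgroup.coe_mul, mul_inv_cancel, Subgroup.coe_one, MulAut.one_apply]
  · simp only [SemidirectProduct.mul_right, SemidirectProduct.inv_right, sIota_apply,
      SemidirectProduct.right_inl, mul_one, mul_inv_cancel]

instance smodel_finite [Finite R] : Finite (SModel R χ) :=
  Finite.of_equiv _ SemidirectProduct.equivProd.symm

theorem smodel_index_range : (sIota R χ).range.index = orderOf χ := by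
  have h1 : (sIota R χ).range = (SemidirectProduct.rightHom : SModel R χ →* Subgroup.zpowers χ).ker :=
    SemidirectProduct.range_inl_eq_ker_rightHom
  rw [h1, Subgroup.index_ker, MonoidHom.range_eq_top.2 SemidirectProduct.rightHom_surjective,
    Subgroup.card_top, Nat.card_zpowers]

/-- The image of `R` is a Sylow subgroup of the model when `χ` has order prime to `p`. -/
theorem smodel_exists_sylow (p : ℕ) [Fact p.Prime] (hR : IsPGroup p R) (hχ : ¬ p ∣ orderOf χ) :
    ∃ T : Sylow p (SModel R χ), (T : Subgroup (SModel R χ)) = (sIota R χ).range := by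
  have h1 : IsPGroup p (sIota R χ).range :=
    hR.of_surjective (sIota R χ).rangeRestrict (sIota R χ).rangeRestrict_surjective
  have h2 : ¬ p ∣ (sIota R χ).range.index := by
    rw [smodel_index_range]
    exact hχ
  exact ⟨h1.toSylow h2, IsPGroup.toSylow_coe h1 h2⟩

/-- The system induced on `ι⁻¹(M)` by a subgroup `M` of the model. -/
noncomputable def modelSys (M : Subgroup (SModel R χ)) :
    FusionSystem (preimageAlong (sIota R χ) M) :=
  realSub (sIota R χ) (sIota_injective R χ) M

variable {R χ}

theorem mem_modelSys_iff (M : Subgroup (SModel R χ)) {P : Subgroup Ω} (φ : P →* Ω) :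
    φ ∈ (modelSys R χ M).Hom P ↔
      ∃ (hP : P ≤ preimageAlong (sIota R χ) M) (_ : ∀ x : P, φ x ∈ preimageAlong (sIota R χ) M),
        ∃ n ∈ M, ∀ x : P, φ x =
          ((n.left * (n.right : MulAut R) ⟨x, preimageAlong_le _ M (hP x.2)⟩ * n.left⁻¹ : R) : Ω) := by
  unfold modelSys
  rw [mem_realSub_iff]
  constructor
  · rintro ⟨hP, hφ, n, hn, Hn⟩
    refine ⟨hP, hφ, n, hn, fun x => ?_⟩
    have h1 := Hn x
    rw [smodel_conj_inl] at h1
    have h2 := sIota_injective R χ h1
    exact congrArg Subtype.val h2
  · rintro ⟨hP, hφ, n, hn, Hn⟩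
    refine ⟨hP, hφ, n, hn, fun x => ?_⟩
    rw [smodel_conj_inl]
    congr 1
    exact Subtype.ext (Hn x)

theorem modelSys_isSaturated [Finite R] (p : ℕ) [Fact p.Prime] (hR : IsPGroup p R)
    (hχ : ¬ p ∣ orderOf χ) (M : Subgroup (SModel R χ)) [M.Normal] :
    (modelSys R χ M).IsSaturated p := by
  obtain ⟨T, hT⟩ := smodel_exists_sylow R χ p hR hχ
  exact realSub_isSaturated_of_normal (sIota R χ) (sIota_injective R χ) T hT M

theorem modelSys_isSubsystemOf {S : Subgroup Ω} (F : FusionSystem S) (hRS : R ≤ S)
    (hχF : χ ∈ F.autGroup R) (M : Subgroup (SModel R χ)) :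
    (modelSys R χ M).IsSubsystemOf F := by
  intro P φ hφ
  rw [mem_modelSys_iff] at hφ
  obtain ⟨hP, _, n, -, Hn⟩ := hφ
  have hPR : P ≤ R := fun x hx => preimageAlong_le _ M (hP hx)
  have hh : (n.right : MulAut R) ∈ F.autGroup R :=
    (Subgroup.zpowers_le.2 hχF) n.right.2
  have hρ : R.subtype.comp (n.right : MulAut R).toMonoidHom ∈ F.Hom R :=
    fs_mem_of_mem_autGroup F hRS hh (fun _ => rfl)
  have hρP := fs_restrict_mem F hρ hPR
  have hval : ∀ x : P, ((R.subtype.comp (n.right : MulAut R).toMonoidHom).comp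
      (Subgroup.inclusion hPR)) x ∈ R := fun x => ((n.right : MulAut R) _).2
  have hc : conjHom R (n.left : Ω) ∈ F.Hom R := F.conj_mem hRS (hRS n.left.2)
  have hcomp := F.comp_mem hρP hc hval
  have heq : (conjHom R (n.left : Ω)).comp
      (((R.subtype.comp (n.right : MulAut R).toMonoidHom).comp
        (Subgroup.inclusion hPR)).codRestrict R hval) = φ := by
    ext x
    rw [Hn x]
    rfl
  rw [heq] at hcomp
  exact hcomp

end

end Cfsg.Agent.Lib.Helper9
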