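import Mathlib
import Cfsg.Prelude.Def_FusionComponents
import Cfsg.Agent.Lib.Helper9.SparseModel1
import Cfsg.Agent.Lib.Helper9.FusionAut2
import Cfsg.Agent.Lib.Helper9.FusionSat2

set_option autoImplicit false
open Cfsg
open Cfsg.FusionSystem

/-! A saturated system that is not inner has an automorphism of prime order different from `p`. -/

namespace Cfsg.Agent.Lib.Helper9

variable {Ω : Type*} [Group Ω] {S : Subgroup Ω}

theorem inner_le (F : FusionSystem S) (P : Subgroup Ω) : (innerFusionSystem S).Hom P ⊆ F.Hom P := by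
  rintro φ ⟨hP, g, hg, Hg⟩
  have : φ = conjHom P g := by
    ext x
    rw [Hg x]
    rfl
  rw [this]
  exact F.conj_mem hP hg

/-- In a finite group in which no element has prime order `q ≠ p`, every element has `p`-power order. -/
theorem isPGroup_of_no_prime_order {A : Type*} [Group A] [Finite A] (p : ℕ) [Fact p.Prime]
    (h : ∀ (q : ℕ) (a : A), q.Prime → q ≠ p → orderOf a ≠ q) : IsPGroup p A := by
  intro a
  have hpos : orderOf a ≠ 0 := (orderOf_pos a).ne'
  have hpow : orderOf a = p ^ (orderOf a).primeFactorsList.length := by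
    apply Nat.eq_prime_pow_of_unique_prime_dvd hpos
    intro q hq hqd
    by_contra hne
    obtain ⟨m, hm⟩ := hqd
    have hmpos : 0 < m := by
      rcases Nat.eq_zero_or_pos m with rfl | hm0
      · rw [mul_zero] at hm
        exact absurd hm hpos
      · exact hm0
    apply h q (a ^ m) hq hne
    rw [orderOf_pow' a hmpos.ne', hm, Nat.gcd_eq_right (Dvd.intro_left q rfl),
      Nat.mul_div_cancel _ hmpos]
  refine ⟨(orderOf a).primeFactorsList.length, ?_⟩
  rw [← hpow]
  exact pow_orderOf_eq_one a

theorem exists_pprime_aut [Finite S] (p : ℕ) [Fact p.Prime] (hS : IsPGroup p S) (F : FusionSystem S)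
    (hF : F.IsSaturated p) (hne : ¬ ∀ P : Subgroup Ω, F.Hom P = (innerFusionSystem S).Hom P) :
    ∃ (R : Subgroup Ω) (_ : R ≤ S) (q : ℕ) (χ : MulAut R),
      q.Prime ∧ q ≠ p ∧ χ ∈ F.autGroup R ∧ orderOf χ = q := by
  by_contra hcon
  push_neg at hcon
  apply hne
  intro P
  apply Set.Subset.antisymm _ (inner_le F P)
  intro φ hφ
  refine fs_le_of_autGroup_le p hS F (innerFusionSystem S) hF ?_ _ P φ hφ rfl
  intro R hRn _
  have hRS : R ≤ S := hRn.1
  haveI : Finite R := fs_finite_of_le hRS
  have hp : IsPGroup p (F.autGroup R) := by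
    apply isPGroup_of_no_prime_order p
    intro q a hq hqp hord
    refine hcon R hRS q (a : MulAut R) hq hqp a.2 ?_
    rw [← hord]
    exact Subgroup.orderOf_coe a
  exact (fs_autGroup_le_autInducedBy_of_isPGroup p F (fs_sylow_axiom p hS F hF hRn).2 hp).trans
    (autInducedBy_le_autGroup (innerFusionSystem S) hRS)

end Cfsg.Agent.Lib.Helper9
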