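import Mathlib
import Cfsg.Prelude.Def_FusionComponents
import Cfsg.Agent.Lib.Helper9.SparseModel2

set_option autoImplicit false
open Cfsg
open Cfsg.FusionSystem

/-! Consequences of `F = F_R(R ⋊ ⟨χ⟩)`. -/

namespace Cfsg.Agent.Lib.Helper9

variable {Ω : Type*} [Group Ω] {R : Subgroup Ω} {χ : MulAut R}

theorem preimageAlong_top : preimageAlong (sIota R χ) ⊤ = R := by
  ext x
  rw [mem_preimageAlong_iff]
  constructor
  · rintro ⟨hx, -⟩
    exact hx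
  · intro hx
    exact ⟨hx, Subgroup.mem_top _⟩

theorem mem_modelSys_top_iff {P : Subgroup Ω} (φ : P →* Ω) :
    φ ∈ (modelSys R χ ⊤).Hom P ↔ ∃ (hP : P ≤ R) (s : R) (h : MulAut R), h ∈ Subgroup.zpowers χ ∧
      ∀ x : P, φ x = ((s * h ⟨x, hP x.2⟩ * s⁻¹ : R) : Ω) := by
  rw [mem_modelSys_iff]
  constructor
  · rintro ⟨hP, _, n, -, Hn⟩
    exact ⟨fun x hx => preimageAlong_le _ _ (hP hx), n.left, n.right, n.right.2, Hn⟩
  · rintro ⟨hP, s, h, hh, Hn⟩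
    have hP' : P ≤ preimageAlong (sIota R χ) ⊤ := by
      rw [preimageAlong_top]
      exact hP
    refine ⟨hP', ?_, ⟨s, ⟨h, hh⟩⟩, Subgroup.mem_top _, Hn⟩
    intro x
    rw [preimageAlong_top, Hn x]
    exact (s * h ⟨x, hP x.2⟩ * s⁻¹).2

section
variable (F : FusionSystem R) (hEF : ∀ P : Subgroup Ω, (modelSys R χ ⊤).Hom P = F.Hom P)
include hEF

theorem model_mem_iff {P : Subgroup Ω} (φ : P →* Ω) :
    φ ∈ F.Hom P ↔ ∃ (hP : P ≤ R) (s : R) (h : MulAut R), h ∈ Subgroup.zpowers χ ∧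
      ∀ x : P, φ x = ((s * h ⟨x, hP x.2⟩ * s⁻¹ : R) : Ω) := by
  rw [← hEF P, mem_modelSys_top_iff]

/-- `R` is normal in `F_R(R ⋊ ⟨χ⟩)`. -/
theorem model_isNormal : F.IsNormal R := by
  refine ⟨le_rfl, ?_⟩
  intro P φ hφ
  obtain ⟨hP, s, h, hh, Hφ⟩ := (model_mem_iff F hEF φ).1 hφ
  have hle : P ⊔ R ≤ R := sup_le hP le_rfl
  refine ⟨(R.subtype.comp (MulAut.conj s * h).toMonoidHom).comp (Subgroup.inclusion hle), ?_, ?_, ?_⟩
  · rw [model_mem_iff F hEF]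
    exact ⟨hle, s, h, hh, fun x => rfl⟩
  · intro x
    rw [Hφ x]
    rfl
  · ext y
    constructor
    · rintro ⟨z, -, rfl⟩
      exact ((MulAut.conj s * h) (Subgroup.inclusion hle z)).2
    · intro hy
      refine ⟨⟨((MulAut.conj s * h)⁻¹ ⟨y, hy⟩ : R),
        (le_sup_right : R ≤ P ⊔ R) (((MulAut.conj s * h)⁻¹ ⟨y, hy⟩ : R)).2⟩, ?_, ?_⟩
      · rw [SetLike.mem_coe, Subgroup.mem_subgroupOf]
        exact (((MulAut.conj s * h)⁻¹ ⟨y, hy⟩ : R)).2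
      · show (((MulAut.conj s * h) ((MulAut.conj s * h)⁻¹ ⟨y, hy⟩) : R) : Ω) = y
        rw [MulAut.apply_inv_self]

theorem model_autGroup_le : F.autGroup R ≤ Cfsg.Inn ↥R ⊔ Subgroup.zpowers χ := by
  intro α hα
  rw [mem_autGroup_iff F le_rfl, model_mem_iff F hEF] at hα
  obtain ⟨_, s, h, hh, Hα⟩ := hα
  have : α = MulAut.conj s * h := by
    ext x
    exact Hα x
  rw [this]
  exact Subgroup.mul_mem_sup ⟨s, rfl⟩ hh

end

theorem inn_le_autGroup {S : Subgroup Ω} (F : FusionSystem S) {P : Subgroup Ω} (hP : P ≤ S) :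
    Cfsg.Inn ↥P ≤ F.autGroup P := by
  rintro _ ⟨s, rfl⟩
  rw [mem_autGroup_iff F hP]
  have : P.subtype.comp (MulAut.conj s).toMonoidHom = conjHom P (s : Ω) := by
    ext x
    rfl
  rw [this]
  exact F.conj_mem hP (hP s.2)

end Cfsg.Agent.Lib.Helper9
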