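import Mathlib
import Cfsg.Prelude.Def_FusionComponents
import Cfsg.Agent.Lib.Helper9.SparseModel3

set_option autoImplicit false
open Cfsg
open Cfsg.FusionSystem

/-! The commutator subgroup `[R, ⟨χ⟩]` and the corresponding normal subgroup of the model. -/

namespace Cfsg.Agent.Lib.Helper9

variable {Ω : Type*} [Group Ω] (R : Subgroup Ω) (χ : MulAut R)

/-- `[R, ⟨χ⟩]` as a subgroup of `R`. -/
def commAut : Subgroup R :=
  Subgroup.closure {y : R | ∃ (x : R) (h : MulAut R), h ∈ Subgroup.zpowers χ ∧ y = x⁻¹ * h x}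

variable {R χ}

theorem gen_mem_commAut (x : R) {h : MulAut R} (hh : h ∈ Subgroup.zpowers χ) :
    x⁻¹ * h x ∈ commAut R χ :=
  Subgroup.subset_closure ⟨x, h, hh, rfl⟩

theorem zpowers_commute {h k : MulAut R} (hh : h ∈ Subgroup.zpowers χ) (hk : k ∈ Subgroup.zpowers χ) :
    h * k = k * h := by
  obtain ⟨i, rfl⟩ := Subgroup.mem_zpowers_iff.1 hh
  obtain ⟨j, rfl⟩ := Subgroup.mem_zpowers_iff.1 hk
  rw [← zpow_add, ← zpow_add, add_comm]

theorem commAut_invariant {k : MulAut R} (hk : k ∈ Subgroup.zpowers χ) {t : R}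
    (ht : t ∈ commAut R χ) : k t ∈ commAut R χ := by
  have h1 : (commAut R χ).map k.toMonoidHom ≤ commAut R χ := by
    rw [Subgroup.map_le_iff_le_comap]
    unfold commAut
    rw [Subgroup.closure_le]
    rintro y ⟨x, h, hh, rfl⟩
    rw [SetLike.mem_coe, Subgroup.mem_comap]
    show k (x⁻¹ * h x) ∈ _
    have hcomm : k (h x) = h (k x) := by
      have := zpowers_commute hk hh
      calc k (h x) = (k * h) x := rfl
        _ = (h * k) x := by rw [this]
        _ = h (k x) := rfl
    rw [map_mul, map_inv, hcomm]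
    exact Subgroup.subset_closure ⟨k x, h, hh, rfl⟩
  exact h1 ⟨t, ht, rfl⟩

theorem commAut_conj_mem (s : R) {t : R} (ht : t ∈ commAut R χ) : s * t * s⁻¹ ∈ commAut R χ := by
  have h1 : (commAut R χ).map (MulAut.conj s).toMonoidHom ≤ commAut R χ := by
    rw [Subgroup.map_le_iff_le_comap]
    unfold commAut
    rw [Subgroup.closure_le]
    rintro y ⟨x, h, hh, rfl⟩
    rw [SetLike.mem_coe, Subgroup.mem_comap]
    show MulAut.conj s (x⁻¹ * h x) ∈ _
    rw [MulAut.conj_apply]
    have e : s * (x⁻¹ * h x) * s⁻¹ =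
        ((x * s⁻¹)⁻¹ * h (x * s⁻¹)) * ((s⁻¹)⁻¹ * h s⁻¹)⁻¹ := by
      rw [map_mul, map_inv]
      group
    rw [e]
    exact Subgroup.mul_mem _ (gen_mem_commAut _ hh) (Subgroup.inv_mem _ (gen_mem_commAut _ hh))
  have := h1 ⟨t, ht, rfl⟩
  rwa [MulEquiv.coe_toMonoidHom, MulAut.conj_apply] at this

variable (R χ)

/-- The subgroup `[R, ⟨χ⟩] ⋊ ⟨χ⟩` of the model. -/
def commModel : Subgroup (SModel R χ) where
  carrier := {n | n.left ∈ commAut R χ}
  one_mem' := (commAut R χ).one_mem
  mul_mem' := by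
    intro a b ha hb
    show (a * b).left ∈ commAut R χ
    rw [SemidirectProduct.mul_left]
    exact Subgroup.mul_mem _ ha (commAut_invariant a.right.2 hb)
  inv_mem' := by
    intro a ha
    show a⁻¹.left ∈ commAut R χ
    rw [SemidirectProduct.inv_left]
    exact commAut_invariant (a.right⁻¹).2 (Subgroup.inv_mem _ ha)

variable {R χ}

theorem mem_commModel_iff (n : SModel R χ) : n ∈ commModel R χ ↔ n.left ∈ commAut R χ := Iff.rfl

instance commModel_normal : (commModel R χ).Normal := by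
  constructor
  intro n hn g
  rw [mem_commModel_iff] at hn ⊢
  have e : (g * n * g⁻¹).left =
      (g.left * (g.right : MulAut R) n.left * g.left⁻¹) *
        ((g.left⁻¹)⁻¹ * (n.right : MulAut R) g.left⁻¹) := by
    simp only [SemidirectProduct.mul_left, SemidirectProduct.mul_right, SemidirectProduct.inv_left,
      Subgroup.coe_subtype]
    have hc : ((g.right * n.right : Subgroup.zpowers χ) : MulAut R)
        (((g.right⁻¹ : Subgroup.zpowers χ) : MulAut R) g.left⁻¹) = (n.right : MulAut R) g.left⁻¹ := by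
      have h1 := zpowers_commute g.right.2 n.right.2
      rw [Subgroup.coe_mul, Subgroup.coe_inv, h1, MulAut.mul_apply, MulAut.apply_inv_self]
    rw [hc]
    group
  rw [e]
  exact Subgroup.mul_mem _ (commAut_conj_mem _ (commAut_invariant g.right.2 hn))
    (gen_mem_commAut _ n.right.2)

theorem preimageAlong_commModel :
    preimageAlong (sIota R χ) (commModel R χ) = (commAut R χ).map R.subtype := by
  ext x
  rw [mem_preimageAlong_iff]
  constructor
  · rintro ⟨hx, h⟩
    exact ⟨⟨x, hx⟩, h, rfl⟩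
  · rintro ⟨y, hy, rfl⟩
    exact ⟨y.2, hy⟩

end Cfsg.Agent.Lib.Helper9
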