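import Mathlib
import Cfsg.Prelude.Def_FusionComponents
import Cfsg.Agent.Lib.Helper9.SparseModel4
import Cfsg.Agent.Lib.Helper9.Grun4

set_option autoImplicit false
open Cfsg
open Cfsg.FusionSystem

/-! The hyperfocal subgroup of `F_R(R ⋊ ⟨χ⟩)`. -/

namespace Cfsg.Agent.Lib.Helper9

variable {Ω : Type*} [Group Ω] {R : Subgroup Ω} {χ : MulAut R}

/-- An automorphism of order prime to `p` of a `p`-group fixing `[R, ⟨χ⟩]` pointwise is trivial. -/
theorem aut_eq_one_of_fix_commAut (p : ℕ) [Fact p.Prime] (hR : IsPGroup p R)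
    (hcop : (orderOf χ).Coprime p) (hfix : ∀ t ∈ commAut R χ, χ t = t) : χ = 1 := by
  ext y
  rw [MulAut.one_apply]
  congr 1
  set c := y⁻¹ * χ y with hc
  have hcT : c ∈ commAut R χ := gen_mem_commAut y (Subgroup.mem_zpowers χ)
  have h1 : χ y = y * c := by rw [hc]; group
  have h2 := aut_pow_apply_aux χ y c h1 (hfix c hcT) (orderOf χ)
  rw [pow_orderOf_eq_one, MulAut.one_apply] at h2
  have h3 : c ^ orderOf χ = 1 := by
    have := congrArg (fun z => y⁻¹ * z) h2
    simpa using this.symm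
  obtain ⟨k, hk⟩ := hR c
  have h4 : orderOf c ∣ orderOf χ := orderOf_dvd_of_pow_eq_one h3
  have h5 : orderOf c ∣ p ^ k := orderOf_dvd_of_pow_eq_one hk
  have h6 : orderOf c = 1 := by
    have hcop' : (orderOf χ).Coprime (p ^ k) := Nat.Coprime.pow_right k hcop
    exact Nat.eq_one_of_dvd_coprimes hcop' h4 h5
  rw [orderOf_eq_one_iff] at h6
  rw [h1, h6, mul_one]

/-- If `χ` agrees on `[R, ⟨χ⟩]` with conjugation by an element of `R`, then `χ` fixes `[R, ⟨χ⟩]` pointwise. -/
theorem fix_commAut_of_conj [Finite R] (p : ℕ) [Fact p.Prime] (hR : IsPGroup p R)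
    (hcop : (orderOf χ).Coprime p) (g : R) (hg : ∀ t ∈ commAut R χ, χ t = g * t * g⁻¹) :
    ∀ t ∈ commAut R χ, χ t = t := by
  have hpow : ∀ j : ℕ, ∀ t ∈ commAut R χ, (χ ^ j) t = g ^ j * t * (g ^ j)⁻¹ := by
    intro j
    induction j with
    | zero =>
      intro t _
      simp
    | succ j ih =>
      intro t ht
      rw [pow_succ', MulAut.mul_apply, ih t ht]
      have hmem : g ^ j * t * (g ^ j)⁻¹ ∈ commAut R χ := commAut_conj_mem _ ht
      rw [hg _ hmem, pow_succ']
      group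
  have hm : ∀ t ∈ commAut R χ, (χ ^ orderOf g) t = t := by
    intro t ht
    rw [hpow _ t ht, pow_orderOf_eq_one]
    group
  have hcop2 : (orderOf g).Coprime (orderOf χ) := by
    obtain ⟨k, hk⟩ := hR g
    have h5 : orderOf g ∣ p ^ k := orderOf_dvd_of_pow_eq_one hk
    exact Nat.Coprime.coprime_dvd_left h5 (Nat.Coprime.pow_left k hcop.symm)
  obtain ⟨a, ha⟩ := exists_pow_eq_self_of_coprime hcop2
  have hma : ∀ a : ℕ, ∀ t ∈ commAut R χ, ((χ ^ orderOf g) ^ a) t = t := by
    intro a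
    induction a with
    | zero =>
      intro t _
      simp
    | succ a ih =>
      intro t ht
      rw [pow_succ', MulAut.mul_apply, ih t ht, hm t ht]
  intro t ht
  have := hma a t ht
  rwa [ha] at this

/-- `[R, ⟨χ⟩]` lies in the hyperfocal subgroup. -/
theorem commAut_le_hyperfocal (p : ℕ) (F : FusionSystem R) (hχF : χ ∈ F.autGroup R)
    (hcop : (orderOf χ).Coprime p) :
    (commAut R χ).map R.subtype ≤ F.hyperfocalSubgroup p := by
  rw [Subgroup.map_le_iff_le_comap]
  unfold commAut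
  rw [Subgroup.closure_le]
  rintro y ⟨x, h, hh, rfl⟩
  rw [SetLike.mem_coe, Subgroup.mem_comap]
  unfold FusionSystem.hyperfocalSubgroup
  apply Subgroup.subset_closure
  have hhF : h ∈ F.autGroup R := (Subgroup.zpowers_le.2 hχF) hh
  refine ⟨R, ⟨h, hhF⟩, x, le_rfl, ?_, ?_⟩
  · -- h is a power of χ, which is a p'-element
    obtain ⟨i, rfl⟩ := Subgroup.mem_zpowers_iff.1 hh
    have hχres : (⟨χ, hχF⟩ : F.autGroup R) ∈ pResidual p (F.autGroup R) := by
      apply Subgroup.subset_closure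
      show Nat.Coprime (orderOf (⟨χ, hχF⟩ : F.autGroup R)) p
      rw [← Subgroup.orderOf_coe]
      exact hcop
    have := Subgroup.zpow_mem _ hχres i
    have e : (⟨χ, hχF⟩ : F.autGroup R) ^ i = ⟨χ ^ i, hhF⟩ := by
      apply Subtype.ext
      rw [Subgroup.coe_zpow]
    rwa [e] at this
  · simp

end Cfsg.Agent.Lib.Helper9
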