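import Mathlib
import Cfsg.Prelude
import Cfsg.Agent.Lib.Helper9.SpecialRankOne2

set_option autoImplicit false

/-!
# Special rank one groups with abelian unipotent subgroups: `A` is elementary abelian or
torsion-free and divisible
-/

namespace Cfsg.Agent.H9SR

open Cfsg.Agent.Lib.Helper8

variable {G : Type*} [Group G] {A B : Subgroup G}

namespace SpecAb

variable (S : SpecAb A B)
include S

theorem mul_pow' {a a' : G} (ha : a ∈ A) (ha' : a' ∈ A) (n : ℕ) :
    (a * a') ^ n = a ^ n * a' ^ n :=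
  Commute.mul_pow (S.commA a ha a' ha') n

/-- no element of `A` has order `p ^ 2` -/
theorem not_order_sq {c : G} (hc : c ∈ A) {p : ℕ} (hp : p.Prime) (hord : orderOf c = p ^ 2) :
    False := by
  have hp2 := hp.two_le
  have hc1 : c ≠ 1 := by
    intro h1
    rw [h1, orderOf_one] at hord
    have : 1 < p ^ 2 := Nat.one_lt_pow (by norm_num) hp.one_lt
    omega
  have hne : ∀ j : ℕ, ¬ p ^ 2 ∣ j → c ^ j ≠ 1 := by
    intro j hj h1
    apply hj
    rw [← hord]
    exact orderOf_dvd_of_pow_eq_one h1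
  obtain ⟨m, hm⟩ : ∃ m, p = m + 1 := ⟨p - 1, by omega⟩
  have hm1 : 1 ≤ m := by omega
  have hsm : Smooth m c := by
    intro j hj hpr h1
    have h2 : p ^ 2 ∣ j := by rw [← hord]; exact orderOf_dvd_of_pow_eq_one h1
    have h3 : p ∣ j := (dvd_pow_self p (by norm_num)).trans h2
    have := hpr p hp h3
    omega
  have hndm : ¬ p ^ 2 ∣ m := by
    intro h
    have h1 := Nat.le_of_dvd (by omega) h
    nlinarith
  have hndp : ¬ p ^ 2 ∣ m + 1 := by
    rw [← hm]
    intro h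
    have h1 := Nat.le_of_dvd (by omega) h
    nlinarith
  have hndN : ¬ p ^ 2 ∣ (m + 1) * m := by
    rw [← hm, pow_two]
    intro h
    have h1 : p ∣ m := Nat.dvd_of_mul_dvd_mul_left (by omega) h
    have h2 := Nat.le_of_dvd (by omega) h1
    omega
  obtain ⟨b, hb⟩ := S.exists_chi hc hc1
  obtain ⟨b', hb'⟩ := S.exists_chi (A.pow_mem hc m) (hne m hndm)
  obtain ⟨bm, hbm⟩ := S.exists_chi (A.pow_mem hc (m + 1)) (hne _ hndp)
  obtain ⟨bN, hbN⟩ := S.exists_chi (A.pow_mem hc ((m + 1) * m)) (hne _ hndN)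
  have hpow := S.chi_pow m hm1 c b b' hsm hb hb'
  have step := S.chi_step hm1 hb hb' hpow hbm hbN
  have hinv : c ^ ((m + 1) * m) = (c ^ (m + 1))⁻¹ := by
    apply eq_inv_of_mul_eq_one_left
    rw [← pow_add]
    have : (m + 1) * m + (m + 1) = p ^ 2 := by rw [hm]; ring
    rw [this, ← hord]
    exact pow_orderOf_eq_one c
  rw [hinv] at hbN
  have hbNm : bN = bm⁻¹ := S.chi_unique hbN (S.chi_inv hbm)
  rw [hbNm, inv_inv] at step
  have : b' = 1 := by
    have := congrArg (fun x => bm⁻¹ * x) step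
    simp only [inv_mul_cancel, inv_mul_cancel_left] at this
    exact this.symm
  exact hb'.2.2.2.1 this

/-- the key contradiction: an element `a₀` of order `p`, and a `p`-smooth `a'` with `a' a₀`
also `p`-smooth -/
theorem key {a₀ a' : G} {p : ℕ} (hp : p.Prime) (ha₀ : a₀ ∈ A) (ha₀1 : a₀ ≠ 1) (ha₀p : a₀ ^ p = 1)
    (ha' : a' ∈ A) (hs : Smooth p a') (hs' : Smooth p (a' * a₀)) : False := by
  have hp1 : 1 ≤ p := hp.one_lt.le
  have h1 : a' ≠ 1 := by
    have := hs 1 one_pos (fun q hq hqd => by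
      have := Nat.le_of_dvd one_pos hqd
      exact this.trans hp1)
    rwa [pow_one] at this
  have h2 : a' * a₀ ≠ 1 := by
    have := hs' 1 one_pos (fun q hq hqd => by
      have := Nat.le_of_dvd one_pos hqd
      exact this.trans hp1)
    rwa [pow_one] at this
  have h3 : a' ^ p ≠ 1 := hs.pow_ne_one hp.pos le_rfl
  obtain ⟨b, hb⟩ := S.exists_chi ha' h1
  obtain ⟨b'', hb''⟩ := S.exists_chi (A.mul_mem ha' ha₀) h2
  obtain ⟨bp, hbp⟩ := S.exists_chi (A.pow_mem ha' p) h3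
  have e : (a' * a₀) ^ p = a' ^ p := by rw [S.mul_pow' ha' ha₀, ha₀p, mul_one]
  have r1 := S.chi_pow p hp1 a' b bp hs hb hbp
  have r2 := S.chi_pow p hp1 (a' * a₀) b'' bp hs' hb'' (by rw [e]; exact hbp)
  rw [r1] at r2
  rw [← r2] at hb''
  have := S.chi_injective hb hb''
  apply ha₀1
  have h4 : a' * 1 = a' * a₀ := by rw [mul_one]; exact this
  exact (mul_left_cancel h4).symm

theorem exponent_prime (hex : ∃ a ∈ A, a ≠ 1 ∧ IsOfFinOrder a) :
    ∃ p : ℕ, p.Prime ∧ ∀ a ∈ A, a ^ p = 1 := by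
  classical
  have hP : ∃ q : ℕ, q.Prime ∧ ∃ a ∈ A, orderOf a = q := by
    obtain ⟨a₁, ha₁, ha₁1, hfin⟩ := hex
    have hn0 : orderOf a₁ ≠ 0 := (orderOf_pos_iff.mpr hfin).ne'
    have hn1 : orderOf a₁ ≠ 1 := fun h1 => ha₁1 (orderOf_eq_one_iff.mp h1)
    exact ⟨(orderOf a₁).minFac, Nat.minFac_prime hn1, a₁ ^ (orderOf a₁ / (orderOf a₁).minFac),
      A.pow_mem ha₁ _, orderOf_pow_orderOf_div hn0 (Nat.minFac_dvd _)⟩
  obtain ⟨p, ⟨hp, a₀, ha₀, hord⟩, hmin⟩ : ∃ p, (p.Prime ∧ ∃ a ∈ A, orderOf a = p) ∧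
      ∀ q, (q.Prime ∧ ∃ a ∈ A, orderOf a = q) → p ≤ q :=
    ⟨Nat.find hP, Nat.find_spec hP, fun q hq => Nat.find_min' hP hq⟩
  have ha₀1 : a₀ ≠ 1 := by
    intro h1
    rw [h1, orderOf_one] at hord
    exact hp.one_lt.ne hord
  have ha₀p : a₀ ^ p = 1 := by rw [← hord]; exact pow_orderOf_eq_one a₀
  refine ⟨p, hp, ?_⟩
  intro a ha
  by_contra hap
  by_cases hfin : IsOfFinOrder a
  · have hn0 : orderOf a ≠ 0 := (orderOf_pos_iff.mpr hfin).ne'
    by_cases hq : ∃ q : ℕ, q.Prime ∧ q ∣ orderOf a ∧ q ≠ p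
    · obtain ⟨q, hqp, hqd, hqne⟩ := hq
      obtain ⟨a', ha'd⟩ : ∃ a', a' = a ^ (orderOf a / q) := ⟨_, rfl⟩
      have ha' : a' ∈ A := by rw [ha'd]; exact A.pow_mem ha _
      have hord' : orderOf a' = q := by rw [ha'd]; exact orderOf_pow_orderOf_div hn0 hqd
      have hpq : p < q := lt_of_le_of_ne (hmin q ⟨hqp, a', ha', hord'⟩) (Ne.symm hqne)
      have hs : Smooth p a' := by
        intro j hj hpr h1
        have h2 : q ∣ j := by rw [← hord']; exact orderOf_dvd_of_pow_eq_one h1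
        have := hpr q hqp h2
        omega
      have hs' : Smooth p (a' * a₀) := by
        intro j hj hpr h1
        have h2 : a' ^ (j * p) = 1 := by
          have h3 : (a' * a₀) ^ (j * p) = 1 := by rw [pow_mul, h1, one_pow]
          rw [S.mul_pow' ha' ha₀, mul_comm j p, pow_mul a₀, ha₀p, one_pow, mul_one,
            mul_comm p j] at h3
          exact h3
        have h4 : q ∣ j * p := by rw [← hord']; exact orderOf_dvd_of_pow_eq_one h2
        rcases (Nat.Prime.dvd_mul hqp).mp h4 with h5 | h5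
        · have := hpr q hqp h5
          omega
        · exact hqne ((Nat.prime_dvd_prime_iff_eq hqp hp).mp h5)
      exact S.key hp ha₀ ha₀1 ha₀p ha' hs hs'
    · push Not at hq
      have hpow : orderOf a = p ^ (orderOf a).primeFactorsList.length :=
        Nat.eq_prime_pow_of_unique_prime_dvd hn0 (fun {d} hd hdd => hq d hd hdd)
      obtain ⟨e, he⟩ : ∃ e, e = (orderOf a).primeFactorsList.length := ⟨_, rfl⟩
      rw [← he] at hpow
      have he2 : 2 ≤ e := by
        by_contra hlt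
        push Not at hlt
        apply hap
        have hdvd : orderOf a ∣ p := by
          rw [hpow]
          interval_cases e
          · simp
          · simp
        exact orderOf_dvd_iff_pow_eq_one.mp hdvd
      have hd : p ^ 2 ∣ orderOf a := by
        rw [hpow]
        exact pow_dvd_pow p he2
      exact S.not_order_sq (A.pow_mem ha (orderOf a / p ^ 2)) hp
        (orderOf_pow_orderOf_div hn0 hd)
  · have hne : ∀ j : ℕ, 0 < j → a ^ j ≠ 1 := by
      intro j hj h1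
      exact hfin (isOfFinOrder_iff_pow_eq_one.mpr ⟨j, hj, h1⟩)
    have hs : Smooth p a := fun j hj _ => hne j hj
    have hs' : Smooth p (a * a₀) := by
      intro j hj _ h1
      have h3 : (a * a₀) ^ (j * p) = 1 := by rw [pow_mul, h1, one_pow]
      rw [S.mul_pow' ha ha₀, mul_comm j p, pow_mul a₀, ha₀p, one_pow, mul_one] at h3
      exact hne (p * j) (Nat.mul_pos hp.pos hj) h3
    exact S.key hp ha₀ ha₀1 ha₀p ha hs hs'

theorem torsionFree_right (htf : ∀ a ∈ A, a ≠ 1 → ¬ IsOfFinOrder a) :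
    ∀ b ∈ B, b ≠ 1 → ¬ IsOfFinOrder b := by
  intro b hb hb1 hfin
  obtain ⟨x, -, hx⟩ := rankOnePair_right_mem_unipotentSubgroups S.pair
  rw [hx, mem_conjBy] at hb
  apply htf _ hb
  · intro h1
    apply hb1
    have : b = x * (x⁻¹ * b * x) * x⁻¹ := by group
    rw [this, h1]
    group
  · obtain ⟨n, hn, hbn⟩ := isOfFinOrder_iff_pow_eq_one.mp hfin
    refine isOfFinOrder_iff_pow_eq_one.mpr ⟨n, hn, ?_⟩
    have := conj_pow (a := x⁻¹) (b := b) (i := n)
    rw [inv_inv] at this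
    rw [this, hbn]
    group

theorem divisible (htf : ∀ a ∈ A, a ≠ 1 → ¬ IsOfFinOrder a) :
    ∀ a ∈ A, ∀ n : ℕ, 0 < n → ∃ c ∈ A, c ^ n = a := by
  intro a ha n hn
  by_cases ha1 : a = 1
  · exact ⟨1, A.one_mem, by rw [one_pow, ha1]⟩
  obtain ⟨b, hb⟩ := S.exists_chi ha ha1
  have hBtf := S.torsionFree_right htf
  have hne : ∀ j : ℕ, 0 < j → b ^ j ≠ 1 := by
    intro j hj h1
    exact hBtf b hb.2.2.1 hb.2.2.2.1 (isOfFinOrder_iff_pow_eq_one.mpr ⟨j, hj, h1⟩)
  have hs : Smooth n b := fun j hj _ => hne j hj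
  obtain ⟨c, hc⟩ := S.symm.exists_chi (B.pow_mem hb.2.2.1 n) (hne n hn)
  exact ⟨c, hc.2.2.1, S.symm.chi_pow n hn b a c hs hb.symm hc⟩

end SpecAb

/-- the main dichotomy -/
theorem elementary_or_divisible {A B : Subgroup G} (hs : Cfsg.IsSpecialRankOnePair A B)
    (hab : Cfsg.HasAbelianUnipotents A B) :
    (∃ p : ℕ, p.Prime ∧ Cfsg.IsElementaryAbelian p A) ∨
    ((∀ a ∈ A, a ≠ 1 → ¬ IsOfFinOrder a) ∧ ∀ a ∈ A, ∀ n : ℕ, 0 < n → ∃ c ∈ A, c ^ n = a) := by
  have S : SpecAb A B :=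
    { pair := hs.1
      special := fun a ha ha1 b hb hb1 h => hs.2 a ha ha1 b hb hb1 h
      commA := fun a ha a' ha' => by
        have := hab.1.is_comm.comm ⟨a, ha⟩ ⟨a', ha'⟩
        exact congrArg Subtype.val this
      commB := fun b hb b' hb' => by
        have := hab.2.is_comm.comm ⟨b, hb⟩ ⟨b', hb'⟩
        exact congrArg Subtype.val this }
  by_cases htf : ∀ a ∈ A, a ≠ 1 → ¬ IsOfFinOrder a
  · exact Or.inr ⟨htf, S.divisible htf⟩
  · left
    push Not at htf
    obtain ⟨p, hp, hexp⟩ := S.exponent_prime htf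
    exact ⟨p, hp, hab.1, hexp⟩

end Cfsg.Agent.H9SR
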