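import Mathlib

set_option autoImplicit false

/-! A linear map with `t² = z`, `z` a nonsquare, has a basis of the shape `(e_j, t e_j)`. -/

namespace Cfsg.Agent.Lib.Helper9.SqBasis

open Module Polynomial

theorem exists_basis_of_sq_nonsquare {F : Type*} [Field F] {V : Type*} [AddCommGroup V]
    [Module F V] [FiniteDimensional F V] (t : V →ₗ[F] V) (z : F) (ht : ∀ v, t (t v) = z • v)
    (hz : ∀ c : F, c * c ≠ z) :
    ∃ (m : ℕ) (b : Basis (Fin m ⊕ Fin m) F V), (∀ j, t (b (Sum.inl j)) = b (Sum.inr j)) ∧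
      (∀ j, t (b (Sum.inr j)) = z • b (Sum.inl j)) ∧ finrank F V = 2 * m := by
  classical
  have hfmonic : (X ^ 2 - C z : F[X]).Monic := monic_X_pow_sub_C z (by norm_num)
  have hfdeg : (X ^ 2 - C z : F[X]).natDegree = 2 := natDegree_X_pow_sub_C
  have hfirr : Irreducible (X ^ 2 - C z : F[X]) := by
    rw [hfmonic.irreducible_iff_roots_eq_zero_of_degree_le_three (by rw [hfdeg])
      (by rw [hfdeg]; norm_num)]
    rw [Multiset.eq_zero_iff_forall_notMem]
    intro c hc
    rw [mem_roots hfmonic.ne_zero, IsRoot.def, eval_sub, eval_pow, eval_X, eval_C] at hc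
    exact hz c (by linear_combination hc)
  have : Fact (Irreducible (X ^ 2 - C z : F[X])) := ⟨hfirr⟩
  have hft : aeval t (X ^ 2 - C z : F[X]) = 0 := by
    rw [map_sub, map_pow, aeval_X, aeval_C]
    apply LinearMap.ext
    intro v
    rw [LinearMap.sub_apply, pow_two, Module.End.mul_apply, ht, LinearMap.zero_apply,
      Module.algebraMap_end_apply, sub_self]
  let φ : AdjoinRoot (X ^ 2 - C z : F[X]) →+* Module.End F V :=
    Ideal.Quotient.lift (Ideal.span {(X ^ 2 - C z : F[X])}) (aeval t).toRingHom (by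
      intro a ha
      obtain ⟨g, rfl⟩ := Ideal.mem_span_singleton.1 ha
      show aeval t ((X ^ 2 - C z : F[X]) * g) = 0
      rw [map_mul, hft, zero_mul])
  have hφ : ∀ g : F[X], φ (AdjoinRoot.mk (X ^ 2 - C z : F[X]) g) = aeval t g := fun g => rfl
  let _ : Module (AdjoinRoot (X ^ 2 - C z : F[X])) V := Module.compHom V φ
  have hsmul : ∀ (k : AdjoinRoot (X ^ 2 - C z : F[X])) (v : V), k • v = φ k v := fun _ _ => rfl
  have : IsScalarTower F (AdjoinRoot (X ^ 2 - C z : F[X])) V := ⟨fun c k v => by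
    rw [hsmul, hsmul, Algebra.smul_def, map_mul, AdjoinRoot.algebraMap_eq, ← AdjoinRoot.mk_C,
      hφ, aeval_C, Module.End.mul_apply, Module.algebraMap_end_apply]⟩
  have : Module.Finite (AdjoinRoot (X ^ 2 - C z : F[X])) V :=
    Module.Finite.of_restrictScalars_finite F _ V
  have hdim : (AdjoinRoot.powerBasis hfmonic.ne_zero).dim = 2 := by
    rw [AdjoinRoot.powerBasis_dim, hfdeg]
  let bK : Basis (Fin 2) F (AdjoinRoot (X ^ 2 - C z : F[X])) :=
    (AdjoinRoot.powerBasis hfmonic.ne_zero).basis.reindex (finCongr hdim)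
  have hbK0 : bK 0 = 1 := by
    show ((AdjoinRoot.powerBasis hfmonic.ne_zero).basis.reindex (finCongr hdim)) 0 = 1
    rw [Basis.reindex_apply, PowerBasis.coe_basis]
    simp
  have hbK1 : bK 1 = AdjoinRoot.root (X ^ 2 - C z : F[X]) := by
    show ((AdjoinRoot.powerBasis hfmonic.ne_zero).basis.reindex (finCongr hdim)) 1 = _
    rw [Basis.reindex_apply, PowerBasis.coe_basis]
    simp
  let bV := Module.finBasis (AdjoinRoot (X ^ 2 - C z : F[X])) V
  let σ : Fin 2 × Fin (finrank (AdjoinRoot (X ^ 2 - C z : F[X])) V) ≃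
      Fin (finrank (AdjoinRoot (X ^ 2 - C z : F[X])) V) ⊕
        Fin (finrank (AdjoinRoot (X ^ 2 - C z : F[X])) V) :=
    (Equiv.prodCongr finTwoEquiv (Equiv.refl _)).trans (Equiv.boolProdEquivSum _)
  have hσl : ∀ j, σ.symm (Sum.inl j) = (0, j) := fun j => by
    rw [Equiv.symm_apply_eq]
    rfl
  have hσr : ∀ j, σ.symm (Sum.inr j) = (1, j) := fun j => by
    rw [Equiv.symm_apply_eq]
    rfl
  have hroot : ∀ v : V, AdjoinRoot.root (X ^ 2 - C z : F[X]) • v = t v := by
    intro v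
    rw [hsmul, ← AdjoinRoot.mk_X, hφ, aeval_X]
  have hbl : ∀ j, ((bK.smulTower bV).reindex σ) (Sum.inl j) = bV j := by
    intro j
    rw [Basis.reindex_apply, hσl, Basis.smulTower_apply, hbK0, one_smul]
  have hbr : ∀ j, ((bK.smulTower bV).reindex σ) (Sum.inr j) = t (bV j) := by
    intro j
    rw [Basis.reindex_apply, hσr, Basis.smulTower_apply, hbK1, hroot]
  refine ⟨finrank (AdjoinRoot (X ^ 2 - C z : F[X])) V, (bK.smulTower bV).reindex σ, ?_, ?_, ?_⟩
  · intro j
    rw [hbl, hbr]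
  · intro j
    rw [hbl, hbr, ht]
  · rw [Module.finrank_eq_card_basis ((bK.smulTower bV).reindex σ), Fintype.card_sum,
      Fintype.card_fin]
    ring

end Cfsg.Agent.Lib.Helper9.SqBasis
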