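import Mathlib
import Cfsg.Agent.Lib.Helper9.Steiner2

set_option autoImplicit false

/-! Counting in a Steiner system `S(3,6,22)`. -/

namespace Cfsg.Agent.Lib.Helper9

open Finset

section
variable {α : Type*} [Fintype α] [DecidableEq α] {B : Set (Finset α)}

theorem s322_card_blocks (hα : Fintype.card α = 22) (hB : Cfsg.IsSteinerSystem 3 6 B) :
    (blocksFinset B).card = 77 := by
  have h := steiner_lambda 3 6 B hB ∅ (by simp)
  rw [hα] at h
  simp only [Finset.card_empty, Nat.sub_zero, Finset.empty_subset, Finset.filter_true] at h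
  norm_num [Nat.choose] at h
  omega

theorem s322_card_through_point (hα : Fintype.card α = 22) (hB : Cfsg.IsSteinerSystem 3 6 B) (s : α) :
    ((blocksFinset B).filter (fun d => s ∈ d)).card = 21 := by
  have h := steiner_lambda 3 6 B hB {s} (by simp)
  rw [hα] at h
  simp only [Finset.card_singleton, Finset.singleton_subset_iff] at h
  norm_num [Nat.choose] at h
  omega

theorem s322_card_through_pair (hα : Fintype.card α = 22) (hB : Cfsg.IsSteinerSystem 3 6 B) {s t : α}
    (hst : s ≠ t) : ((blocksFinset B).filter (fun d => s ∈ d ∧ t ∈ d)).card = 5 := by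
  have h := steiner_lambda 3 6 B hB {s, t} (by rw [Finset.card_pair hst]; norm_num)
  rw [hα, Finset.card_pair hst] at h
  have heq : (blocksFinset B).filter (fun d => ({s, t} : Finset α) ⊆ d) =
      (blocksFinset B).filter (fun d => s ∈ d ∧ t ∈ d) := by
    apply Finset.filter_congr
    intro d _
    rw [Finset.insert_subset_iff, Finset.singleton_subset_iff]
  rw [heq] at h
  norm_num [Nat.choose] at h
  omega

theorem s322_eq_of_three_le_inter (hB : Cfsg.IsSteinerSystem 3 6 B) {b c : Finset α} (hb : b ∈ B)
    (hc : c ∈ B) (h : 3 ≤ (b ∩ c).card) : b = c := by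
  obtain ⟨Z, hZsub, hZcard⟩ := Finset.exists_subset_card_eq h
  obtain ⟨d, -, huniq⟩ := hB.2 Z hZcard
  have h1 := huniq b ⟨hb, hZsub.trans Finset.inter_subset_left⟩
  have h2 := huniq c ⟨hc, hZsub.trans Finset.inter_subset_right⟩
  rw [h1, h2]

/-- The distribution of intersection sizes with a fixed block. -/
theorem s322_inter_block (hα : Fintype.card α = 22) (hB : Cfsg.IsSteinerSystem 3 6 B) {b : Finset α}
    (hb : b ∈ B) :
    ((blocksFinset B).filter (fun d => (d ∩ b).card = 0)).card = 16 ∧
      ((blocksFinset B).filter (fun d => (d ∩ b).card = 1)).card = 0 := by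
  set Bf := blocksFinset B with hBf
  have hbcard : b.card = 6 := hB.1 b hb
  -- blocks meeting b in at least 3 points equal b
  have hbig : ∀ j, 3 ≤ j → j ≤ 6 → (Bf.filter (fun d => (d ∩ b).card = j)).card = if j = 6 then 1 else 0 := by
    intro j hj3 hj6
    have hsub : Bf.filter (fun d => (d ∩ b).card = j) ⊆ {b} := by
      intro d hd
      rw [mem_filter, hBf, mem_blocksFinset] at hd
      rw [Finset.mem_singleton]
      exact s322_eq_of_three_le_inter hB hd.1 hb (by omega)
    by_cases hj : j = 6
    · rw [if_pos hj]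
      have : Bf.filter (fun d => (d ∩ b).card = j) = {b} := by
        apply Finset.Subset.antisymm hsub
        intro d hd
        rw [Finset.mem_singleton] at hd
        subst hd
        rw [mem_filter, hBf, mem_blocksFinset, Finset.inter_self]
        exact ⟨hb, by omega⟩
      rw [this, Finset.card_singleton]
    · rw [if_neg hj, Finset.card_eq_zero, Finset.eq_empty_iff_forall_notMem]
      intro d hd
      have hdb := hsub hd
      rw [Finset.mem_singleton] at hdb
      subst hdb
      rw [mem_filter, Finset.inter_self] at hd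
      omega
  -- moments
  have hN : ∀ i : ℕ, i ≤ 3 → ∀ Z ∈ b.powersetCard i, (Bf.filter (fun d => Z ⊆ d)).card * (6 - i).choose (3 - i) =
      (22 - i).choose (3 - i) := by
    intro i hi Z hZ
    rw [mem_powersetCard] at hZ
    have := steiner_lambda 3 6 B hB Z (by omega)
    rw [hα, hZ.2] at this
    exact this
  have hm : ∀ i : ℕ, i ≤ 3 → ∀ lam : ℕ, lam * (6 - i).choose (3 - i) = (22 - i).choose (3 - i) → 0 < (6 - i).choose (3 - i) →
      ∑ d ∈ Bf, ((d ∩ b).card).choose i = (Nat.choose 6 i) * lam := by
    intro i hi lam hl hpos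
    rw [steiner_moment_eq, Finset.sum_congr rfl (g := fun _ => lam)]
    · rw [Finset.sum_const, Finset.card_powersetCard, hbcard, smul_eq_mul]
    · intro Z hZ
      have := hN i hi Z hZ
      rw [← hl] at this
      exact Nat.eq_of_mul_eq_mul_right hpos this
  have hm0 := hm 0 (by norm_num) 77 (by norm_num [Nat.choose]) (by norm_num [Nat.choose])
  have hm1 := hm 1 (by norm_num) 21 (by norm_num [Nat.choose]) (by norm_num [Nat.choose])
  have hm2 := hm 2 (by norm_num) 5 (by norm_num [Nat.choose]) (by norm_num [Nat.choose])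
  rw [steiner_moment_fiber Bf b 7 (by omega)] at hm0 hm1 hm2
  simp only [Finset.sum_range_succ, Finset.sum_range_zero] at hm0 hm1 hm2
  have h3 := hbig 3 (by norm_num) (by norm_num)
  have h4 := hbig 4 (by norm_num) (by norm_num)
  have h5 := hbig 5 (by norm_num) (by norm_num)
  have h6 := hbig 6 (by norm_num) (by norm_num)
  generalize (Bf.filter (fun d => (d ∩ b).card = 0)).card = n0 at *
  generalize (Bf.filter (fun d => (d ∩ b).card = 1)).card = n1 at *
  generalize (Bf.filter (fun d => (d ∩ b).card = 2)).card = n2 at *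
  generalize (Bf.filter (fun d => (d ∩ b).card = 3)).card = n3 at *
  generalize (Bf.filter (fun d => (d ∩ b).card = 4)).card = n4 at *
  generalize (Bf.filter (fun d => (d ∩ b).card = 5)).card = n5 at *
  generalize (Bf.filter (fun d => (d ∩ b).card = 6)).card = n6 at *
  norm_num at h3 h4 h5 h6
  norm_num [Nat.choose] at hm0 hm1 hm2
  omega

end

end Cfsg.Agent.Lib.Helper9
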