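import Mathlib
import Cfsg.Agent.Lib.Helper9.Steiner322

set_option autoImplicit false

/-! Counting in a Steiner system `S(3,6,22)`, continued. -/

namespace Cfsg.Agent.Lib.Helper9

open Finset

section
variable {α : Type*} [Fintype α] [DecidableEq α] {B : Set (Finset α)}

theorem s322_inter_values (hα : Fintype.card α = 22) (hB : Cfsg.IsSteinerSystem 3 6 B) {b d : Finset α}
    (hb : b ∈ B) (hd : d ∈ B) (hne : d ≠ b) : (d ∩ b).card = 0 ∨ (d ∩ b).card = 2 := by
  have h1 : (d ∩ b).card < 3 := by
    by_contra hcon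
    exact hne (s322_eq_of_three_le_inter hB hd hb (by omega))
  have h2 : (d ∩ b).card ≠ 1 := by
    intro h
    have := (s322_inter_block hα hB hb).2
    rw [Finset.card_eq_zero, Finset.eq_empty_iff_forall_notMem] at this
    apply this d
    rw [mem_filter, mem_blocksFinset]
    exact ⟨hd, h⟩
  omega

theorem s322_pair_count (hα : Fintype.card α = 22) (hB : Cfsg.IsSteinerSystem 3 6 B) (s t : α) :
    ((blocksFinset B).filter (fun d => s ∈ d ∧ t ∈ d)).card = if s = t then 21 else 5 := by
  by_cases hst : s = t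
  · subst hst
    rw [if_pos rfl, ← s322_card_through_point hα hB s]
    apply congrArg Finset.card
    apply Finset.filter_congr
    intro d _
    tauto
  · rw [if_neg hst]
    exact s322_card_through_pair hα hB hst

theorem s322_bilinear_sum (hα : Fintype.card α = 22) (hB : Cfsg.IsSteinerSystem 3 6 B) {b c : Finset α}
    (hb : b.card = 6) (hc : c.card = 6) :
    ∑ d ∈ blocksFinset B, (d ∩ b).card * (d ∩ c).card = 180 + 16 * (b ∩ c).card := by
  rw [steiner_bilinear]
  have h1 : ∀ s ∈ b, ∑ t ∈ c, ((blocksFinset B).filter (fun d => s ∈ d ∧ t ∈ d)).card =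
      30 + (if s ∈ c then 16 else 0) := by
    intro s _
    rw [Finset.sum_congr rfl (fun t _ => s322_pair_count hα hB s t)]
    have h2 : ∀ t ∈ c, (if s = t then 21 else 5) = 5 + (if s = t then 16 else 0) := by
      intro t _
      split_ifs <;> rfl
    rw [Finset.sum_congr rfl h2, Finset.sum_add_distrib, Finset.sum_const, hc, Finset.sum_ite_eq]
    rfl
  rw [Finset.sum_congr rfl h1, Finset.sum_add_distrib, Finset.sum_const, hb, ← Finset.sum_filter,
    Finset.sum_const, Finset.filter_mem_eq_inter]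
  simp only [smul_eq_mul]
  ring

theorem s322_sum_inter (hα : Fintype.card α = 22) (hB : Cfsg.IsSteinerSystem 3 6 B) {b : Finset α}
    (hb : b.card = 6) : ∑ d ∈ blocksFinset B, (d ∩ b).card = 126 := by
  have h := steiner_moment_eq (blocksFinset B) b 1
  simp only [Nat.choose_one_right] at h
  rw [h, Finset.sum_congr rfl (g := fun _ => 21)]
  · rw [Finset.sum_const, Finset.card_powersetCard, hb]
    norm_num [Nat.choose]
  · intro Z hZ
    rw [mem_powersetCard] at hZ
    obtain ⟨s, rfl⟩ := Finset.card_eq_one.mp hZ.2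
    rw [← s322_card_through_point hα hB s]
    apply congrArg Finset.card
    apply Finset.filter_congr
    intro d _
    rw [Finset.singleton_subset_iff]

/-- The number of blocks disjoint from two distinct blocks. -/
theorem s322_disjoint_both (hα : Fintype.card α = 22) (hB : Cfsg.IsSteinerSystem 3 6 B) {b c : Finset α}
    (hb : b ∈ B) (hc : c ∈ B) (hne : b ≠ c) :
    ((blocksFinset B).filter (fun d => (d ∩ b).card = 0 ∧ (d ∩ c).card = 0)).card = 2 * (b ∩ c).card := by
  set Bf := blocksFinset B with hBf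
  have hbcard : b.card = 6 := hB.1 b hb
  have hccard : c.card = 6 := hB.1 c hc
  set k := (b ∩ c).card with hk
  have hk02 : k = 0 ∨ k = 2 := s322_inter_values hα hB hc hb hne
  have hbBf : b ∈ Bf := (mem_blocksFinset B b).2 hb
  have hcBf : c ∈ Bf.erase b := Finset.mem_erase.2 ⟨hne.symm, (mem_blocksFinset B c).2 hc⟩
  -- the integer-valued sum
  let F : Finset α → ℤ := fun d => (2 - ((d ∩ b).card : ℤ)) * (2 - ((d ∩ c).card : ℤ))
  have hsum1 : ∑ d ∈ Bf, F d = 16 * (k : ℤ) - 16 := by
    have e1 : ∀ d ∈ Bf, F d = 4 - 2 * ((d ∩ b).card : ℤ) - 2 * ((d ∩ c).card : ℤ) +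
        (((d ∩ b).card * (d ∩ c).card : ℕ) : ℤ) := by
      intro d _
      show (2 - ((d ∩ b).card : ℤ)) * (2 - ((d ∩ c).card : ℤ)) = _
      push_cast
      ring
    rw [Finset.sum_congr rfl e1, Finset.sum_add_distrib, Finset.sum_sub_distrib, Finset.sum_sub_distrib,
      Finset.sum_const, ← Finset.mul_sum, ← Finset.mul_sum, ← Nat.cast_sum, ← Nat.cast_sum, ← Nat.cast_sum,
      s322_sum_inter hα hB hbcard, s322_sum_inter hα hB hccard, s322_bilinear_sum hα hB hbcard hccard,
      hBf, s322_card_blocks hα hB]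
    push_cast
    ring
  have hFb : F b = -4 * (2 - (k : ℤ)) := by
    show (2 - ((b ∩ b).card : ℤ)) * (2 - ((b ∩ c).card : ℤ)) = _
    rw [Finset.inter_self, hbcard]
    push_cast
    ring
  have hFc : F c = -4 * (2 - (k : ℤ)) := by
    show (2 - ((c ∩ b).card : ℤ)) * (2 - ((c ∩ c).card : ℤ)) = _
    rw [Finset.inter_self, hccard, Finset.inter_comm c b]
    push_cast
    ring
  have hrest : ∀ d ∈ (Bf.erase b).erase c, F d =
      if (d ∩ b).card = 0 ∧ (d ∩ c).card = 0 then 4 else 0 := by
    intro d hd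
    rw [Finset.mem_erase, Finset.mem_erase, hBf, mem_blocksFinset] at hd
    have h1 := s322_inter_values hα hB hb hd.2.2 hd.2.1
    have h2 := s322_inter_values hα hB hc hd.2.2 hd.1
    show (2 - ((d ∩ b).card : ℤ)) * (2 - ((d ∩ c).card : ℤ)) = _
    rcases h1 with h1 | h1 <;> rcases h2 with h2 | h2 <;> rw [h1, h2] <;> norm_num
  have hsum2 : ∑ d ∈ Bf, F d = F b + (F c + ∑ d ∈ (Bf.erase b).erase c, F d) := by
    rw [← Finset.add_sum_erase Bf F hbBf, ← Finset.add_sum_erase (Bf.erase b) F hcBf]
  rw [Finset.sum_congr rfl hrest, ← Finset.sum_filter, Finset.sum_const, hFb, hFc, hsum1] at hsum2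
  have hfilt : ((Bf.erase b).erase c).filter (fun d => (d ∩ b).card = 0 ∧ (d ∩ c).card = 0) =
      Bf.filter (fun d => (d ∩ b).card = 0 ∧ (d ∩ c).card = 0) := by
    ext d
    simp only [mem_filter, Finset.mem_erase]
    constructor
    · rintro ⟨⟨_, _, h⟩, h2⟩
      exact ⟨h, h2⟩
    · rintro ⟨h, h2⟩
      refine ⟨⟨?_, ?_, h⟩, h2⟩
      · rintro rfl
        rw [Finset.inter_self, hccard] at h2
        omega
      · rintro rfl
        rw [Finset.inter_self, hbcard] at h2
        omega
  rw [hfilt] at hsum2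
  simp only [nsmul_eq_mul] at hsum2
  have : ((Bf.filter (fun d => (d ∩ b).card = 0 ∧ (d ∩ c).card = 0)).card : ℤ) = 2 * (k : ℤ) := by
    linarith
  exact_mod_cast this

/-- The number of blocks through a point `p` disjoint from a block `b` not containing `p`. -/
theorem s322_point_disjoint (hα : Fintype.card α = 22) (hB : Cfsg.IsSteinerSystem 3 6 B) {b : Finset α}
    (hb : b ∈ B) {p : α} (hp : p ∉ b) :
    ((blocksFinset B).filter (fun d => p ∈ d ∧ (d ∩ b).card = 0)).card = 6 := by
  set Bf := blocksFinset B with hBf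
  have hbcard : b.card = 6 := hB.1 b hb
  -- Σ_{d ∋ p} |d ∩ b| = 30
  have h1 := steiner_bilinear Bf b {p}
  have h2 : ∀ s ∈ b, ∑ t ∈ ({p} : Finset α), (Bf.filter (fun d => s ∈ d ∧ t ∈ d)).card = 5 := by
    intro s hs
    rw [Finset.sum_singleton, s322_pair_count hα hB s p, if_neg]
    rintro rfl
    exact hp hs
  rw [Finset.sum_congr rfl h2, Finset.sum_const, hbcard] at h1
  have h3 : ∀ d ∈ Bf, (d ∩ b).card * (d ∩ {p}).card = if p ∈ d then (d ∩ b).card else 0 := by
    intro d _
    by_cases hpd : p ∈ d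
    · rw [if_pos hpd, Finset.inter_singleton_of_mem hpd, Finset.card_singleton, mul_one]
    · rw [if_neg hpd, Finset.inter_singleton_of_notMem hpd, Finset.card_empty, mul_zero]
  rw [Finset.sum_congr rfl h3, ← Finset.sum_filter] at h1
  -- each block through p meets b in 0 or 2 points
  have h4 : ∀ d ∈ Bf.filter (fun d => p ∈ d), (d ∩ b).card = if (d ∩ b).card = 0 then 0 else 2 := by
    intro d hd
    rw [mem_filter, hBf, mem_blocksFinset] at hd
    have hne : d ≠ b := by
      rintro rfl
      exact hp hd.2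
    rcases s322_inter_values hα hB hb hd.1 hne with h | h <;> rw [h] <;> norm_num
  rw [Finset.sum_congr rfl h4, Finset.sum_ite, Finset.sum_const, Finset.sum_const, smul_eq_mul, smul_eq_mul,
    mul_zero, zero_add] at h1
  have h5 := s322_card_through_point hα hB p
  have h6 := Finset.card_filter_add_card_filter_not (s := Bf.filter (fun d => p ∈ d))
    (fun d => (d ∩ b).card = 0)
  rw [← hBf] at h5
  rw [h5, Finset.filter_filter] at h6
  simp only [smul_eq_mul] at h1
  omega

end

end Cfsg.Agent.Lib.Helper9
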