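import Mathlib

set_option autoImplicit false

/-! Automorphisms induced on a section `M/N` by automorphisms preserving `M` and `N`. -/

namespace Cfsg.Agent.Lib.Helper9.H9SupSol

variable {G : Type*} [Group G]

/-- The automorphisms of `G` preserving the subgroup `M`. -/
def stabSub (M : Subgroup G) : Subgroup (MulAut G) where
  carrier := {α | ∀ y : G, α y ∈ M ↔ y ∈ M}
  one_mem' := fun _ => Iff.rfl
  mul_mem' := by
    intro a b ha hb y
    rw [MulAut.mul_apply]
    exact (ha (b y)).trans (hb y)
  inv_mem' := by
    intro a ha y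
    have := ha (a⁻¹ y)
    rw [MulAut.apply_inv_self] at this
    exact this.symm

theorem mem_stabSub_iff (M : Subgroup G) (α : MulAut G) : α ∈ stabSub M ↔ ∀ y : G, α y ∈ M ↔ y ∈ M := Iff.rfl

theorem map_eq_of_mem_stabSub {M : Subgroup G} {α : MulAut G} (h : α ∈ stabSub M) :
    M.map α.toMonoidHom = M := by
  ext z
  constructor
  · rintro ⟨y, hy, rfl⟩
    exact (h y).mpr hy
  · intro hz
    refine ⟨α⁻¹ z, ?_, ?_⟩
    · have := h (α⁻¹ z)
      rw [MulAut.apply_inv_self] at this
      exact this.mp hz
    · show α (α⁻¹ z) = z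
      rw [MulAut.apply_inv_self]

/-- The restriction to `M` of an automorphism preserving `M`. -/
noncomputable def resAut {M : Subgroup G} {α : MulAut G} (h : α ∈ stabSub M) : MulAut M :=
  (α.subgroupMap M).trans (MulEquiv.subgroupCongr (map_eq_of_mem_stabSub h))

theorem resAut_apply {M : Subgroup G} {α : MulAut G} (h : α ∈ stabSub M) (y : M) :
    ((resAut h y : M) : G) = α y := rfl

theorem map_resAut {M N : Subgroup G} {α : MulAut G} (hM : α ∈ stabSub M) (hN : α ∈ stabSub N) :
    (N.subgroupOf M).map (resAut hM).toMonoidHom = N.subgroupOf M := by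
  ext z
  constructor
  · rintro ⟨y, hy, rfl⟩
    rw [SetLike.mem_coe, Subgroup.mem_subgroupOf] at hy
    rw [Subgroup.mem_subgroupOf]
    show ((resAut hM y : M) : G) ∈ N
    rw [resAut_apply]
    exact (hN y).mpr hy
  · intro hz
    rw [Subgroup.mem_subgroupOf] at hz
    refine ⟨(resAut hM).symm z, ?_, ?_⟩
    · rw [SetLike.mem_coe, Subgroup.mem_subgroupOf]
      have h1 : α (((resAut hM).symm z : M) : G) = z := by
        rw [← resAut_apply hM]
        exact congrArg Subtype.val ((resAut hM).apply_symm_apply z)
      have h2 := hN (((resAut hM).symm z : M) : G)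
      rw [h1] at h2
      exact h2.mp hz
    · exact (resAut hM).apply_symm_apply z

/-- The automorphism of `M/N` induced by an automorphism preserving `M` and `N`. -/
noncomputable def indAutFun (M N : Subgroup G) [(N.subgroupOf M).Normal] {α : MulAut G}
    (hM : α ∈ stabSub M) (hN : α ∈ stabSub N) : MulAut (M ⧸ N.subgroupOf M) :=
  QuotientGroup.congr (N.subgroupOf M) (N.subgroupOf M) (resAut hM) (map_resAut hM hN)

theorem indAutFun_mk (M N : Subgroup G) [(N.subgroupOf M).Normal] {α : MulAut G}
    (hM : α ∈ stabSub M) (hN : α ∈ stabSub N) (y : M) :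
    indAutFun M N hM hN (QuotientGroup.mk y) = QuotientGroup.mk (resAut hM y) := rfl

/-- The induced automorphism, as a homomorphism from the stabilizer of `M` and `N`. -/
noncomputable def indAut (M N : Subgroup G) [(N.subgroupOf M).Normal] :
    ↥(stabSub M ⊓ stabSub N) →* MulAut (M ⧸ N.subgroupOf M) :=
  MonoidHom.mk' (fun α => indAutFun M N α.2.1 α.2.2) (by
    intro a b
    apply MulEquiv.ext
    intro q
    induction q using QuotientGroup.induction_on with
    | H y =>
      rw [MulAut.mul_apply, indAutFun_mk, indAutFun_mk, indAutFun_mk]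
      congr 1)

theorem indAut_mk (M N : Subgroup G) [(N.subgroupOf M).Normal] (α : ↥(stabSub M ⊓ stabSub N)) (y : M) :
    indAut M N α (QuotientGroup.mk y) = QuotientGroup.mk (resAut α.2.1 y) := rfl

theorem indAut_eq_one_iff (M N : Subgroup G) [(N.subgroupOf M).Normal] (α : ↥(stabSub M ⊓ stabSub N)) :
    indAut M N α = 1 ↔ ∀ y ∈ M, y⁻¹ * (α : MulAut G) y ∈ N := by
  constructor
  · intro h y hy
    have h1 := congrArg (fun σ : MulAut (M ⧸ N.subgroupOf M) => σ (QuotientGroup.mk ⟨y, hy⟩)) h
    simp only [MulAut.one_apply] at h1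
    rw [indAut_mk] at h1
    have h2 := QuotientGroup.eq.mp h1.symm
    rw [Subgroup.mem_subgroupOf] at h2
    exact h2
  · intro h
    apply MulEquiv.ext
    intro q
    induction q using QuotientGroup.induction_on with
    | H y =>
      rw [indAut_mk, MulAut.one_apply]
      symm
      apply QuotientGroup.eq.mpr
      rw [Subgroup.mem_subgroupOf]
      exact h y y.2

end Cfsg.Agent.Lib.Helper9.H9SupSol
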