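import Mathlib
import Cfsg.Prelude.Def_FusionComponents
import Cfsg.Agent.Lib.Helper9.Realize2
import Cfsg.Agent.Lib.Helper9.SupSol1

set_option autoImplicit false

/-! The saturated fusion system `F_S(S ⋊ H)` for a `p'`-group `H` of automorphisms of `S`. -/

namespace Cfsg.Agent.Lib.Helper9.H9SupSol

open Cfsg Cfsg.FusionSystem Cfsg.Agent.Lib.Helper9

variable {Ω : Type*} [Group Ω] {S : Subgroup Ω}

theorem fs_cast_exists {S' : Subgroup Ω} (h : S' = S) (p : ℕ) (F₀ : FusionSystem S') :
    ∃ F : FusionSystem S, (∀ P : Subgroup Ω, F.Hom P = F₀.Hom P) ∧ (F₀.IsSaturated p → F.IsSaturated p) := by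
  subst h
  exact ⟨F₀, fun _ => rfl, id⟩

theorem exists_saturated_of_pprime [Finite S] (p : ℕ) [Fact p.Prime] (hS : IsPGroup p S)
    (H : Subgroup (MulAut S)) (hH : (Nat.card H).Coprime p) :
    ∃ F : FusionSystem S, F.IsSaturated p ∧
      ∀ h ∈ H, S.subtype.comp (h : MulAut S).toMonoidHom ∈ F.Hom S := by
  obtain ⟨ι, hιdef⟩ : ∃ ι : S →* SemidirectProduct S H H.subtype, ι = SemidirectProduct.inl := ⟨_, rfl⟩
  have hinj : Function.Injective ι := by rw [hιdef]; exact SemidirectProduct.inl_injective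
  haveI : Finite (SemidirectProduct S H H.subtype) := Finite.of_equiv _ SemidirectProduct.equivProd.symm
  have hidx : ι.range.index = Nat.card H := by
    have h1 : ι.range = (SemidirectProduct.rightHom : SemidirectProduct S H H.subtype →* H).ker := by
      rw [hιdef]; exact SemidirectProduct.range_inl_eq_ker_rightHom
    rw [h1, Subgroup.index_ker, MonoidHom.range_eq_top.2 SemidirectProduct.rightHom_surjective,
      Subgroup.card_top]
  have h1 : IsPGroup p ι.range := hS.of_surjective ι.rangeRestrict ι.rangeRestrict_surjective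
  have h2 : ¬ p ∣ ι.range.index := by
    rw [hidx]
    intro hdvd
    have := Nat.Coprime.eq_one_of_dvd hH.symm hdvd
    exact (Fact.out : p.Prime).one_lt.ne' this
  have hsat := realSub_isSaturated_of_le ι hinj (h1.toSylow h2) (IsPGroup.toSylow_coe h1 h2) ⊤ le_top
  have hpre : preimageAlong ι ⊤ = S := by
    unfold preimageAlong
    rw [Subgroup.comap_top, ← MonoidHom.range_eq_map, Subgroup.range_subtype]
  obtain ⟨F, hFhom, hFsat⟩ := fs_cast_exists hpre p (realSub ι hinj ⊤)
  refine ⟨F, hFsat hsat, ?_⟩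
  intro h hh
  rw [hFhom, mem_realSub_iff]
  refine ⟨le_of_eq hpre.symm, fun x => ?_, SemidirectProduct.inr ⟨h, hh⟩, Subgroup.mem_top _, fun x => ?_⟩
  · rw [hpre]
    exact (h x).2
  · have := SemidirectProduct.inl_aut (φ := H.subtype) ⟨h, hh⟩ x
    rw [map_inv] at this
    have hιx : ∀ z : S, ι z = SemidirectProduct.inl z := fun z => by rw [hιdef]
    rw [hιx, hιx]
    exact this

end Cfsg.Agent.Lib.Helper9.H9SupSol
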