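import Mathlib

set_option autoImplicit false

/-! Common eigenvectors for commuting endomorphisms of exponent dividing `p - 1` of an elementary abelian
`p`-group. -/

namespace Cfsg.Agent.Lib.Helper9.H9SupSol

open Polynomial

theorem split_aux (p : ℕ) [Fact p.Prime] :
    Splits (X ^ (p - 1) - 1 : (ZMod p)[X]) ∧ (X ^ (p - 1) - 1 : (ZMod p)[X]) ≠ 0 := by
  have hp : p.Prime := Fact.out
  have hne : (X ^ p - X : (ZMod p)[X]) ≠ 0 := by
    intro h
    have := FiniteField.X_pow_card_sub_X_natDegree_eq (ZMod p) hp.one_lt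
    rw [h, natDegree_zero] at this
    exact hp.ne_zero this.symm
  have h2 : (X ^ p - X : (ZMod p)[X]) = (X ^ (p - 1) - 1) * X := by
    have : (X ^ p : (ZMod p)[X]) = X ^ (p - 1) * X := by
      rw [← pow_succ, Nat.sub_add_cancel hp.one_le]
    rw [this]
    ring
  constructor
  · apply (GaloisField.splits_zmod_X_pow_sub_X p).of_dvd hne
    exact ⟨X, h2⟩
  · intro h
    apply hne
    rw [h2, h, zero_mul]

theorem exists_eigenvector_lin (p : ℕ) [Fact p.Prime] {M : Type*} [AddCommGroup M] [Module (ZMod p) M]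
    [Finite M] [Nontrivial M] (g : M →ₗ[ZMod p] M) (hg : g ^ (p - 1) = 1) :
    ∃ v : M, v ≠ 0 ∧ ∃ μ : ZMod p, g v = μ • v := by
  haveI : Module.Finite (ZMod p) M := Module.Finite.of_finite
  have hdvd : minpoly (ZMod p) g ∣ (X ^ (p - 1) - 1 : (ZMod p)[X]) := by
    apply minpoly.dvd
    rw [map_sub, map_pow, aeval_X, map_one, hg, sub_self]
  obtain ⟨hsplit, hne2⟩ := split_aux p
  have hsp2 : Splits (minpoly (ZMod p) g) := hsplit.of_dvd hne2 hdvd
  have hint : IsIntegral (ZMod p) g := Algebra.IsIntegral.isIntegral g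
  have hdeg : (minpoly (ZMod p) g).degree ≠ 0 := (minpoly.degree_pos hint).ne'
  obtain ⟨μ, hμ⟩ := hsp2.exists_eval_eq_zero hdeg
  have hev : Module.End.HasEigenvalue g μ := Module.End.hasEigenvalue_of_isRoot hμ
  obtain ⟨v, hv⟩ := hev.exists_hasEigenvector
  exact ⟨v, hv.2, μ, hv.apply_eq_smul⟩

theorem exists_eigenvector_add' (p : ℕ) [Fact p.Prime] {M : Type*} [AddCommGroup M] [Module (ZMod p) M] [Finite M]
    [Nontrivial M] (f : M →+ M) (hf : ∀ x, (f^[p - 1]) x = x) :
    ∃ v : M, v ≠ 0 ∧ ∃ k : ℕ, f v = k • v := by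
  obtain ⟨g, hgdef⟩ : ∃ g : Module.End (ZMod p) M, g = f.toZModLinearMap p := ⟨_, rfl⟩
  have hgf : ∀ x, g x = f x := by intro x; rw [hgdef]; rfl
  have hg : g ^ (p - 1) = 1 := by
    apply LinearMap.ext
    intro x
    rw [Module.End.pow_apply, Module.End.one_apply]
    have : ∀ n : ℕ, ∀ y, (⇑g)^[n] y = (⇑f)^[n] y := by
      intro n
      induction n with
      | zero => intro y; rfl
      | succ k ih => intro y; rw [Function.iterate_succ_apply, Function.iterate_succ_apply, hgf, ih]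
    rw [this]
    exact hf x
  obtain ⟨v, hv, μ, hμ⟩ := exists_eigenvector_lin p g hg
  refine ⟨v, hv, μ.val, ?_⟩
  rw [← hgf, hμ]
  conv_lhs => rw [← ZMod.natCast_zmod_val μ]
  exact Nat.cast_smul_eq_nsmul (ZMod p) μ.val v

theorem exists_eigenvector_add (p : ℕ) [Fact p.Prime] {M : Type*} [AddCommGroup M] [Finite M] [Nontrivial M]
    (hM : ∀ x : M, p • x = 0) (f : M →+ M) (hf : ∀ x, (f^[p - 1]) x = x) :
    ∃ v : M, v ≠ 0 ∧ ∃ k : ℕ, f v = k • v := by
  letI : Module (ZMod p) M := AddCommGroup.zmodModule hM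
  exact exists_eigenvector_add' p f hf

theorem exists_eigen_single (p : ℕ) [Fact p.Prime] {Q : Type*} [Group Q] [Finite Q] [Nontrivial Q]
    (hcomm : ∀ a b : Q, a * b = b * a) (hexp : ∀ a : Q, a ^ p = 1) (f : Q →* Q)
    (hf : ∀ x, (f^[p - 1]) x = x) : ∃ q : Q, q ≠ 1 ∧ ∃ k : ℕ, f q = q ^ k := by
  letI : CommGroup Q := { (inferInstance : Group Q) with mul_comm := hcomm }
  have hM : ∀ x : Additive Q, p • x = 0 := by
    intro x
    exact congrArg Additive.ofMul (hexp x.toMul)
  have hf' : ∀ x : Additive Q, ((MonoidHom.toAdditive f)^[p - 1]) x = x := by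
    intro x
    have : ∀ n : ℕ, ∀ y : Additive Q, ((MonoidHom.toAdditive f)^[n]) y = Additive.ofMul ((f^[n]) y.toMul) := by
      intro n
      induction n with
      | zero => intro y; rfl
      | succ k ih =>
        intro y
        rw [Function.iterate_succ_apply, Function.iterate_succ_apply, ih]
        rfl
    rw [this, hf]
    rfl
  obtain ⟨v, hv, k, hk⟩ := exists_eigenvector_add p hM (MonoidHom.toAdditive f) hf'
  refine ⟨v.toMul, ?_, k, ?_⟩
  · intro h
    apply hv
    exact congrArg Additive.ofMul h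
  · exact congrArg Additive.toMul hk

end Cfsg.Agent.Lib.Helper9.H9SupSol
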