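import Mathlib
import Cfsg.Agent.Lib.Helper9.SupSol3

set_option autoImplicit false

/-! Common eigenvectors for a commuting family. -/

namespace Cfsg.Agent.Lib.Helper9.H9SupSol

/-- The `k`-eigenspace of an endomorphism of an abelian group. -/
def eigenSub {Q : Type*} [Group Q] (hcomm : ∀ a b : Q, a * b = b * a) (σ : Q →* Q) (k : ℕ) : Subgroup Q where
  carrier := {y | σ y = y ^ k}
  one_mem' := by
    show σ 1 = 1 ^ k
    rw [map_one, one_pow]
  mul_mem' := by
    intro a b ha hb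
    show σ (a * b) = (a * b) ^ k
    rw [map_mul, (show σ a = a ^ k from ha), (show σ b = b ^ k from hb), (show Commute a b from hcomm a b).mul_pow]
  inv_mem' := by
    intro a ha
    show σ a⁻¹ = a⁻¹ ^ k
    rw [map_inv, (show σ a = a ^ k from ha), inv_pow]

theorem mem_eigenSub_iff {Q : Type*} [Group Q] (hcomm : ∀ a b : Q, a * b = b * a) (σ : Q →* Q) (k : ℕ) (y : Q) :
    y ∈ eigenSub hcomm σ k ↔ σ y = y ^ k := Iff.rfl

theorem exists_common_eigen (p : ℕ) [Fact p.Prime] {Q : Type*} [Group Q] [Finite Q]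
    (hcomm : ∀ a b : Q, a * b = b * a) (hexp : ∀ a : Q, a ^ p = 1) (𝒦 : Set (Q →* Q))
    (hK : ∀ σ ∈ 𝒦, ∀ τ ∈ 𝒦, ∀ x, σ (τ x) = τ (σ x)) (hpow : ∀ σ ∈ 𝒦, ∀ x, (σ^[p - 1]) x = x) :
    ∀ (n : ℕ) (R : Subgroup Q), Nat.card R = n → R ≠ ⊥ → (∀ σ ∈ 𝒦, ∀ x ∈ R, σ x ∈ R) →
      ∃ q ∈ R, q ≠ 1 ∧ ∀ σ ∈ 𝒦, σ q ∈ Subgroup.zpowers q := by
  intro n
  induction n using Nat.strong_induction_on with
  | _ n ih =>
    intro R hn hR hinv
    by_cases hall : ∀ σ ∈ 𝒦, ∀ x ∈ R, σ x ∈ Subgroup.zpowers x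
    · obtain ⟨q, hq⟩ := (Subgroup.ne_bot_iff_exists_ne_one.mp hR)
      refine ⟨q, q.2, ?_, fun σ hσ => hall σ hσ q q.2⟩
      intro h
      apply hq
      exact Subtype.ext h
    · push Not at hall
      obtain ⟨σ, hσ, x, hxR, hx⟩ := hall
      -- the restriction of σ to R
      obtain ⟨f, hfdef⟩ : ∃ f : R →* R, f = (σ.comp R.subtype).codRestrict R (fun y => hinv σ hσ y y.2) := ⟨_, rfl⟩
      have hfv : ∀ y : R, ((f y : R) : Q) = σ y := by intro y; rw [hfdef]; rfl
      have hfit : ∀ (m : ℕ) (y : R), (((f^[m]) y : R) : Q) = (σ^[m]) y := by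
        intro m
        induction m with
        | zero => intro y; rfl
        | succ k ihk =>
          intro y
          rw [Function.iterate_succ_apply, Function.iterate_succ_apply, ihk, hfv]
      haveI : Nontrivial R := (Subgroup.nontrivial_iff_ne_bot R).mpr hR
      have hf : ∀ y : R, (f^[p - 1]) y = y := by
        intro y
        apply Subtype.ext
        rw [hfit]
        exact hpow σ hσ y
      obtain ⟨q, hq1, k, hk⟩ := exists_eigen_single p (Q := R) (fun a b => Subtype.ext (hcomm a b))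
        (fun a => Subtype.ext (hexp a)) f hf
      have hσq : σ (q : Q) = (q : Q) ^ k := by
        rw [← hfv, hk]
        rfl
      -- the smaller invariant subgroup
      have hR'ne : R ⊓ eigenSub hcomm σ k ≠ ⊥ := by
        intro h
        have h1 : (q : Q) ∈ R ⊓ eigenSub hcomm σ k := ⟨q.2, hσq⟩
        rw [h, Subgroup.mem_bot] at h1
        exact hq1 (Subtype.ext h1)
      have hR'lt : R ⊓ eigenSub hcomm σ k < R := by
        refine lt_of_le_of_ne inf_le_left ?_
        intro h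
        have h1 : x ∈ R ⊓ eigenSub hcomm σ k := by rw [h]; exact hxR
        apply hx
        rw [(show σ x = x ^ k from h1.2)]
        exact Subgroup.npow_mem_zpowers x k
      have hcard : Nat.card ↥(R ⊓ eigenSub hcomm σ k) < n := by
        rw [← hn]
        by_contra hcon
        push Not at hcon
        exact hR'lt.ne (Subgroup.eq_of_le_of_card_ge hR'lt.le hcon)
      have hinv' : ∀ τ ∈ 𝒦, ∀ y ∈ R ⊓ eigenSub hcomm σ k, τ y ∈ R ⊓ eigenSub hcomm σ k := by
        intro τ hτ y hy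
        refine ⟨hinv τ hτ y hy.1, ?_⟩
        show σ (τ y) = (τ y) ^ k
        rw [hK σ hσ τ hτ, (show σ y = y ^ k from hy.2), map_pow]
      obtain ⟨q', hq', hq'1, hq'2⟩ := ih _ hcard (R ⊓ eigenSub hcomm σ k) rfl hR'ne hinv'
      exact ⟨q', hq'.1, hq'1, hq'2⟩

end Cfsg.Agent.Lib.Helper9.H9SupSol
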