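import Mathlib
import Cfsg.Agent.Lib.Helper9.SupSol1
import Cfsg.Agent.Lib.Helper9.SupSol4

set_option autoImplicit false

/-! Extending an invariant subgroup of a `p`-group by one generator, for a group of automorphisms
`A = Inn(G) K` with `K` abelian of exponent dividing `p - 1`. -/

namespace Cfsg.Agent.Lib.Helper9.H9SupSol

variable {G : Type*} [Group G]

theorem normal_of_conj_mem_stabSub (U : Subgroup G) (h : ∀ g : G, MulAut.conj g ∈ stabSub U) : U.Normal := by
  constructor
  intro n hn g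
  have := (h g n).mpr hn
  rwa [MulAut.conj_apply] at this

/-- The endomorphism of `G/U` induced by an automorphism preserving `U`. -/
def quotMap (U : Subgroup G) [U.Normal] {α : MulAut G} (h : α ∈ stabSub U) : G ⧸ U →* G ⧸ U :=
  QuotientGroup.map U U α.toMonoidHom (fun y hy => (h y).mpr hy)

theorem quotMap_mk (U : Subgroup G) [U.Normal] {α : MulAut G} (h : α ∈ stabSub U) (y : G) :
    quotMap U h (QuotientGroup.mk y) = QuotientGroup.mk (α y) := rfl

theorem quotMap_surjective (U : Subgroup G) [U.Normal] {α : MulAut G} (h : α ∈ stabSub U) :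
    Function.Surjective (quotMap U h) := by
  intro q
  induction q using QuotientGroup.induction_on with
  | H y =>
    refine ⟨QuotientGroup.mk (α⁻¹ y), ?_⟩
    rw [quotMap_mk, MulAut.apply_inv_self]

/-- The elements of order dividing `p` in the centre of `G/U`. -/
def omegaCenter (p : ℕ) (U : Subgroup G) [U.Normal] : Subgroup (G ⧸ U) where
  carrier := {q | q ∈ Subgroup.center (G ⧸ U) ∧ q ^ p = 1}
  one_mem' := ⟨Subgroup.one_mem _, one_pow p⟩
  mul_mem' := by
    rintro a b ⟨ha, hap⟩ ⟨hb, hbp⟩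
    refine ⟨Subgroup.mul_mem _ ha hb, ?_⟩
    have hc : Commute a b := (Subgroup.mem_center_iff.mp ha b).symm
    rw [hc.mul_pow, hap, hbp, one_mul]
  inv_mem' := by
    rintro a ⟨ha, hap⟩
    exact ⟨Subgroup.inv_mem _ ha, by rw [inv_pow, hap, inv_one]⟩

theorem mem_omegaCenter_iff (p : ℕ) (U : Subgroup G) [U.Normal] (q : G ⧸ U) :
    q ∈ omegaCenter p U ↔ q ∈ Subgroup.center (G ⧸ U) ∧ q ^ p = 1 := Iff.rfl

/-- The preimage in `G` of `Ω₁(Z(G/U))`. -/
def omegaPre (p : ℕ) (U : Subgroup G) [U.Normal] : Subgroup G :=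
  (omegaCenter p U).comap (QuotientGroup.mk' U)

theorem mem_omegaPre_iff (p : ℕ) (U : Subgroup G) [U.Normal] (y : G) :
    y ∈ omegaPre p U ↔ (QuotientGroup.mk y : G ⧸ U) ∈ Subgroup.center (G ⧸ U) ∧
      (QuotientGroup.mk y : G ⧸ U) ^ p = 1 := Iff.rfl

theorem le_omegaPre (p : ℕ) (U : Subgroup G) [U.Normal] : U ≤ omegaPre p U := by
  intro y hy
  rw [mem_omegaPre_iff]
  have : (QuotientGroup.mk y : G ⧸ U) = 1 := (QuotientGroup.eq_one_iff y).mpr hy
  rw [this]
  exact ⟨Subgroup.one_mem _, one_pow p⟩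

theorem omegaPre_comm (p : ℕ) (U : Subgroup G) [U.Normal] {y : G} (hy : y ∈ omegaPre p U) (s : G) :
    y⁻¹ * (s * y * s⁻¹) ∈ U := by
  have h1 := Subgroup.mem_center_iff.mp ((mem_omegaPre_iff p U y).mp hy).1 (QuotientGroup.mk s)
  -- mk s * mk y = mk y * mk s
  have h2 : (QuotientGroup.mk (y⁻¹ * (s * y * s⁻¹)) : G ⧸ U) = 1 := by
    rw [QuotientGroup.mk_mul, QuotientGroup.mk_mul, QuotientGroup.mk_mul, h1, QuotientGroup.mk_inv,
      QuotientGroup.mk_inv]
    group
  exact (QuotientGroup.eq_one_iff _).mp h2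

theorem omegaPre_pow (p : ℕ) (U : Subgroup G) [U.Normal] {y : G} (hy : y ∈ omegaPre p U) : y ^ p ∈ U := by
  have h1 := ((mem_omegaPre_iff p U y).mp hy).2
  rw [← QuotientGroup.mk_pow] at h1
  exact (QuotientGroup.eq_one_iff _).mp h1

theorem stabSub_le_stabSub_omegaPre (p : ℕ) (U : Subgroup G) [U.Normal] : stabSub U ≤ stabSub (omegaPre p U) := by
  have key : ∀ α ∈ stabSub U, ∀ y ∈ omegaPre p U, α y ∈ omegaPre p U := by
    intro α hα y hy
    rw [mem_omegaPre_iff] at hy ⊢
    rw [← quotMap_mk U hα]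
    constructor
    · rw [Subgroup.mem_center_iff]
      intro r
      obtain ⟨r', rfl⟩ := quotMap_surjective U hα r
      rw [← map_mul, ← map_mul, Subgroup.mem_center_iff.mp hy.1 r']
    · rw [← map_pow, hy.2, map_one]
  intro α hα y
  constructor
  · intro h
    have := key α⁻¹ (Subgroup.inv_mem _ hα) (α y) h
    rwa [MulAut.inv_apply_self] at this
  · exact key α hα y

/-- If all members of a group `A` of automorphisms preserve `U` and send `y` into `U ⊔ ⟨y⟩`, they preserve
`U ⊔ ⟨y⟩`. -/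
theorem le_stabSub_sup_zpowers (A : Subgroup (MulAut G)) (U : Subgroup G) (y : G) (hU : A ≤ stabSub U)
    (hy : ∀ α ∈ A, α y ∈ U ⊔ Subgroup.zpowers y) : A ≤ stabSub (U ⊔ Subgroup.zpowers y) := by
  have key : ∀ α ∈ A, ∀ z ∈ U ⊔ Subgroup.zpowers y, α z ∈ U ⊔ Subgroup.zpowers y := by
    intro α hα
    have h1 : U ⊔ Subgroup.zpowers y ≤ (U ⊔ Subgroup.zpowers y).comap α.toMonoidHom := by
      apply sup_le
      · intro u hu
        exact Subgroup.mem_sup_left ((hU hα u).mpr hu)
      · rw [Subgroup.zpowers_le]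
        exact hy α hα
    intro z hz
    exact h1 hz
  intro α hα z
  constructor
  · intro h
    have := key α⁻¹ (Subgroup.inv_mem _ hα) (α z) h
    rwa [MulAut.inv_apply_self] at this
  · exact key α hα z

theorem iterate_toMonoidHom_eq {Q : Type*} [Group Q] (e : MulAut Q) (n : ℕ) (x : Q) :
    ((⇑e.toMonoidHom)^[n]) x = (e ^ n) x := by
  induction n generalizing x with
  | zero => rfl
  | succ k ih =>
    rw [Function.iterate_succ_apply, ih, pow_succ, MulAut.mul_apply]
    rfl

end Cfsg.Agent.Lib.Helper9.H9SupSol
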