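import Mathlib
import Cfsg.Agent.Lib.Helper9.SupSol7

set_option autoImplicit false

/-! Extending an invariant subgroup of a `p`-group by one generator: the main step. -/

namespace Cfsg.Agent.Lib.Helper9.H9SupSol

variable {G : Type*} [Group G]

theorem exists_invariant_cyclic_ext [Finite G] (p : ℕ) [Fact p.Prime] (hG : IsPGroup p G)
    (A K : Subgroup (MulAut G)) (hInn : ∀ g : G, MulAut.conj g ∈ A) (hKA : K ≤ A)
    (hdec : ∀ a ∈ A, ∃ s : G, ∃ k ∈ K, a = MulAut.conj s * k)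
    (hKcomm : ∀ a ∈ K, ∀ b ∈ K, a * b = b * a) (hKexp : ∀ a ∈ K, a ^ (p - 1) = 1)
    (U : Subgroup G) (hU : A ≤ stabSub U) (hUtop : U ≠ ⊤) :
    ∃ y : G, y ∉ U ∧ A ≤ stabSub (U ⊔ Subgroup.zpowers y) := by
  haveI hUn : U.Normal := normal_of_conj_mem_stabSub U (fun g => hU (hInn g))
  -- the subgroup W
  obtain ⟨W, hWdef⟩ : ∃ W : Subgroup G, W = omegaPre p U := ⟨_, rfl⟩
  have hUW : U ≤ W := by rw [hWdef]; exact le_omegaPre p U
  have hAW : A ≤ stabSub W := by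
    rw [hWdef]
    exact hU.trans (stabSub_le_stabSub_omegaPre p U)
  have hAle : A ≤ stabSub W ⊓ stabSub U := le_inf hAW hU
  haveI hnUW : (U.subgroupOf W).Normal := inferInstance
  -- an element of W outside U
  have hexW : ∃ w ∈ W, w ∉ U := by
    haveI : Nontrivial (G ⧸ U) := QuotientGroup.nontrivial_iff.mpr hUtop
    have hQp : IsPGroup p (G ⧸ U) := hG.to_quotient U
    haveI := hQp.center_nontrivial
    have hZp : IsPGroup p (Subgroup.center (G ⧸ U)) := hQp.to_subgroup _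
    obtain ⟨e, he⟩ := IsPGroup.iff_card.mp hZp
    have hdvd : p ∣ Nat.card (Subgroup.center (G ⧸ U)) := by
      rw [he]
      cases e with
      | zero =>
        exfalso
        rw [pow_zero] at he
        have := Finite.one_lt_card (α := Subgroup.center (G ⧸ U))
        omega
      | succ k => exact dvd_pow_self p (Nat.succ_ne_zero k)
    obtain ⟨z, hz⟩ := exists_prime_orderOf_dvd_card' p hdvd
    obtain ⟨w, hw⟩ := QuotientGroup.mk_surjective (z : G ⧸ U)
    refine ⟨w, ?_, ?_⟩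
    · rw [hWdef, mem_omegaPre_iff, hw]
      refine ⟨z.2, ?_⟩
      have h1 : z ^ p = 1 := by rw [← hz]; exact pow_orderOf_eq_one z
      have h2 := congrArg Subtype.val h1
      exact h2
    · intro hwU
      have h1 : (z : G ⧸ U) = 1 := by rw [← hw]; exact (QuotientGroup.eq_one_iff w).mpr hwU
      have h2 : z = 1 := Subtype.ext h1
      rw [h2, orderOf_one] at hz
      exact (Fact.out : p.Prime).one_lt.ne hz
  obtain ⟨w, hwW, hwU⟩ := hexW
  -- the quotient W/U is elementary abelian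
  have hWmem : ∀ y : W, (y : G) ∈ omegaPre p U := fun y => hWdef ▸ y.2
  have hcomm : ∀ a b : W ⧸ U.subgroupOf W, a * b = b * a := by
    intro a b
    induction a using QuotientGroup.induction_on with
    | H y =>
      induction b using QuotientGroup.induction_on with
      | H z =>
        rw [← QuotientGroup.mk_mul, ← QuotientGroup.mk_mul]
        apply QuotientGroup.eq.mpr
        rw [Subgroup.mem_subgroupOf]
        have h1 := omegaPre_comm p U (hWmem y) (z : G)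
        have h3 := hUn.conj_mem _ h1 (z : G)⁻¹
        have h2 : (((y * z)⁻¹ * (z * y) : W) : G) =
            (z : G)⁻¹ * ((y : G)⁻¹ * ((z : G) * y * (z : G)⁻¹)) * (z : G)⁻¹⁻¹ := by
          push_cast
          group
        rw [h2]
        exact h3
  have hexp : ∀ a : W ⧸ U.subgroupOf W, a ^ p = 1 := by
    intro a
    induction a using QuotientGroup.induction_on with
    | H y =>
      rw [← QuotientGroup.mk_pow]
      apply (QuotientGroup.eq_one_iff _).mpr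
      rw [Subgroup.mem_subgroupOf]
      push_cast
      exact omegaPre_pow p U (hWmem y)
  -- the induced action
  obtain ⟨ι, hιdef⟩ : ∃ ι : A →* MulAut (W ⧸ U.subgroupOf W),
      ι = (indAut W U).comp (Subgroup.inclusion hAle) := ⟨_, rfl⟩
  have hιmk : ∀ (a : A) (y : W), ι a (QuotientGroup.mk y) = QuotientGroup.mk (resAut (hAW a.2) y) := by
    intro a y
    rw [hιdef]
    rfl
  have hιinn : ∀ (a : A) (s : G), (a : MulAut G) = MulAut.conj s → ι a = 1 := by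
    intro a s has
    rw [hιdef, MonoidHom.comp_apply, indAut_eq_one_iff]
    intro y hy
    show y⁻¹ * (a : MulAut G) y ∈ U
    rw [has, MulAut.conj_apply]
    exact omegaPre_comm p U (hWdef ▸ hy) s
  obtain ⟨𝒦, h𝒦def⟩ : ∃ 𝒦 : Set ((W ⧸ U.subgroupOf W) →* (W ⧸ U.subgroupOf W)),
      𝒦 = {σ | ∃ k : A, (k : MulAut G) ∈ K ∧ σ = (ι k).toMonoidHom} := ⟨_, rfl⟩
  have h𝒦comm : ∀ σ ∈ 𝒦, ∀ τ ∈ 𝒦, ∀ x, σ (τ x) = τ (σ x) := by
    intro σ hσ τ hτ x
    rw [h𝒦def] at hσ hτ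
    obtain ⟨k₁, hk₁, rfl⟩ := hσ
    obtain ⟨k₂, hk₂, rfl⟩ := hτ
    show (ι k₁ * ι k₂) x = (ι k₂ * ι k₁) x
    rw [← map_mul, ← map_mul]
    have : k₁ * k₂ = k₂ * k₁ := Subtype.ext (hKcomm _ hk₁ _ hk₂)
    rw [this]
  have h𝒦pow : ∀ σ ∈ 𝒦, ∀ x, (σ^[p - 1]) x = x := by
    intro σ hσ x
    rw [h𝒦def] at hσ
    obtain ⟨k, hk, rfl⟩ := hσ
    rw [iterate_toMonoidHom_eq, ← map_pow]
    have : k ^ (p - 1) = 1 := Subtype.ext (hKexp _ hk)
    rw [this, map_one]
    rfl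
  haveI : Finite (W ⧸ U.subgroupOf W) := inferInstance
  have htop : (⊤ : Subgroup (W ⧸ U.subgroupOf W)) ≠ ⊥ := by
    intro h
    have h1 : (QuotientGroup.mk ⟨w, hwW⟩ : W ⧸ U.subgroupOf W) ∈ (⊤ : Subgroup (W ⧸ U.subgroupOf W)) :=
      Subgroup.mem_top _
    rw [h, Subgroup.mem_bot, QuotientGroup.eq_one_iff, Subgroup.mem_subgroupOf] at h1
    exact hwU h1
  obtain ⟨q, -, hq1, hq⟩ := exists_common_eigen p hcomm hexp 𝒦 h𝒦comm h𝒦pow _ ⊤ rfl htop
    (fun _ _ _ _ => Subgroup.mem_top _)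
  obtain ⟨y, rfl⟩ := QuotientGroup.mk_surjective q
  have hyU : (y : G) ∉ U := by
    intro h
    apply hq1
    apply (QuotientGroup.eq_one_iff _).mpr
    rw [Subgroup.mem_subgroupOf]
    exact h
  refine ⟨y, hyU, ?_⟩
  apply le_stabSub_sup_zpowers A U y hU
  intro α hα
  obtain ⟨s, k, hk, hαsk⟩ := hdec α hα
  have hkA : k ∈ A := hKA hk
  have hsA : MulAut.conj s ∈ A := hInn s
  have h1 : ι ⟨α, hα⟩ = ι ⟨k, hkA⟩ := by
    have : (⟨α, hα⟩ : A) = ⟨MulAut.conj s, hsA⟩ * ⟨k, hkA⟩ := Subtype.ext hαsk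
    rw [this, map_mul, hιinn ⟨MulAut.conj s, hsA⟩ s rfl, one_mul]
  have h2 : (ι ⟨k, hkA⟩).toMonoidHom ∈ 𝒦 := by
    rw [h𝒦def]
    exact ⟨⟨k, hkA⟩, hk, rfl⟩
  have h3 := hq _ h2
  rw [Subgroup.mem_zpowers_iff] at h3
  obtain ⟨j, hj⟩ := h3
  have h4 : ι ⟨α, hα⟩ (QuotientGroup.mk y) = (QuotientGroup.mk y) ^ j := by
    rw [h1]
    exact hj.symm
  rw [hιmk, ← QuotientGroup.mk_zpow] at h4
  have h5 := QuotientGroup.eq.mp h4.symm
  rw [Subgroup.mem_subgroupOf] at h5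
  have h6 : (((y ^ j)⁻¹ * resAut (hAW hα) y : W) : G) = ((y : G) ^ j)⁻¹ * α y := by
    push_cast
    rfl
  rw [h6] at h5
  have h7 : α y = (y : G) ^ j * (((y : G) ^ j)⁻¹ * α y) := by group
  rw [h7]
  exact Subgroup.mul_mem _ (Subgroup.mem_sup_right (Subgroup.zpow_mem _ (Subgroup.mem_zpowers _) j))
    (Subgroup.mem_sup_left h5)

end Cfsg.Agent.Lib.Helper9.H9SupSol
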