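import Mathlib
import Cfsg.Agent.Lib.Helper9.SupSol8

set_option autoImplicit false

/-! An invariant chain with one-generator steps. -/

namespace Cfsg.Agent.Lib.Helper9.H9SupSol

variable {G : Type*} [Group G]

theorem exists_invariant_chain_aux [Finite G] (p : ℕ) [Fact p.Prime] (hG : IsPGroup p G)
    (A K : Subgroup (MulAut G)) (hInn : ∀ g : G, MulAut.conj g ∈ A) (hKA : K ≤ A)
    (hdec : ∀ a ∈ A, ∃ s : G, ∃ k ∈ K, a = MulAut.conj s * k)
    (hKcomm : ∀ a ∈ K, ∀ b ∈ K, a * b = b * a) (hKexp : ∀ a ∈ K, a ^ (p - 1) = 1) :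
    ∀ (d : ℕ) (U : Subgroup G), A ≤ stabSub U → Nat.card G - Nat.card U = d →
      ∃ (n : ℕ) (E : ℕ → Subgroup G), E 0 = U ∧ E n = ⊤ ∧
        ∀ k, A ≤ stabSub (E k) ∧ E k ≤ E (k + 1) ∧ ∃ y, E (k + 1) = E k ⊔ Subgroup.zpowers y := by
  intro d
  induction d using Nat.strong_induction_on with
  | _ d ih =>
    intro U hU hd
    by_cases hUtop : U = ⊤
    · refine ⟨0, fun _ => U, rfl, hUtop, fun k => ⟨hU, le_rfl, 1, ?_⟩⟩
      show U = U ⊔ Subgroup.zpowers 1
      rw [Subgroup.zpowers_one_eq_bot, sup_bot_eq]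
    · obtain ⟨y, hyU, hy⟩ := exists_invariant_cyclic_ext p hG A K hInn hKA hdec hKcomm hKexp U hU hUtop
      have hlt : U < U ⊔ Subgroup.zpowers y := by
        refine lt_of_le_of_ne le_sup_left ?_
        intro h
        apply hyU
        rw [h]
        exact Subgroup.mem_sup_right (Subgroup.mem_zpowers y)
      have hc1 : Nat.card U < Nat.card ↥(U ⊔ Subgroup.zpowers y) := by
        by_contra hcon
        push Not at hcon
        exact hlt.ne (Subgroup.eq_of_le_of_card_ge hlt.le hcon)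
      have hc2 : Nat.card ↥(U ⊔ Subgroup.zpowers y) ≤ Nat.card G := Subgroup.card_le_card_group _
      have hd' : Nat.card G - Nat.card ↥(U ⊔ Subgroup.zpowers y) < d := by omega
      obtain ⟨n', E', hE0, hEn, hE⟩ := ih _ hd' (U ⊔ Subgroup.zpowers y) hy rfl
      refine ⟨n' + 1, fun k => Nat.casesOn k U E', rfl, hEn, ?_⟩
      intro k
      cases k with
      | zero =>
        refine ⟨hU, ?_, y, ?_⟩
        · show U ≤ E' 0
          rw [hE0]
          exact le_sup_left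
        · show E' 0 = U ⊔ Subgroup.zpowers y
          exact hE0
      | succ k => exact hE k

theorem exists_invariant_chain [Finite G] (p : ℕ) [Fact p.Prime] (hG : IsPGroup p G)
    (A K : Subgroup (MulAut G)) (hInn : ∀ g : G, MulAut.conj g ∈ A) (hKA : K ≤ A)
    (hdec : ∀ a ∈ A, ∃ s : G, ∃ k ∈ K, a = MulAut.conj s * k)
    (hKcomm : ∀ a ∈ K, ∀ b ∈ K, a * b = b * a) (hKexp : ∀ a ∈ K, a ^ (p - 1) = 1) :
    ∃ (n : ℕ) (E : ℕ → Subgroup G), E 0 = ⊥ ∧ E n = ⊤ ∧
      ∀ k, A ≤ stabSub (E k) ∧ E k ≤ E (k + 1) ∧ ∃ y, E (k + 1) = E k ⊔ Subgroup.zpowers y := by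
  apply exists_invariant_chain_aux p hG A K hInn hKA hdec hKcomm hKexp _ ⊥ _ rfl
  intro α _ y
  rw [Subgroup.mem_bot, Subgroup.mem_bot]
  exact map_eq_one_iff α α.injective

end Cfsg.Agent.Lib.Helper9.H9SupSol
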