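import Mathlib
import Cfsg.Prelude.Def_FusionSystem
import Cfsg.Agent.Lib.Helper9.SupSol9
import Cfsg.Agent.Lib.Helper9.FusionNormal3
import Cfsg.Agent.S5106

set_option autoImplicit false

/-! Resistant `S` whose `p'`-automorphism groups are abelian of exponent dividing `p - 1`: every saturated
fusion system over `S` is supersoluble. -/

namespace Cfsg.Agent.Lib.Helper9.H9SupSol

open Cfsg Cfsg.FusionSystem Cfsg.Agent.Lib.Helper9

variable {Ω : Type*} [Group Ω] {S : Subgroup Ω}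

theorem stronglyClosed_of_invariant [Finite S] (p : ℕ) [Fact p.Prime] (hS : IsPGroup p S) (F : FusionSystem S)
    (hF : F.IsSaturated p) (hN : F.IsNormal S) (U : Subgroup S) (hU : F.autGroup S ≤ stabSub U) :
    F.StronglyClosed (U.map S.subtype) := by
  have hle : U.map S.subtype ≤ S := by
    rintro _ ⟨u, -, rfl⟩
    exact u.2
  refine ⟨hle, ?_⟩
  intro R hR φ hφ x
  have hRS : R ≤ S := hR.trans hle
  obtain ⟨α, hα, hαφ⟩ := (Cfsg.Agent.S5106.result p hS F hF S le_rfl).mp hN R hRS φ hφ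
  rw [← hαφ x]
  obtain ⟨u, hu, hux⟩ := hR x.2
  have h1 : Subgroup.inclusion hRS x = u := Subtype.ext hux.symm
  rw [h1]
  exact ⟨α u, (hU hα u).mpr hu, rfl⟩

theorem chain_of_resistant [Finite S] (p : ℕ) [Fact p.Prime] (hS : IsPGroup p S) (F : FusionSystem S)
    (hF : F.IsSaturated p) (hN : F.IsNormal S)
    (hb : ∀ H : Subgroup (MulAut S), (Nat.card H).Coprime p →
      IsMulCommutative H ∧ ∀ h ∈ H, h ^ (p - 1) = 1) :
    ∃ (m : ℕ) (c : Fin (m + 1) → Subgroup Ω), c 0 = ⊥ ∧ c (Fin.last m) = S ∧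
      (∀ i : Fin (m + 1), F.StronglyClosed (c i)) ∧
      ∀ i : Fin m, c i.castSucc ≤ c i.succ ∧ ∃ x ∈ S, c i.succ = c i.castSucc ⊔ Subgroup.zpowers x := by
  have hp : p.Prime := Fact.out
  -- Inn(S) is a normal Sylow subgroup of Aut_F(S)
  obtain ⟨-, T₀, hT₀⟩ := (fs_sylow_axiom p hS F hF (Cfsg.Agent.S5083.top_fullyNormalized F)).2
  rw [autInducedBy_self_eq_inn] at hT₀
  have hInnle : Inn S ≤ F.autGroup S := by
    rw [← autInducedBy_self_eq_inn]
    exact autInducedBy_le_autGroup F le_rfl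
  have hInn : ∀ g : S, MulAut.conj g ∈ F.autGroup S := fun g => hInnle ⟨g, rfl⟩
  haveI : Finite (F.autGroup S) := inferInstance
  haveI hNn : ((Inn S).subgroupOf (F.autGroup S)).Normal := inferInstance
  have hcop : Nat.Coprime (Nat.card ((Inn S).subgroupOf (F.autGroup S)))
      ((Inn S).subgroupOf (F.autGroup S)).index := by
    rw [← hT₀]
    exact T₀.card_coprime_index
  obtain ⟨K', hK'⟩ := Subgroup.exists_right_complement'_of_coprime hcop
  have hK'card : Nat.card K' = ((Inn S).subgroupOf (F.autGroup S)).index := hK'.symm.index_eq_card.symm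
  have hK'p : (Nat.card K').Coprime p := by
    rw [hK'card, ← hT₀]
    exact ((Nat.Prime.coprime_iff_not_dvd hp).mpr T₀.not_dvd_index).symm
  obtain ⟨K, hKdef⟩ : ∃ K : Subgroup (MulAut S), K = K'.map (F.autGroup S).subtype := ⟨_, rfl⟩
  have hKcard : Nat.card K = Nat.card K' := by
    rw [hKdef]
    exact (Nat.card_congr (K'.equivMapOfInjective _ (Subgroup.subtype_injective _)).toEquiv).symm
  have hKA : K ≤ F.autGroup S := by
    rw [hKdef]
    rintro _ ⟨k, -, rfl⟩
    exact k.2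
  obtain ⟨hKc, hKexp⟩ := hb K (hKcard ▸ hK'p)
  have hKcomm : ∀ a ∈ K, ∀ b ∈ K, a * b = b * a := by
    intro a ha b hb'
    have := hKc.is_comm.comm ⟨a, ha⟩ ⟨b, hb'⟩
    exact congrArg Subtype.val this
  have hdec : ∀ a ∈ F.autGroup S, ∃ s : S, ∃ k ∈ K, a = MulAut.conj s * k := by
    intro a ha
    obtain ⟨⟨n, k⟩, hnk⟩ := hK'.2 ⟨a, ha⟩
    have hn := n.2
    rw [SetLike.mem_coe, Subgroup.mem_subgroupOf] at hn
    obtain ⟨s, hs⟩ := hn
    refine ⟨s, ((k : F.autGroup S) : MulAut S), ?_, ?_⟩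
    · rw [hKdef]
      exact ⟨k, k.2, rfl⟩
    · have h1 := congrArg Subtype.val hnk
      rw [hs]
      exact h1.symm
  obtain ⟨n, E, hE0, hEn, hE⟩ := exists_invariant_chain p hS (F.autGroup S) K hInn hKA hdec hKcomm hKexp
  refine ⟨n, fun i => (E i).map S.subtype, ?_, ?_, ?_, ?_⟩
  · show (E ((0 : Fin (n + 1)) : ℕ)).map S.subtype = ⊥
    rw [Fin.val_zero, hE0, Subgroup.map_bot]
  · show (E ((Fin.last n : Fin (n + 1)) : ℕ)).map S.subtype = S
    rw [Fin.val_last, hEn, ← MonoidHom.range_eq_map, Subgroup.range_subtype]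
  · intro i
    exact stronglyClosed_of_invariant p hS F hF hN (E i) (hE i).1
  · intro i
    show (E (i.castSucc : ℕ)).map S.subtype ≤ (E (i.succ : ℕ)).map S.subtype ∧
      ∃ x ∈ S, (E (i.succ : ℕ)).map S.subtype = (E (i.castSucc : ℕ)).map S.subtype ⊔ Subgroup.zpowers x
    rw [Fin.val_succ, Fin.coe_castSucc]
    obtain ⟨-, hle, y, hy⟩ := hE i
    refine ⟨Subgroup.map_mono hle, (y : Ω), y.2, ?_⟩
    rw [hy, Subgroup.map_sup, MonoidHom.map_zpowers]
    rfl

end Cfsg.Agent.Lib.Helper9.H9SupSol
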