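import Mathlib
import Cfsg.Agent.Lib.Helper9.SupSol1
import Cfsg.Agent.Lib.Helper9.ChainStab

set_option autoImplicit false

/-! A `p'`-group of automorphisms of a `p`-group preserving a chain with cyclic steps is abelian of exponent
dividing `p - 1`. -/

namespace Cfsg.Agent.Lib.Helper9.H9SupSol

open Cfsg.Agent.Lib.Helper9

theorem cyclic_aut_pow {Q : Type*} [Group Q] [Finite Q] [IsCyclic Q] (p : ℕ) [Fact p.Prime] (hQ : IsPGroup p Q)
    (σ : MulAut Q) (m : ℕ) (hm : σ ^ m = 1) (hcop : m.Coprime p) : σ ^ (p - 1) = 1 := by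
  obtain ⟨e, he⟩ := IsPGroup.iff_card.mp hQ
  have hcard : Nat.card (MulAut Q) = Nat.totient (p ^ e) := by rw [IsCyclic.card_mulAut, he]
  have h1 : orderOf σ ∣ m := orderOf_dvd_of_pow_eq_one hm
  have h2 : orderOf σ ∣ Nat.totient (p ^ e) := hcard ▸ orderOf_dvd_natCard σ
  have h3 : (orderOf σ).Coprime p := Nat.Coprime.coprime_dvd_left h1 hcop
  cases e with
  | zero =>
    rw [pow_zero, Nat.totient_one, Nat.dvd_one] at h2
    rw [orderOf_eq_one_iff] at h2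
    rw [h2, one_pow]
  | succ k =>
    rw [Nat.totient_prime_pow_succ Fact.out] at h2
    have h4 : orderOf σ ∣ p - 1 := (Nat.Coprime.pow_right k h3).dvd_of_dvd_mul_left h2
    exact orderOf_dvd_iff_pow_eq_one.mp h4

theorem cyclic_aut_comm {Q : Type*} [Group Q] [IsCyclic Q] (a b : MulAut Q) : a * b = b * a := by
  apply (IsCyclic.mulAutMulEquiv Q).injective
  rw [map_mul, map_mul, mul_comm]

variable {G : Type*} [Group G]

/-- A `p'`-element of a group of automorphisms which stabilizes a chain from `⊥` to `⊤` is trivial. -/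
theorem eq_one_of_stabChain [Finite G] (p : ℕ) [Fact p.Prime] (hG : IsPGroup p G)
    (D : ℕ → Subgroup G) (hmono : Monotone D) (h0 : D 0 = ⊥) (n : ℕ) (hn : D n = ⊤)
    (γ : MulAut G) (m : ℕ) (hm : γ ^ m = 1) (hcop : m.Coprime p) (hγ : StabChain D γ) : γ = 1 := by
  obtain ⟨k, hk⟩ := stabChain_pow_eq_one p hG hmono h0 n hn hγ
  have h1 : orderOf γ ∣ m := orderOf_dvd_of_pow_eq_one hm
  have h2 : orderOf γ ∣ p ^ k := orderOf_dvd_of_pow_eq_one hk
  have h3 : orderOf γ = 1 := Nat.eq_one_of_dvd_coprimes (Nat.Coprime.pow_right k hcop) h1 h2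
  exact orderOf_eq_one_iff.mp h3

theorem chain_pprime_abelian [Finite G] (p : ℕ) [Fact p.Prime] (hG : IsPGroup p G)
    (D : ℕ → Subgroup G) (hmono : Monotone D) (h0 : D 0 = ⊥) (n : ℕ) (hn : D n = ⊤)
    (hcyc : ∀ i, ∃ _ : ((D i).subgroupOf (D (i + 1))).Normal,
      IsCyclic (D (i + 1) ⧸ (D i).subgroupOf (D (i + 1))))
    (H : Subgroup (MulAut G)) (hH : ∀ i, H ≤ stabSub (D i)) (hcop : (Nat.card H).Coprime p) :
    (∀ a ∈ H, ∀ b ∈ H, a * b = b * a) ∧ ∀ a ∈ H, a ^ (p - 1) = 1 := by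
  have hpowH : ∀ γ ∈ H, γ ^ Nat.card H = 1 := by
    intro γ hγ
    have := pow_card_eq_one' (G := H) (x := ⟨γ, hγ⟩)
    exact congrArg Subtype.val this
  have key : ∀ γ ∈ H, (∀ i, ∀ (hn' : ((D i).subgroupOf (D (i + 1))).Normal),
      ∀ hmem : γ ∈ stabSub (D (i + 1)) ⊓ stabSub (D i),
        @indAut G _ (D (i + 1)) (D i) hn' ⟨γ, hmem⟩ = 1) → γ = 1 := by
    intro γ hγ h
    apply eq_one_of_stabChain p hG D hmono h0 n hn γ (Nat.card H) (hpowH γ hγ) hcop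
    intro i x hx
    obtain ⟨hn', -⟩ := hcyc i
    have hmem : γ ∈ stabSub (D (i + 1)) ⊓ stabSub (D i) := ⟨hH (i + 1) hγ, hH i hγ⟩
    have h1 := h i hn' hmem
    exact (@indAut_eq_one_iff G _ (D (i + 1)) (D i) hn' ⟨γ, hmem⟩).mp h1 x hx
  constructor
  · intro a ha b hb
    have hγ : a * b * a⁻¹ * b⁻¹ ∈ H := H.mul_mem (H.mul_mem (H.mul_mem ha hb) (H.inv_mem ha)) (H.inv_mem hb)
    have h1 : a * b * a⁻¹ * b⁻¹ = 1 := by
      apply key _ hγ
      intro i hn' hmem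
      obtain ⟨_, hc⟩ := hcyc i
      haveI := hn'
      haveI := hc
      have hma : a ∈ stabSub (D (i + 1)) ⊓ stabSub (D i) := ⟨hH (i + 1) ha, hH i ha⟩
      have hmb : b ∈ stabSub (D (i + 1)) ⊓ stabSub (D i) := ⟨hH (i + 1) hb, hH i hb⟩
      have h2 : (⟨a * b * a⁻¹ * b⁻¹, hmem⟩ : ↥(stabSub (D (i + 1)) ⊓ stabSub (D i))) =
          ⟨a, hma⟩ * ⟨b, hmb⟩ * ⟨a, hma⟩⁻¹ * ⟨b, hmb⟩⁻¹ := Subtype.ext rfl
      rw [h2, map_mul, map_mul, map_mul, map_inv, map_inv]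
      rw [cyclic_aut_comm (@indAut G _ (D (i + 1)) (D i) hn' ⟨a, hma⟩)]
      group
    calc a * b = (a * b * a⁻¹ * b⁻¹) * (b * a) := by group
      _ = b * a := by rw [h1, one_mul]
  · intro a ha
    apply key _ (H.pow_mem ha _)
    intro i hn' hmem
    obtain ⟨_, hc⟩ := hcyc i
    haveI := hn'
    haveI := hc
    have hquot : IsPGroup p (D (i + 1) ⧸ (D i).subgroupOf (D (i + 1))) :=
      (hG.to_subgroup (D (i + 1))).to_quotient _
    have hma : a ∈ stabSub (D (i + 1)) ⊓ stabSub (D i) := ⟨hH (i + 1) ha, hH i ha⟩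
    have h2 : (⟨a ^ (p - 1), hmem⟩ : ↥(stabSub (D (i + 1)) ⊓ stabSub (D i))) = ⟨a, hma⟩ ^ (p - 1) :=
      Subtype.ext rfl
    rw [h2, map_pow]
    apply cyclic_aut_pow p hquot _ (Nat.card H) _ hcop
    rw [← map_pow]
    have h3 : (⟨a, hma⟩ : ↥(stabSub (D (i + 1)) ⊓ stabSub (D i))) ^ Nat.card H = 1 :=
      Subtype.ext (hpowH a ha)
    rw [h3, map_one]

end Cfsg.Agent.Lib.Helper9.H9SupSol
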