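import Mathlib

set_option autoImplicit false

/-! Cyclic quotients along chains with one-generator steps. -/

namespace Cfsg.Agent.Lib.Helper9.H9SupSol

variable {G : Type*} [Group G]

/-- If `M = N ⊔ ⟨x⟩` and `N` is normal in `M`, then `M/N` is cyclic. -/
theorem isCyclic_quot_of_sup_zpowers (N M : Subgroup G) [(N.subgroupOf M).Normal] (hNM : N ≤ M) (x : G)
    (hM : M = N ⊔ Subgroup.zpowers x) : IsCyclic (M ⧸ N.subgroupOf M) := by
  have hxM : x ∈ M := by rw [hM]; exact Subgroup.mem_sup_right (Subgroup.mem_zpowers x)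
  obtain ⟨g, hgdef⟩ : ∃ g : M ⧸ N.subgroupOf M, g = QuotientGroup.mk ⟨x, hxM⟩ := ⟨_, rfl⟩
  obtain ⟨T, hTdef⟩ : ∃ T : Subgroup G,
      T = ((Subgroup.zpowers g).comap (QuotientGroup.mk' (N.subgroupOf M))).map M.subtype := ⟨_, rfl⟩
  have hNT : N ≤ T := by
    intro n hn
    rw [hTdef]
    refine ⟨⟨n, hNM hn⟩, ?_, rfl⟩
    rw [SetLike.mem_coe, Subgroup.mem_comap]
    have : QuotientGroup.mk' (N.subgroupOf M) ⟨n, hNM hn⟩ = 1 := by
      rw [QuotientGroup.mk'_apply, QuotientGroup.eq_one_iff, Subgroup.mem_subgroupOf]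
      exact hn
    rw [this]
    exact Subgroup.one_mem _
  have hxT : x ∈ T := by
    rw [hTdef]
    refine ⟨⟨x, hxM⟩, ?_, rfl⟩
    rw [SetLike.mem_coe, Subgroup.mem_comap, QuotientGroup.mk'_apply, ← hgdef]
    exact Subgroup.mem_zpowers g
  have hMT : M ≤ T := by
    rw [hM]
    exact sup_le hNT (Subgroup.zpowers_le.mpr hxT)
  refine ⟨g, ?_⟩
  intro q
  induction q using QuotientGroup.induction_on with
  | H y =>
    have h1 := hMT y.2
    rw [hTdef] at h1
    obtain ⟨y', hy', hyy⟩ := h1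
    have : y' = y := Subtype.ext hyy
    rw [this, SetLike.mem_coe, Subgroup.mem_comap, QuotientGroup.mk'_apply] at hy'
    exact hy'

/-- Cyclicity of a quotient passes to the quotient of a group mapping into it with the pulled back kernel. -/
theorem isCyclic_quot_of_comap {M₁ M₂ : Type*} [Group M₁] [Group M₂] (φ : M₁ →* M₂) (N₁ : Subgroup M₁)
    (N₂ : Subgroup M₂) [N₁.Normal] [N₂.Normal] (h : ∀ y, y ∈ N₁ ↔ φ y ∈ N₂) [IsCyclic (M₂ ⧸ N₂)] :
    IsCyclic (M₁ ⧸ N₁) := by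
  have hle : N₁ ≤ N₂.comap φ := fun y hy => (h y).mp hy
  apply isCyclic_of_injective (QuotientGroup.map N₁ N₂ φ hle)
  rw [injective_iff_map_eq_one]
  intro q hq
  induction q using QuotientGroup.induction_on with
  | H y =>
    rw [QuotientGroup.map_mk, QuotientGroup.eq_one_iff] at hq
    rw [QuotientGroup.eq_one_iff]
    exact (h y).mpr hq

/-- Intersecting a cyclic step with a subgroup `P` gives a cyclic step. -/
theorem cyclic_step_inter (U V P : Subgroup G) (hn : (U.subgroupOf V).Normal)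
    (hc : IsCyclic (V ⧸ U.subgroupOf V)) :
    ∃ _ : ((U.subgroupOf P).subgroupOf (V.subgroupOf P)).Normal,
      IsCyclic (↥(V.subgroupOf P) ⧸ (U.subgroupOf P).subgroupOf (V.subgroupOf P)) := by
  obtain ⟨φ, hφdef⟩ : ∃ φ : ↥(V.subgroupOf P) →* V, φ =
      (P.subtype.comp (V.subgroupOf P).subtype).codRestrict V (fun y => Subgroup.mem_subgroupOf.mp y.2) := ⟨_, rfl⟩
  have hφv : ∀ y, ((φ y : V) : G) = ((y : P) : G) := by intro y; rw [hφdef]; rfl
  have h : ∀ y, y ∈ (U.subgroupOf P).subgroupOf (V.subgroupOf P) ↔ φ y ∈ U.subgroupOf V := by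
    intro y
    rw [Subgroup.mem_subgroupOf, Subgroup.mem_subgroupOf, Subgroup.mem_subgroupOf, hφv]
  have hn' : ((U.subgroupOf P).subgroupOf (V.subgroupOf P)).Normal := by
    constructor
    intro n hn1 g
    rw [h] at hn1 ⊢
    rw [map_mul, map_mul, map_inv]
    exact hn.conj_mem _ hn1 _
  refine ⟨hn', ?_⟩
  haveI := hn
  haveI := hc
  exact isCyclic_quot_of_comap φ _ (U.subgroupOf V) h

/-- Extend a chain indexed by `Fin (m + 1)` to a chain indexed by `ℕ`. -/
theorem nat_chain_of_fin {S : Subgroup G} (Pr : Subgroup G → Prop) (m : ℕ) (c : Fin (m + 1) → Subgroup G)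
    (h0 : c 0 = ⊥) (hl : c (Fin.last m) = S) (hP : ∀ i, Pr (c i))
    (hstep : ∀ i : Fin m, c i.castSucc ≤ c i.succ ∧
      ∃ x ∈ S, c i.succ = c i.castSucc ⊔ Subgroup.zpowers x) :
    ∃ C : ℕ → Subgroup G, C 0 = ⊥ ∧ C m = S ∧ (∀ k, Pr (C k)) ∧
      ∀ k, C k ≤ C (k + 1) ∧ ∃ x ∈ S, C (k + 1) = C k ⊔ Subgroup.zpowers x := by
  have hPS : Pr S := hl ▸ hP (Fin.last m)
  refine ⟨fun k => if h : k < m + 1 then c ⟨k, h⟩ else S, ?_, ?_, ?_, ?_⟩
  · show (if h : 0 < m + 1 then c ⟨0, h⟩ else S) = ⊥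
    rw [dif_pos (Nat.succ_pos m)]
    exact h0
  · show (if h : m < m + 1 then c ⟨m, h⟩ else S) = S
    rw [dif_pos (Nat.lt_succ_self m)]
    exact hl
  · intro k
    show Pr (if h : k < m + 1 then c ⟨k, h⟩ else S)
    by_cases h : k < m + 1
    · rw [dif_pos h]; exact hP _
    · rw [dif_neg h]; exact hPS
  · intro k
    show (if h : k < m + 1 then c ⟨k, h⟩ else S) ≤ (if h : k + 1 < m + 1 then c ⟨k + 1, h⟩ else S) ∧
      ∃ x ∈ S, (if h : k + 1 < m + 1 then c ⟨k + 1, h⟩ else S) =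
        (if h : k < m + 1 then c ⟨k, h⟩ else S) ⊔ Subgroup.zpowers x
    by_cases h1 : k + 1 < m + 1
    · have h2 : k < m + 1 := by omega
      have h3 : k < m := by omega
      rw [dif_pos h1, dif_pos h2]
      exact hstep ⟨k, h3⟩
    · rw [dif_neg h1]
      have h4 : (if h : k < m + 1 then c ⟨k, h⟩ else S) = S := by
        by_cases h2 : k < m + 1
        · rw [dif_pos h2]
          have : (⟨k, h2⟩ : Fin (m + 1)) = Fin.last m := by
            apply Fin.ext
            show k = m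
            omega
          rw [this]
          exact hl
        · rw [dif_neg h2]
      rw [h4]
      refine ⟨le_rfl, 1, S.one_mem, ?_⟩
      rw [Subgroup.zpowers_one_eq_bot, sup_bot_eq]

end Cfsg.Agent.Lib.Helper9.H9SupSol
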