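import Mathlib
import Cfsg.Prelude.Def_FusionSystem
import Cfsg.Agent.Lib.Helper9.SupSol2
import Cfsg.Agent.Lib.Helper9.SupSol5
import Cfsg.Agent.Lib.Helper9.FusionNormal3
import Cfsg.Agent.Lib.Helper9.FusionNormal5
import Cfsg.Agent.Lib.Helper9.FusionStrongly
import Cfsg.Agent.Lib.Helper9.LargeExtra13

set_option autoImplicit false

/-! A supersoluble saturated fusion system over `S` has `S` normal. -/

namespace Cfsg.Agent.Lib.Helper9.H9SupSol

open Cfsg Cfsg.FusionSystem Cfsg.Agent.Lib.Helper9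

/-- Commutators of automorphisms preserving a chain with cyclic steps stabilize the chain. -/
theorem comm_stabChain {G : Type*} [Group G] (D : ℕ → Subgroup G)
    (hcyc : ∀ i, ∃ _ : ((D i).subgroupOf (D (i + 1))).Normal,
      IsCyclic (D (i + 1) ⧸ (D i).subgroupOf (D (i + 1))))
    (a b : MulAut G) (ha : ∀ i, a ∈ stabSub (D i)) (hb : ∀ i, b ∈ stabSub (D i)) :
    StabChain D (a * b * a⁻¹ * b⁻¹) := by
  intro i x hx
  obtain ⟨hn', hc⟩ := hcyc i
  haveI := hn'
  haveI := hc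
  have hma : a ∈ stabSub (D (i + 1)) ⊓ stabSub (D i) := ⟨ha (i + 1), ha i⟩
  have hmb : b ∈ stabSub (D (i + 1)) ⊓ stabSub (D i) := ⟨hb (i + 1), hb i⟩
  have hmem : a * b * a⁻¹ * b⁻¹ ∈ stabSub (D (i + 1)) ⊓ stabSub (D i) :=
    Subgroup.mul_mem _ (Subgroup.mul_mem _ (Subgroup.mul_mem _ hma hmb) (Subgroup.inv_mem _ hma))
      (Subgroup.inv_mem _ hmb)
  have h2 : (⟨a * b * a⁻¹ * b⁻¹, hmem⟩ : ↥(stabSub (D (i + 1)) ⊓ stabSub (D i))) =
      ⟨a, hma⟩ * ⟨b, hmb⟩ * ⟨a, hma⟩⁻¹ * ⟨b, hmb⟩⁻¹ := Subtype.ext rfl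
  have h1 : indAut (D (i + 1)) (D i) ⟨a * b * a⁻¹ * b⁻¹, hmem⟩ = 1 := by
    rw [h2, map_mul, map_mul, map_mul, map_inv, map_inv]
    rw [cyclic_aut_comm (indAut (D (i + 1)) (D i) ⟨a, hma⟩)]
    group
  exact (indAut_eq_one_iff (D (i + 1)) (D i) ⟨a * b * a⁻¹ * b⁻¹, hmem⟩).mp h1 x hx

variable {Ω : Type*} [Group Ω] {S : Subgroup Ω}

/-- Automorphisms in `Aut_F(P)` preserve the traces on `P` of strongly closed subgroups. -/
theorem autGroup_le_stabSub [Finite S] (F : FusionSystem S) {T : Subgroup Ω} (hT : F.StronglyClosed T)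
    {P : Subgroup Ω} (hPS : P ≤ S) : F.autGroup P ≤ stabSub (T.subgroupOf P) := by
  have key : ∀ α ∈ F.autGroup P, ∀ y : P, y ∈ T.subgroupOf P → α y ∈ T.subgroupOf P := by
    intro α hα y hy
    rw [Subgroup.mem_subgroupOf] at hy ⊢
    exact fs_stronglyClosed_mem F hT ((mem_autGroup_iff F hPS α).mp hα) y hy
  intro α hα y
  constructor
  · intro h
    have := key α⁻¹ (Subgroup.inv_mem _ hα) (α y) h
    rwa [MulAut.inv_apply_self] at this
  · exact key α hα y

theorem normal_of_supersoluble [Finite S] (p : ℕ) [Fact p.Prime] (hS : IsPGroup p S) (F : FusionSystem S)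
    (hF : F.IsSaturated p) (C : ℕ → Subgroup Ω) (hC0 : C 0 = ⊥) (n : ℕ) (hCn : C n = S)
    (hsc : ∀ k, F.StronglyClosed (C k))
    (hstep : ∀ k, C k ≤ C (k + 1) ∧ ∃ x ∈ S, C (k + 1) = C k ⊔ Subgroup.zpowers x) : F.IsNormal S := by
  rw [fs_isNormal_iff_centric_radical p hS F hF S]
  refine ⟨fs_stronglyClosed_top F, ?_⟩
  intro P hPc hPr
  have hPS : P ≤ S := hPc.1
  by_contra hne
  have hlt : P < S := lt_of_le_of_ne hPS (fun h => hne (h ▸ le_rfl))
  have hlt2 := fs_lt_normalizerIn p hS hlt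
  apply absurd hlt2
  apply not_lt_of_ge
  haveI : Finite P := fs_finite_of_le hPS
  have hPp : IsPGroup p P := hS.to_le hPS
  have hCle : centralizerIn S P ≤ P := hPc.2 P (fs_isConj_refl F hPS)
  -- the chain on P
  have hCmono : Monotone C := monotone_nat_of_le_succ (fun k => (hstep k).1)
  obtain ⟨D, hDdef⟩ : ∃ D : ℕ → Subgroup P, D = fun k => (C k).subgroupOf P := ⟨_, rfl⟩
  have hDk : ∀ k, D k = (C k).subgroupOf P := fun k => by rw [hDdef]
  have hDmono : Monotone D := by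
    intro i j hij
    rw [hDk, hDk]
    exact Subgroup.comap_mono (hCmono hij)
  have hD0 : D 0 = ⊥ := by rw [hDk, hC0, Subgroup.bot_subgroupOf]
  have hDn : D n = ⊤ := by rw [hDk, hCn]; exact Subgroup.subgroupOf_eq_top.mpr hPS
  have hcycD : ∀ i, ∃ _ : ((D i).subgroupOf (D (i + 1))).Normal,
      IsCyclic (D (i + 1) ⧸ (D i).subgroupOf (D (i + 1))) := by
    intro i
    obtain ⟨hle, x, hxS, hx⟩ := hstep i
    have hn : ((C i).subgroupOf (C (i + 1))).Normal :=
      Subgroup.normal_subgroupOf_of_le_normalizer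
        ((hsc (i + 1)).1.trans (fs_stronglyClosed_le_normalizer F (hsc i)))
    have hc : IsCyclic (C (i + 1) ⧸ (C i).subgroupOf (C (i + 1))) :=
      isCyclic_quot_of_sup_zpowers (C i) (C (i + 1)) hle x hx
    rw [hDk, hDk]
    exact cyclic_step_inter (C i) (C (i + 1)) P hn hc
  have hA : ∀ k, F.autGroup P ≤ stabSub (D k) := by
    intro k
    rw [hDk]
    exact autGroup_le_stabSub F (hsc k) hPS
  -- the chain stabilizer
  have hKp : IsPGroup p (chainStabilizer D hDmono hD0) := isPGroup_chainStabilizer p hPp hDmono hD0 n hDn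
  obtain ⟨N, hNdef⟩ : ∃ N : Subgroup (MulAut P),
      N = (chainStabilizer D hDmono hD0 ⊓ F.autGroup P) ⊔ autInducedBy S P := ⟨_, rfl⟩
  have hNA : N ≤ F.autGroup P := by
    rw [hNdef]
    exact sup_le inf_le_right (autInducedBy_le_autGroup F hPS)
  have hcomm : ∀ a ∈ F.autGroup P, ∀ b ∈ F.autGroup P,
      a * b * a⁻¹ * b⁻¹ ∈ chainStabilizer D hDmono hD0 ⊓ F.autGroup P := by
    intro a ha b hb
    refine ⟨?_, Subgroup.mul_mem _ (Subgroup.mul_mem _ (Subgroup.mul_mem _ ha hb) (Subgroup.inv_mem _ ha))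
      (Subgroup.inv_mem _ hb)⟩
    exact (mem_chainStabilizer_iff D hDmono hD0 _).mpr
      (comm_stabChain D hcycD a b (fun i => hA i ha) (fun i => hA i hb))
  have hinv : ∀ h ∈ F.autGroup P, ∀ x ∈ N, h * x * h⁻¹ ∈ N := by
    intro h hh x hx
    have h1 : h * x * h⁻¹ = (h * x * h⁻¹ * x⁻¹) * x := by group
    rw [h1]
    refine Subgroup.mul_mem _ ?_ hx
    rw [hNdef]
    exact Subgroup.mem_sup_left (hcomm h hh x (hNA hx))
  have hNp : IsPGroup p N := by
    rw [hNdef, sup_comm]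
    apply IsPGroup.to_sup_of_normal_right' (isPGroup_autInducedBy p hS P) (hKp.to_le inf_le_left)
    intro a ha
    have haA : a ∈ F.autGroup P := autInducedBy_le_autGroup F hPS ha
    rw [Subgroup.mem_normalizer_iff]
    have key : ∀ c ∈ F.autGroup P, ∀ x ∈ chainStabilizer D hDmono hD0 ⊓ F.autGroup P,
        c * x * c⁻¹ ∈ chainStabilizer D hDmono hD0 ⊓ F.autGroup P := by
      intro c hc x hx
      have h1 : c * x * c⁻¹ = (c * x * c⁻¹ * x⁻¹) * x := by group
      rw [h1]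
      exact Subgroup.mul_mem _ (hcomm c hc x hx.2) hx
    intro x
    constructor
    · intro hx
      exact key a haA x hx
    · intro hx
      have := key a⁻¹ (Subgroup.inv_mem _ haA) _ hx
      have h2 : a⁻¹ * (a * x * a⁻¹) * a⁻¹⁻¹ = x := by group
      rwa [h2] at this
  have hNcore : N ≤ (Cfsg.pCore p (F.autGroup P)).map (F.autGroup P).subtype :=
    Cfsg.Agent.Lib.Helper9.LargeExtra.le_pCoreMap p (F.autGroup P) N hNA hNp hinv
  rw [hPr.2] at hNcore
  intro g hg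
  obtain ⟨c, hc'⟩ : ∃ c : MulAut P, c = P.normalizerMonoidHom ⟨g, hg.2⟩ := ⟨_, rfl⟩
  have hcg : ∀ x : P, ((c x : P) : Ω) = g * x * g⁻¹ := by
    intro x; rw [hc']; rfl
  have hcB : c ∈ autInducedBy S P := by
    rw [mem_autInducedBy_iff]
    exact ⟨g, hg.1, hcg⟩
  have hcI : c ∈ Inn P := by
    apply hNcore
    rw [hNdef]
    exact Subgroup.mem_sup_right hcB
  exact mem_of_induces_inner hCle hcI hg.1 hPS hcg

end Cfsg.Agent.Lib.Helper9.H9SupSol
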