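import Mathlib
import Cfsg.Prelude.Def_FusionSystem
import Cfsg.Agent.Lib.Helper9.SupSol6
import Cfsg.Agent.Lib.Helper9.SupSol10

set_option autoImplicit false

/-! A `p'`-group of automorphisms of `S` is abelian of exponent dividing `p - 1` when all saturated systems
over `S` are supersoluble. -/

namespace Cfsg.Agent.Lib.Helper9.H9SupSol

open Cfsg Cfsg.FusionSystem Cfsg.Agent.Lib.Helper9

variable {Ω : Type*} [Group Ω] {S : Subgroup Ω}

theorem pprime_abelian_of_chain [Finite S] (p : ℕ) [Fact p.Prime] (hS : IsPGroup p S) (F : FusionSystem S)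
    (C : ℕ → Subgroup Ω) (hC0 : C 0 = ⊥) (n : ℕ) (hCn : C n = S)
    (hsc : ∀ k, F.StronglyClosed (C k))
    (hstep : ∀ k, C k ≤ C (k + 1) ∧ ∃ x ∈ S, C (k + 1) = C k ⊔ Subgroup.zpowers x)
    (H : Subgroup (MulAut S)) (hH : (Nat.card H).Coprime p) (hHF : H ≤ F.autGroup S) :
    (∀ a ∈ H, ∀ b ∈ H, a * b = b * a) ∧ ∀ a ∈ H, a ^ (p - 1) = 1 := by
  have hCmono : Monotone C := monotone_nat_of_le_succ (fun k => (hstep k).1)
  obtain ⟨D, hDdef⟩ : ∃ D : ℕ → Subgroup S, D = fun k => (C k).subgroupOf S := ⟨_, rfl⟩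
  have hDk : ∀ k, D k = (C k).subgroupOf S := fun k => by rw [hDdef]
  have hDmono : Monotone D := by
    intro i j hij
    rw [hDk, hDk]
    exact Subgroup.comap_mono (hCmono hij)
  have hD0 : D 0 = ⊥ := by rw [hDk, hC0, Subgroup.bot_subgroupOf]
  have hDn : D n = ⊤ := by rw [hDk, hCn]; exact Subgroup.subgroupOf_eq_top.mpr le_rfl
  have hcycD : ∀ i, ∃ _ : ((D i).subgroupOf (D (i + 1))).Normal,
      IsCyclic (D (i + 1) ⧸ (D i).subgroupOf (D (i + 1))) := by
    intro i
    obtain ⟨hle, x, hxS, hx⟩ := hstep i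
    have hn : ((C i).subgroupOf (C (i + 1))).Normal :=
      Subgroup.normal_subgroupOf_of_le_normalizer
        ((hsc (i + 1)).1.trans (fs_stronglyClosed_le_normalizer F (hsc i)))
    have hc : IsCyclic (C (i + 1) ⧸ (C i).subgroupOf (C (i + 1))) :=
      isCyclic_quot_of_sup_zpowers (C i) (C (i + 1)) hle x hx
    rw [hDk, hDk]
    exact cyclic_step_inter (C i) (C (i + 1)) S hn hc
  have hA : ∀ k, H ≤ stabSub (D k) := by
    intro k
    rw [hDk]
    exact hHF.trans (autGroup_le_stabSub F (hsc k) le_rfl)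
  exact chain_pprime_abelian p hS D hDmono hD0 n hDn hcycD H hA hH

end Cfsg.Agent.Lib.Helper9.H9SupSol
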