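import Mathlib

set_option autoImplicit false

/-! Power maps in `ℤ/pⁿ` and the subgroups `Ω₁(G) ∩ G^{p^k}` of an abelian group. -/

namespace Cfsg.Agent.Lib.Helper9.H9SupSol

/-- In `ℤ/pⁿ`, an element killed by `p` is a `p^k`-th multiple for every `k < n`. -/
theorem zmod_exists_smul (p : ℕ) [Fact p.Prime] (n k : ℕ) (hk : k < n) (a : ZMod (p ^ n)) (ha : p • a = 0) :
    ∃ b : ZMod (p ^ n), p ^ k • b = a := by
  have hp : p.Prime := Fact.out
  have h1 : ((p * a.val : ℕ) : ZMod (p ^ n)) = 0 := by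
    rw [Nat.cast_mul, ZMod.natCast_zmod_val, ← nsmul_eq_mul]
    exact ha
  rw [ZMod.natCast_eq_zero_iff] at h1
  obtain ⟨n', rfl⟩ : ∃ n', n = n' + 1 := ⟨n - 1, by omega⟩
  have h2 : p ^ n' ∣ a.val := by
    have h3 : p * p ^ n' ∣ p * a.val := by
      rw [← pow_succ']
      exact h1
    exact Nat.dvd_of_mul_dvd_mul_left hp.pos h3
  obtain ⟨c, hc⟩ := h2
  refine ⟨((p ^ (n' - k) * c : ℕ) : ZMod (p ^ (n' + 1))), ?_⟩
  rw [nsmul_eq_mul, ← Nat.cast_mul, ← mul_assoc, ← pow_add,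
    Nat.add_sub_cancel' (by omega : k ≤ n'), ← hc, ZMod.natCast_zmod_val]

theorem zmod_smul_eq_zero (p : ℕ) (n k : ℕ) (hk : n ≤ k) (b : ZMod (p ^ n)) : p ^ k • b = 0 := by
  have : ((p ^ k : ℕ) : ZMod (p ^ n)) = 0 := by
    rw [ZMod.natCast_eq_zero_iff]
    exact pow_dvd_pow p hk
  rw [nsmul_eq_mul, this, zero_mul]

theorem mzmod_exists_pow (p : ℕ) [Fact p.Prime] (n k : ℕ) (hk : k < n) (x : Multiplicative (ZMod (p ^ n)))
    (hx : x ^ p = 1) : ∃ z : Multiplicative (ZMod (p ^ n)), z ^ (p ^ k) = x := by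
  obtain ⟨b, hb⟩ := zmod_exists_smul p n k hk x.toAdd (congrArg Multiplicative.toAdd hx)
  exact ⟨Multiplicative.ofAdd b, congrArg Multiplicative.ofAdd hb⟩

theorem mzmod_pow_eq_one (p : ℕ) (n k : ℕ) (hk : n ≤ k) (z : Multiplicative (ZMod (p ^ n))) :
    z ^ (p ^ k) = 1 :=
  congrArg Multiplicative.ofAdd (zmod_smul_eq_zero p n k hk z.toAdd)

variable {G : Type*} [CommGroup G]

/-- `Ω₁(G) ∩ G^{p^k}`. -/
def omegaAgemo (p k : ℕ) (G : Type*) [CommGroup G] : Subgroup G :=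
  (powMonoidHom p : G →* G).ker ⊓ (powMonoidHom (p ^ k) : G →* G).range

theorem mem_omegaAgemo_iff (p k : ℕ) (x : G) :
    x ∈ omegaAgemo p k G ↔ x ^ p = 1 ∧ ∃ z : G, z ^ (p ^ k) = x := Iff.rfl

theorem omegaAgemo_zero (p : ℕ) : omegaAgemo p 0 G = (powMonoidHom p : G →* G).ker := by
  ext x
  rw [mem_omegaAgemo_iff]
  constructor
  · intro h; exact h.1
  · intro h; exact ⟨h, x, by rw [pow_zero, pow_one]⟩

theorem omegaAgemo_antitone (p : ℕ) : Antitone (fun k => omegaAgemo p k G) := by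
  apply antitone_nat_of_succ_le
  intro k x hx
  rw [mem_omegaAgemo_iff] at hx ⊢
  obtain ⟨h1, z, hz⟩ := hx
  refine ⟨h1, z ^ p, ?_⟩
  rw [← pow_mul, ← pow_succ']
  exact hz

theorem map_mem_omegaAgemo {G' : Type*} [CommGroup G'] (p k : ℕ) (α : G →* G') {x : G}
    (hx : x ∈ omegaAgemo p k G) : α x ∈ omegaAgemo p k G' := by
  rw [mem_omegaAgemo_iff] at hx ⊢
  obtain ⟨h1, z, hz⟩ := hx
  exact ⟨by rw [← map_pow, h1, map_one], α z, by rw [← map_pow, hz]⟩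

end Cfsg.Agent.Lib.Helper9.H9SupSol
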