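import Mathlib
import Cfsg.Agent.Lib.Helper9.SupSol13

set_option autoImplicit false

/-! The flag `Ω₁ ∩ G^{p^k}` in a product of cyclic `p`-groups with distinct orders. -/

namespace Cfsg.Agent.Lib.Helper9.H9SupSol

theorem isCyclic_quot_of_ker {M₁ M₂ : Type*} [Group M₁] [Group M₂] [IsCyclic M₂] (φ : M₁ →* M₂)
    (N₁ : Subgroup M₁) [N₁.Normal] (h : ∀ y, y ∈ N₁ ↔ φ y = 1) : IsCyclic (M₁ ⧸ N₁) := by
  apply isCyclic_of_injective (QuotientGroup.lift N₁ φ (fun y hy => (h y).mp hy))
  rw [injective_iff_map_eq_one]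
  intro q hq
  induction q using QuotientGroup.induction_on with
  | H y =>
    have hq' : φ y = 1 := hq
    exact (QuotientGroup.eq_one_iff y).mpr ((h y).mpr hq')

section
variable (p : ℕ) [Fact p.Prime] {ι : Type*} (n : ι → ℕ)

theorem pi_mem_omegaAgemo_iff (k : ℕ) (x : ∀ i, Multiplicative (ZMod (p ^ n i))) :
    x ∈ omegaAgemo p k (∀ i, Multiplicative (ZMod (p ^ n i))) ↔ x ^ p = 1 ∧ ∀ i, n i ≤ k → x i = 1 := by
  rw [mem_omegaAgemo_iff]
  constructor
  · rintro ⟨h1, z, hz⟩
    refine ⟨h1, fun i hi => ?_⟩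
    rw [← hz, Pi.pow_apply]
    exact mzmod_pow_eq_one p (n i) k hi (z i)
  · rintro ⟨h1, h2⟩
    refine ⟨h1, ?_⟩
    have hex : ∀ i, ∃ z : Multiplicative (ZMod (p ^ n i)), z ^ (p ^ k) = x i := by
      intro i
      by_cases h : k < n i
      · have h3 : (x i) ^ p = 1 := by
          have := congrFun h1 i
          rwa [Pi.pow_apply] at this
        exact mzmod_exists_pow p (n i) k h (x i) h3
      · refine ⟨1, ?_⟩
        rw [one_pow, h2 i (not_lt.mp h)]
    choose z hz using hex
    exact ⟨z, funext hz⟩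

theorem pi_omegaAgemo_eq_bot (e : ℕ) (he : ∀ i, n i ≤ e) :
    omegaAgemo p e (∀ i, Multiplicative (ZMod (p ^ n i))) = ⊥ := by
  rw [eq_bot_iff]
  intro x hx
  rw [pi_mem_omegaAgemo_iff] at hx
  rw [Subgroup.mem_bot]
  funext i
  exact hx.2 i (he i)

theorem pi_step_cyclic (hn : Function.Injective n) (k : ℕ) :
    ∃ _ : ((omegaAgemo p (k + 1) (∀ i, Multiplicative (ZMod (p ^ n i)))).subgroupOf
        (omegaAgemo p k (∀ i, Multiplicative (ZMod (p ^ n i))))).Normal,
      IsCyclic (↥(omegaAgemo p k (∀ i, Multiplicative (ZMod (p ^ n i)))) ⧸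
        (omegaAgemo p (k + 1) (∀ i, Multiplicative (ZMod (p ^ n i)))).subgroupOf
          (omegaAgemo p k (∀ i, Multiplicative (ZMod (p ^ n i))))) := by
  refine ⟨inferInstance, ?_⟩
  by_cases h : ∃ i₀, n i₀ = k + 1
  · obtain ⟨i₀, hi₀⟩ := h
    apply isCyclic_quot_of_ker
      ((Pi.evalMonoidHom (fun i => Multiplicative (ZMod (p ^ n i))) i₀).comp
        (omegaAgemo p k (∀ i, Multiplicative (ZMod (p ^ n i)))).subtype)
    intro y
    rw [Subgroup.mem_subgroupOf, pi_mem_omegaAgemo_iff]
    have hy := (pi_mem_omegaAgemo_iff p n k y).mp y.2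
    constructor
    · intro h1
      exact h1.2 i₀ (le_of_eq hi₀)
    · intro h1
      refine ⟨hy.1, fun i hi => ?_⟩
      by_cases hik : n i ≤ k
      · exact hy.2 i hik
      · have : n i = k + 1 := by omega
        have hii : i = i₀ := hn (this.trans hi₀.symm)
        rw [hii]
        exact h1
  · push Not at h
    apply isCyclic_quot_of_ker (1 : _ →* Unit)
    intro y
    rw [Subgroup.mem_subgroupOf, pi_mem_omegaAgemo_iff]
    have hy := (pi_mem_omegaAgemo_iff p n k y).mp y.2
    constructor
    · intro _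
      rfl
    · intro _
      refine ⟨hy.1, fun i hi => ?_⟩
      have : n i ≤ k := by
        have := h i
        omega
      exact hy.2 i this

end

/-- A `p'`-automorphism of a finite abelian `p`-group that fixes the elements of order `p` is trivial. -/
theorem aut_eq_one_of_omega_fixed {G : Type*} [CommGroup G] [Finite G] (p : ℕ) [Fact p.Prime]
    (hG : IsPGroup p G) (α : MulAut G) (m : ℕ) (hm : α ^ m = 1) (hcop : m.Coprime p)
    (hfix : ∀ x : G, x ^ p = 1 → α x = x) : α = 1 := by
  have key : ∀ k : ℕ, ∀ x : G, x ^ (p ^ k) = 1 → α x = x := by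
    intro k
    induction k with
    | zero =>
      intro x hx
      rw [pow_zero, pow_one] at hx
      rw [hx, map_one]
    | succ k ih =>
      intro x hx
      have h1 : α (x ^ p) = x ^ p := by
        apply ih
        rw [← pow_mul, ← pow_succ']
        exact hx
      obtain ⟨z, hzdef⟩ : ∃ z : G, z = x⁻¹ * α x := ⟨_, rfl⟩
      have hzp : z ^ p = 1 := by
        rw [hzdef, mul_pow, ← map_pow, h1, inv_pow, inv_mul_cancel]
      have hαz : α z = z := hfix z hzp
      have hαx : α x = x * z := by rw [hzdef]; group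
      have hpow : ∀ j : ℕ, (α ^ j) x = x * z ^ j := by
        intro j
        induction j with
        | zero => simp
        | succ j ihj =>
          have hαjz : (α ^ j) z = z := by
            clear ihj
            induction j with
            | zero => simp
            | succ j ihj2 => rw [pow_succ, MulAut.mul_apply, hαz, ihj2]
          rw [pow_succ, MulAut.mul_apply, hαx, map_mul, ihj, hαjz, pow_succ, mul_assoc]
      have h2 := hpow m
      rw [hm, MulAut.one_apply] at h2
      have hzm : z ^ m = 1 := by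
        have : x * z ^ m = x * 1 := by rw [mul_one]; exact h2.symm
        exact mul_left_cancel this
      have hz1 : z = 1 := by
        have h3 : orderOf z ∣ m := orderOf_dvd_of_pow_eq_one hzm
        have h4 : orderOf z ∣ p := orderOf_dvd_of_pow_eq_one hzp
        have h5 : orderOf z = 1 := Nat.eq_one_of_dvd_coprimes hcop h3 h4
        exact orderOf_eq_one_iff.mp h5
      rw [hαx, hz1, mul_one]
  obtain ⟨e, he⟩ := IsPGroup.iff_card.mp hG
  ext x
  rw [MulAut.one_apply]
  apply key e
  rw [← he]
  exact pow_card_eq_one'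

end Cfsg.Agent.Lib.Helper9.H9SupSol
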