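import Mathlib
import Cfsg.Agent.Lib.Helper9.SupSol2
import Cfsg.Agent.Lib.Helper9.SupSol5
import Cfsg.Agent.Lib.Helper9.SupSol14

set_option autoImplicit false

/-! `p'`-groups of automorphisms of an abelian `p`-group whose flag `Ω₁ ∩ G^{p^k}` has cyclic steps. -/

namespace Cfsg.Agent.Lib.Helper9.H9SupSol

variable {G : Type*}

/-- Restriction to an invariant subgroup, as a homomorphism. -/
noncomputable def resAutHom [Group G] (M : Subgroup G) : ↥(stabSub M) →* MulAut M :=
  MonoidHom.mk' (fun α => resAut α.2) (by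
    intro a b
    apply MulEquiv.ext
    intro y
    apply Subtype.ext
    rfl)

theorem resAutHom_apply [Group G] (M : Subgroup G) (α : ↥(stabSub M)) (y : M) :
    ((resAutHom M α y : M) : G) = (α : MulAut G) y := rfl

theorem pprime_abelian_of_flag [CommGroup G] [Finite G] (p : ℕ) [Fact p.Prime] (hG : IsPGroup p G) (e : ℕ)
    (he : omegaAgemo p e G = ⊥)
    (hstep : ∀ k, ∃ _ : ((omegaAgemo p (k + 1) G).subgroupOf (omegaAgemo p k G)).Normal,
      IsCyclic (↥(omegaAgemo p k G) ⧸ (omegaAgemo p (k + 1) G).subgroupOf (omegaAgemo p k G)))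
    (H : Subgroup (MulAut G)) (hH : (Nat.card H).Coprime p) :
    (∀ a ∈ H, ∀ b ∈ H, a * b = b * a) ∧ ∀ a ∈ H, a ^ (p - 1) = 1 := by
  have hst : ∀ (k : ℕ) (α : MulAut G), α ∈ stabSub (omegaAgemo p k G) := by
    intro k α y
    constructor
    · intro h
      have := map_mem_omegaAgemo p k (α⁻¹ : MulAut G).toMonoidHom h
      have h2 : (α⁻¹ : MulAut G).toMonoidHom (α y) = y := MulAut.inv_apply_self _ _ _
      rwa [h2] at this
    · intro h
      exact map_mem_omegaAgemo p k α.toMonoidHom h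
  obtain ⟨V, hVdef⟩ : ∃ V : Subgroup G, V = omegaAgemo p 0 G := ⟨_, rfl⟩
  have hVmem : ∀ x : G, x ∈ V ↔ x ^ p = 1 := by
    intro x
    rw [hVdef, omegaAgemo_zero]
    rfl
  have hHV : H ≤ stabSub V := fun α _ => hVdef ▸ hst 0 α
  obtain ⟨r, hrdef⟩ : ∃ r : H →* MulAut V, r = (resAutHom V).comp (Subgroup.inclusion hHV) := ⟨_, rfl⟩
  have hrapp : ∀ (h : H) (y : V), ((r h y : V) : G) = (h : MulAut G) y := by
    intro h y
    rw [hrdef]
    rfl
  -- the chain on V
  obtain ⟨D, hDdef⟩ : ∃ D : ℕ → Subgroup V, D = fun j => (omegaAgemo p (e - j) G).subgroupOf V := ⟨_, rfl⟩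
  have hDj : ∀ j, D j = (omegaAgemo p (e - j) G).subgroupOf V := fun j => by rw [hDdef]
  have hDmono : Monotone D := by
    intro i j hij
    rw [hDj, hDj]
    exact Subgroup.comap_mono (omegaAgemo_antitone p (by omega : e - j ≤ e - i))
  have hD0 : D 0 = ⊥ := by rw [hDj, Nat.sub_zero, he, Subgroup.bot_subgroupOf]
  have hDe : D e = ⊤ := by rw [hDj, Nat.sub_self, ← hVdef, Subgroup.subgroupOf_self]
  have hcycD : ∀ j, ∃ _ : ((D j).subgroupOf (D (j + 1))).Normal,
      IsCyclic (D (j + 1) ⧸ (D j).subgroupOf (D (j + 1))) := by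
    intro j
    by_cases hj : j < e
    · obtain ⟨hn, hc⟩ := hstep (e - (j + 1))
      have h1 : e - j = e - (j + 1) + 1 := by omega
      rw [hDj, hDj, h1]
      exact cyclic_step_inter _ _ V hn hc
    · have h1 : D j = D (j + 1) := by
        rw [hDj, hDj]
        have : e - j = e - (j + 1) := by omega
        rw [this]
      refine ⟨inferInstance, ?_⟩
      apply isCyclic_quot_of_ker (1 : _ →* Unit)
      intro y
      rw [Subgroup.mem_subgroupOf, h1]
      exact ⟨fun _ => rfl, fun _ => y.2⟩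
  have hrstab : ∀ j, r.range ≤ stabSub (D j) := by
    rintro j _ ⟨h, rfl⟩ y
    rw [hDj, Subgroup.mem_subgroupOf, Subgroup.mem_subgroupOf, hrapp]
    exact hst (e - j) (h : MulAut G) y
  have hcard : (Nat.card r.range).Coprime p :=
    Nat.Coprime.coprime_dvd_left (Subgroup.card_range_dvd r) hH
  have hVp : IsPGroup p V := hG.to_subgroup V
  obtain ⟨hc1, hc2⟩ := chain_pprime_abelian p hVp D hDmono hD0 e hDe hcycD r.range hrstab hcard
  -- faithfulness
  have hinj : Function.Injective r := by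
    rw [injective_iff_map_eq_one]
    intro h hh
    have h1 : (h : MulAut G) = 1 := by
      apply aut_eq_one_of_omega_fixed p hG (h : MulAut G) (Nat.card H) _ hH
      · intro x hx
        have h2 := hrapp h ⟨x, (hVmem x).mpr hx⟩
        rw [hh] at h2
        exact h2.symm
      · have := pow_card_eq_one' (G := H) (x := h)
        exact congrArg Subtype.val this
    exact Subtype.ext h1
  constructor
  · intro a ha b hb
    have h1 := hc1 (r ⟨a, ha⟩) ⟨_, rfl⟩ (r ⟨b, hb⟩) ⟨_, rfl⟩
    rw [← map_mul, ← map_mul] at h1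
    exact congrArg Subtype.val (hinj h1)
  · intro a ha
    have h1 := hc2 (r ⟨a, ha⟩) ⟨_, rfl⟩
    rw [← map_pow, ← map_one r] at h1
    exact congrArg Subtype.val (hinj h1)

end Cfsg.Agent.Lib.Helper9.H9SupSol
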