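import Mathlib

set_option autoImplicit false

/-! `p'`-groups of automorphisms of `C × C` that are not abelian of exponent dividing `p - 1`. -/

namespace Cfsg.Agent.Lib.Helper9.H9SupSol

/-- Every `p'`-subgroup of `Aut(G)` is abelian of exponent dividing `p - 1`. -/
def Bprop (p : ℕ) (G : Type*) [Group G] : Prop :=
  ∀ H : Subgroup (MulAut G), (Nat.card H).Coprime p →
    (∀ a ∈ H, ∀ b ∈ H, a * b = b * a) ∧ ∀ a ∈ H, a ^ (p - 1) = 1

theorem bprop_of_injective_hom {G G' : Type*} [Group G] [Group G'] (p : ℕ) (L : MulAut G →* MulAut G')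
    (hL : Function.Injective L) (h : Bprop p G') : Bprop p G := by
  intro H hH
  have hcard : Nat.card (H.map L) = Nat.card H :=
    (Nat.card_congr (H.equivMapOfInjective L hL).toEquiv).symm
  obtain ⟨h1, h2⟩ := h (H.map L) (hcard ▸ hH)
  constructor
  · intro a ha b hb
    have := h1 (L a) ⟨a, ha, rfl⟩ (L b) ⟨b, hb, rfl⟩
    rw [← map_mul, ← map_mul] at this
    exact hL this
  · intro a ha
    have := h2 (L a) ⟨a, ha, rfl⟩
    rw [← map_pow, ← map_one L] at this
    exact hL this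

theorem bprop_of_equiv {G G' : Type*} [Group G] [Group G'] (p : ℕ) (e : G ≃* G') (h : Bprop p G') :
    Bprop p G :=
  bprop_of_injective_hom p (MulAut.congr e).toMonoidHom (MulAut.congr e).injective h

/-- Extending automorphisms of the first factor by the identity on the second. -/
def prodLeftHom (A B : Type*) [Group A] [Group B] : MulAut A →* MulAut (A × B) where
  toFun f := MulEquiv.prodCongr f (MulEquiv.refl B)
  map_one' := by
    apply MulEquiv.ext
    intro x
    rfl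
  map_mul' := by
    intro f g
    apply MulEquiv.ext
    intro x
    rfl

theorem prodLeftHom_injective (A B : Type*) [Group A] [Group B] : Function.Injective (prodLeftHom A B) := by
  intro f g hfg
  apply MulEquiv.ext
  intro a
  have := congrArg (fun t : MulAut (A × B) => (t (a, 1)).1) hfg
  exact this

theorem bprop_of_prod (p : ℕ) (A B : Type*) [Group A] [Group B] (h : Bprop p (A × B)) : Bprop p A :=
  bprop_of_injective_hom p (prodLeftHom A B) (prodLeftHom_injective A B) h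

section
variable (C : Type*) [CommGroup C]

/-- `(a, b) ↦ (b⁻¹, a b⁻¹)`, of order `3`. -/
def tauAut : MulAut (C × C) where
  toFun x := (x.2⁻¹, x.1 * x.2⁻¹)
  invFun x := (x.2 * x.1⁻¹, x.1⁻¹)
  left_inv := by
    intro x
    apply Prod.ext
    · show x.1 * x.2⁻¹ * (x.2⁻¹)⁻¹ = x.1
      group
    · show (x.2⁻¹)⁻¹ = x.2
      group
  right_inv := by
    intro x
    apply Prod.ext
    · show (x.1⁻¹)⁻¹ = x.1
      group
    · show x.2 * x.1⁻¹ * (x.1⁻¹)⁻¹ = x.2
      group
  map_mul' := by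
    intro x y
    apply Prod.ext
    · show (x.2 * y.2)⁻¹ = x.2⁻¹ * y.2⁻¹
      rw [mul_inv]
    · show x.1 * y.1 * (x.2 * y.2)⁻¹ = x.1 * x.2⁻¹ * (y.1 * y.2⁻¹)
      rw [mul_inv, mul_mul_mul_comm]

theorem tauAut_apply (x : C × C) : tauAut C x = (x.2⁻¹, x.1 * x.2⁻¹) := rfl

theorem tauAut_pow_three : tauAut C ^ 3 = 1 := by
  apply MulEquiv.ext
  intro x
  show tauAut C (tauAut C (tauAut C x)) = x
  rw [tauAut_apply, tauAut_apply, tauAut_apply]
  apply Prod.ext
  · show (x.2⁻¹ * (x.1 * x.2⁻¹)⁻¹)⁻¹ = x.1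
    group
  · show (x.1 * x.2⁻¹)⁻¹ * (x.2⁻¹ * (x.1 * x.2⁻¹)⁻¹)⁻¹ = x.2
    group

/-- `(a, b) ↦ (b, a⁻¹)`, of order `4`. -/
def rhoAut : MulAut (C × C) where
  toFun x := (x.2, x.1⁻¹)
  invFun x := (x.2⁻¹, x.1)
  left_inv := by
    intro x
    apply Prod.ext
    · show (x.1⁻¹)⁻¹ = x.1
      rw [inv_inv]
    · rfl
  right_inv := by
    intro x
    apply Prod.ext
    · rfl
    · show (x.2⁻¹)⁻¹ = x.2
      rw [inv_inv]
  map_mul' := by
    intro x y
    apply Prod.ext
    · rfl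
    · show (x.1 * y.1)⁻¹ = x.1⁻¹ * y.1⁻¹
      rw [mul_inv]

theorem rhoAut_apply (x : C × C) : rhoAut C x = (x.2, x.1⁻¹) := rfl

theorem rhoAut_inv_apply (x : C × C) : (rhoAut C)⁻¹ x = (x.2⁻¹, x.1) := rfl

theorem rhoAut_pow_four : rhoAut C ^ 4 = 1 := by
  apply MulEquiv.ext
  intro x
  show rhoAut C (rhoAut C (rhoAut C (rhoAut C x))) = x
  rw [rhoAut_apply, rhoAut_apply, rhoAut_apply, rhoAut_apply]
  apply Prod.ext
  · show (x.1⁻¹)⁻¹ = x.1
    rw [inv_inv]
  · show (x.2⁻¹)⁻¹ = x.2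
    rw [inv_inv]

/-- The swap. -/
def sigmaAut : MulAut (C × C) := MulEquiv.prodComm

theorem sigmaAut_apply (x : C × C) : sigmaAut C x = (x.2, x.1) := rfl

theorem sigmaAut_sq : sigmaAut C ^ 2 = 1 := by
  apply MulEquiv.ext
  intro x
  rfl

theorem sigmaAut_inv : (sigmaAut C)⁻¹ = sigmaAut C := by
  apply MulEquiv.ext
  intro x
  rfl

theorem sigma_rho_sigma : sigmaAut C * rhoAut C * (sigmaAut C)⁻¹ = (rhoAut C)⁻¹ := by
  apply MulEquiv.ext
  intro x
  rw [sigmaAut_inv]
  rfl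

end

end Cfsg.Agent.Lib.Helper9.H9SupSol
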