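import Mathlib
import Cfsg.Agent.Lib.Helper9.SupSol16

set_option autoImplicit false

/-! `Bprop` fails for `C × C`. -/

namespace Cfsg.Agent.Lib.Helper9.H9SupSol

theorem isPGroup_zpowers_of_pow {M : Type*} [Group M] (x : M) (q k : ℕ) (hx : x ^ (q ^ k) = 1) :
    IsPGroup q (Subgroup.zpowers x) := by
  rintro ⟨y, hy⟩
  obtain ⟨j, rfl⟩ := Subgroup.mem_zpowers_iff.mp hy
  refine ⟨k, Subtype.ext ?_⟩
  show (x ^ j) ^ (q ^ k) = 1
  rw [← zpow_natCast, ← zpow_mul, mul_comm, zpow_mul, zpow_natCast, hx, one_zpow]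

theorem not_bprop_prod_self (p : ℕ) [Fact p.Prime] (C : Type*) [CommGroup C] [Finite C] (g : C)
    (hg : g ≠ 1) (hg2 : p ≠ 2 → g ^ 2 ≠ 1) : ¬ Bprop p (C × C) := by
  intro hB
  have hp : p.Prime := Fact.out
  by_cases hp2 : p = 2
  · have hord : orderOf (tauAut C) ∣ 3 := orderOf_dvd_of_pow_eq_one (tauAut_pow_three C)
    have hcop : (Nat.card (Subgroup.zpowers (tauAut C))).Coprime p := by
      rw [Nat.card_zpowers, hp2]
      exact Nat.Coprime.coprime_dvd_left hord (by norm_num)
    have h1 := (hB _ hcop).2 (tauAut C) (Subgroup.mem_zpowers _)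
    rw [hp2] at h1
    have h2 : tauAut C = 1 := by simpa using h1
    have h3 : tauAut C (g, 1) = (g, 1) := by rw [h2]; rfl
    rw [tauAut_apply] at h3
    have h4 := congrArg Prod.snd h3
    simp only [inv_one, mul_one] at h4
    exact hg h4
  · obtain ⟨B, hBdef⟩ : ∃ B : Subgroup (MulAut (C × C)),
        B = Subgroup.zpowers (sigmaAut C) ⊔ Subgroup.zpowers (rhoAut C) := ⟨_, rfl⟩
    have hσ2 : IsPGroup 2 (Subgroup.zpowers (sigmaAut C)) :=
      isPGroup_zpowers_of_pow _ 2 1 (by rw [pow_one]; exact sigmaAut_sq C)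
    have hρ2 : IsPGroup 2 (Subgroup.zpowers (rhoAut C)) :=
      isPGroup_zpowers_of_pow _ 2 2 (by norm_num; exact rhoAut_pow_four C)
    have hconj : ∀ h ∈ Subgroup.zpowers (rhoAut C),
        sigmaAut C * h * (sigmaAut C)⁻¹ ∈ Subgroup.zpowers (rhoAut C) := by
      intro h hh
      obtain ⟨j, rfl⟩ := Subgroup.mem_zpowers_iff.mp hh
      have h1 : sigmaAut C * rhoAut C ^ j * (sigmaAut C)⁻¹ = ((rhoAut C)⁻¹) ^ j := by
        rw [← sigma_rho_sigma, ← MulAut.conj_apply, ← MulAut.conj_apply, map_zpow]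
      rw [h1]
      exact Subgroup.zpow_mem _ (Subgroup.inv_mem _ (Subgroup.mem_zpowers _)) j
    have hnorm : Subgroup.zpowers (sigmaAut C) ≤ Subgroup.normalizer (Subgroup.zpowers (rhoAut C) : Set _) := by
      rw [Subgroup.zpowers_le, Subgroup.mem_normalizer_iff]
      intro h
      constructor
      · exact hconj h
      · intro hh
        have h1 := hconj _ hh
        have h2 : sigmaAut C * (sigmaAut C * h * (sigmaAut C)⁻¹) * (sigmaAut C)⁻¹ = h := by
          rw [sigmaAut_inv]
          have h3 : sigmaAut C * sigmaAut C = 1 := by rw [← pow_two]; exact sigmaAut_sq C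
          calc sigmaAut C * (sigmaAut C * h * sigmaAut C) * sigmaAut C
              = (sigmaAut C * sigmaAut C) * h * (sigmaAut C * sigmaAut C) := by group
            _ = h := by rw [h3, one_mul, mul_one]
        rwa [h2] at h1
    have hB2 : IsPGroup 2 B := by
      rw [hBdef]
      exact IsPGroup.to_sup_of_normal_right' hσ2 hρ2 hnorm
    obtain ⟨k, hk⟩ := IsPGroup.iff_card.mp hB2
    have hcop : (Nat.card B).Coprime p := by
      rw [hk]
      apply Nat.Coprime.pow_left
      exact (Nat.coprime_primes Nat.prime_two hp).mpr (fun h => hp2 h.symm)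
    have h1 := (hB B hcop).1 (sigmaAut C) (hBdef ▸ Subgroup.mem_sup_left (Subgroup.mem_zpowers _))
      (rhoAut C) (hBdef ▸ Subgroup.mem_sup_right (Subgroup.mem_zpowers _))
    have h2 := congrArg (fun t : MulAut (C × C) => (t (g, 1)).1) h1
    have h3 : g⁻¹ = g := h2
    apply hg2 hp2
    rw [pow_two]
    nth_rewrite 1 [← h3]
    exact inv_mul_cancel g

end Cfsg.Agent.Lib.Helper9.H9SupSol
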