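import Mathlib
import Cfsg.Agent.Lib.Helper9.SupSol15
import Cfsg.Agent.Lib.Helper9.SupSol17

set_option autoImplicit false

/-! Abelian `p`-groups: `Bprop` holds iff no invariant is repeated. -/

namespace Cfsg.Agent.Lib.Helper9.H9SupSol

/-- The identification of `ℤ/a` and `ℤ/b` for `a = b`, multiplicatively. -/
def mzmodCongr {a b : ℕ} (h : a = b) : Multiplicative (ZMod a) ≃* Multiplicative (ZMod b) :=
  AddEquiv.toMultiplicative (ZMod.ringEquivCongr h).toAddEquiv

theorem exists_pi_equiv {G : Type*} [Group G] [Finite G] (hab : ∀ a b : G, a * b = b * a) (p : ℕ)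
    [Fact p.Prime] (hG : IsPGroup p G) :
    ∃ (ι : Type) (_ : Fintype ι) (n : ι → ℕ), (∀ i, 0 < n i) ∧
      Nonempty (G ≃* ∀ i, Multiplicative (ZMod (p ^ n i))) := by
  classical
  have hp : p.Prime := Fact.out
  letI : CommGroup G := { (inferInstance : Group G) with mul_comm := hab }
  obtain ⟨ι, hι, m, hm1, ⟨e⟩⟩ := CommGroup.equiv_prod_multiplicative_zmod_of_finite G
  obtain ⟨a, ha⟩ := IsPGroup.iff_card.mp hG
  have hm : ∀ i, ∃ k, m i = p ^ k := by
    intro i
    have hinj : Function.Injective (e.symm.toMonoidHom.comp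
        (MonoidHom.mulSingle (fun i => Multiplicative (ZMod (m i))) i)) := by
      intro x y hxy
      have h1 := e.symm.injective hxy
      exact Pi.mulSingle_injective i h1
    have h1 := Subgroup.card_dvd_of_injective _ hinj
    have hc : Nat.card (Multiplicative (ZMod (m i))) = m i :=
      (Nat.card_congr Multiplicative.toAdd).trans (Nat.card_zmod (m i))
    rw [hc, ha] at h1
    obtain ⟨k, -, hk⟩ := (Nat.dvd_prime_pow hp).mp h1
    exact ⟨k, hk⟩
  choose n hn using hm
  refine ⟨ι, hι, n, ?_, ⟨e.trans (MulEquiv.piCongrRight (fun i => mzmodCongr (hn i)))⟩⟩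
  intro i
  by_contra h0
  have h1 : n i = 0 := by omega
  have h2 := hm1 i
  rw [hn i, h1, pow_zero] at h2
  exact lt_irrefl 1 h2

/-- Splitting off two factors of a product. -/
theorem pi_split (p : ℕ) {ι : Type} (n : ι → ℕ) (i j : ι) (hij : i ≠ j) (hnij : n j = n i) :
    ∃ (H₀ : Type) (_ : CommGroup H₀), Nonempty ((∀ k, Multiplicative (ZMod (p ^ n k))) ≃*
      (Multiplicative (ZMod (p ^ n i)) × Multiplicative (ZMod (p ^ n i))) × H₀) := by
  classical
  obtain ⟨e1, -⟩ : ∃ e1 : (∀ k, Multiplicative (ZMod (p ^ n k))) ≃*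
      Multiplicative (ZMod (p ^ n i)) × (∀ k : {k // k ≠ i}, Multiplicative (ZMod (p ^ n k))), True :=
    ⟨{ Equiv.piSplitAt i (fun k => Multiplicative (ZMod (p ^ n k))) with
        map_mul' := fun x y => rfl }, trivial⟩
  obtain ⟨e2, -⟩ : ∃ e2 : (∀ k : {k // k ≠ i}, Multiplicative (ZMod (p ^ n k))) ≃*
      Multiplicative (ZMod (p ^ n j)) ×
        (∀ k : {k : {k // k ≠ i} // k ≠ ⟨j, hij.symm⟩}, Multiplicative (ZMod (p ^ n k))), True :=
    ⟨{ Equiv.piSplitAt (⟨j, hij.symm⟩ : {k // k ≠ i})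
        (fun k : {k // k ≠ i} => Multiplicative (ZMod (p ^ n k))) with
        map_mul' := fun x y => rfl }, trivial⟩
  refine ⟨(∀ k : {k : {k // k ≠ i} // k ≠ ⟨j, hij.symm⟩}, Multiplicative (ZMod (p ^ n k))), inferInstance, ⟨?_⟩⟩
  have hpow : p ^ n j = p ^ n i := by rw [hnij]
  exact (e1.trans (MulEquiv.prodCongr (MulEquiv.refl _) e2)).trans
    ((MulEquiv.prodAssoc).symm.trans
      (MulEquiv.prodCongr (MulEquiv.prodCongr (MulEquiv.refl _) (mzmodCongr hpow)) (MulEquiv.refl _)))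

end Cfsg.Agent.Lib.Helper9.H9SupSol
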