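import Mathlib
import Cfsg.Agent.Lib.Helper9.SupSol18

set_option autoImplicit false

/-! Abelian `p`-groups: `Bprop` holds iff no invariant is repeated. -/

namespace Cfsg.Agent.Lib.Helper9.H9SupSol

theorem bprop_iff_no_repeat {G : Type*} [Group G] [Finite G] (hab : ∀ a b : G, a * b = b * a) (p : ℕ)
    [Fact p.Prime] (hG : IsPGroup p G) :
    Bprop p G ↔ ¬ ∃ (n : ℕ) (H : Type) (_ : CommGroup H), 0 < n ∧
      Nonempty (G ≃* (Multiplicative (ZMod (p ^ n)) × Multiplicative (ZMod (p ^ n))) × H) := by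
  have hp : p.Prime := Fact.out
  constructor
  · rintro hB ⟨N, H₀, inst, hN, ⟨e⟩⟩
    have hB' : Bprop p ((Multiplicative (ZMod (p ^ N)) × Multiplicative (ZMod (p ^ N))) × H₀) :=
      bprop_of_equiv p e.symm hB
    have hB'' : Bprop p (Multiplicative (ZMod (p ^ N)) × Multiplicative (ZMod (p ^ N))) :=
      bprop_of_prod p _ H₀ hB'
    have hpN : 1 < p ^ N := Nat.one_lt_pow (Nat.pos_iff_ne_zero.mp hN) hp.one_lt
    apply not_bprop_prod_self p (Multiplicative (ZMod (p ^ N))) (Multiplicative.ofAdd (1 : ZMod (p ^ N))) _ _ hB''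
    · intro h
      have h1 : (1 : ZMod (p ^ N)) = 0 := congrArg Multiplicative.toAdd h
      have h2 : ((1 : ℕ) : ZMod (p ^ N)) = 0 := by rw [Nat.cast_one]; exact h1
      rw [ZMod.natCast_eq_zero_iff] at h2
      exact absurd (Nat.le_of_dvd Nat.one_pos h2) (not_le.mpr hpN)
    · intro hp2 h
      have h1 : (2 : ℕ) • (1 : ZMod (p ^ N)) = 0 := congrArg Multiplicative.toAdd h
      have h2 : ((2 : ℕ) : ZMod (p ^ N)) = 0 := by
        rw [nsmul_eq_mul, mul_one] at h1
        exact h1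
      rw [ZMod.natCast_eq_zero_iff] at h2
      have h3 : p ∣ 2 := (dvd_pow_self p (Nat.pos_iff_ne_zero.mp hN)).trans h2
      exact hp2 ((Nat.prime_dvd_prime_iff_eq hp Nat.prime_two).mp h3)
  · intro hno
    obtain ⟨ι, hι, n, hnpos, ⟨e⟩⟩ := exists_pi_equiv hab p hG
    have hinj : Function.Injective n := by
      intro i j hij
      by_contra hne
      obtain ⟨H₀, inst, ⟨e2⟩⟩ := pi_split p n i j hne hij.symm
      exact hno ⟨n i, H₀, inst, hnpos i, ⟨e.trans e2⟩⟩
    haveI : Finite (∀ i, Multiplicative (ZMod (p ^ n i))) := Finite.of_equiv G e.toEquiv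
    have hPip : IsPGroup p (∀ i, Multiplicative (ZMod (p ^ n i))) := hG.of_equiv e
    have hbot := pi_omegaAgemo_eq_bot p n (∑ i, n i)
      (fun i => Finset.single_le_sum (fun _ _ => Nat.zero_le _) (Finset.mem_univ i))
    have hBPi : Bprop p (∀ i, Multiplicative (ZMod (p ^ n i))) := by
      intro H hH
      exact pprime_abelian_of_flag p hPip (∑ i, n i) hbot (pi_step_cyclic p n hinj) H hH
    exact bprop_of_equiv p e hBPi

end Cfsg.Agent.Lib.Helper9.H9SupSol
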