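import Mathlib

set_option autoImplicit false

/-! # `p`-subgroups of symmetric groups of degree `< p²` are abelian -/

namespace Cfsg.Agent.H9SylAlt

open Equiv

theorem not_sq_dvd_factorial {p m : ℕ} (hp : p.Prime) (hm : m ≤ p) : ¬ p ^ 2 ∣ m.factorial := by
  intro h
  rcases Nat.lt_or_ge m p with hlt | hge
  · have : p ∣ m.factorial := dvd_trans (dvd_pow_self p (by norm_num)) h
    rw [hp.dvd_factorial] at this
    omega
  · obtain rfl : m = p := le_antisymm hm hge
    obtain ⟨k, hk⟩ : ∃ k, m = k + 1 := ⟨m - 1, by have := hp.pos; omega⟩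
    rw [hk, Nat.factorial_succ, ← hk, pow_two] at h
    have h2 : m ∣ k.factorial := Nat.dvd_of_mul_dvd_mul_left hp.pos h
    rw [hp.dvd_factorial] at h2
    omega

theorem commute_of_small_degree {α : Type*} [Fintype α] [DecidableEq α] (p : ℕ) [Fact p.Prime]
    (hα : Fintype.card α < p ^ 2) (P : Subgroup (Perm α)) (hP : IsPGroup p P)
    (x y : Perm α) (hx : x ∈ P) (hy : y ∈ P) : x * y = y * x := by
  have hp : p.Prime := Fact.out
  apply Equiv.ext
  intro ω
  -- the orbit
  obtain ⟨j, hj⟩ := hP.card_orbit ω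
  have hle : Nat.card (MulAction.orbit P ω) ≤ Fintype.card α := by
    rw [← Nat.card_eq_fintype_card (α := α)]
    exact Nat.card_le_card_of_injective Subtype.val Subtype.val_injective
  have hj1 : j ≤ 1 := by
    by_contra hj2
    push Not at hj2
    have : p ^ 2 ≤ p ^ j := Nat.pow_le_pow_right hp.pos hj2
    omega
  have hcO : Nat.card (MulAction.orbit P ω) ≤ p := by
    rw [hj]
    calc p ^ j ≤ p ^ 1 := Nat.pow_le_pow_right hp.pos hj1
      _ = p := pow_one p
  let ρ : P →* Perm (MulAction.orbit P ω) := MulAction.toPermHom P (MulAction.orbit P ω)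
  have hρP : IsPGroup p ρ.range :=
    IsPGroup.of_surjective hP ρ.rangeRestrict ρ.rangeRestrict_surjective
  obtain ⟨e, he⟩ := IsPGroup.iff_card.mp hρP
  have hdvd : Nat.card ρ.range ∣ (Nat.card (MulAction.orbit P ω)).factorial := by
    have := Subgroup.card_subgroup_dvd_card ρ.range
    rwa [Nat.card_perm] at this
  have he1 : e ≤ 1 := by
    by_contra he2
    push Not at he2
    apply not_sq_dvd_factorial hp hcO
    refine dvd_trans ?_ hdvd
    rw [he]
    exact pow_dvd_pow p he2
  have hcomm : ∀ a b : ρ.range, a * b = b * a := by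
    interval_cases e
    · rw [pow_zero] at he
      have : Subsingleton ρ.range := (Nat.card_eq_one_iff_unique.mp he).1
      intro a b
      exact Subsingleton.elim _ _
    · rw [pow_one] at he
      have := isCyclic_of_prime_card he
      letI := IsCyclic.commGroup (α := ρ.range)
      intro a b
      exact mul_comm a b
  have h1 := hcomm ⟨ρ ⟨x, hx⟩, ⟨_, rfl⟩⟩ ⟨ρ ⟨y, hy⟩, ⟨_, rfl⟩⟩
  have h2 := congrArg (fun g : ρ.range => ((g : Perm (MulAction.orbit P ω))
    ⟨ω, MulAction.mem_orbit_self ω⟩ : α)) h1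
  exact h2

end Cfsg.Agent.H9SylAlt
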