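import Mathlib

set_option autoImplicit false

/-! # A nonabelian group of order `p³` acting on `p²` points -/

namespace Cfsg.Agent.H9SylAlt

open Equiv

variable (p : ℕ) [Fact p.Prime]

/-- the map `(i, j) ↦ (i + a, j + b i + c)` -/
def heisMap (a b c : ZMod p) : Perm (ZMod p × ZMod p) where
  toFun x := (x.1 + a, x.2 + b * x.1 + c)
  invFun y := (y.1 - a, y.2 - b * (y.1 - a) - c)
  left_inv x := by
    apply Prod.ext
    · simp
    · simp only [add_sub_cancel_right]; ring
  right_inv y := by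
    apply Prod.ext
    · simp
    · simp only; ring

theorem heisMap_apply (a b c : ZMod p) (x : ZMod p × ZMod p) :
    heisMap p a b c x = (x.1 + a, x.2 + b * x.1 + c) := rfl

theorem heisMap_mul (a b c a' b' c' : ZMod p) :
    heisMap p a b c * heisMap p a' b' c' = heisMap p (a + a') (b + b') (c + c' + b * a') := by
  apply Equiv.ext
  intro x
  rw [Perm.mul_apply, heisMap_apply, heisMap_apply, heisMap_apply]
  apply Prod.ext
  · simp only; ring
  · simp only; ring

theorem heisMap_zero : heisMap p 0 0 0 = 1 := by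
  apply Equiv.ext
  intro x
  rw [heisMap_apply]
  simp

/-- the group of all `heisMap`s -/
def heis : Subgroup (Perm (ZMod p × ZMod p)) where
  carrier := {g | ∃ a b c, g = heisMap p a b c}
  one_mem' := ⟨0, 0, 0, (heisMap_zero p).symm⟩
  mul_mem' := by
    rintro _ _ ⟨a, b, c, rfl⟩ ⟨a', b', c', rfl⟩
    exact ⟨_, _, _, heisMap_mul p a b c a' b' c'⟩
  inv_mem' := by
    rintro _ ⟨a, b, c, rfl⟩
    refine ⟨-a, -b, -c + b * a, ?_⟩
    apply inv_eq_of_mul_eq_one_right
    rw [heisMap_mul, ← heisMap_zero p]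
    congr 1 <;> ring

theorem heisMap_mem (a b c : ZMod p) : heisMap p a b c ∈ heis p := ⟨a, b, c, rfl⟩

theorem heisMap_pow (a b c : ZMod p) (m : ℕ) :
    ∃ c', (heisMap p a b c) ^ m = heisMap p (m • a) (m • b) c' := by
  induction m with
  | zero => exact ⟨0, by rw [pow_zero, zero_smul, zero_smul, heisMap_zero]⟩
  | succ m ih =>
    obtain ⟨c', hc'⟩ := ih
    refine ⟨c' + c + (m • b) * a, ?_⟩
    rw [pow_succ, hc', heisMap_mul, succ_nsmul, succ_nsmul]

theorem heisMap_pow_central (c : ZMod p) (m : ℕ) :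
    (heisMap p 0 0 c) ^ m = heisMap p 0 0 (m • c) := by
  induction m with
  | zero => rw [pow_zero, zero_smul, heisMap_zero]
  | succ m ih =>
    rw [pow_succ, ih, heisMap_mul, succ_nsmul]
    congr 1 <;> ring

theorem heis_pow (g : Perm (ZMod p × ZMod p)) (hg : g ∈ heis p) : g ^ (p ^ 2) = 1 := by
  obtain ⟨a, b, c, rfl⟩ := hg
  obtain ⟨c', hc'⟩ := heisMap_pow p a b c p
  have h0 : ∀ z : ZMod p, p • z = 0 := fun z => by
    rw [nsmul_eq_mul]; simp
  rw [pow_two, pow_mul, hc', h0, h0, heisMap_pow_central, h0, heisMap_zero]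

theorem heis_isPGroup : IsPGroup p (heis p) := by
  intro g
  refine ⟨2, ?_⟩
  apply Subtype.ext
  rw [Subgroup.coe_pow, heis_pow p g.1 g.2]
  rfl

theorem heis_not_comm :
    heisMap p 0 1 0 * heisMap p 1 0 0 ≠ heisMap p 1 0 0 * heisMap p 0 1 0 := by
  intro h
  have h1 := congrArg (fun g : Perm (ZMod p × ZMod p) => (g (0, 0)).2) h
  simp only [Perm.mul_apply, heisMap_apply] at h1
  simp at h1

end Cfsg.Agent.H9SylAlt
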