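import Mathlib
import Cfsg.Agent.Lib.Helper9.SylAlt2

set_option autoImplicit false

/-! # Nonabelian `p`-subgroups of alternating groups of degree `≥ p²` -/

namespace Cfsg.Agent.H9SylAlt

open Equiv

theorem not_comm_sylow {G : Type*} [Group G] [Finite G] (p : ℕ) [Fact p.Prime] (S : Sylow p G)
    {H : Type*} [Group H] (hH : IsPGroup p H) (Φ : H →* G) (hΦ : Function.Injective Φ)
    (x y : H) (hxy : x * y ≠ y * x) : ¬ IsMulCommutative S := by
  intro hS
  have hr : IsPGroup p Φ.range :=
    IsPGroup.of_surjective hH Φ.rangeRestrict Φ.rangeRestrict_surjective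
  obtain ⟨S', hS'⟩ := hr.exists_le_sylow
  let e := Sylow.equiv S' S
  have hx : Φ x ∈ (S' : Subgroup G) := hS' ⟨x, rfl⟩
  have hy : Φ y ∈ (S' : Subgroup G) := hS' ⟨y, rfl⟩
  have h1 := hS.is_comm.comm (e ⟨Φ x, hx⟩) (e ⟨Φ y, hy⟩)
  rw [← map_mul, ← map_mul] at h1
  have h2 := e.injective h1
  have h3 := congrArg Subtype.val h2
  simp only [Subgroup.coe_mul] at h3
  rw [← map_mul, ← map_mul] at h3
  exact hxy (hΦ h3)

theorem exists_hom_odd (p n : ℕ) [Fact p.Prime] (hp : p ≠ 2) (hn : p ^ 2 ≤ n) :
    ∃ Φ : heis p →* alternatingGroup (Fin n), Function.Injective Φ := by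
  have hpp : p.Prime := Fact.out
  have hodd : Odd p := hpp.eq_two_or_odd'.resolve_left hp
  obtain ⟨ι⟩ : Nonempty (ZMod p × ZMod p ↪ Fin n) := by
    apply Function.Embedding.nonempty_of_card_le
    rw [Fintype.card_prod, ZMod.card, Fintype.card_fin, ← pow_two]
    exact hn
  have hmem : ∀ g : heis p, ((Perm.viaEmbeddingHom ι).comp (heis p).subtype) g
      ∈ alternatingGroup (Fin n) := by
    intro g
    rw [Perm.mem_alternatingGroup]
    have h1 : (((Perm.viaEmbeddingHom ι).comp (heis p).subtype) g) ^ (p ^ 2) = 1 := by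
      rw [← map_pow]
      have : g ^ (p ^ 2) = 1 := by
        apply Subtype.ext
        rw [Subgroup.coe_pow, heis_pow p g.1 g.2]; rfl
      rw [this, map_one]
    have h2 := congrArg Perm.sign h1
    rw [map_pow, map_one] at h2
    rcases Int.units_eq_one_or (Perm.sign (((Perm.viaEmbeddingHom ι).comp (heis p).subtype) g))
      with h3 | h3
    · exact h3
    · exfalso
      rw [h3, Odd.neg_one_pow (hodd.pow)] at h2
      revert h2; decide
  refine ⟨((Perm.viaEmbeddingHom ι).comp (heis p).subtype).codRestrict _ hmem, ?_⟩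
  intro a c hac
  have h1 := congrArg Subtype.val hac
  exact Subtype.ext (Perm.viaEmbeddingHom_injective ι h1)

theorem sign_viaEmbeddingHom {α : Type*} [Fintype α] [DecidableEq α] {n : ℕ} (ι : α ↪ Fin n)
    (e : Perm α) : Perm.sign (Perm.viaEmbeddingHom ι e) = Perm.sign e := by
  classical
  exact @Perm.sign_extendDomain _ _ _ _ _ _ e _ (fun a => Classical.propDecidable _)
    (ofInjective ι.1 ι.2)

/-- `±1` as permutations of two points -/
def unitToPerm : ℤˣ →* Perm (Fin 2) where
  toFun u := if u = 1 then 1 else swap 0 1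
  map_one' := by simp
  map_mul' := by decide

theorem sign_unitToPerm (u : ℤˣ) : Perm.sign (unitToPerm u) = u := by
  revert u; decide

/-- a homomorphism into the alternating group of two more points -/
def evenHom (α : Type*) [Fintype α] [DecidableEq α] : Perm α →* Perm (α ⊕ Fin 2) :=
  (Perm.sumCongrHom α (Fin 2)).comp ((MonoidHom.id _).prod (unitToPerm.comp Perm.sign))

theorem evenHom_injective (α : Type*) [Fintype α] [DecidableEq α] :
    Function.Injective (evenHom α) := by
  intro g h hgh
  have := Perm.sumCongrHom_injective hgh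
  exact congrArg Prod.fst this

theorem sign_evenHom (α : Type*) [Fintype α] [DecidableEq α] (g : Perm α) :
    Perm.sign (evenHom α g) = 1 := by
  change Perm.sign (sumCongr g (unitToPerm (Perm.sign g))) = 1
  rw [Perm.sign_sumCongr, sign_unitToPerm, Int.units_mul_self]

theorem exists_hom_two (n : ℕ) (hn : 6 ≤ n) :
    ∃ Φ : heis 2 →* alternatingGroup (Fin n), Function.Injective Φ := by
  classical
  obtain ⟨ι⟩ : Nonempty ((ZMod 2 × ZMod 2) ⊕ Fin 2 ↪ Fin n) := by
    apply Function.Embedding.nonempty_of_card_le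
    rw [Fintype.card_sum, Fintype.card_prod, ZMod.card, Fintype.card_fin, Fintype.card_fin]
    omega
  have hmem : ∀ g : heis 2,
      (((Perm.viaEmbeddingHom ι).comp (evenHom (ZMod 2 × ZMod 2))).comp (heis 2).subtype) g
      ∈ alternatingGroup (Fin n) := by
    intro g
    rw [Perm.mem_alternatingGroup]
    change Perm.sign (Perm.viaEmbeddingHom ι (evenHom (ZMod 2 × ZMod 2) g.1)) = 1
    rw [sign_viaEmbeddingHom, sign_evenHom]
  refine ⟨(((Perm.viaEmbeddingHom ι).comp (evenHom (ZMod 2 × ZMod 2))).comp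
    (heis 2).subtype).codRestrict _ hmem, ?_⟩
  intro a c hac
  have h1 := congrArg Subtype.val hac
  exact Subtype.ext (evenHom_injective _ (Perm.viaEmbeddingHom_injective ι h1))

end Cfsg.Agent.H9SylAlt
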