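import Mathlib
import Cfsg.Prelude.Def_TwoFusion

/-!
# Direct decomposability: abstract lemmas (for S2221)

`Decomp G`: the group `G` is the internal direct product of two nontrivial subgroups.
Main result `not_decomp_signKer`: the kernel of the product character on a finite product of groups
`G i`, none of which is a nontrivial central product, is directly indecomposable.
-/

set_option autoImplicit false

namespace Cfsg.Agent.H9SylDec

universe u v w

/-- `G` is an internal direct product of two nontrivial subgroups. -/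
def Decomp (G : Type u) [Group G] : Prop :=
  ∃ A B : Subgroup G, A ≠ ⊥ ∧ B ≠ ⊥ ∧ (∀ a ∈ A, ∀ b ∈ B, a * b = b * a) ∧ A ⊓ B = ⊥ ∧ A ⊔ B = ⊤

theorem Decomp.of_equiv {G : Type u} {H : Type v} [Group G] [Group H] (e : G ≃* H)
    (h : Decomp G) : Decomp H := by
  obtain ⟨A, B, hA, hB, hc, hi, hs⟩ := h
  refine ⟨A.map e.toMonoidHom, B.map e.toMonoidHom, ?_, ?_, ?_, ?_, ?_⟩
  · rwa [Ne, Subgroup.map_eq_bot_iff_of_injective _ e.injective]
  · rwa [Ne, Subgroup.map_eq_bot_iff_of_injective _ e.injective]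
  · rintro _ ⟨a, ha, rfl⟩ _ ⟨b, hb, rfl⟩
    simp only [MulEquiv.coe_toMonoidHom]
    rw [← map_mul, ← map_mul, hc a ha b hb]
  · rw [← Subgroup.map_inf_eq _ _ _ e.injective, hi, Subgroup.map_bot]
  · rw [← Subgroup.map_sup, hs]
    exact Subgroup.map_top_of_surjective _ e.surjective

theorem decomp_congr {G : Type u} {H : Type v} [Group G] [Group H] (e : G ≃* H) :
    Decomp G ↔ Decomp H :=
  ⟨Decomp.of_equiv e, Decomp.of_equiv e.symm⟩

/-- The form used in the statement. -/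
theorem exists_idp_iff {G : Type u} [Group G] (P : Subgroup G) :
    (∃ S₁ S₂ : Subgroup G, S₁ ≠ ⊥ ∧ S₂ ≠ ⊥ ∧ Cfsg.IsInternalDirectProduct S₁ S₂ P) ↔ Decomp ↥P := by
  constructor
  · rintro ⟨S₁, S₂, h1, h2, hS1, hS2, hc, hi, hs⟩
    refine ⟨S₁.subgroupOf P, S₂.subgroupOf P, ?_, ?_, ?_, ?_, ?_⟩
    · intro h
      apply h1
      rw [Subgroup.subgroupOf_eq_bot] at h
      exact disjoint_self.1 (h.mono_right hS1)
    · intro h
      apply h2
      rw [Subgroup.subgroupOf_eq_bot] at h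
      exact disjoint_self.1 (h.mono_right hS2)
    · rintro ⟨a, haP⟩ ha ⟨b, hbP⟩ hb
      apply Subtype.ext
      exact hc a (Subgroup.mem_subgroupOf.1 ha) b (Subgroup.mem_subgroupOf.1 hb)
    · rw [Subgroup.eq_bot_iff_forall]
      rintro ⟨g, hgP⟩ ⟨hg1, hg2⟩
      have : g ∈ S₁ ⊓ S₂ := ⟨Subgroup.mem_subgroupOf.1 hg1, Subgroup.mem_subgroupOf.1 hg2⟩
      rw [hi, Subgroup.mem_bot] at this
      exact Subtype.ext this
    · rw [← Subgroup.subgroupOf_sup hS1 hS2, hs, Subgroup.subgroupOf_self]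
  · rintro ⟨A, B, hA, hB, hc, hi, hs⟩
    refine ⟨A.map P.subtype, B.map P.subtype, ?_, ?_, Subgroup.map_subtype_le A,
      Subgroup.map_subtype_le B, ?_, ?_, ?_⟩
    · rwa [Ne, Subgroup.map_eq_bot_iff_of_injective _ P.subtype_injective]
    · rwa [Ne, Subgroup.map_eq_bot_iff_of_injective _ P.subtype_injective]
    · rintro _ ⟨a, ha, rfl⟩ _ ⟨b, hb, rfl⟩
      have := hc a ha b hb
      exact congrArg Subtype.val this
    · rw [← Subgroup.map_inf_eq _ _ _ P.subtype_injective, hi, Subgroup.map_bot]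
    · rw [← Subgroup.map_sup, hs, ← MonoidHom.range_eq_map, Subgroup.range_subtype]

theorem mem_center_of_sup_eq_top {G : Type u} [Group G] {A B : Subgroup G} (hs : A ⊔ B = ⊤) {x : G}
    (hA : ∀ a ∈ A, a * x = x * a) (hB : ∀ b ∈ B, b * x = x * b) : x ∈ Subgroup.center G := by
  have h1 : A ≤ Subgroup.centralizer {x} := fun a ha => by
    rw [Subgroup.mem_centralizer_iff]
    intro y hy
    rw [Set.mem_singleton_iff] at hy
    subst hy
    exact (hA a ha).symm
  have h2 : B ≤ Subgroup.centralizer {x} := fun b hb => by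
    rw [Subgroup.mem_centralizer_iff]
    intro y hy
    rw [Set.mem_singleton_iff] at hy
    subst hy
    exact (hB b hb).symm
  have h3 : (⊤ : Subgroup G) ≤ Subgroup.centralizer {x} := hs ▸ sup_le h1 h2
  rw [Subgroup.mem_center_iff]
  intro g
  have := h3 (Subgroup.mem_top g)
  rw [Subgroup.mem_centralizer_iff] at this
  exact (this x rfl).symm

theorem exists_mul_of_sup_eq_top {G : Type u} [Group G] {A B : Subgroup G}
    (hc : ∀ a ∈ A, ∀ b ∈ B, a * b = b * a) (hs : A ⊔ B = ⊤) (g : G) :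
    ∃ a ∈ A, ∃ b ∈ B, g = a * b := by
  let S : Subgroup G :=
    { carrier := {g | ∃ a ∈ A, ∃ b ∈ B, g = a * b}
      one_mem' := ⟨1, A.one_mem, 1, B.one_mem, (mul_one 1).symm⟩
      mul_mem' := by
        rintro _ _ ⟨a, ha, b, hb, rfl⟩ ⟨a', ha', b', hb', rfl⟩
        refine ⟨a * a', A.mul_mem ha ha', b * b', B.mul_mem hb hb', ?_⟩
        rw [mul_assoc a b, ← mul_assoc b a' b', ← hc a' ha' b hb, mul_assoc a' b b', ← mul_assoc a a']
      inv_mem' := by
        rintro _ ⟨a, ha, b, hb, rfl⟩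
        refine ⟨a⁻¹, A.inv_mem ha, b⁻¹, B.inv_mem hb, ?_⟩
        rw [mul_inv_rev]
        exact (hc a⁻¹ (A.inv_mem ha) b⁻¹ (B.inv_mem hb)).symm }
  have hA : A ≤ S := fun a ha => ⟨a, ha, 1, B.one_mem, (mul_one a).symm⟩
  have hB : B ≤ S := fun b hb => ⟨1, A.one_mem, b, hb, (one_mul b).symm⟩
  have h3 : (⊤ : Subgroup G) ≤ S := hs ▸ sup_le hA hB
  exact h3 (Subgroup.mem_top g)

/-- A finite 2-group whose centre has at most one nontrivial element is indecomposable. -/
theorem not_decomp_of_center {G : Type u} [Group G] [Finite G] (hG : IsPGroup 2 G) (z : G)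
    (hz : ∀ x ∈ Subgroup.center G, x = 1 ∨ x = z) : ¬ Decomp G := by
  rintro ⟨A, B, hA, hB, hc, hi, hs⟩
  have key : ∀ (A B : Subgroup G), A ≠ ⊥ → (∀ a ∈ A, ∀ b ∈ B, a * b = b * a) → A ⊔ B = ⊤ →
      z ∈ A ∧ z ≠ 1 := by
    intro A B hA hc hs
    haveI : Nontrivial ↥A := (Subgroup.nontrivial_iff_ne_bot A).2 hA
    haveI : Fact (Nat.Prime 2) := ⟨Nat.prime_two⟩
    have hAp : IsPGroup 2 ↥A := hG.to_subgroup A
    haveI := hAp.center_nontrivial
    obtain ⟨⟨a, haZ⟩, ha1⟩ := exists_ne (1 : ↥(Subgroup.center ↥A))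
    have hacen : (a : G) ∈ Subgroup.center G := by
      apply mem_center_of_sup_eq_top hs
      · intro a' ha'
        have := Subgroup.mem_center_iff.1 haZ ⟨a', ha'⟩
        exact congrArg Subtype.val this
      · intro b hb
        exact (hc a a.2 b hb).symm
    have hane : (a : G) ≠ 1 := by
      intro h
      apply ha1
      apply Subtype.ext
      apply Subtype.ext
      exact h
    rcases hz _ hacen with h | h
    · exact absurd h hane
    · exact ⟨h ▸ a.2, h ▸ hane⟩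
  obtain ⟨hzA, hz1⟩ := key A B hA hc hs
  obtain ⟨hzB, _⟩ := key B A hB (fun b hb a ha => (hc a ha b hb).symm) (by rw [sup_comm]; exact hs)
  have : z ∈ A ⊓ B := ⟨hzA, hzB⟩
  rw [hi, Subgroup.mem_bot] at this
  exact hz1 this

/-- Transport of kernels along an isomorphism. -/
def kerEquiv {G : Type u} {H : Type v} {Z : Type w} [Group G] [Group H] [Group Z] (φ : G ≃* H)
    (f : G →* Z) (g : H →* Z) (h : ∀ x, g (φ x) = f x) : ↥f.ker ≃* ↥g.ker where
  toFun x := ⟨φ (x : G), by rw [MonoidHom.mem_ker, h]; exact x.2⟩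
  invFun y := ⟨φ.symm (y : H), by rw [MonoidHom.mem_ker, ← h, φ.apply_symm_apply]; exact y.2⟩
  left_inv x := Subtype.ext (φ.symm_apply_apply (x : G))
  right_inv y := Subtype.ext (φ.apply_symm_apply (y : H))
  map_mul' x y := Subtype.ext (map_mul φ (x : G) (y : G))

section signker

variable {ι : Type u} [Fintype ι] [DecidableEq ι] {G : ι → Type v} [∀ i, Group (G i)]

/-- The product of a family of characters with values in `ℤˣ`. -/
def piSign (e : ∀ i, G i →* ℤˣ) : (∀ i, G i) →* ℤˣ where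
  toFun w := ∏ i, e i (w i)
  map_one' := by simp
  map_mul' a b := by simp [Finset.prod_mul_distrib]

theorem piSign_apply (e : ∀ i, G i →* ℤˣ) (w : ∀ i, G i) : piSign e w = ∏ i, e i (w i) := rfl

theorem piSign_mulSingle (e : ∀ i, G i →* ℤˣ) (i : ι) (g : G i) :
    piSign e (Pi.mulSingle i g) = e i g := by
  rw [piSign_apply, Finset.prod_eq_single i]
  · rw [Pi.mulSingle_eq_same]
  · intro j _ hj
    rw [Pi.mulSingle_eq_of_ne hj, map_one]
  · intro h
    exact absurd (Finset.mem_univ i) h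

/-- The partial product of a family of characters. -/
def piSignOn (e : ∀ i, G i →* ℤˣ) (I : Finset ι) : (∀ i, G i) →* ℤˣ where
  toFun w := ∏ i ∈ I, e i (w i)
  map_one' := by simp
  map_mul' a b := by simp [Finset.prod_mul_distrib]

theorem piSignOn_apply (e : ∀ i, G i →* ℤˣ) (I : Finset ι) (w : ∀ i, G i) :
    piSignOn e I w = ∏ i ∈ I, e i (w i) := rfl

/-- **Indecomposability of sign kernels.** -/
theorem not_decomp_signKer (e : ∀ i, G i →* ℤˣ)
    (hL : ∀ i, ∀ X Y : Subgroup (G i), (∀ x ∈ X, ∀ y ∈ Y, x * y = y * x) → X ⊔ Y = ⊤ →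
      X ≤ Subgroup.center (G i) ∨ Y ≤ Subgroup.center (G i))
    (hZ : ∀ i, ∀ z ∈ Subgroup.center (G i), ∃ r s : G i, z = r * s * r⁻¹ * s⁻¹ ∧ e i s = 1)
    (hS : ∀ i, (∃ x : G i, x ≠ 1) → ∃ t : G i, e i t = -1)
    (hG : ∃ i j : ι, i ≠ j ∧ (∃ t : G i, e i t = -1) ∧ (∃ t : G j, e j t = -1)) :
    ¬ Decomp ↥(piSign e).ker := by
  classical
  set Q := (piSign e).ker with hQ
  have hZe : ∀ i, ∀ z ∈ Subgroup.center (G i), e i z = 1 := by
    intro i z hz
    obtain ⟨r, s, rfl, _⟩ := hZ i z hz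
    rw [map_mul, map_mul, map_mul, map_inv, map_inv, mul_inv_cancel_comm, mul_inv_cancel]
  have hpart : ∀ i, ∃ i', i' ≠ i ∧ ∃ t : G i', e i' t = -1 := by
    obtain ⟨i0, j0, hne, h1, h2⟩ := hG
    intro i
    by_cases h : i0 = i
    · exact ⟨j0, fun h' => hne (h.trans h'.symm), h2⟩
    · exact ⟨i0, h, h1⟩
  have hmem1 : ∀ i (g : G i), e i g = 1 → Pi.mulSingle i g ∈ Q := fun i g hg => by
    rw [hQ, MonoidHom.mem_ker, piSign_mulSingle, hg]
  have hmem2 : ∀ i i' (g : G i) (t : G i'), e i g = e i' t →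
      Pi.mulSingle i g * Pi.mulSingle i' t ∈ Q := fun i i' g t hgt => by
    rw [hQ, MonoidHom.mem_ker, map_mul, piSign_mulSingle, piSign_mulSingle, hgt, Int.units_mul_self]
  let p : ∀ i, ↥Q →* G i := fun i => (Pi.evalMonoidHom G i).comp Q.subtype
  have hp_apply : ∀ i (q : ↥Q), p i q = (q : ∀ i, G i) i := fun i q => rfl
  have hp_surj : ∀ i, Function.Surjective (p i) := by
    intro i g
    rcases Int.units_eq_one_or (e i g) with hg | hg
    · refine ⟨⟨_, hmem1 i g hg⟩, ?_⟩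
      rw [hp_apply]
      exact Pi.mulSingle_eq_same i g
    · obtain ⟨i', hne, t, ht⟩ := hpart i
      refine ⟨⟨_, hmem2 i i' g t (hg.trans ht.symm)⟩, ?_⟩
      rw [hp_apply]
      show (Pi.mulSingle i g * Pi.mulSingle i' t) i = g
      rw [Pi.mul_apply, Pi.mulSingle_eq_same, Pi.mulSingle_eq_of_ne hne.symm, mul_one]
  rintro ⟨A, B, hA, hB, hc, hi, hs⟩
  have hXY : ∀ i, (A.map (p i)) ≤ Subgroup.center (G i) ∨ (B.map (p i)) ≤ Subgroup.center (G i) := by
    intro i
    apply hL i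
    · rintro _ ⟨a, ha, rfl⟩ _ ⟨b, hb, rfl⟩
      rw [← map_mul, ← map_mul, hc a ha b hb]
    · rw [← Subgroup.map_sup, hs]
      exact Subgroup.map_top_of_surjective _ (hp_surj i)
  have hcentral : ∀ (A B : Subgroup ↥Q), (∀ a ∈ A, ∀ b ∈ B, a * b = b * a) → A ⊓ B = ⊥ →
      A ⊔ B = ⊤ → (∀ i, B.map (p i) ≤ Subgroup.center (G i)) → B = ⊥ := by
    intro A B hc hi hs hB
    have hBc : ∀ b ∈ B, ∀ g : ↥Q, b * g = g * b := by
      intro b hb g
      apply Subtype.ext
      funext i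
      have : (b : ∀ i, G i) i ∈ Subgroup.center (G i) := hB i ⟨b, hb, rfl⟩
      exact ((Subgroup.mem_center_iff.1 this) ((g : ∀ i, G i) i)).symm
    have hcomm : ∀ u v : ↥Q, u * v * u⁻¹ * v⁻¹ ∈ A := by
      intro u v
      obtain ⟨a, ha, b, hb, rfl⟩ := exists_mul_of_sup_eq_top hc hs u
      obtain ⟨a', ha', b', hb', rfl⟩ := exists_mul_of_sup_eq_top hc hs v
      have c1 : ∀ g : ↥Q, b * g * b⁻¹ = g := fun g => by rw [hBc b hb g, mul_inv_cancel_right]
      have c2 : ∀ g : ↥Q, b' * g * b'⁻¹ = g := fun g => by rw [hBc b' hb' g, mul_inv_cancel_right]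
      have e1 : a * b * (a' * b') * (a * b)⁻¹ * (a' * b')⁻¹ = a * a' * a⁻¹ * a'⁻¹ := by
        calc a * b * (a' * b') * (a * b)⁻¹ * (a' * b')⁻¹
            = a * (b * (a' * b') * b⁻¹) * a⁻¹ * (a' * b')⁻¹ := by group
          _ = a * (a' * b') * a⁻¹ * (a' * b')⁻¹ := by rw [c1]
          _ = a * a' * (b' * a⁻¹ * b'⁻¹) * a'⁻¹ := by group
          _ = a * a' * a⁻¹ * a'⁻¹ := by rw [c2]
      rw [e1]
      exact A.mul_mem (A.mul_mem (A.mul_mem ha ha') (A.inv_mem ha)) (A.inv_mem ha')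
    have hBA : ∀ b ∈ B, b ∈ A := by
      intro b hb
      have hbA : (b : ∀ i, G i) ∈ A.map Q.subtype := by
        apply Subgroup.pi_mem_of_mulSingle_mem
        intro i
        have hz : (b : ∀ i, G i) i ∈ Subgroup.center (G i) := hB i ⟨b, hb, rfl⟩
        obtain ⟨r, s, hrs, hs1⟩ := hZ i _ hz
        obtain ⟨i', hne, t, ht⟩ := hpart i
        obtain ⟨t', ht'⟩ : ∃ t' : G i', e i r = e i' t' := by
          rcases Int.units_eq_one_or (e i r) with h | h
          · exact ⟨1, by rw [map_one, h]⟩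
          · exact ⟨t, by rw [ht, h]⟩
        have hR : Pi.mulSingle i r * Pi.mulSingle i' t' ∈ Q := hmem2 i i' r t' ht'
        have hS' : Pi.mulSingle i s ∈ Q := hmem1 i s hs1
        refine ⟨(⟨_, hR⟩ : ↥Q) * ⟨_, hS'⟩ * (⟨_, hR⟩ : ↥Q)⁻¹ * (⟨_, hS'⟩ : ↥Q)⁻¹, hcomm _ _, ?_⟩
        rw [hrs]
        funext k
        simp only [Subgroup.coe_subtype, Subgroup.coe_mul, Subgroup.coe_inv, Pi.mul_apply,
          Pi.inv_apply]
        by_cases hk : k = i
        · subst hk
          rw [Pi.mulSingle_eq_same, Pi.mulSingle_eq_same, Pi.mulSingle_eq_of_ne hne.symm,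
            Pi.mulSingle_eq_same, mul_one]
        · rw [Pi.mulSingle_eq_of_ne hk, Pi.mulSingle_eq_of_ne hk, Pi.mulSingle_eq_of_ne hk]
          by_cases hk' : k = i'
          · subst hk'
            rw [Pi.mulSingle_eq_same]
            group
          · rw [Pi.mulSingle_eq_of_ne hk']
            group
      obtain ⟨a, ha, hab⟩ := hbA
      have : a = b := Subtype.ext hab
      exact this ▸ ha
    rw [Subgroup.eq_bot_iff_forall]
    intro b hb
    have : b ∈ A ⊓ B := ⟨hBA b hb, hb⟩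
    rwa [hi, Subgroup.mem_bot] at this
  by_cases h1 : ∀ i, B.map (p i) ≤ Subgroup.center (G i)
  · exact hB (hcentral A B hc hi hs h1)
  by_cases h2 : ∀ i, A.map (p i) ≤ Subgroup.center (G i)
  · exact hA (hcentral B A (fun b hb a ha => (hc a ha b hb).symm) (by rw [inf_comm]; exact hi)
      (by rw [sup_comm]; exact hs) h2)
  push Not at h1 h2
  obtain ⟨i0, hi0⟩ := h1
  obtain ⟨j0, hj0⟩ := h2
  let I : Finset ι := Finset.univ.filter (fun i => B.map (p i) ≤ Subgroup.center (G i))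
  have hI : ∀ i, i ∈ I ↔ B.map (p i) ≤ Subgroup.center (G i) := fun i => by
    simp only [I, Finset.mem_filter, Finset.mem_univ, true_and]
  have hi0I : i0 ∉ I := fun h => hi0 ((hI i0).1 h)
  have hj0I : j0 ∈ I := (hI j0).2 ((hXY j0).resolve_left hj0)
  have hchi : ∀ q : ↥Q, piSignOn e I (q : ∀ i, G i) = 1 := by
    have hle : (⊤ : Subgroup ↥Q) ≤ ((piSignOn e I).comp Q.subtype).ker := by
      rw [← hs]
      apply sup_le
      · intro a ha
        rw [MonoidHom.mem_ker, MonoidHom.comp_apply]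
        have hall : piSign e (a : ∀ i, G i) = 1 := a.2
        rw [← hall]
        show ∏ i ∈ I, e i ((a : ∀ i, G i) i) = ∏ i, e i ((a : ∀ i, G i) i)
        apply Finset.prod_subset (Finset.subset_univ _)
        intro i _ hiI
        have hnB : ¬ B.map (p i) ≤ Subgroup.center (G i) := fun h => hiI ((hI i).2 h)
        have hX := (hXY i).resolve_right hnB
        exact hZe i _ (hX ⟨a, ha, rfl⟩)
      · intro b hb
        rw [MonoidHom.mem_ker, MonoidHom.comp_apply]
        show ∏ i ∈ I, e i ((b : ∀ i, G i) i) = 1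
        apply Finset.prod_eq_one
        intro i hiI
        exact hZe i _ ((hI i).1 hiI ⟨b, hb, rfl⟩)
    intro q
    exact hle (Subgroup.mem_top q)
  have hnt_i0 : ∃ x : G i0, x ≠ 1 := by
    by_contra hcon
    push Not at hcon
    apply hi0
    rintro _ ⟨b, _, rfl⟩
    rw [hcon (p i0 b)]
    exact Subgroup.one_mem _
  have hnt_j0 : ∃ x : G j0, x ≠ 1 := by
    by_contra hcon
    push Not at hcon
    apply hj0
    rintro _ ⟨b, _, rfl⟩
    rw [hcon (p j0 b)]
    exact Subgroup.one_mem _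
  obtain ⟨t1, ht1⟩ := hS i0 hnt_i0
  obtain ⟨t2, ht2⟩ := hS j0 hnt_j0
  have hq := hchi ⟨_, hmem2 i0 j0 t1 t2 (ht1.trans ht2.symm)⟩
  rw [map_mul] at hq
  have e1 : piSignOn e I (Pi.mulSingle i0 t1) = 1 := by
    show ∏ i ∈ I, e i (Pi.mulSingle i0 t1 i) = 1
    apply Finset.prod_eq_one
    intro i hiI
    have : i ≠ i0 := fun h => hi0I (h ▸ hiI)
    rw [Pi.mulSingle_eq_of_ne this, map_one]
  have e2 : piSignOn e I (Pi.mulSingle j0 t2) = -1 := by
    show ∏ i ∈ I, e i (Pi.mulSingle j0 t2 i) = -1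
    rw [Finset.prod_eq_single j0]
    · rw [Pi.mulSingle_eq_same, ht2]
    · intro i _ hij
      rw [Pi.mulSingle_eq_of_ne hij, map_one]
    · intro h
      exact absurd hj0I h
  rw [e1, e2] at hq
  exact absurd hq (by decide)

/-- A product with two nontrivial factors is decomposable. -/
theorem decomp_pi_of_two {i j : ι} (hij : i ≠ j) (hi : ∃ x : G i, x ≠ 1) (hj : ∃ x : G j, x ≠ 1) :
    Decomp (∀ i, G i) := by
  classical
  obtain ⟨x, hx⟩ := hi
  obtain ⟨y, hy⟩ := hj
  refine ⟨(MonoidHom.mulSingle G i).range, (Pi.evalMonoidHom G i).ker, ?_, ?_, ?_, ?_, ?_⟩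
  · intro h
    have h1 : Pi.mulSingle i x ∈ (MonoidHom.mulSingle G i).range := ⟨x, rfl⟩
    rw [h, Subgroup.mem_bot] at h1
    apply hx
    have h2 := congrFun h1 i
    rwa [Pi.mulSingle_eq_same] at h2
  · intro h
    have h1 : Pi.mulSingle j y ∈ (Pi.evalMonoidHom G i).ker := by
      rw [MonoidHom.mem_ker]
      show Pi.mulSingle j y i = 1
      exact Pi.mulSingle_eq_of_ne hij y
    rw [h, Subgroup.mem_bot] at h1
    apply hy
    have h2 := congrFun h1 j
    rwa [Pi.mulSingle_eq_same] at h2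
  · rintro _ ⟨a, rfl⟩ b hb
    have hb' : b i = 1 := hb
    funext k
    show Pi.mulSingle i a k * b k = b k * Pi.mulSingle i a k
    by_cases hk : k = i
    · subst hk
      rw [Pi.mulSingle_eq_same, hb', mul_one, one_mul]
    · rw [Pi.mulSingle_eq_of_ne hk, mul_one, one_mul]
  · rw [Subgroup.eq_bot_iff_forall]
    rintro w ⟨⟨a, rfl⟩, hw⟩
    have hw' : Pi.mulSingle i a i = 1 := hw
    rw [Pi.mulSingle_eq_same] at hw'
    subst hw'
    exact Pi.mulSingle_one i
  · rw [eq_top_iff]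
    intro w _
    have hw : w = Pi.mulSingle i (w i) * Function.update w i 1 := by
      funext k
      rw [Pi.mul_apply]
      by_cases hk : k = i
      · subst hk
        rw [Pi.mulSingle_eq_same, Function.update_self, mul_one]
      · rw [Pi.mulSingle_eq_of_ne hk, Function.update_of_ne hk, one_mul]
    rw [hw]
    refine Subgroup.mul_mem_sup ⟨w i, rfl⟩ ?_
    rw [MonoidHom.mem_ker]
    show Function.update w i 1 i = 1
    exact Function.update_self i 1 w

end signker

end Cfsg.Agent.H9SylDec
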