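import Mathlib
import Cfsg.Agent.Lib.Helper9.SylAlt_Abs

/-!
# Wreath products `D ≀ᵣ ℤˣ` with the group of order two (for S2221)

Explicit element calculus, the centre, and the key lemma `wr_central_factor`:
`D ≀ᵣ ℤˣ` is never a nontrivial central product.
-/

set_option autoImplicit false

namespace Cfsg.Agent.H9SylDec

open RegularWreathProduct

universe u

variable {D : Type u} [Group D]

theorem units_neg_one_ne_one : (-1 : ℤˣ) ≠ 1 := by decide

theorem wr_mul_left (a b : D ≀ᵣ ℤˣ) (x : ℤˣ) :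
    (a * b).left x = a.left x * b.left (a.right * x) := by
  rw [RegularWreathProduct.mul_left, Pi.mul_apply, Int.units_inv_eq_self]

theorem wr_mul_right (a b : D ≀ᵣ ℤˣ) : (a * b).right = a.right * b.right := rfl

theorem wr_inv_left (a : D ≀ᵣ ℤˣ) (x : ℤˣ) : (a⁻¹).left x = (a.left (a.right * x))⁻¹ := by
  rw [RegularWreathProduct.inv_left]
  rfl

theorem wr_inv_right (a : D ≀ᵣ ℤˣ) : (a⁻¹).right = a.right := by
  rw [RegularWreathProduct.inv_right, Int.units_inv_eq_self]

theorem wr_one_left (x : ℤˣ) : (1 : D ≀ᵣ ℤˣ).left x = 1 := rfl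

theorem wr_one_right : (1 : D ≀ᵣ ℤˣ).right = 1 := rfl

theorem wr_ext {a b : D ≀ᵣ ℤˣ} (h1 : a.left 1 = b.left 1) (h2 : a.left (-1) = b.left (-1))
    (h3 : a.right = b.right) : a = b := by
  apply RegularWreathProduct.ext
  · funext q
    rcases Int.units_eq_one_or q with rfl | rfl
    · exact h1
    · exact h2
  · exact h3

/-- The element with components `a`, `b` and top part `q`. -/
def mk2 (a b : D) (q : ℤˣ) : D ≀ᵣ ℤˣ := ⟨fun x => if x = 1 then a else b, q⟩

@[simp] theorem mk2_left_one (a b : D) (q : ℤˣ) : (mk2 a b q).left 1 = a := by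
  show (if (1 : ℤˣ) = 1 then a else b) = a
  exact if_pos rfl

@[simp] theorem mk2_left_neg (a b : D) (q : ℤˣ) : (mk2 a b q).left (-1) = b := by
  show (if (-1 : ℤˣ) = 1 then a else b) = b
  exact if_neg units_neg_one_ne_one

@[simp] theorem mk2_right (a b : D) (q : ℤˣ) : (mk2 a b q).right = q := rfl

theorem eq_mk2 (w : D ≀ᵣ ℤˣ) : w = mk2 (w.left 1) (w.left (-1)) w.right :=
  wr_ext (mk2_left_one _ _ _).symm (mk2_left_neg _ _ _).symm rfl

theorem mk2_one : mk2 (1 : D) 1 1 = 1 := wr_ext rfl (by rw [mk2_left_neg]; rfl) rfl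

/-- The diagonal embedding. -/
def diagHom : D →* D ≀ᵣ ℤˣ where
  toFun c := mk2 c c 1
  map_one' := mk2_one
  map_mul' a b := by
    apply wr_ext
    · rw [wr_mul_left, mk2_left_one, mk2_left_one, mk2_right, one_mul, mk2_left_one]
    · rw [wr_mul_left, mk2_left_neg, mk2_left_neg, mk2_right, one_mul, mk2_left_neg]
    · rw [wr_mul_right, mk2_right, mk2_right, mk2_right, one_mul]

theorem diagHom_apply (c : D) : diagHom c = mk2 c c 1 := rfl

theorem diag_mem_center {c : D} (hc : c ∈ Subgroup.center D) :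
    mk2 c c 1 ∈ Subgroup.center (D ≀ᵣ ℤˣ) := by
  rw [Subgroup.mem_center_iff]
  intro g
  have h := Subgroup.mem_center_iff.1 hc
  apply wr_ext
  · rw [wr_mul_left, wr_mul_left, mk2_right, one_mul, mk2_left_one]
    rcases Int.units_eq_one_or g.right with hg | hg
    · rw [hg, mul_one, mk2_left_one]; exact h _
    · rw [hg, mul_one, mk2_left_neg]; exact h _
  · rw [wr_mul_left, wr_mul_left, mk2_right, one_mul, mk2_left_neg]
    rcases Int.units_eq_one_or g.right with hg | hg
    · rw [hg, one_mul, mk2_left_neg]; exact h _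
    · rw [hg, neg_mul_neg, one_mul, mk2_left_one]; exact h _
  · rw [wr_mul_right, wr_mul_right, mk2_right, mul_one, one_mul]

theorem mem_center_of_diag {w : D ≀ᵣ ℤˣ} (h1 : w.right = 1) (h2 : w.left (-1) = w.left 1)
    (h3 : w.left 1 ∈ Subgroup.center D) : w ∈ Subgroup.center (D ≀ᵣ ℤˣ) := by
  have : w = mk2 (w.left 1) (w.left 1) 1 := by
    apply wr_ext
    · rw [mk2_left_one]
    · rw [mk2_left_neg, h2]
    · rw [mk2_right, h1]
  rw [this]
  exact diag_mem_center h3

/-- If `x ∈ X` has nontrivial top part, `X` is normal and `y` with trivial top part centralizes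
`X`, then `y` is central. -/
theorem wr_claim1 {X : Subgroup (D ≀ᵣ ℤˣ)} (hXn : ∀ g, ∀ x ∈ X, g * x * g⁻¹ ∈ X)
    {x : D ≀ᵣ ℤˣ} (hx : x ∈ X) (hxr : x.right = -1)
    {y : D ≀ᵣ ℤˣ} (hy : ∀ x ∈ X, x * y = y * x) (hyr : y.right = 1) :
    y ∈ Subgroup.center (D ≀ᵣ ℤˣ) := by
  have h1 : x.left 1 * y.left (-1) = y.left 1 * x.left 1 := by
    have h := congrArg (fun w => w.left 1) (hy x hx)
    simp only [wr_mul_left, hxr, hyr, mul_one, one_mul] at h
    exact h
  have h2 : ∀ u : D, u * x.left 1 * y.left (-1) = y.left 1 * (u * x.left 1) := by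
    intro u
    have hx' := hXn (mk2 u 1 1) x hx
    have h := congrArg (fun w => w.left 1) (hy _ hx')
    simp only [wr_mul_left, wr_mul_right, wr_inv_left, wr_inv_right, hxr, hyr, mk2_right,
      mk2_left_one, mk2_left_neg, mul_one, one_mul, inv_one] at h
    exact h
  have hcen : ∀ u : D, u * y.left 1 = y.left 1 * u := by
    intro u
    have h := h2 u
    rw [mul_assoc u, h1, ← mul_assoc, ← mul_assoc] at h
    exact mul_right_cancel h
  have hc : y.left 1 ∈ Subgroup.center D := Subgroup.mem_center_iff.2 hcen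
  have hd : y.left (-1) = y.left 1 := by
    rw [← hcen (x.left 1)] at h1
    exact mul_left_cancel h1
  exact mem_center_of_diag hyr hd hc

/-- **Key lemma.** The wreath product `D ≀ᵣ ℤˣ` is not a nontrivial central product. -/
theorem wr_central_factor (X Y : Subgroup (D ≀ᵣ ℤˣ))
    (hc : ∀ x ∈ X, ∀ y ∈ Y, x * y = y * x) (hXY : X ⊔ Y = ⊤) :
    X ≤ Subgroup.center (D ≀ᵣ ℤˣ) ∨ Y ≤ Subgroup.center (D ≀ᵣ ℤˣ) := by
  -- normality of `X` and `Y`
  have hnorm : ∀ (X Y : Subgroup (D ≀ᵣ ℤˣ)), (∀ x ∈ X, ∀ y ∈ Y, x * y = y * x) → X ⊔ Y = ⊤ →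
      ∀ g, ∀ x ∈ X, g * x * g⁻¹ ∈ X := by
    intro X Y hc hXY g x hx
    obtain ⟨a, ha, b, hb, rfl⟩ := exists_mul_of_sup_eq_top hc hXY g
    have e1 : a * b * x * (a * b)⁻¹ = a * (b * x * b⁻¹) * a⁻¹ := by group
    have e2 : b * x * b⁻¹ = x := by rw [← hc x hx b hb, mul_inv_cancel_right]
    rw [e1, e2]
    exact X.mul_mem (X.mul_mem ha hx) (X.inv_mem ha)
  have hXn := hnorm X Y hc hXY
  have hYn := hnorm Y X (fun y hy x hx => (hc x hx y hy).symm) (by rw [sup_comm]; exact hXY)
  by_cases hX : ∃ x ∈ X, x.right = -1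
  · obtain ⟨x0, hx0, hx0r⟩ := hX
    by_cases hY : ∃ y ∈ Y, y.right = -1
    · obtain ⟨y0, hy0, hy0r⟩ := hY
      -- both have elements outside the base group: `X` is central
      left
      have hXH : ∀ x ∈ X, x.right = 1 → x ∈ Subgroup.center (D ≀ᵣ ℤˣ) := fun x hx hxr =>
        wr_claim1 hYn hy0 hy0r (fun y hy => (hc x hx y hy).symm) hxr
      intro x hx
      apply mem_center_of_sup_eq_top hXY
      · intro x' hx'
        rcases Int.units_eq_one_or x.right with hr | hr
        · exact (Subgroup.mem_center_iff.1 (hXH x hx hr) x')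
        · rcases Int.units_eq_one_or x'.right with hr' | hr'
          · exact (Subgroup.mem_center_iff.1 (hXH x' hx' hr') x).symm
          · -- x⁻¹ * x' has trivial top part
            have hcz : x⁻¹ * x' ∈ Subgroup.center (D ≀ᵣ ℤˣ) := by
              apply hXH _ (X.mul_mem (X.inv_mem hx) hx')
              rw [wr_mul_right, wr_inv_right, hr, hr', neg_mul_neg, one_mul]
            have hcz' := Subgroup.mem_center_iff.1 hcz x
            -- x * (x⁻¹ * x') = (x⁻¹ * x') * x
            calc x' * x = x * (x⁻¹ * x') * x := by group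
              _ = x * ((x⁻¹ * x') * x) := by rw [mul_assoc]
              _ = x * (x * (x⁻¹ * x')) := by rw [← hcz']
              _ = x * x' := by group
      · intro y hy
        exact (hc x hx y hy).symm
    · right
      push Not at hY
      intro y hy
      have hyr : y.right = 1 := (Int.units_eq_one_or y.right).resolve_right (hY y hy)
      exact wr_claim1 hXn hx0 hx0r (fun x hx => hc x hx y hy) hyr
  · push Not at hX
    by_cases hY : ∃ y ∈ Y, y.right = -1
    · obtain ⟨y0, hy0, hy0r⟩ := hY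
      left
      intro x hx
      have hxr : x.right = 1 := (Int.units_eq_one_or x.right).resolve_right (hX x hx)
      exact wr_claim1 hYn hy0 hy0r (fun y hy => (hc x hx y hy).symm) hxr
    · push Not at hY
      exfalso
      have hXk : X ≤ (rightHom : D ≀ᵣ ℤˣ →* ℤˣ).ker := fun x hx =>
        MonoidHom.mem_ker.2 ((Int.units_eq_one_or x.right).resolve_right (hX x hx))
      have hYk : Y ≤ (rightHom : D ≀ᵣ ℤˣ →* ℤˣ).ker := fun y hy =>
        MonoidHom.mem_ker.2 ((Int.units_eq_one_or y.right).resolve_right (hY y hy))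
      have h3 : (⊤ : Subgroup (D ≀ᵣ ℤˣ)) ≤ (rightHom : D ≀ᵣ ℤˣ →* ℤˣ).ker :=
        hXY ▸ sup_le hXk hYk
      have h4 := h3 (Subgroup.mem_top (mk2 (1 : D) 1 (-1)))
      rw [MonoidHom.mem_ker] at h4
      exact units_neg_one_ne_one h4

/-- The centre of `D ≀ᵣ ℤˣ` for nontrivial `D`. -/
theorem wr_mem_center_iff (hD : ∃ d : D, d ≠ 1) (w : D ≀ᵣ ℤˣ) :
    w ∈ Subgroup.center (D ≀ᵣ ℤˣ) ↔
      w.right = 1 ∧ w.left (-1) = w.left 1 ∧ w.left 1 ∈ Subgroup.center D := by
  constructor
  · intro hw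
    have hw' := Subgroup.mem_center_iff.1 hw
    have hr : w.right = 1 := by
      rcases Int.units_eq_one_or w.right with h | h
      · exact h
      · exfalso
        obtain ⟨d, hd⟩ := hD
        have h1 := congrArg (fun v => v.left 1) (hw' (mk2 d 1 1))
        simp only [wr_mul_left, mk2_right, mk2_left_one, mk2_left_neg, h, mul_one, one_mul] at h1
        exact hd (mul_right_cancel (h1.trans (one_mul _).symm))
    refine ⟨hr, ?_, ?_⟩
    · have h1 := congrArg (fun v => v.left 1) (hw' (mk2 1 1 (-1)))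
      simp only [wr_mul_left, mk2_right, mk2_left_one, hr, mul_one, one_mul] at h1
      exact h1
    · rw [Subgroup.mem_center_iff]
      intro u
      have h1 := congrArg (fun v => v.left 1) (hw' (mk2 u 1 1))
      simp only [wr_mul_left, mk2_right, mk2_left_one, hr, mul_one, one_mul] at h1
      exact h1
  · rintro ⟨h1, h2, h3⟩
    exact mem_center_of_diag h1 h2 h3

/-- Elements centralizing the kernel of `E(w) = e(w₁) e(w₋₁)` are diagonal central. -/
theorem wr_center_of_kernel (e : D →* ℤˣ) (E : D ≀ᵣ ℤˣ →* ℤˣ)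
    (hE : ∀ w, E w = e (w.left 1) * e (w.left (-1)))
    (hx0 : ∃ x0 : D, x0 ≠ 1 ∧ e x0 = 1) (ht : ∃ t : D, e t = -1)
    (c : D ≀ᵣ ℤˣ) (hc : ∀ q, E q = 1 → q * c = c * q) :
    c.right = 1 ∧ c.left (-1) = c.left 1 ∧ c.left 1 ∈ Subgroup.center D := by
  obtain ⟨x0, hx0, hex0⟩ := hx0
  obtain ⟨t, ht⟩ := ht
  have hr : c.right = 1 := by
    rcases Int.units_eq_one_or c.right with h | h
    · exact h
    · exfalso
      have hq : E (mk2 x0 1 1) = 1 := by
        rw [hE, mk2_left_one, mk2_left_neg, hex0, map_one, mul_one]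
      have h1 := congrArg (fun v => v.left 1) (hc _ hq)
      simp only [wr_mul_left, mk2_right, mk2_left_one, mk2_left_neg, h, mul_one, one_mul] at h1
      exact hx0 (mul_right_cancel (h1.trans (one_mul _).symm))
  refine ⟨hr, ?_, ?_⟩
  · have hq : E (mk2 1 1 (-1)) = 1 := by
      rw [hE, mk2_left_one, mk2_left_neg, map_one, mul_one]
    have h1 := congrArg (fun v => v.left 1) (hc _ hq)
    simp only [wr_mul_left, mk2_right, mk2_left_one, hr, mul_one, one_mul] at h1
    exact h1
  · rw [Subgroup.mem_center_iff]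
    intro u
    rcases Int.units_eq_one_or (e u) with hu | hu
    · have hq : E (mk2 u 1 1) = 1 := by
        rw [hE, mk2_left_one, mk2_left_neg, hu, map_one, mul_one]
      have h1 := congrArg (fun v => v.left 1) (hc _ hq)
      simp only [wr_mul_left, mk2_right, mk2_left_one, hr, mul_one, one_mul] at h1
      exact h1
    · have hq : E (mk2 u t 1) = 1 := by
        rw [hE, mk2_left_one, mk2_left_neg, hu, ht, neg_mul_neg, one_mul]
      have h1 := congrArg (fun v => v.left 1) (hc _ hq)
      simp only [wr_mul_left, mk2_right, mk2_left_one, hr, mul_one, one_mul] at h1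
      exact h1

end Cfsg.Agent.H9SylDec
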