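import Mathlib
import Cfsg.Agent.Lib.Helper9.SylAlt_Wr

/-!
# The iterated wreath products `W k` of groups of order two and their sign characters (for S2221)
-/

set_option autoImplicit false

namespace Cfsg.Agent.H9SylDec

open RegularWreathProduct

/-- The iterated wreath product of `k` copies of the group `ℤˣ` of order 2
(a Sylow 2-subgroup of the symmetric group of degree `2 ^ k`). -/
abbrev W (k : ℕ) : Type := IteratedWreathProduct ℤˣ k

instance instSubsingletonWZero : Subsingleton (IteratedWreathProduct ℤˣ 0) :=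
  inferInstanceAs (Subsingleton PUnit)

/-- The sign character of `W k` in its action on `2 ^ k` points. -/
noncomputable def eps (k : ℕ) : W k →* ℤˣ :=
  Equiv.Perm.sign.comp (iteratedWreathToPermHom ℤˣ k)

theorem eps_zero (w : W 0) : eps 0 w = 1 := by
  have : w = 1 := Subsingleton.elim _ _
  rw [this, map_one]

theorem sign_mulLeft_units (u : ℤˣ) : Equiv.Perm.sign (Equiv.mulLeft u) = u := by
  rcases Int.units_eq_one_or u with rfl | rfl
  · have : Equiv.mulLeft (1 : ℤˣ) = 1 := by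
      ext x
      simp
    rw [this, map_one]
  · have : Equiv.mulLeft (-1 : ℤˣ) = Equiv.swap 1 (-1) := by
      ext x
      rcases Int.units_eq_one_or x with rfl | rfl
      · simp
      · simp
    rw [this, Equiv.Perm.sign_swap (by decide)]

theorem prod_units {M : Type*} [CommMonoid M] (f : ℤˣ → M) : ∏ q, f q = f 1 * f (-1) := by
  apply Fintype.prod_eq_mul 1 (-1) (by decide)
  intro x hx
  rcases Int.units_eq_one_or x with h | h
  · exact absurd h hx.1
  · exact absurd h hx.2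

theorem eps_succ (k : ℕ) (w : W k ≀ᵣ ℤˣ) :
    eps (k + 1) w = eps k (w.left 1) * eps k (w.left (-1)) * (if k = 0 then w.right else 1) := by
  letI : MulAction (W k) (Fin k → ℤˣ) :=
    MulAction.compHom (Fin k → ℤˣ) (iteratedWreathToPermHom ℤˣ k)
  have h0 : eps (k + 1) w =
      Equiv.Perm.sign (RegularWreathProduct.toPerm (W k) ℤˣ (Fin k → ℤˣ) w) := by
    show Equiv.Perm.sign ((Fin.succFunEquiv ℤˣ k).symm.permCongr _) = _
    exact Equiv.Perm.sign_permCongr _ _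
  have h1 : RegularWreathProduct.toPerm (W k) ℤˣ (Fin k → ℤˣ) w =
      (Equiv.prodCongrLeft (fun q : ℤˣ => iteratedWreathToPermHom ℤˣ k (w.left q))) *
      (Equiv.prodCongrRight (fun _ : Fin k → ℤˣ => Equiv.mulLeft w.right)) := by
    ext ⟨l, q⟩ <;> rfl
  have h2 : ∀ d : W k, Equiv.Perm.sign (iteratedWreathToPermHom ℤˣ k d) = eps k d := fun d => rfl
  rw [h0, h1, map_mul, Equiv.Perm.sign_prodCongrLeft, Equiv.Perm.sign_prodCongrRight, prod_units,
    Finset.prod_const, Finset.card_univ, sign_mulLeft_units, h2, h2]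
  congr 1
  have hcard : Fintype.card (Fin k → ℤˣ) = 2 ^ k := by
    rw [Fintype.card_fun, Fintype.card_units_int, Fintype.card_fin]
  rw [hcard]
  rcases Nat.eq_zero_or_pos k with hk | hk
  · subst hk
    simp
  · rw [if_neg (by omega)]
    obtain ⟨j, rfl⟩ : ∃ j, k = j + 1 := ⟨k - 1, by omega⟩
    rw [pow_succ, pow_mul', Int.units_sq, one_pow]

theorem eps_mk2 (k : ℕ) (a b : W k) (q : ℤˣ) :
    eps (k + 1) (mk2 a b q : W k ≀ᵣ ℤˣ) = eps k a * eps k b * (if k = 0 then q else 1) := by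
  rw [eps_succ, mk2_left_one, mk2_left_neg, mk2_right]

theorem eps_mk2_succ (k : ℕ) (a b : W (k + 1)) (q : ℤˣ) :
    eps (k + 2) (mk2 a b q : W (k + 1) ≀ᵣ ℤˣ) = eps (k + 1) a * eps (k + 1) b := by
  rw [eps_mk2, if_neg (by omega), mul_one]

theorem eps_succ_succ (k : ℕ) (w : W (k + 1) ≀ᵣ ℤˣ) :
    eps (k + 2) w = eps (k + 1) (w.left 1) * eps (k + 1) (w.left (-1)) := by
  rw [eps_succ, if_neg (by omega), mul_one]

theorem eps_one_eq (w : W 0 ≀ᵣ ℤˣ) : eps 1 w = w.right := by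
  rw [eps_succ, eps_zero, eps_zero, if_pos rfl, one_mul, one_mul]

/-- `eps k` is onto for `k ≥ 1`. -/
theorem eps_surj : ∀ k : ℕ, 1 ≤ k → ∃ t : W k, eps k t = -1
  | 0, h => absurd h (by omega)
  | 1, _ => ⟨(mk2 1 1 (-1) : W 0 ≀ᵣ ℤˣ), by rw [eps_one_eq, mk2_right]⟩
  | k + 2, _ => by
      obtain ⟨t, ht⟩ := eps_surj (k + 1) (by omega)
      exact ⟨(mk2 t 1 1 : W (k + 1) ≀ᵣ ℤˣ), by rw [eps_mk2_succ, ht, map_one, mul_one]⟩

theorem W_nontrivial (k : ℕ) (hk : 1 ≤ k) : ∃ d : W k, d ≠ 1 := by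
  obtain ⟨t, ht⟩ := eps_surj k hk
  refine ⟨t, fun h => ?_⟩
  rw [h, map_one] at ht
  exact absurd ht (by decide)

/-- The central involution of `W k` (`k ≥ 1`). -/
noncomputable def zc : ∀ k : ℕ, W k
  | 0 => 1
  | 1 => (mk2 1 1 (-1) : W 0 ≀ᵣ ℤˣ)
  | k + 2 => (mk2 (zc (k + 1)) (zc (k + 1)) 1 : W (k + 1) ≀ᵣ ℤˣ)

theorem zc_one : zc 1 = (mk2 1 1 (-1) : W 0 ≀ᵣ ℤˣ) := rfl

theorem zc_succ_succ (k : ℕ) :
    zc (k + 2) = (mk2 (zc (k + 1)) (zc (k + 1)) 1 : W (k + 1) ≀ᵣ ℤˣ) := rfl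

theorem zc_ne_one : ∀ k : ℕ, 1 ≤ k → zc k ≠ 1
  | 0, h => absurd h (by omega)
  | 1, _ => by
      show (mk2 1 1 (-1) : W 0 ≀ᵣ ℤˣ) ≠ 1
      intro h
      have := congrArg (fun w : W 0 ≀ᵣ ℤˣ => w.right) h
      exact units_neg_one_ne_one this
  | k + 2, _ => by
      show (mk2 (zc (k + 1)) (zc (k + 1)) 1 : W (k + 1) ≀ᵣ ℤˣ) ≠ 1
      intro h
      have := congrArg (fun w : W (k + 1) ≀ᵣ ℤˣ => w.left 1) h
      simp only [mk2_left_one] at this
      exact zc_ne_one (k + 1) (by omega) this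

theorem eq_of_diag {D : Type*} [Group D] {x : D ≀ᵣ ℤˣ} {c : D} (hr : x.right = 1)
    (hl : x.left (-1) = x.left 1) (h : x.left 1 = c) : x = mk2 c c 1 := by
  apply wr_ext
  · rw [h, mk2_left_one]
  · rw [hl, h, mk2_left_neg]
  · rw [hr, mk2_right]

/-- The centre of `W k` is `{1, zc k}`. -/
theorem center_W : ∀ k : ℕ, 1 ≤ k →
    zc k ∈ Subgroup.center (W k) ∧ ∀ x ∈ Subgroup.center (W k), x = 1 ∨ x = zc k
  | 0, h => absurd h (by omega)
  | 1, _ => by
      show (mk2 1 1 (-1) : W 0 ≀ᵣ ℤˣ) ∈ Subgroup.center (W 0 ≀ᵣ ℤˣ) ∧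
        ∀ x ∈ Subgroup.center (W 0 ≀ᵣ ℤˣ), x = 1 ∨ x = (mk2 1 1 (-1) : W 0 ≀ᵣ ℤˣ)
      have hall : ∀ x : W 0 ≀ᵣ ℤˣ, x = 1 ∨ x = mk2 1 1 (-1) := by
        intro x
        rcases Int.units_eq_one_or x.right with h | h
        · left
          exact wr_ext (Subsingleton.elim _ _) (Subsingleton.elim _ _) h
        · right
          exact wr_ext (Subsingleton.elim _ _) (Subsingleton.elim _ _)
            (h.trans (mk2_right _ _ _).symm)
      refine ⟨?_, fun x _ => hall x⟩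
      rw [Subgroup.mem_center_iff]
      intro g
      apply wr_ext (Subsingleton.elim _ _) (Subsingleton.elim _ _)
      rw [wr_mul_right, wr_mul_right, mul_comm]
  | k + 2, _ => by
      obtain ⟨h1, h2⟩ := center_W (k + 1) (by omega)
      show (mk2 (zc (k + 1)) (zc (k + 1)) 1 : W (k + 1) ≀ᵣ ℤˣ) ∈
          Subgroup.center (W (k + 1) ≀ᵣ ℤˣ) ∧
        ∀ x ∈ Subgroup.center (W (k + 1) ≀ᵣ ℤˣ), x = 1 ∨
          x = (mk2 (zc (k + 1)) (zc (k + 1)) 1 : W (k + 1) ≀ᵣ ℤˣ)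
      constructor
      · exact diag_mem_center h1
      · intro x hx
        rw [wr_mem_center_iff (W_nontrivial (k + 1) (by omega))] at hx
        obtain ⟨hr, hl, hcen⟩ := hx
        rcases h2 _ hcen with h | h
        · left
          rw [eq_of_diag hr hl h]
          exact mk2_one
        · right
          exact eq_of_diag hr hl h

theorem sw_mul_self {D : Type*} [Group D] : (mk2 1 1 (-1) : D ≀ᵣ ℤˣ) * mk2 1 1 (-1) = 1 := by
  apply wr_ext
  · simp only [wr_mul_left, wr_one_left, mk2_right, mk2_left_one, mk2_left_neg, mul_one, one_mul,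
      neg_mul_neg]
  · simp only [wr_mul_left, wr_one_left, mk2_right, mk2_left_one, mk2_left_neg, mul_one, one_mul,
      neg_mul_neg]
  · simp only [wr_mul_right, wr_one_right, mk2_right, neg_mul_neg, one_mul]

theorem diag_eq_comm {D : Type*} [Group D] (τ : D) (hτ : τ⁻¹ = τ) :
    (mk2 τ τ 1 : D ≀ᵣ ℤˣ) =
      mk2 τ 1 (-1) * mk2 1 1 (-1) * (mk2 τ 1 (-1))⁻¹ * (mk2 1 1 (-1))⁻¹ := by
  apply wr_ext
  · simp only [wr_mul_left, wr_mul_right, wr_inv_left, wr_inv_right, mk2_right, mk2_left_one,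
      mk2_left_neg, mul_one, one_mul, inv_one, neg_mul_neg, mul_neg, neg_neg]
  · simp only [wr_mul_left, wr_mul_right, wr_inv_left, wr_inv_right, mk2_right, mk2_left_one,
      mk2_left_neg, mul_one, one_mul, inv_one, neg_mul_neg, mul_neg, neg_neg, hτ]
  · simp only [wr_mul_right, wr_inv_right, mk2_right, mul_one, one_mul, neg_mul_neg]

/-- The central involution is a commutator `[r, s]` with `s` even, and `r` even for `k ≥ 3`. -/
theorem zc_comm : ∀ k : ℕ, 2 ≤ k →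
    ∃ r s : W k, zc k = r * s * r⁻¹ * s⁻¹ ∧ eps k s = 1 ∧ (3 ≤ k → eps k r = 1)
  | 0, h => absurd h (by omega)
  | 1, h => absurd h (by omega)
  | 2, _ => by
      have hz : zc 1 * zc 1 = 1 := sw_mul_self (D := W 0)
      have hzi : (zc 1)⁻¹ = zc 1 := inv_eq_of_mul_eq_one_left hz
      exact ⟨(mk2 (zc 1) 1 (-1) : W 1 ≀ᵣ ℤˣ), (mk2 1 1 (-1) : W 1 ≀ᵣ ℤˣ),
        diag_eq_comm (D := W 1) (zc 1) hzi,
        (eps_mk2_succ 0 1 1 (-1)).trans (by rw [map_one, mul_one]),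
        fun h => absurd h (by omega)⟩
  | k + 3, _ => by
      obtain ⟨r, s, h, hs, _⟩ := zc_comm (k + 2) (by omega)
      refine ⟨diagHom (D := W (k + 2)) r, diagHom (D := W (k + 2)) s, ?_, ?_, fun _ => ?_⟩
      · show (mk2 (zc (k + 2)) (zc (k + 2)) 1 : W (k + 2) ≀ᵣ ℤˣ) =
          diagHom r * diagHom s * (diagHom r)⁻¹ * (diagHom s)⁻¹
        rw [← diagHom_apply, h, map_mul, map_mul, map_mul, map_inv, map_inv]
      · exact (eps_mk2_succ (k + 1) s s 1).trans (Int.units_mul_self _)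
      · exact (eps_mk2_succ (k + 1) r r 1).trans (Int.units_mul_self _)

theorem eps_zc (k : ℕ) (hk : 2 ≤ k) : eps k (zc k) = 1 := by
  obtain ⟨r, s, h, _, _⟩ := zc_comm k hk
  rw [h, map_mul, map_mul, map_mul, map_inv, map_inv, mul_inv_cancel_comm, mul_inv_cancel]

/-- Lemma L for all `W k`. -/
theorem W_central_factor : ∀ (k : ℕ) (X Y : Subgroup (W k)),
    (∀ x ∈ X, ∀ y ∈ Y, x * y = y * x) → X ⊔ Y = ⊤ →
    X ≤ Subgroup.center (W k) ∨ Y ≤ Subgroup.center (W k)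
  | 0, X, _, _, _ => by
      left
      intro x _
      rw [Subgroup.mem_center_iff]
      intro g
      exact Subsingleton.elim _ _
  | k + 1, X, Y, hc, hXY => wr_central_factor (D := W k) X Y hc hXY

/-- For `k ≥ 3`, the centralizer of `ker (eps k)` in `W k` is `{1, zc k}`. -/
theorem centralizer_ker_eps (k : ℕ) (hk : 3 ≤ k) (c : W k)
    (hc : ∀ q : W k, eps k q = 1 → q * c = c * q) : c = 1 ∨ c = zc k := by
  obtain ⟨j, rfl⟩ : ∃ j, k = j + 3 := ⟨k - 3, by omega⟩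
  obtain ⟨t, ht⟩ := eps_surj (j + 2) (by omega)
  have h := wr_center_of_kernel (D := W (j + 2)) (eps (j + 2)) (eps (j + 3))
    (fun w => eps_succ_succ (j + 1) w)
    ⟨zc (j + 2), zc_ne_one (j + 2) (by omega), eps_zc (j + 2) (by omega)⟩ ⟨t, ht⟩ c hc
  obtain ⟨hr, hl, hcen⟩ := h
  rcases (center_W (j + 2) (by omega)).2 _ hcen with h | h
  · left
    have := eq_of_diag (D := W (j + 2)) hr hl h
    exact this.trans mk2_one
  · right
    exact eq_of_diag (D := W (j + 2)) hr hl h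

theorem card_W (k : ℕ) : Nat.card (W k) = 2 ^ (∑ i ∈ Finset.range k, 2 ^ i) := by
  have h2 : Nat.card ℤˣ = 2 := by
    rw [Nat.card_eq_fintype_card, Fintype.card_units_int]
  rw [IteratedWreathProduct.card, h2]

theorem isPGroup_W (k : ℕ) : IsPGroup 2 (W k) :=
  IsPGroup.of_card (card_W k)

theorem not_decomp_W (k : ℕ) (hk : 1 ≤ k) : ¬ Decomp (W k) :=
  not_decomp_of_center (isPGroup_W k) (zc k) (center_W k hk).2

theorem not_decomp_ker_eps (k : ℕ) (hk : 3 ≤ k) : ¬ Decomp ↥(eps k).ker := by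
  have hz : zc k ∈ (eps k).ker := MonoidHom.mem_ker.2 (eps_zc k (by omega))
  apply not_decomp_of_center ((isPGroup_W k).to_subgroup _) ⟨zc k, hz⟩
  intro x hx
  have hx' := Subgroup.mem_center_iff.1 hx
  have h := centralizer_ker_eps k hk (x : W k) (fun q hq => by
    have := hx' ⟨q, MonoidHom.mem_ker.2 hq⟩
    exact congrArg Subtype.val this)
  rcases h with h | h
  · left; exact Subtype.ext h
  · right; exact Subtype.ext h

end Cfsg.Agent.H9SylDec
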