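import Mathlib
import Cfsg.Agent.Lib.Helper9.SylAlt_W

/-!
# The even part of `W 2` is a four-group (for S2221)
-/

set_option autoImplicit false

namespace Cfsg.Agent.H9SylDec

open RegularWreathProduct

theorem decomp_ker_of_inj {D : Type*} [Group D] (e : D →* ℤˣ) (he : Function.Injective e)
    (E : D ≀ᵣ ℤˣ →* ℤˣ) (hE : ∀ w, E w = e (w.left 1) * e (w.left (-1)))
    (hτ : ∃ τ : D, τ ≠ 1) : Decomp ↥E.ker := by
  have hker : ∀ x : D ≀ᵣ ℤˣ, x ∈ E.ker ↔ x.left (-1) = x.left 1 := by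
    intro x
    rw [MonoidHom.mem_ker, hE]
    constructor
    · intro h
      apply he
      have h' := congrArg (fun u => e (x.left 1) * u) h
      simp only [← mul_assoc, Int.units_mul_self, one_mul, mul_one] at h'
      exact h'
    · intro h
      rw [h, Int.units_mul_self]
  let K := E.ker
  let A : Subgroup ↥K := ((rightHom : D ≀ᵣ ℤˣ →* ℤˣ).comp K.subtype).ker
  let B : Subgroup ↥K := ((inl : ℤˣ →* D ≀ᵣ ℤˣ).range).subgroupOf K
  have hA : ∀ x : ↥K, x ∈ A ↔ (x : D ≀ᵣ ℤˣ).right = 1 := fun x => MonoidHom.mem_ker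
  have hB : ∀ x : ↥K, x ∈ B ↔ (x : D ≀ᵣ ℤˣ).left 1 = 1 := by
    intro x
    constructor
    · rintro ⟨q, hq⟩
      have : (x : D ≀ᵣ ℤˣ) = inl q := hq.symm
      rw [this]
      rfl
    · intro h
      refine ⟨(x : D ≀ᵣ ℤˣ).right, ?_⟩
      apply wr_ext
      · show (1 : D) = (x : D ≀ᵣ ℤˣ).left 1
        rw [h]
      · show (1 : D) = (x : D ≀ᵣ ℤˣ).left (-1)
        rw [(hker _).1 x.2, h]
      · rfl
  obtain ⟨τ, hτ⟩ := hτ
  have hz : (mk2 τ τ 1 : D ≀ᵣ ℤˣ) ∈ K := by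
    rw [hker, mk2_left_one, mk2_left_neg]
  have hs : (mk2 1 1 (-1) : D ≀ᵣ ℤˣ) ∈ K := by
    rw [hker, mk2_left_one, mk2_left_neg]
  refine ⟨A, B, ?_, ?_, ?_, ?_, ?_⟩
  · intro h
    have h1 : (⟨_, hz⟩ : ↥K) ∈ A := by
      rw [hA]
      exact mk2_right _ _ _
    rw [h, Subgroup.mem_bot] at h1
    have h2 := congrArg (fun w : ↥K => (w : D ≀ᵣ ℤˣ).left 1) h1
    simp only [mk2_left_one] at h2
    exact hτ h2
  · intro h
    have h1 : (⟨_, hs⟩ : ↥K) ∈ B := by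
      rw [hB]
      exact mk2_left_one _ _ _
    rw [h, Subgroup.mem_bot] at h1
    have h2 := congrArg (fun w : ↥K => (w : D ≀ᵣ ℤˣ).right) h1
    exact units_neg_one_ne_one h2
  · intro a ha b hb
    rw [hA] at ha
    rw [hB] at hb
    have ha2 := (hker _).1 a.2
    have hb2 := (hker _).1 b.2
    apply Subtype.ext
    show (a : D ≀ᵣ ℤˣ) * (b : D ≀ᵣ ℤˣ) = (b : D ≀ᵣ ℤˣ) * (a : D ≀ᵣ ℤˣ)
    apply wr_ext
    · rw [wr_mul_left, wr_mul_left, ha, one_mul, hb, mul_one, one_mul]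
      rcases Int.units_eq_one_or (b : D ≀ᵣ ℤˣ).right with h | h
      · rw [h, one_mul]
      · rw [h, mul_one, ha2]
    · rw [wr_mul_left, wr_mul_left, ha, one_mul, hb2, hb, mul_one, one_mul]
      rcases Int.units_eq_one_or (b : D ≀ᵣ ℤˣ).right with h | h
      · rw [h, one_mul]
      · rw [h, neg_mul_neg, one_mul, ha2]
    · rw [wr_mul_right, wr_mul_right, mul_comm]
  · rw [Subgroup.eq_bot_iff_forall]
    intro x hx
    have hxA : x ∈ A := hx.1
    have hxB : x ∈ B := hx.2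
    rw [hA] at hxA
    rw [hB] at hxB
    apply Subtype.ext
    apply wr_ext
    · rw [hxB]; rfl
    · rw [(hker _).1 x.2, hxB]; rfl
    · rw [hxA]; rfl
  · rw [eq_top_iff]
    intro x _
    have hx2 := (hker _).1 x.2
    have ha : (mk2 ((x : D ≀ᵣ ℤˣ).left 1) ((x : D ≀ᵣ ℤˣ).left 1) 1 : D ≀ᵣ ℤˣ) ∈ K := by
      rw [hker, mk2_left_one, mk2_left_neg]
    have hb : (mk2 1 1 (x : D ≀ᵣ ℤˣ).right : D ≀ᵣ ℤˣ) ∈ K := by
      rw [hker, mk2_left_one, mk2_left_neg]
    have hx : x = (⟨_, ha⟩ : ↥K) * ⟨_, hb⟩ := by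
      apply Subtype.ext
      show (x : D ≀ᵣ ℤˣ) = mk2 _ _ 1 * mk2 1 1 _
      apply wr_ext
      · rw [wr_mul_left, mk2_left_one, mk2_right, one_mul, mk2_left_one, mul_one]
      · rw [wr_mul_left, mk2_left_neg, mk2_right, one_mul, mk2_left_neg, mul_one, hx2]
      · rw [wr_mul_right, mk2_right, mk2_right, one_mul]
    rw [hx]
    apply Subgroup.mul_mem_sup
    · rw [hA]
      exact mk2_right _ _ _
    · rw [hB]
      exact mk2_left_one _ _ _

/-- `ker (eps 2)` is a four-group, hence decomposable. -/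
theorem decomp_ker_eps_two : Decomp ↥(eps 2).ker := by
  have he : Function.Injective (eps 1) := by
    intro a b hab
    have h : (a : W 0 ≀ᵣ ℤˣ).right = (b : W 0 ≀ᵣ ℤˣ).right :=
      (eps_one_eq a).symm.trans (hab.trans (eps_one_eq b))
    exact wr_ext (D := W 0) (Subsingleton.elim _ _) (Subsingleton.elim _ _) h
  exact decomp_ker_of_inj (D := W 1) (eps 1) he (eps 2) (fun w => eps_succ_succ 0 w)
    (W_nontrivial 1 le_rfl)

end Cfsg.Agent.H9SylDec
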