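import Mathlib
import Cfsg.Agent.Lib.Helper9.SylAlt_V4

/-!
# Permutation model of the Sylow 2-subgroups of alternating groups (for S2221)
-/

set_option autoImplicit false

namespace Cfsg.Agent.H9SylDec

open RegularWreathProduct

section sigma

variable {ι : Type*} [Fintype ι] [DecidableEq ι] {β : ι → Type*} [∀ i, Fintype (β i)]
  [∀ i, DecidableEq (β i)]

theorem sign_sigmaCongrRight_mulSingle (i : ι) (x : Equiv.Perm (β i)) :
    Equiv.Perm.sign (Equiv.Perm.sigmaCongrRight (Pi.mulSingle i x)) = Equiv.Perm.sign x := by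
  have h : Equiv.Perm.sigmaCongrRight (Pi.mulSingle i x) =
      x.extendDomain (Equiv.sigmaSubtype i).symm := by
    apply Equiv.ext
    intro s
    by_cases hs : s.1 = i
    · rw [Equiv.Perm.extendDomain_apply_subtype (p := fun t : Sigma β => t.1 = i) x
        (Equiv.sigmaSubtype i).symm (b := s) hs]
      obtain ⟨j, b⟩ := s
      have hj : j = i := hs
      subst hj
      simp [Equiv.sigmaCongrRight_apply, Equiv.sigmaSubtype]
    · rw [Equiv.Perm.extendDomain_apply_not_subtype (p := fun t : Sigma β => t.1 = i) x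
        (Equiv.sigmaSubtype i).symm (b := s) hs, Equiv.sigmaCongrRight_apply]
      have h1 : (Pi.mulSingle i x : ∀ j, Equiv.Perm (β j)) s.1 = 1 := by
        rw [Pi.mulSingle_eq_of_ne hs]
      rw [h1]
      rfl
  rw [h, Equiv.Perm.sign_extendDomain]

theorem sign_sigmaCongrRight (σ : ∀ i, Equiv.Perm (β i)) :
    Equiv.Perm.sign (Equiv.Perm.sigmaCongrRight σ) = ∏ i, Equiv.Perm.sign (σ i) := by
  have h : Equiv.Perm.sign.comp (Equiv.Perm.sigmaCongrRightHom β) =
      piSign (fun i => (Equiv.Perm.sign : Equiv.Perm (β i) →* ℤˣ)) := by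
    apply MonoidHom.pi_ext
    intro i x
    rw [MonoidHom.comp_apply, Equiv.Perm.sigmaCongrRightHom_apply, sign_sigmaCongrRight_mulSingle,
      piSign_mulSingle]
  exact DFunLike.congr_fun h σ

end sigma

/-- The product of the groups `W (i + 2)`, `i ∈ s`. -/
abbrev PiW (s : Finset ℕ) : Type := ∀ i : ↥s, W (i.val + 2)

/-- The points on which `PiW s` acts. -/
abbrev Pts (s : Finset ℕ) : Type := Σ i : ↥s, (Fin (i.val + 2) → ℤˣ)

/-- The sign character of `PiW s`. -/
noncomputable def sgnW (s : Finset ℕ) : PiW s →* ℤˣ := piSign (fun i : ↥s => eps (i.val + 2))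

/-- The permutation representation of `PiW s`. -/
noncomputable def jW (s : Finset ℕ) : PiW s →* Equiv.Perm (Pts s) :=
  (Equiv.Perm.sigmaCongrRightHom (fun i : ↥s => (Fin (i.val + 2) → ℤˣ))).comp
    (MonoidHom.pi (fun i : ↥s =>
      (iteratedWreathToPermHom ℤˣ (i.val + 2)).comp (Pi.evalMonoidHom _ i)))

theorem jW_injective (s : Finset ℕ) : Function.Injective (jW s) := by
  apply Equiv.Perm.sigmaCongrRightHom_injective.comp
  intro a b h
  funext i
  exact iteratedWreathToPermHomInj ℤˣ _ (congrFun h i)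

theorem sign_jW (s : Finset ℕ) (w : PiW s) : Equiv.Perm.sign (jW s w) = sgnW s w := by
  show Equiv.Perm.sign (Equiv.Perm.sigmaCongrRight
    (fun i : ↥s => iteratedWreathToPermHom ℤˣ (i.val + 2) (w i))) = _
  rw [sign_sigmaCongrRight]
  rfl

theorem geom2 (k : ℕ) : ∑ i ∈ Finset.range k, 2 ^ i + 1 = 2 ^ k := by
  induction k with
  | zero => simp
  | succ k ih => rw [Finset.sum_range_succ, pow_succ]; omega

theorem card_Pts (s : Finset ℕ) : Fintype.card (Pts s) = 4 * ∑ i ∈ s, 2 ^ i := by
  rw [Fintype.card_sigma, Finset.mul_sum, ← Finset.sum_coe_sort s (fun i => 4 * 2 ^ i)]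
  apply Finset.sum_congr rfl
  intro i _
  rw [Fintype.card_fun, Fintype.card_units_int, Fintype.card_fin, pow_add]
  ring

theorem card_PiW (s : Finset ℕ) :
    Nat.card (PiW s) = 2 ^ (∑ i ∈ s, ∑ j ∈ Finset.range (i + 2), 2 ^ j) := by
  rw [Nat.card_pi, ← Finset.sum_coe_sort s (fun i => ∑ j ∈ Finset.range (i + 2), 2 ^ j),
    ← Finset.prod_pow_eq_pow_sum]
  apply Finset.prod_congr rfl
  intro i _
  exact card_W _

theorem sum_geom (s : Finset ℕ) :
    (∑ i ∈ s, ∑ j ∈ Finset.range (i + 2), 2 ^ j) + s.card = 4 * ∑ i ∈ s, 2 ^ i := by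
  rw [Finset.card_eq_sum_ones, ← Finset.sum_add_distrib, Finset.mul_sum]
  apply Finset.sum_congr rfl
  intro i _
  rw [geom2, pow_add]
  ring

theorem val2_half (n : ℕ) :
    padicValNat 2 n.factorial = padicValNat 2 (n / 2).factorial + n / 2 := by
  haveI : Fact (Nat.Prime 2) := ⟨Nat.prime_two⟩
  have h := padicValNat_factorial_mul_add (p := 2) (n := n % 2) (n / 2)
    (Nat.mod_lt _ (by norm_num))
  rw [Nat.div_add_mod] at h
  rw [h, padicValNat_factorial_mul]

theorem legendre2 (m : ℕ) : padicValNat 2 m.factorial + m.bitIndices.length = m := by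
  induction m using Nat.strong_induction_on with
  | _ m ih =>
    rcases Nat.eq_zero_or_pos m with rfl | hm
    · simp
    · obtain ⟨k, hk | hk⟩ : ∃ k, m = 2 * k ∨ m = 2 * k + 1 := ⟨m / 2, by omega⟩
      · subst hk
        have hk2 : 2 * k / 2 = k := by omega
        have h1 := val2_half (2 * k)
        rw [hk2] at h1
        have h2 := ih k (by omega)
        rw [h1, Nat.bitIndices_two_mul, List.length_map]
        omega
      · subst hk
        have hk2 : (2 * k + 1) / 2 = k := by omega
        have h1 := val2_half (2 * k + 1)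
        rw [hk2] at h1
        have h2 := ih k (by omega)
        rw [h1, Nat.bitIndices_two_mul_add_one, List.length_cons, List.length_map]
        omega

theorem val2_four (m c : ℕ) (hc : c < 4) :
    padicValNat 2 (4 * m + c).factorial + m.bitIndices.length = 4 * m + c / 2 := by
  have h1 := val2_half (4 * m + c)
  have h2 := val2_half ((4 * m + c) / 2)
  have e1 : (4 * m + c) / 2 = 2 * m + c / 2 := by omega
  rw [e1] at h1 h2
  have e2 : (2 * m + c / 2) / 2 = m := by omega
  rw [e2] at h2
  have h3 := legendre2 m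
  omega

/-- A 2-subgroup of `Perm α` of the right order gives the Sylow 2-subgroups of `A_n`. -/
theorem sylow_alt_equiv {n : ℕ} (hn : 2 ≤ n) {M : Type*} [Group M] [Finite M] {α : Type*}
    [Fintype α] [DecidableEq α] (hα : Fintype.card α = n) (j : M →* Equiv.Perm α)
    (hj : Function.Injective j) (hM : Nat.card M = 2 ^ (n.factorial.factorization 2))
    (P : Sylow 2 (alternatingGroup (Fin n))) :
    Nonempty (↥(P : Subgroup (alternatingGroup (Fin n))) ≃* ↥(Equiv.Perm.sign.comp j).ker) := by
  classical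
  haveI : Fact (Nat.Prime 2) := ⟨Nat.prime_two⟩
  haveI : Nontrivial (Fin n) := Fin.nontrivial_iff_two_le.2 hn
  set f : M →* ℤˣ := Equiv.Perm.sign.comp j with hf
  set K := f.ker with hK
  let e : α ≃ Fin n := Fintype.equivFinOfCardEq hα
  let j' : M →* Equiv.Perm (Fin n) := (e.permCongrHom).toMonoidHom.comp j
  have hj' : Function.Injective j' := fun a b h => hj (e.permCongrHom.injective h)
  have hsign : ∀ x, Equiv.Perm.sign (j' x) = f x := fun x => Equiv.Perm.sign_permCongr e (j x)
  let φ : ↥K →* ↥(alternatingGroup (Fin n)) :=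
    (j'.comp K.subtype).codRestrict (alternatingGroup (Fin n))
      (fun k => Equiv.Perm.mem_alternatingGroup.2 (by
        rw [MonoidHom.comp_apply, hsign]; exact k.2))
  have hφ : Function.Injective φ := by
    intro a b h
    have := congrArg Subtype.val h
    exact Subtype.ext (hj' this)
  set v := n.factorial.factorization 2 with hv
  have hA : Nat.card ↥(alternatingGroup (Fin n)) * 2 = n.factorial := by
    rw [Nat.card_eq_fintype_card, mul_comm, two_mul_card_alternatingGroup, Fintype.card_perm,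
      Fintype.card_fin]
  have hA0 : Nat.card ↥(alternatingGroup (Fin n)) ≠ 0 := Nat.card_pos.ne'
  have hvA : (Nat.card ↥(alternatingGroup (Fin n))).factorization 2 + 1 = v := by
    rw [hv, ← hA, Nat.factorization_mul hA0 (by norm_num), Finsupp.add_apply,
      Nat.prime_two.factorization_self]
  have hidx : Nat.card ↥K * Nat.card ↥f.range = 2 ^ v := by
    rw [← Subgroup.index_ker, Subgroup.card_mul_index, hM]
  have hrange : Nat.card ↥f.range = 1 ∨ Nat.card ↥f.range = 2 := by
    have h1 : Nat.card ↥f.range ∣ 2 := by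
      have h2 := Subgroup.card_subgroup_dvd_card f.range
      rwa [Nat.card_eq_fintype_card (α := ℤˣ), Fintype.card_units_int] at h2
    exact (Nat.dvd_prime Nat.prime_two).1 h1
  have hKR : Nat.card ↥K = Nat.card ↥φ.range :=
    Nat.card_congr (MonoidHom.ofInjective hφ).toEquiv
  have hKA : Nat.card ↥K ∣ Nat.card ↥(alternatingGroup (Fin n)) := by
    rw [hKR]
    exact Subgroup.card_subgroup_dvd_card _
  have hKcard : Nat.card ↥K = 2 ^ ((Nat.card ↥(alternatingGroup (Fin n))).factorization 2) := by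
    rcases hrange with h | h
    · exfalso
      rw [h, mul_one] at hidx
      rw [hidx] at hKA
      have := (Nat.prime_two.pow_dvd_iff_le_factorization hA0).1 hKA
      omega
    · rw [h, ← hvA, pow_succ] at hidx
      exact Nat.eq_of_mul_eq_mul_right (by norm_num) hidx
  have hR : Nat.card ↥φ.range = 2 ^ ((Nat.card ↥(alternatingGroup (Fin n))).factorization 2) := by
    rw [← hKcard, hKR]
  exact ⟨(P.equiv (Sylow.ofCard φ.range hR)).trans (MonoidHom.ofInjective hφ).symm⟩

/-- Model for `n = 4 m + c`, `c < 2`: the Sylow 2-subgroups of `A_n` are the sign kernel of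
`PiW s`, `s` the set of binary digits of `m`. -/
theorem modelA (m c : ℕ) (hm : 1 ≤ m) (hc : c < 2)
    (P : Sylow 2 (alternatingGroup (Fin (4 * m + c)))) :
    Nonempty (↥(P : Subgroup (alternatingGroup (Fin (4 * m + c)))) ≃*
      ↥(sgnW m.bitIndices.toFinset).ker) := by
  set s := m.bitIndices.toFinset with hs
  have hsum : ∑ i ∈ s, 2 ^ i = m := Finset.sum_toFinset_bitIndices_two_pow m
  have hcard : s.card = m.bitIndices.length := List.toFinset_card_of_nodup Nat.bitIndices_nodup
  let j : PiW s →* Equiv.Perm (Pts s ⊕ Fin c) :=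
    (Equiv.Perm.sumCongrHom (Pts s) (Fin c)).comp ((jW s).prod 1)
  have hj : Function.Injective j := by
    apply Equiv.Perm.sumCongrHom_injective.comp
    intro a b h
    exact jW_injective s (congrArg Prod.fst h)
  have hα : Fintype.card (Pts s ⊕ Fin c) = 4 * m + c := by
    rw [Fintype.card_sum, card_Pts, hsum, Fintype.card_fin]
  have hM : Nat.card (PiW s) = 2 ^ ((4 * m + c).factorial.factorization 2) := by
    rw [card_PiW, Nat.factorization_def _ Nat.prime_two]
    congr 1
    have h1 := sum_geom s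
    have h2 := val2_four m c (by omega)
    rw [hsum] at h1
    have h3 : c / 2 = 0 := by omega
    omega
  obtain ⟨e⟩ := sylow_alt_equiv (by omega) hα j hj hM P
  have hsign : Equiv.Perm.sign.comp j = sgnW s := by
    apply MonoidHom.ext
    intro w
    show Equiv.Perm.sign (Equiv.Perm.sumCongr (jW s w) (1 : Equiv.Perm (Fin c))) = _
    rw [Equiv.Perm.sign_sumCongr, map_one, mul_one, sign_jW]
  rw [hsign] at e
  exact ⟨e⟩

/-- Model for `n = 4 m + c`, `2 ≤ c < 4`: the Sylow 2-subgroups of `A_n` are isomorphic to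
`PiW s`, `s` the set of binary digits of `m`. -/
theorem modelB (m c : ℕ) (hm : 1 ≤ m) (hc2 : 2 ≤ c) (hc : c < 4)
    (P : Sylow 2 (alternatingGroup (Fin (4 * m + c)))) :
    Nonempty (↥(P : Subgroup (alternatingGroup (Fin (4 * m + c)))) ≃*
      PiW m.bitIndices.toFinset) := by
  set s := m.bitIndices.toFinset with hs
  have hsum : ∑ i ∈ s, 2 ^ i = m := Finset.sum_toFinset_bitIndices_two_pow m
  have hcard : s.card = m.bitIndices.length := List.toFinset_card_of_nodup Nat.bitIndices_nodup
  let ρ : ℤˣ →* Equiv.Perm (ℤˣ ⊕ Fin (c - 2)) :=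
    (Equiv.Perm.sumCongrHom ℤˣ (Fin (c - 2))).comp ((MulAction.toPermHom ℤˣ ℤˣ).prod 1)
  have hρ : ∀ u : ℤˣ, Equiv.Perm.sign (ρ u) = u := by
    intro u
    show Equiv.Perm.sign (Equiv.Perm.sumCongr (MulAction.toPerm u : Equiv.Perm ℤˣ)
      (1 : Equiv.Perm (Fin (c - 2)))) = u
    rw [Equiv.Perm.sign_sumCongr, map_one, mul_one]
    have : (MulAction.toPerm u : Equiv.Perm ℤˣ) = Equiv.mulLeft u := by
      ext x
      rfl
    rw [this, sign_mulLeft_units]
  let j : PiW s × ℤˣ →* Equiv.Perm (Pts s ⊕ (ℤˣ ⊕ Fin (c - 2))) :=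
    (Equiv.Perm.sumCongrHom (Pts s) (ℤˣ ⊕ Fin (c - 2))).comp (MonoidHom.prodMap (jW s) ρ)
  have hjsign : ∀ x : PiW s × ℤˣ, Equiv.Perm.sign (j x) = sgnW s x.1 * x.2 := by
    intro x
    show Equiv.Perm.sign (Equiv.Perm.sumCongr (jW s x.1) (ρ x.2)) = _
    rw [Equiv.Perm.sign_sumCongr, sign_jW, hρ]
  have hρinj : Function.Injective ρ := by
    intro a b h
    rw [← hρ a, ← hρ b, h]
  have hj : Function.Injective j := by
    apply Equiv.Perm.sumCongrHom_injective.comp
    intro a b h
    exact Prod.ext (jW_injective s (congrArg Prod.fst h)) (hρinj (congrArg Prod.snd h))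
  have hα : Fintype.card (Pts s ⊕ (ℤˣ ⊕ Fin (c - 2))) = 4 * m + c := by
    have h1 : Fintype.card (ℤˣ ⊕ Fin (c - 2)) = c := by
      rw [Fintype.card_sum, Fintype.card_units_int, Fintype.card_fin]
      omega
    rw [Fintype.card_sum (α := Pts s) (β := ℤˣ ⊕ Fin (c - 2)), card_Pts, hsum, h1]
  have hM : Nat.card (PiW s × ℤˣ) = 2 ^ ((4 * m + c).factorial.factorization 2) := by
    rw [Nat.card_prod, card_PiW, Nat.card_eq_fintype_card (α := ℤˣ), Fintype.card_units_int,
      ← pow_succ, Nat.factorization_def _ Nat.prime_two]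
    congr 1
    have h1 := sum_geom s
    have h2 := val2_four m c hc
    rw [hsum] at h1
    have h3 : c / 2 = 1 := by omega
    omega
  obtain ⟨e⟩ := sylow_alt_equiv (by omega) hα j hj hM P
  -- the kernel projects isomorphically onto `PiW s`
  set K := (Equiv.Perm.sign.comp j).ker with hK
  have hKmem : ∀ x : PiW s × ℤˣ, x ∈ K ↔ sgnW s x.1 * x.2 = 1 := by
    intro x
    rw [hK, MonoidHom.mem_ker, MonoidHom.comp_apply, hjsign]
  let g : ↥K →* PiW s := (MonoidHom.fst (PiW s) ℤˣ).comp K.subtype
  have hg : Function.Bijective g := by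
    constructor
    · intro x y hxy
      have h1 : (x : PiW s × ℤˣ).1 = (y : PiW s × ℤˣ).1 := hxy
      have hx := (hKmem _).1 x.2
      have hy := (hKmem _).1 y.2
      rw [h1] at hx
      have h2 : (x : PiW s × ℤˣ).2 = (y : PiW s × ℤˣ).2 :=
        mul_left_cancel (hx.trans hy.symm)
      exact Subtype.ext (Prod.ext h1 h2)
    · intro w
      refine ⟨⟨(w, sgnW s w), (hKmem _).2 (Int.units_mul_self _)⟩, rfl⟩
  exact ⟨e.trans (MulEquiv.ofBijective g hg)⟩

end Cfsg.Agent.H9SylDec
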