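import Mathlib
import Cfsg.Agent.Lib.Helper9.SylAlt_Model

/-!
# Decomposability of `PiW s` and of its sign kernel (for S2221)
-/

set_option autoImplicit false

namespace Cfsg.Agent.H9SylDec

open RegularWreathProduct

/-- Sign kernels with at least two factors are indecomposable. -/
theorem not_decomp_sgnW_ker (s : Finset ℕ) (h : 2 ≤ s.card) : ¬ Decomp ↥(sgnW s).ker := by
  apply not_decomp_signKer (fun i : ↥s => eps (i.val + 2))
  · intro i
    exact W_central_factor (i.val + 2)
  · intro i z hz
    rcases (center_W (i.val + 2) (by omega)).2 z hz with rfl | rfl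
    · exact ⟨1, 1, by group, map_one _⟩
    · obtain ⟨r, t, h1, h2, _⟩ := zc_comm (i.val + 2) (by omega)
      exact ⟨r, t, h1, h2⟩
  · intro i _
    exact eps_surj (i.val + 2) (by omega)
  · obtain ⟨a, ha, b, hb, hab⟩ := Finset.one_lt_card.1 h
    exact ⟨⟨a, ha⟩, ⟨b, hb⟩, fun h => hab (congrArg Subtype.val h),
      eps_surj (a + 2) (by omega), eps_surj (b + 2) (by omega)⟩

/-- The one-factor product is the factor. -/
noncomputable def piWSingleton (k : ℕ) : PiW {k} ≃* W (k + 2) := by
  letI : Unique ↥({k} : Finset ℕ) :=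
    ⟨⟨⟨k, Finset.mem_singleton_self k⟩⟩, fun x => Subtype.ext (Finset.mem_singleton.1 x.2)⟩
  exact MulEquiv.piUnique (fun i : ↥({k} : Finset ℕ) => W (i.val + 2))

theorem piWSingleton_apply (k : ℕ) (w : PiW {k}) :
    piWSingleton k w = w ⟨k, Finset.mem_singleton_self k⟩ := rfl

theorem sgnW_singleton (k : ℕ) (w : PiW {k}) :
    eps (k + 2) (piWSingleton k w) = sgnW {k} w := by
  letI : Unique ↥({k} : Finset ℕ) :=
    ⟨⟨⟨k, Finset.mem_singleton_self k⟩⟩, fun x => Subtype.ext (Finset.mem_singleton.1 x.2)⟩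
  rw [piWSingleton_apply]
  show _ = ∏ i : ↥({k} : Finset ℕ), eps (i.val + 2) (w i)
  rw [Fintype.prod_unique]
  rfl

theorem decomp_sgnW_ker_singleton (k : ℕ) : Decomp ↥(sgnW {k}).ker ↔ k = 0 := by
  rw [decomp_congr (kerEquiv (piWSingleton k) (sgnW {k}) (eps (k + 2)) (sgnW_singleton k))]
  constructor
  · intro h
    by_contra hk
    exact not_decomp_ker_eps (k + 2) (by omega) h
  · rintro rfl
    exact decomp_ker_eps_two

theorem decomp_PiW_iff (s : Finset ℕ) (hs : s.Nonempty) : Decomp (PiW s) ↔ 2 ≤ s.card := by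
  constructor
  · intro h
    by_contra hcard
    have h1 : s.card = 1 := by
      have := Finset.card_pos.2 hs
      omega
    obtain ⟨k, rfl⟩ := Finset.card_eq_one.1 h1
    exact not_decomp_W (k + 2) (by omega) (h.of_equiv (piWSingleton k))
  · intro h
    obtain ⟨a, ha, b, hb, hab⟩ := Finset.one_lt_card.1 h
    exact decomp_pi_of_two (G := fun i : ↥s => W (i.val + 2)) (i := ⟨a, ha⟩) (j := ⟨b, hb⟩)
      (fun h => hab (congrArg Subtype.val h)) (W_nontrivial (a + 2) (by omega))
      (W_nontrivial (b + 2) (by omega))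

/-- The set of binary digits of `m` is a singleton iff `m` is a power of two. -/
theorem card_bits_eq_one_iff (m : ℕ) :
    m.bitIndices.toFinset.card = 1 ↔ ∃ k, m = 2 ^ k := by
  constructor
  · intro h
    obtain ⟨k, hk⟩ := Finset.card_eq_one.1 h
    refine ⟨k, ?_⟩
    have := Finset.sum_toFinset_bitIndices_two_pow m
    rw [hk, Finset.sum_singleton] at this
    exact this.symm
  · rintro ⟨k, rfl⟩
    rw [Nat.bitIndices_two_pow]
    rfl

theorem bits_eq_singleton_zero_iff (m : ℕ) : m.bitIndices.toFinset = {0} ↔ m = 1 := by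
  constructor
  · intro h
    have := Finset.sum_toFinset_bitIndices_two_pow m
    rw [h, Finset.sum_singleton] at this
    exact this.symm
  · rintro rfl
    rfl

theorem bits_nonempty (m : ℕ) (hm : 1 ≤ m) : m.bitIndices.toFinset.Nonempty := by
  rw [Finset.nonempty_iff_ne_empty]
  intro h
  have := Finset.sum_toFinset_bitIndices_two_pow m
  rw [h, Finset.sum_empty] at this
  omega

/-- Main theorem in terms of `n = 4 m + c`. -/
theorem decomp_sylow_alt (m c : ℕ) (hm : 1 ≤ m) (hc : c < 4)
    (P : Sylow 2 (alternatingGroup (Fin (4 * m + c)))) :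
    Decomp ↥(P : Subgroup (alternatingGroup (Fin (4 * m + c)))) ↔
      ((c < 2 ∧ m = 1) ∨ (2 ≤ c ∧ ¬ ∃ k, m = 2 ^ k)) := by
  have hne := bits_nonempty m hm
  have hpos : 1 ≤ m.bitIndices.toFinset.card := Finset.card_pos.2 hne
  rcases Nat.lt_or_ge c 2 with hc2 | hc2
  · obtain ⟨e⟩ := modelA m c hm hc2 P
    rw [decomp_congr e]
    constructor
    · intro h
      left
      refine ⟨hc2, ?_⟩
      by_contra hm1
      rcases Nat.lt_or_ge m.bitIndices.toFinset.card 2 with h2 | h2
      · have h1 : m.bitIndices.toFinset.card = 1 := by omega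
        obtain ⟨k, hk⟩ := Finset.card_eq_one.1 h1
        rw [hk] at h
        have hk0 := (decomp_sgnW_ker_singleton k).1 h
        subst hk0
        exact hm1 ((bits_eq_singleton_zero_iff m).1 hk)
      · exact not_decomp_sgnW_ker _ h2 h
    · rintro (⟨_, rfl⟩ | ⟨h, _⟩)
      · have : (1 : ℕ).bitIndices.toFinset = {0} := (bits_eq_singleton_zero_iff 1).2 rfl
        rw [this]
        exact (decomp_sgnW_ker_singleton 0).2 rfl
      · omega
  · obtain ⟨e⟩ := modelB m c hm hc2 hc P
    rw [decomp_congr e, decomp_PiW_iff _ hne]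
    constructor
    · intro h
      right
      refine ⟨hc2, fun hk => ?_⟩
      have := (card_bits_eq_one_iff m).2 hk
      omega
    · rintro (⟨h, _⟩ | ⟨_, h⟩)
      · omega
      · by_contra h2
        apply h
        apply (card_bits_eq_one_iff m).1
        omega

end Cfsg.Agent.H9SylDec
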