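import Mathlib

set_option autoImplicit false

namespace Cfsg.Agent.Lib.Helper9.Sym8Sylow

/-- partner inside a pair -/
def p1 : Fin 8 → Fin 8 := ![1, 0, 3, 2, 5, 4, 7, 6]
/-- partner pair inside a block -/
def p2 : Fin 8 → Fin 8 := ![2, 3, 0, 1, 6, 7, 4, 5]
/-- pair label -/
def f2 : Fin 8 → Fin 4 := ![0, 0, 1, 1, 2, 2, 3, 3]
/-- block label -/
def f4 : Fin 8 → Fin 2 := ![0, 0, 0, 0, 1, 1, 1, 1]

/-- cheap test for preserving the tree structure -/
def cheap (σ : Equiv.Perm (Fin 8)) : Prop :=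
  ∀ a : Fin 8, f2 (σ (p1 a)) = f2 (σ a) ∧ f4 (σ (p2 a)) = f4 (σ a)

instance : DecidablePred cheap := fun σ => by unfold cheap; infer_instance

/-- semantic version -/
def sem (σ : Equiv.Perm (Fin 8)) : Prop :=
  (∀ a b : Fin 8, f2 a = f2 b → f2 (σ a) = f2 (σ b)) ∧
  (∀ a b : Fin 8, f4 a = f4 b → f4 (σ a) = f4 (σ b))

theorem f2_cases : ∀ a b : Fin 8, f2 a = f2 b → b = a ∨ b = p1 a := by decide

theorem f4_cases : ∀ a b : Fin 8, f4 a = f4 b → b = a ∨ b = p1 a ∨ b = p2 a ∨ b = p1 (p2 a) := by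
  decide

theorem f2_f4 : ∀ a b : Fin 8, f2 a = f2 b → f4 a = f4 b := by decide

theorem f2_p1 : ∀ a : Fin 8, f2 (p1 a) = f2 a := by decide

theorem f4_p2 : ∀ a : Fin 8, f4 (p2 a) = f4 a := by decide

theorem cheap_iff_sem (σ : Equiv.Perm (Fin 8)) : cheap σ ↔ sem σ := by
  constructor
  · intro h
    constructor
    · intro a b hab
      rcases f2_cases a b hab with h1 | h1
      · rw [h1]
      · rw [h1]; exact ((h a).1).symm
    · intro a b hab
      rcases f4_cases a b hab with h1 | h1 | h1 | h1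
      · rw [h1]
      · rw [h1]; exact (f2_f4 _ _ (h a).1).symm
      · rw [h1]; exact ((h a).2).symm
      · rw [h1]
        have e1 := f2_f4 _ _ (h (p2 a)).1
        rw [e1]; exact ((h a).2).symm
  · intro h a
    exact ⟨h.1 _ _ (f2_p1 a), h.2 _ _ (f4_p2 a)⟩

/-- the tree stabilizer as a subgroup -/
def P0 : Subgroup (Equiv.Perm (Fin 8)) where
  carrier := {σ | cheap σ}
  mul_mem' := by
    intro σ τ hσ hτ
    rw [Set.mem_setOf_eq, cheap_iff_sem] at *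
    constructor
    · intro a b hab
      simp only [Equiv.Perm.coe_mul, Function.comp_apply]
      exact hσ.1 _ _ (hτ.1 _ _ hab)
    · intro a b hab
      simp only [Equiv.Perm.coe_mul, Function.comp_apply]
      exact hσ.2 _ _ (hτ.2 _ _ hab)
  one_mem' := by
    rw [Set.mem_setOf_eq, cheap_iff_sem]
    exact ⟨fun _ _ h => h, fun _ _ h => h⟩
  inv_mem' := by
    intro σ hσ
    have hpow : ∀ n : ℕ, cheap (σ ^ n) := by
      intro n
      induction n with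
      | zero =>
        rw [pow_zero, cheap_iff_sem]
        exact ⟨fun _ _ h => h, fun _ _ h => h⟩
      | succ n ih =>
        rw [pow_succ]
        rw [Set.mem_setOf_eq] at hσ
        rw [cheap_iff_sem] at *
        constructor
        · intro a b hab
          simp only [Equiv.Perm.coe_mul, Function.comp_apply]
          exact ih.1 _ _ (hσ.1 _ _ hab)
        · intro a b hab
          simp only [Equiv.Perm.coe_mul, Function.comp_apply]
          exact ih.2 _ _ (hσ.2 _ _ hab)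
    have hinv : σ⁻¹ = σ ^ (orderOf σ - 1) := by
      have hpos : 0 < orderOf σ := orderOf_pos σ
      have h1 : σ * σ ^ (orderOf σ - 1) = 1 := by
        rw [← pow_succ', Nat.sub_add_cancel hpos, pow_orderOf_eq_one]
      exact inv_eq_of_mul_eq_one_right h1
    rw [Set.mem_setOf_eq, hinv]
    exact hpow _

theorem mem_P0 (σ : Equiv.Perm (Fin 8)) : σ ∈ P0 ↔ cheap σ := Iff.rfl

/-- candidate witnesses -/
def W : List (Equiv.Perm (Fin 8)) :=
  [Equiv.swap 0 1, Equiv.swap 2 3, Equiv.swap 4 5, Equiv.swap 6 7,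
   Equiv.swap 0 2 * Equiv.swap 1 3 * (Equiv.swap 4 6 * Equiv.swap 5 7),
   Equiv.swap 0 2 * Equiv.swap 1 3 * (Equiv.swap 4 7 * Equiv.swap 5 6),
   Equiv.swap 0 3 * Equiv.swap 1 2 * (Equiv.swap 4 6 * Equiv.swap 5 7),
   Equiv.swap 0 3 * Equiv.swap 1 2 * (Equiv.swap 4 7 * Equiv.swap 5 6),
   Equiv.swap 0 4 * Equiv.swap 1 5 * (Equiv.swap 2 6 * Equiv.swap 3 7),
   Equiv.swap 0 4 * Equiv.swap 1 5 * (Equiv.swap 2 7 * Equiv.swap 3 6),
   Equiv.swap 0 5 * Equiv.swap 1 4 * (Equiv.swap 2 6 * Equiv.swap 3 7),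
   Equiv.swap 0 5 * Equiv.swap 1 4 * (Equiv.swap 2 7 * Equiv.swap 3 6),
   Equiv.swap 0 6 * Equiv.swap 1 7 * (Equiv.swap 2 4 * Equiv.swap 3 5),
   Equiv.swap 0 6 * Equiv.swap 1 7 * (Equiv.swap 2 5 * Equiv.swap 3 4),
   Equiv.swap 0 7 * Equiv.swap 1 6 * (Equiv.swap 2 4 * Equiv.swap 3 5),
   Equiv.swap 0 7 * Equiv.swap 1 6 * (Equiv.swap 2 5 * Equiv.swap 3 4)]


set_option maxRecDepth 100000 in
theorem W_memB : W.all (fun σ => decide (cheap σ) && (List.finRange 8).any (fun a => σ a != a)) = true := by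
  decide +kernel

theorem W_mem : ∀ σ ∈ W, cheap σ ∧ σ ≠ 1 := by
  intro σ hσ
  have h := List.all_eq_true.mp W_memB σ hσ
  rw [Bool.and_eq_true, decide_eq_true_eq, List.any_eq_true] at h
  obtain ⟨h1, a, _, ha⟩ := h
  refine ⟨h1, ?_⟩
  intro h2
  rw [h2] at ha
  simp at ha

/-! ### `P0` is a 2-group -/

def r4 : Fin 2 → Fin 8 := ![0, 4]
def r2 : Fin 4 → Fin 8 := ![0, 2, 4, 6]
def hh : Fin 4 → Fin 2 := ![0, 0, 1, 1]

theorem f4_r4 : ∀ a : Fin 8, f4 a = f4 (r4 (f4 a)) := by decide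
theorem f2_r2 : ∀ a : Fin 8, f2 a = f2 (r2 (f2 a)) := by decide
theorem f2_r2' : ∀ i : Fin 4, f2 (r2 i) = i := by decide
theorem f4_r4' : ∀ i : Fin 2, f4 (r4 i) = i := by decide
theorem f4_hh : ∀ a : Fin 8, f4 a = hh (f2 a) := by decide
theorem p1_ne : ∀ a : Fin 8, p1 a ≠ a := by decide
theorem p1_p1 : ∀ a : Fin 8, p1 (p1 a) = a := by decide

theorem fin2_surj_sq : ∀ s : Fin 2 → Fin 2, (∀ j, ∃ i, s i = j) → ∀ i, s (s i) = i := by decide

set_option maxRecDepth 100000 in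
theorem fin4_surj_sq : ∀ t : Fin 4 → Fin 4, (∀ j, ∃ i, t i = j) → (∀ i, hh (t i) = hh i) →
    ∀ i, t (t i) = i := by decide +kernel

theorem sem_mul {σ τ : Equiv.Perm (Fin 8)} (hσ : sem σ) (hτ : sem τ) : sem (σ * τ) := by
  constructor
  · intro a b hab
    simp only [Equiv.Perm.coe_mul, Function.comp_apply]
    exact hσ.1 _ _ (hτ.1 _ _ hab)
  · intro a b hab
    simp only [Equiv.Perm.coe_mul, Function.comp_apply]
    exact hσ.2 _ _ (hτ.2 _ _ hab)

theorem sem_sq_f4 {σ : Equiv.Perm (Fin 8)} (hσ : sem σ) : ∀ a, f4 (σ (σ a)) = f4 a := by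
  have hs : ∀ a, f4 (σ a) = f4 (σ (r4 (f4 a))) := fun a => hσ.2 _ _ (f4_r4 a)
  have hsurj : ∀ j : Fin 2, ∃ i : Fin 2, f4 (σ (r4 i)) = j := by
    intro j
    refine ⟨f4 (σ⁻¹ (r4 j)), ?_⟩
    rw [← hs]
    simp [f4_r4']
  have hsq := fin2_surj_sq (fun i => f4 (σ (r4 i))) hsurj
  intro a
  rw [hs (σ a), hs a]
  have h5 : f4 (σ (r4 (f4 (σ (r4 (f4 a)))))) = f4 a := hsq (f4 a)
  rw [h5]

theorem sem_sq_f2 {τ : Equiv.Perm (Fin 8)} (hτ : sem τ) (h4 : ∀ a, f4 (τ a) = f4 a) :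
    ∀ a, f2 (τ (τ a)) = f2 a := by
  have ht : ∀ a, f2 (τ a) = f2 (τ (r2 (f2 a))) := fun a => hτ.1 _ _ (f2_r2 a)
  have hsurj : ∀ j : Fin 4, ∃ i : Fin 4, f2 (τ (r2 i)) = j := by
    intro j
    refine ⟨f2 (τ⁻¹ (r2 j)), ?_⟩
    rw [← ht]
    simp [f2_r2']
  have hblk : ∀ i : Fin 4, hh (f2 (τ (r2 i))) = hh i := by
    intro i
    rw [← f4_hh, h4, f4_hh, f2_r2']
  have hsq := fin4_surj_sq (fun i => f2 (τ (r2 i))) hsurj hblk
  intro a
  rw [ht (τ a), ht a]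
  have h5 : f2 (τ (r2 (f2 (τ (r2 (f2 a)))))) = f2 a := hsq (f2 a)
  rw [h5]

theorem sq_of_f2 {ρ : Equiv.Perm (Fin 8)} (h2 : ∀ a, f2 (ρ a) = f2 a) : ∀ a, ρ (ρ a) = a := by
  intro a
  rcases f2_cases a (ρ a) (h2 a).symm with h1 | h1
  · rw [h1, h1]
  · rw [h1]
    rcases f2_cases (p1 a) (ρ (p1 a)) (h2 (p1 a)).symm with h3 | h3
    · exfalso
      have : ρ (p1 a) = ρ a := by rw [h3, h1]
      exact p1_ne a (ρ.injective this)
    · rw [h3, p1_p1]

theorem pow_eight_eq_one {σ : Equiv.Perm (Fin 8)} (hσ : σ ∈ P0) : σ ^ 8 = 1 := by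
  rw [mem_P0, cheap_iff_sem] at hσ
  have h2 : sem (σ * σ) := sem_mul hσ hσ
  have h4 : sem (σ * σ * (σ * σ)) := sem_mul h2 h2
  have e1 : ∀ a, f4 ((σ * σ) a) = f4 a := by
    intro a
    simp only [Equiv.Perm.coe_mul, Function.comp_apply]
    exact sem_sq_f4 hσ a
  have e2 : ∀ a, f2 ((σ * σ * (σ * σ)) a) = f2 a := by
    intro a
    have := sem_sq_f2 h2 e1 a
    simpa only [Equiv.Perm.coe_mul, Function.comp_apply] using this
  have e3 := sq_of_f2 e2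
  ext a
  have : σ ^ 8 = (σ * σ * (σ * σ)) * (σ * σ * (σ * σ)) := by
    simp only [pow_succ, pow_zero, one_mul, mul_assoc]
  rw [this]
  simp only [Equiv.Perm.coe_mul, Function.comp_apply, Equiv.Perm.coe_one, id_eq]
  have := e3 a
  simp only [Equiv.Perm.coe_mul, Function.comp_apply] at this
  rw [this]

theorem P0_isPGroup : IsPGroup 2 P0 := by
  intro g
  refine ⟨3, ?_⟩
  apply Subtype.ext
  rw [Subgroup.coe_pow]
  exact pow_eight_eq_one g.2

end Cfsg.Agent.Lib.Helper9.Sym8Sylow
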