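import Mathlib
import Cfsg.Agent.Lib.Helper9.Sym8Sylow

set_option autoImplicit false

namespace Cfsg.Agent.Lib.Helper9.Sym8Sylow

/-- the coloring of `Fin 8` by `Fin 4` encoded by a number in base 4 -/
def colorOf (n : ℕ) (a : Fin 8) : ℕ := (n / 4 ^ a.val) % 4

/-- `σ` preserves the tree structure given by the coloring `c` -/
def semCB (c : Fin 8 → ℕ) (σ : Equiv.Perm (Fin 8)) : Bool :=
  (List.finRange 8).all fun b => (List.finRange 8).all fun b' =>
    (!(c b == c b') || (c (σ b) == c (σ b'))) &&
    (!(c b / 2 == c b' / 2) || (c (σ b) / 2 == c (σ b') / 2))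

def balancedB (c : Fin 8 → ℕ) : Bool :=
  (List.range 4).all fun i => ((List.finRange 8).filter fun a => c a == i).length == 2

def goodB (n : ℕ) : Bool := !balancedB (colorOf n) || W.any (fun σ => semCB (colorOf n) σ)

set_option maxRecDepth 1000000 in
set_option maxHeartbeats 0 in
theorem all_good : (List.range 65536).all goodB = true := by decide +kernel

end Cfsg.Agent.Lib.Helper9.Sym8Sylow
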