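import Mathlib
import Cfsg.Agent.Lib.Helper9.Sym8Sylow
import Cfsg.Agent.Lib.Helper9.Sym8Sylow2

set_option autoImplicit false

namespace Cfsg.Agent.Lib.Helper9.Sym8Sylow

theorem semCB_spec {c : Fin 8 → ℕ} {σ : Equiv.Perm (Fin 8)} (h : semCB c σ = true) :
    (∀ b b', c b = c b' → c (σ b) = c (σ b')) ∧
    (∀ b b', c b / 2 = c b' / 2 → c (σ b) / 2 = c (σ b') / 2) := by
  unfold semCB at h
  rw [List.all_eq_true] at h
  have key : ∀ b b', (c b ≠ c b' ∨ c (σ b) = c (σ b')) ∧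
      (c b / 2 ≠ c b' / 2 ∨ c (σ b) / 2 = c (σ b') / 2) := by
    intro b b'
    have h1 := h b (List.mem_finRange b)
    rw [List.all_eq_true] at h1
    have h2 := h1 b' (List.mem_finRange b')
    simpa only [Bool.or_eq_true, Bool.not_eq_true', beq_eq_false_iff_ne, beq_iff_eq,
      Bool.and_eq_true, ne_eq] using h2
  constructor
  · intro b b' hbb
    rcases (key b b').1 with h3 | h3
    · exact absurd hbb h3
    · exact h3
  · intro b b' hbb
    rcases (key b b').2 with h3 | h3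
    · exact absurd hbb h3
    · exact h3

theorem digits8 (x0 x1 x2 x3 x4 x5 x6 x7 n : ℕ) (h0 : x0 < 4) (h1 : x1 < 4) (h2 : x2 < 4)
    (h3 : x3 < 4) (h4 : x4 < 4) (h5 : x5 < 4) (h6 : x6 < 4) (h7 : x7 < 4)
    (hn : n = x0 + x1 * 4 + x2 * 16 + x3 * 64 + x4 * 256 + x5 * 1024 + x6 * 4096 + x7 * 16384) :
    n / 1 % 4 = x0 ∧ n / 4 % 4 = x1 ∧ n / 16 % 4 = x2 ∧ n / 64 % 4 = x3 ∧ n / 256 % 4 = x4 ∧
    n / 1024 % 4 = x5 ∧ n / 4096 % 4 = x6 ∧ n / 16384 % 4 = x7 ∧ n < 65536 := by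
  omega

theorem card_fiber : ∀ i : Fin 4, (Finset.univ.filter fun b : Fin 8 => f2 b = i).card = 2 := by
  decide

theorem f4_iff : ∀ x y : Fin 8, f4 x = f4 y ↔ (f2 x).val / 2 = (f2 y).val / 2 := by decide

theorem balanced_of_perm (w : Equiv.Perm (Fin 8)) :
    balancedB (fun a => (f2 (w a)).val) = true := by
  unfold balancedB
  rw [List.all_eq_true]
  intro i hi
  rw [List.mem_range] at hi
  rw [beq_iff_eq]
  have h1 : (Finset.univ.filter fun a : Fin 8 => f2 (w a) = (⟨i, hi⟩ : Fin 4)).card = 2 := by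
    rw [← card_fiber ⟨i, hi⟩]
    apply Finset.card_bij (fun a _ => w a)
    · intro a ha
      rw [Finset.mem_filter] at ha ⊢
      exact ⟨Finset.mem_univ _, ha.2⟩
    · intro a _ b _ hab
      exact w.injective hab
    · intro b hb
      rw [Finset.mem_filter] at hb
      refine ⟨w⁻¹ b, ?_, by simp⟩
      rw [Finset.mem_filter]
      refine ⟨Finset.mem_univ _, ?_⟩
      simpa using hb.2
  have h2 : (Finset.univ.filter fun a : Fin 8 => f2 (w a) = (⟨i, hi⟩ : Fin 4)).card =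
      ((List.finRange 8).filter fun a => decide (f2 (w a) = (⟨i, hi⟩ : Fin 4))).length := by
    rw [Fin.univ_def]; rfl
  rw [h2] at h1
  rw [← h1]
  congr 1
  apply List.filter_congr
  intro a _
  rw [Bool.eq_iff_iff, beq_iff_eq, decide_eq_true_eq, Fin.ext_iff]

theorem exists_witness (w : Equiv.Perm (Fin 8)) : ∃ σ ∈ W, cheap (w * σ * w⁻¹) := by
  obtain ⟨c, hc⟩ : ∃ c : Fin 8 → ℕ, c = fun a => (f2 (w a)).val := ⟨_, rfl⟩
  have hc4 : ∀ a, c a < 4 := by intro a; rw [hc]; exact (f2 (w a)).2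
  obtain ⟨n, hn⟩ : ∃ n : ℕ, n = c 0 + c 1 * 4 + c 2 * 16 + c 3 * 64 + c 4 * 256 + c 5 * 1024 +
      c 6 * 4096 + c 7 * 16384 := ⟨_, rfl⟩
  obtain ⟨e0, e1, e2, e3, e4, e5, e6, e7, hlt⟩ := digits8 (c 0) (c 1) (c 2) (c 3) (c 4) (c 5)
    (c 6) (c 7) n (hc4 0) (hc4 1) (hc4 2) (hc4 3) (hc4 4) (hc4 5) (hc4 6) (hc4 7) hn
  have hcol : colorOf n = c := by
    funext a
    fin_cases a
    · exact e0
    · exact e1
    · exact e2
    · exact e3
    · exact e4
    · exact e5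
    · exact e6
    · exact e7
  have hg : goodB n = true := List.all_eq_true.mp all_good n (List.mem_range.mpr hlt)
  unfold goodB at hg
  rw [hcol, hc, balanced_of_perm w] at hg
  simp only [Bool.not_true, Bool.false_or] at hg
  rw [List.any_eq_true] at hg
  obtain ⟨σ, hσW, hσ⟩ := hg
  refine ⟨σ, hσW, ?_⟩
  obtain ⟨s1, s2⟩ := semCB_spec hσ
  rw [cheap_iff_sem]
  constructor
  · intro a b hab
    have h1 : (f2 (w (w⁻¹ a))).val = (f2 (w (w⁻¹ b))).val := by simp [hab]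
    have h2 := s1 (w⁻¹ a) (w⁻¹ b) h1
    simp only [Equiv.Perm.coe_mul, Function.comp_apply]
    exact Fin.ext h2
  · intro a b hab
    have h1 : (f2 (w (w⁻¹ a))).val / 2 = (f2 (w (w⁻¹ b))).val / 2 := by
      have ea : w (w⁻¹ a) = a := by simp
      have eb : w (w⁻¹ b) = b := by simp
      rw [ea, eb]
      exact (f4_iff a b).mp hab
    have h2 := s2 (w⁻¹ a) (w⁻¹ b) h1
    simp only [Equiv.Perm.coe_mul, Function.comp_apply]
    exact (f4_iff _ _).mpr h2

end Cfsg.Agent.Lib.Helper9.Sym8Sylow
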