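import Mathlib
import Cfsg.Agent.Lib.Helper9.SymSix1

set_option autoImplicit false

/-! # Automorphisms of `S_6` and involution classes -/

namespace Cfsg.Agent.H9SymIdx

open MulAction Equiv
open scoped Nat

section
variable {A B : Type*} [Fintype A] [DecidableEq A] [Fintype B] [DecidableEq B]

/-- A product of three disjoint transpositions. -/
def IsTriple (u : Perm A) : Prop := u.cycleType = Multiset.replicate 3 2

theorem isSwap_iff_cycleType (t : Perm A) : t.IsSwap ↔ t.cycleType = Multiset.replicate 1 2 := by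
  constructor
  · rintro ⟨x, y, hxy, rfl⟩
    rw [(Perm.isCycle_swap hxy).cycleType, Perm.card_support_swap hxy]
    rfl
  · intro h
    rw [← Perm.card_support_eq_two, ← Perm.sum_cycleType, h]
    rfl

theorem not_swap_and_triple (t : Perm A) (h1 : t.IsSwap) (h2 : IsTriple t) : False := by
  rw [isSwap_iff_cycleType] at h1
  rw [IsTriple, h1] at h2
  have := congrArg Multiset.card h2
  simp at this

theorem swap_or_triple (hA : Fintype.card A = 6) (hB : Fintype.card B = 6)
    (ψ : Perm A ≃* Perm B) (t : Perm A) (ht : t.IsSwap) : (ψ t).IsSwap ∨ IsTriple (ψ t) := by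
  have hcard : Fintype.card A = Fintype.card B := by rw [hA, hB]
  have ho : orderOf (ψ t) = 2 := by
    rw [MulEquiv.orderOf_eq]; exact ht.orderOf
  obtain ⟨k, hk⟩ := Perm.cycleType_prime_order (σ := ψ t) (by rw [ho]; exact Nat.prime_two)
  rw [ho] at hk
  have htc : t.cycleType = Multiset.replicate 1 2 := (isSwap_iff_cycleType t).mp ht
  have h1 := Perm.card_isConj_mul_eq t
  have h2 := Perm.card_isConj_mul_eq (ψ t)
  rw [conj_card_eq ψ t] at h2
  obtain ⟨s1, p1, c1⟩ := rep2_data 1 le_rfl
  obtain ⟨s2, p2, c2⟩ := rep2_data (k + 1) (by omega)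
  rw [htc, s1, p1, c1] at h1
  rw [hk, s2, p2, c2, ← hcard] at h2
  set n := Fintype.card A with hn
  have hle : 2 * (k + 1) ≤ n := by
    have := Perm.sum_cycleType_le (ψ t)
    rw [hk, s2, ← hcard] at this
    exact this
  have hN : 0 < Nat.card {g : Perm A | IsConj t g} := by
    rw [Nat.card_pos_iff]
    exact ⟨⟨⟨t, IsConj.refl t⟩⟩, inferInstance⟩
  have h3 : (n - 2 * (k + 1))! * 2 ^ (k + 1) * (k + 1)! = (n - 2)! * 2 := by
    have : Nat.card {g : Perm A | IsConj t g} * ((n - 2 * (k + 1))! * 2 ^ (k + 1) * (k + 1)!) =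
        Nat.card {g : Perm A | IsConj t g} * ((n - 2)! * 2) := by
      rw [h2]
      rw [← h1]
      simp
    exact Nat.eq_of_mul_eq_mul_left hN this
  rcases arith_key n (k + 1) (by omega) hle h3 with h | ⟨-, h⟩
  · left
    have hk0 : k = 0 := by omega
    rw [hk0] at hk
    exact (isSwap_iff_cycleType _).mpr hk
  · right
    have hk2 : k = 2 := by omega
    rw [hk2] at hk
    exact hk

theorem swap_all_of_one (ψ : Perm A ≃* Perm B) {t₀ : Perm A} (ht₀ : t₀.IsSwap) (h : (ψ t₀).IsSwap)
    (t : Perm A) (ht : t.IsSwap) : (ψ t).IsSwap := by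
  obtain ⟨x, y, hxy, rfl⟩ := ht₀
  obtain ⟨x', y', hxy', rfl⟩ := ht
  have hc : IsConj (swap x y) (swap x' y') := Perm.isConj_swap hxy hxy'
  have hc2 : IsConj (ψ (swap x y)) (ψ (swap x' y')) := by
    rw [isConj_iff] at hc ⊢
    obtain ⟨c, hc⟩ := hc
    exact ⟨ψ c, by rw [← map_inv, ← map_mul, ← map_mul, hc]⟩
  rw [Perm.isConj_iff_cycleType_eq] at hc2
  rw [isSwap_iff_cycleType] at h ⊢
  rw [← hc2]; exact h

theorem card_swaps (hA : Fintype.card A = 6) : Nat.card {t : Perm A // t.IsSwap} = 15 := by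
  have h := Perm.card_of_cycleType_singleton (α := A) (n := 2) le_rfl (by omega)
  rw [hA] at h
  have e : {t : Perm A // t.IsSwap} ≃ {t : Perm A // t.cycleType = {2}} :=
    Equiv.subtypeEquivRight (fun t => isSwap_iff_cycleType t)
  rw [Nat.card_congr e, Nat.card_eq_fintype_card, Fintype.card_subtype, h]
  decide

theorem card_triples (hA : Fintype.card A = 6) : Nat.card {t : Perm A // IsTriple t} = 15 := by
  have h := Perm.card_of_cycleType_mul_eq A (Multiset.replicate 3 2)
  obtain ⟨s, p, c⟩ := rep2_data 3 (by omega)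
  rw [s, p, c, hA] at h
  rw [if_pos ⟨by omega, by intro a ha; rw [Multiset.mem_replicate] at ha; omega⟩] at h
  unfold IsTriple
  rw [Nat.card_eq_fintype_card, Fintype.card_subtype]
  have h2 : (6 - 2 * 3)! * 2 ^ 3 * 3 ! = 48 := by decide
  rw [h2] at h
  have h3 : (6 : ℕ)! = 15 * 48 := by decide
  rw [h3] at h
  exact Nat.eq_of_mul_eq_mul_right (by omega) h

/-- If `ψ` maps swaps to triples, then it maps triples to swaps. -/
theorem triple_to_swap (hA : Fintype.card A = 6) (hB : Fintype.card B = 6) (ψ : Perm A ≃* Perm B)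
    (h : ∀ t : Perm A, t.IsSwap → IsTriple (ψ t)) (u : Perm A) (hu : IsTriple u) : (ψ u).IsSwap := by
  -- `ψ.symm` maps swaps to triples
  have h1 : ∀ s : Perm B, s.IsSwap → IsTriple (ψ.symm s) := by
    intro s hs
    rcases swap_or_triple hB hA ψ.symm s hs with h2 | h2
    · exfalso
      have := h _ h2
      rw [ψ.apply_symm_apply] at this
      exact not_swap_and_triple s hs this
    · exact h2
  let f : {s : Perm B // s.IsSwap} → {u : Perm A // IsTriple u} := fun s => ⟨ψ.symm s.1, h1 s.1 s.2⟩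
  have hf : Function.Injective f := by
    intro s s' hss
    apply Subtype.ext
    apply ψ.symm.injective
    exact congrArg Subtype.val hss
  have hfin : Finite {u : Perm A // IsTriple u} := inferInstance
  have hbij : Function.Bijective f := by
    refine hf.bijective_of_nat_card_le ?_
    rw [card_swaps hB, card_triples hA]
  obtain ⟨s, hs⟩ := hbij.2 ⟨u, hu⟩
  have : ψ.symm s.1 = u := congrArg Subtype.val hs
  rw [← this, ψ.apply_symm_apply]
  exact s.2

end
end Cfsg.Agent.H9SymIdx
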