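import Mathlib
import Cfsg.Agent.Lib.Helper9.SymSix2

set_option autoImplicit false

/-! # Subgroups of index 6 in `S_6` -/

namespace Cfsg.Agent.H9SymIdx

open MulAction Equiv
open scoped Nat

universe u

section
variable {Ω : Type u} [Fintype Ω] [DecidableEq Ω]

/-- `H` is the preimage of a point stabilizer under an isomorphism mapping swaps to triples. -/
def ExoticData (H : Subgroup (Perm Ω)) (X : Type*) [Fintype X] [DecidableEq X] : Prop :=
  Fintype.card X = 6 ∧ ∃ (ψ : Perm Ω ≃* Perm X) (c₀ : X), (∀ g, g ∈ H ↔ ψ g c₀ = c₀) ∧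
    ∀ t : Perm Ω, t.IsSwap → IsTriple (ψ t)

theorem symm_swap_of_swap {A B : Type*} [Fintype A] [DecidableEq A] [Fintype B] [DecidableEq B]
    (hA : Fintype.card A = 6) (hB : Fintype.card B = 6) (ψ : Perm A ≃* Perm B)
    (h : ∀ t : Perm A, t.IsSwap → (ψ t).IsSwap) (s : Perm B) (hs : s.IsSwap) : (ψ.symm s).IsSwap := by
  let f : {t : Perm A // t.IsSwap} → {s : Perm B // s.IsSwap} := fun t => ⟨ψ t.1, h t.1 t.2⟩
  have hf : Function.Injective f := by
    intro t t' htt
    apply Subtype.ext
    apply ψ.injective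
    exact congrArg Subtype.val htt
  have hfin : Finite {s : Perm B // s.IsSwap} := inferInstance
  have hbij : Function.Bijective f := by
    refine hf.bijective_of_nat_card_le ?_
    rw [card_swaps hA, card_swaps hB]
  obtain ⟨t, ht⟩ := hbij.2 ⟨s, hs⟩
  have : ψ t.1 = s := congrArg Subtype.val ht
  rw [← this, ψ.symm_apply_apply]
  exact t.2

/-- Dichotomy for subgroups of index 6. -/
theorem std_or_exotic (h6 : Fintype.card Ω = 6) (H : Subgroup (Perm Ω)) (hH : H.index = 6) :
    (∃ x : Ω, H = stabilizer (Perm Ω) x) ∨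
      ∃ (X : Type u) (_ : Fintype X) (_ : DecidableEq X), ExoticData H X := by
  classical
  have hH' : H.index = Fintype.card Ω := by rw [hH, h6]
  obtain ⟨ψ, hψ⟩ := exists_coset_iso H hH' (by omega)
  have hcardX : Fintype.card (Perm Ω ⧸ H) = 6 := by
    rw [← Nat.card_eq_fintype_card]; exact hH
  -- a swap
  obtain ⟨a, b, hab⟩ : ∃ a b : Ω, a ≠ b := by
    have : Nontrivial Ω := Fintype.one_lt_card_iff_nontrivial.mp (by omega)
    exact exists_pair_ne Ω
  have ht₀ : (swap a b).IsSwap := ⟨a, b, hab, rfl⟩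
  rcases swap_or_triple h6 hcardX ψ (swap a b) ht₀ with h | h
  · left
    have hsw : ∀ t : Perm Ω, t.IsSwap → (ψ t).IsSwap := swap_all_of_one ψ ht₀ h
    have hsw' := symm_swap_of_swap h6 hcardX ψ hsw
    have h1 := card_swaps_eq H ψ _ hψ hsw hsw'
    apply eq_stabilizer_of_pairs H (by omega) hH'
    rw [card_pairs_eq, h1, ← card_pairs_eq, card_pairs_stabilizer, hcardX, h6]
  · right
    refine ⟨Perm Ω ⧸ H, inferInstance, inferInstance, hcardX, ψ, _, hψ, ?_⟩
    intro t ht
    rcases swap_or_triple h6 hcardX ψ t ht with h2 | h2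
    · exfalso
      exact not_swap_and_triple _ (swap_all_of_one ψ ht h2 _ ht₀) h
    · exact h2

/-- A triple has no fixed point. -/
theorem triple_no_fix {X : Type*} [Fintype X] [DecidableEq X] (hX : Fintype.card X = 6)
    (u : Perm X) (hu : IsTriple u) (c : X) : u c ≠ c := by
  have h1 : u.support.card = 6 := by
    rw [← Perm.sum_cycleType, hu]; rfl
  have h2 : u.support = Finset.univ := by
    apply Finset.eq_univ_of_card
    rw [h1, hX]
  have : c ∈ u.support := by rw [h2]; exact Finset.mem_univ c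
  exact Perm.mem_support.mp this

/-- Exotic subgroups are not point stabilizers. -/
theorem not_std_of_exotic (h6 : Fintype.card Ω = 6) (H : Subgroup (Perm Ω))
    {X : Type*} [Fintype X] [DecidableEq X] (hE : ExoticData H X) (x : Ω) :
    H ≠ stabilizer (Perm Ω) x := by
  intro h
  obtain ⟨hX, ψ, c₀, hψ, htr⟩ := hE
  -- a swap avoiding x
  obtain ⟨a, b, hab, hax, hbx⟩ : ∃ a b : Ω, a ≠ b ∧ a ≠ x ∧ b ≠ x := by
    by_contra hcon
    push Not at hcon
    have : Fintype.card Ω ≤ 2 := by
      by_cases hex : ∃ a : Ω, a ≠ x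
      · obtain ⟨a, ha⟩ := hex
        have hsub : (Finset.univ : Finset Ω) ⊆ {x, a} := by
          intro z _
          by_cases hzx : z = x
          · rw [hzx]; simp
          · by_cases hza : z = a
            · rw [hza]; simp
            · exact absurd (hcon a z (Ne.symm hza) ha) (by simpa using hzx)
        calc Fintype.card Ω = (Finset.univ : Finset Ω).card := rfl
          _ ≤ ({x, a} : Finset Ω).card := Finset.card_le_card hsub
          _ ≤ 2 := Finset.card_le_two
      · push Not at hex
        have : Subsingleton Ω := ⟨fun u v => by rw [hex u, hex v]⟩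
        have := Fintype.card_le_one_iff_subsingleton.mpr this
        omega
    omega
  have h1 : swap a b ∈ H := by
    rw [h, mem_stabilizer_iff]
    exact swap_apply_of_ne_of_ne (Ne.symm hax) (Ne.symm hbx)
  rw [hψ] at h1
  exact triple_no_fix hX _ (htr _ ⟨a, b, hab, rfl⟩) c₀ h1

end
end Cfsg.Agent.H9SymIdx
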