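import Mathlib
import Cfsg.Agent.Lib.Helper9.SymSix3

set_option autoImplicit false

/-! # Exotic subgroups of index 6 in `S_6` are conjugate -/

namespace Cfsg.Agent.H9SymIdx

open MulAction Equiv
open scoped Nat

universe u v w

section
variable {Ω : Type u} [Fintype Ω] [DecidableEq Ω]

theorem permCongrHom_swap {X₁ : Type v} {X₂ : Type w} [DecidableEq X₁] [DecidableEq X₂]
    (k : X₁ ≃ X₂) (a b : X₁) : k.permCongrHom (swap a b) = swap (k a) (k b) := by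
  rw [Equiv.permCongrHom_coe]
  exact Equiv.symm_trans_swap_trans a b k

theorem exotic_conj (h6 : Fintype.card Ω = 6) (H₁ H₂ : Subgroup (Perm Ω))
    {X₁ : Type v} {X₂ : Type w} [Fintype X₁] [DecidableEq X₁] [Fintype X₂] [DecidableEq X₂]
    (hE₁ : ExoticData H₁ X₁) (hE₂ : ExoticData H₂ X₂) :
    ∃ β : Perm Ω, H₁.map (MulAut.conj β).toMonoidHom = H₂ := by
  obtain ⟨hX₁, ψ₁, c₁, hψ₁, htr₁⟩ := hE₁
  obtain ⟨hX₂, ψ₂, c₂, hψ₂, htr₂⟩ := hE₂
  let e₀ : X₁ ≃ X₂ := Fintype.equivOfCardEq (hX₁.trans hX₂.symm)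
  let k : X₁ ≃ X₂ := e₀.trans (swap (e₀ c₁) c₂)
  have hk : k c₁ = c₂ := by
    change swap (e₀ c₁) c₂ (e₀ c₁) = c₂
    exact swap_apply_left _ _
  let κ : Perm X₁ ≃* Perm X₂ := k.permCongrHom
  have hκsw : ∀ s : Perm X₁, s.IsSwap → (κ s).IsSwap := by
    rintro _ ⟨a, b, hab, rfl⟩
    exact ⟨k a, k b, fun h => hab (k.injective h), permCongrHom_swap k a b⟩
  let ψ₂' : Perm Ω ≃* Perm X₁ := ψ₂.trans κ.symm
  have hA : ∀ t : Perm Ω, t.IsSwap → IsTriple (ψ₂' t) := by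
    intro t ht
    rcases swap_or_triple h6 hX₁ ψ₂' t ht with h | h
    · exfalso
      have h1 := hκsw _ h
      have h2 : κ (ψ₂' t) = ψ₂ t := κ.apply_symm_apply (ψ₂ t)
      rw [h2] at h1
      exact not_swap_and_triple _ h1 (htr₂ t ht)
    · exact h
  let γ : Perm Ω ≃* Perm Ω := ψ₁.trans ψ₂'.symm
  have hB : ∀ t : Perm Ω, t.IsSwap → (γ t).IsSwap := by
    intro t ht
    have h1 : ∀ s : Perm X₁, s.IsSwap → IsTriple (ψ₂'.symm s) := by
      intro s hs
      rcases swap_or_triple hX₁ h6 ψ₂'.symm s hs with h | h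
      · exfalso
        have := hA _ h
        rw [ψ₂'.apply_symm_apply] at this
        exact not_swap_and_triple _ hs this
      · exact h
    exact triple_to_swap hX₁ h6 ψ₂'.symm h1 (ψ₁ t) (htr₁ t ht)
  have hC : ∀ t : Perm Ω, t.IsSwap → (γ.symm t).IsSwap := by
    intro t ht
    have h1 : ∀ s : Perm X₁, s.IsSwap → IsTriple (ψ₁.symm s) := by
      intro s hs
      rcases swap_or_triple hX₁ h6 ψ₁.symm s hs with h | h
      · exfalso
        have := htr₁ _ h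
        rw [ψ₁.apply_symm_apply] at this
        exact not_swap_and_triple _ hs this
      · exact h
    exact triple_to_swap hX₁ h6 ψ₁.symm h1 (ψ₂' t) (hA t ht)
  obtain ⟨β, hβ⟩ := exists_conj_of_swaps (by omega) γ hB hC
  refine ⟨β, ?_⟩
  ext g
  have key : ∀ h : Perm Ω, h ∈ H₁ ↔ γ h ∈ H₂ := by
    intro h
    rw [hψ₁, hψ₂]
    have e1 : ψ₂ (γ h) = κ (ψ₁ h) := by
      change ψ₂ (ψ₂.symm (κ (ψ₁ h))) = κ (ψ₁ h)
      exact ψ₂.apply_symm_apply _
    rw [e1]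
    have e2 : κ (ψ₁ h) c₂ = k (ψ₁ h c₁) := by
      change k.permCongrHom (ψ₁ h) c₂ = _
      rw [Equiv.permCongrHom_coe, Equiv.permCongr_apply, ← hk, k.symm_apply_apply]
    rw [e2, ← hk, k.injective.eq_iff]
  constructor
  · rintro ⟨h, hh, rfl⟩
    change β * h * β⁻¹ ∈ H₂
    rw [← hβ]
    exact (key h).mp hh
  · intro hg
    refine ⟨γ.symm g, ?_, ?_⟩
    · rw [SetLike.mem_coe, key, γ.apply_symm_apply]
      exact hg
    · change β * γ.symm g * β⁻¹ = g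
      rw [← hβ, γ.apply_symm_apply]

end
end Cfsg.Agent.H9SymIdx
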