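import Mathlib
import Cfsg.Agent.Lib.Helper9.SymSix4

set_option autoImplicit false

/-! # An exotic subgroup of index 6 in `S_6` -/

namespace Cfsg.Agent.H9SymIdx

open MulAction Equiv
open scoped Nat

universe u

section sylow

instance fact5 : Fact (Nat.Prime 5) := ⟨by norm_num⟩

abbrev G5 := Perm (Fin 5)
abbrev Y5 := Sylow 5 G5

theorem card_G5 : Nat.card G5 = 120 := by
  rw [Nat.card_perm, Nat.card_eq_fintype_card, Fintype.card_fin]; rfl

theorem card_sylow5 (P : Y5) : Nat.card P = 5 := by
  rw [Sylow.card_eq_multiplicity, card_G5]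
  have : (120 : ℕ).factorization 5 = 1 := by
    have h : (120 : ℕ) = 5 ^ 1 * 24 := by norm_num
    rw [h, Nat.factorization_mul (by norm_num) (by norm_num), Nat.Prime.factorization_pow (by norm_num)]
    simp
    rw [Nat.factorization_eq_zero_of_not_dvd (by norm_num)]
  rw [this]; rfl

theorem card_Y5 : Nat.card Y5 = 6 := by
  obtain ⟨P⟩ : Nonempty Y5 := Sylow.nonempty
  have h1 : Nat.card Y5 ≡ 1 [MOD 5] := card_sylow_modEq_one 5 G5
  have h2 : Nat.card Y5 ∣ (P : Subgroup G5).index := Sylow.card_dvd_index P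
  have h3 : (P : Subgroup G5).index = 24 := by
    have := (P : Subgroup G5).index_mul_card
    rw [card_sylow5 P, card_G5] at this
    omega
  rw [h3] at h2
  have hne1 : Nat.card Y5 ≠ 1 := by
    intro h
    have hsub : Subsingleton Y5 := by
      rw [← Finite.card_le_one_iff_subsingleton, h]
    have hn : (P : Subgroup G5).Normal := Sylow.normal_of_subsingleton P
    have hnt : Nontrivial (P : Subgroup G5) := by
      rw [← Finite.one_lt_card_iff_nontrivial, card_sylow5 P]; norm_num
    have hA : alternatingGroup (Fin 5) ≤ (P : Subgroup G5) :=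
      Perm.alternatingGroup_le_of_normal (by simp) hnt
    have h5 := Nat.le_of_dvd Nat.card_pos (Subgroup.card_dvd_of_le hA)
    have h6 := two_mul_nat_card_alternatingGroup (α := Fin 5)
    rw [card_G5] at h6
    rw [card_sylow5 P] at h5
    omega
  have hle : Nat.card Y5 ≤ 24 := Nat.le_of_dvd (by norm_num) h2
  have hmod : Nat.card Y5 % 5 = 1 := h1
  generalize Nat.card Y5 = c at *
  interval_cases c <;> omega

/-- The conjugation action on the Sylow 5-subgroups is faithful. -/
theorem toPermHom_Y5_injective : Function.Injective (MulAction.toPermHom G5 Y5) := by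
  rw [← MonoidHom.ker_eq_bot_iff]
  by_contra hne
  have hnt : Nontrivial (MulAction.toPermHom G5 Y5).ker := (Subgroup.nontrivial_iff_ne_bot _).mpr hne
  have hA : alternatingGroup (Fin 5) ≤ (MulAction.toPermHom G5 Y5).ker :=
    Perm.alternatingGroup_le_of_normal (by simp) hnt
  obtain ⟨P⟩ : Nonempty Y5 := Sylow.nonempty
  have hle : (MulAction.toPermHom G5 Y5).ker ≤ stabilizer G5 P := by
    intro g hg
    rw [MonoidHom.mem_ker] at hg
    rw [mem_stabilizer_iff]
    have := congrArg (fun σ : Perm Y5 => σ P) hg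
    exact this
  have h1 : (stabilizer G5 P).index ∣ (alternatingGroup (Fin 5)).index :=
    Subgroup.index_dvd_of_le (hA.trans hle)
  rw [index_stabilizer_of_transitive, card_Y5, alternatingGroup.index_eq_two] at h1
  omega

end sylow

section
variable {Ω : Type u} [Fintype Ω] [DecidableEq Ω]

/-- There is a subgroup of index 6 in `S_6` which is not a point stabilizer. -/
theorem exists_nonstd (h6 : Fintype.card Ω = 6) :
    ∃ H : Subgroup (Perm Ω), H.index = 6 ∧ ∀ x : Ω, H ≠ stabilizer (Perm Ω) x := by
  classical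
  haveI : Fintype Y5 := Fintype.ofFinite Y5
  have hY : Fintype.card Y5 = 6 := by rw [← Nat.card_eq_fintype_card]; exact card_Y5
  let e : Y5 ≃ Ω := Fintype.equivOfCardEq (hY.trans h6.symm)
  let ρ : G5 →* Perm Ω := (e.permCongrHom : Perm Y5 →* Perm Ω).comp (MulAction.toPermHom G5 Y5)
  have hρ : Function.Injective ρ := e.permCongrHom.injective.comp toPermHom_Y5_injective
  refine ⟨ρ.range, ?_, ?_⟩
  · have h1 := ρ.range.index_mul_card
    have h2 : Nat.card ρ.range = 120 := by
      rw [← card_G5]
      exact Nat.card_congr (MonoidHom.ofInjective hρ).toEquiv.symm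
    rw [h2, Nat.card_perm, Nat.card_eq_fintype_card, h6] at h1
    have : (6 : ℕ)! = 720 := by decide
    omega
  · intro x hx
    -- transitivity
    obtain ⟨P, Q, hPQ⟩ : ∃ P Q : Y5, P ≠ Q := by
      have : Nontrivial Y5 := by
        rw [← Fintype.one_lt_card_iff_nontrivial, hY]; norm_num
      exact exists_pair_ne Y5
    -- some point ≠ e.symm x
    obtain ⟨R, hR⟩ : ∃ R : Y5, R ≠ e.symm x := by
      by_cases h : P = e.symm x
      · exact ⟨Q, fun h' => hPQ (h.trans h'.symm)⟩
      · exact ⟨P, h⟩
    obtain ⟨g, hg⟩ := exists_smul_eq G5 (e.symm x) R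
    have h1 : ρ g ∈ ρ.range := ⟨g, rfl⟩
    rw [hx, mem_stabilizer_iff] at h1
    have h2 : ρ g x = e (g • e.symm x) := by
      change e.permCongrHom (MulAction.toPermHom G5 Y5 g) x = _
      rw [Equiv.permCongrHom_coe, Equiv.permCongr_apply]
      rfl
    have h3 : ρ g x = x := h1
    rw [h2, hg] at h3
    apply hR
    rw [← h3, e.symm_apply_apply]

end
end Cfsg.Agent.H9SymIdx
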