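import Mathlib
import Cfsg.Agent.Lib.Helper9.SymSix5

set_option autoImplicit false

/-! # Counting the subgroups of index 6 in `S_6` -/

namespace Cfsg.Agent.H9SymIdx

open MulAction Equiv
open scoped Nat

universe u v

section
variable {Ω : Type u} [Fintype Ω] [DecidableEq Ω]

/-- A point stabilizer in the symmetric group is the symmetric group on the other points. -/
theorem nonempty_stabilizer_equiv (x : Ω) :
    Nonempty (stabilizer (Perm Ω) x ≃* Perm {y : Ω // y ≠ x}) := by
  let ff : Perm {y : Ω // y ≠ x} →* Perm Ω := Perm.ofSubtype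
  have hφ : Function.Injective ff := Perm.ofSubtype_injective
  have hM : ff.range = stabilizer (Perm Ω) x := by
    ext g
    rw [mem_stabilizer_iff]
    constructor
    · rintro ⟨σ, rfl⟩
      exact Perm.ofSubtype_apply_of_not_mem σ (by simp)
    · intro hg
      have hg' : g x = x := hg
      have h1 : ∀ y, g y ≠ x ↔ y ≠ x := by
        intro y
        rw [not_iff_not]
        constructor
        · intro h
          apply g.injective
          rw [h]; exact hg'.symm
        · intro h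
          rw [h]; exact hg'
      refine ⟨Perm.subtypePerm g (p := fun y => y ≠ x) h1,
        Perm.ofSubtype_subtypePerm (p := fun y => y ≠ x) h1 ?_⟩
      intro y hy h
      apply hy
      rw [h]; exact hg'
  exact ⟨((MonoidHom.ofInjective hφ).trans (MulEquiv.subgroupCongr hM)).symm⟩

/-- Preimage of a point stabilizer under an isomorphism. -/
theorem comap_conj_eq {X : Type v} (ψ : Perm Ω ≃* Perm X) (c : X) (β : Perm Ω) :
    ((stabilizer (Perm X) c).comap (ψ : Perm Ω →* Perm X)).map (MulAut.conj β).toMonoidHom =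
      (stabilizer (Perm X) (ψ β c)).comap (ψ : Perm Ω →* Perm X) := by
  ext g
  constructor
  · rintro ⟨h, hh, rfl⟩
    rw [SetLike.mem_coe, Subgroup.mem_comap, mem_stabilizer_iff] at hh
    rw [Subgroup.mem_comap, mem_stabilizer_iff]
    change ψ (β * h * β⁻¹) (ψ β c) = ψ β c
    rw [map_mul, map_mul, map_inv, Perm.mul_apply, Perm.mul_apply, Perm.inv_def, Equiv.symm_apply_apply]
    have hh' : ψ h c = c := hh
    rw [hh']
  · intro hg
    rw [Subgroup.mem_comap, mem_stabilizer_iff] at hg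
    have hg' : ψ g (ψ β c) = ψ β c := hg
    refine ⟨β⁻¹ * g * β, ?_, ?_⟩
    · rw [SetLike.mem_coe, Subgroup.mem_comap, mem_stabilizer_iff]
      change ψ (β⁻¹ * g * β) c = c
      rw [map_mul, map_mul, map_inv, Perm.mul_apply, Perm.mul_apply, hg', Perm.inv_def, Equiv.symm_apply_apply]
    · change β * (β⁻¹ * g * β) * β⁻¹ = g
      group

theorem card_index_six (h6 : Fintype.card Ω = 6) :
    Nat.card {H : Subgroup (Perm Ω) // H.index = 6} = 12 := by
  classical
  obtain ⟨H₂, hH₂, hns⟩ := exists_nonstd h6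
  rcases std_or_exotic h6 H₂ hH₂ with ⟨x, hx⟩ | ⟨X₂, _, _, hE₂⟩
  · exact absurd hx (hns x)
  obtain ⟨hX₂, ψ₂, c₀, hψ₂, htr₂⟩ := hE₂
  have hH₂eq : H₂ = (stabilizer (Perm X₂) c₀).comap (ψ₂ : Perm Ω →* Perm X₂) := by
    ext g
    rw [hψ₂, Subgroup.mem_comap, mem_stabilizer_iff]
    rfl
  have hidx : ∀ c : X₂, ((stabilizer (Perm X₂) c).comap (ψ₂ : Perm Ω →* Perm X₂)).index = 6 := by
    intro c
    rw [Subgroup.index_comap_of_surjective _ ψ₂.surjective, index_stabilizer_of_transitive,
      Nat.card_eq_fintype_card, hX₂]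
  have hidx1 : ∀ x : Ω, (stabilizer (Perm Ω) x).index = 6 := by
    intro x
    rw [index_stabilizer_of_transitive, Nat.card_eq_fintype_card, h6]
  have hex : ∀ c : X₂, ExoticData ((stabilizer (Perm X₂) c).comap (ψ₂ : Perm Ω →* Perm X₂)) X₂ := by
    intro c
    refine ⟨hX₂, ψ₂, c, ?_, htr₂⟩
    intro g
    rw [Subgroup.mem_comap, mem_stabilizer_iff]
    rfl
  let F : Ω ⊕ X₂ → {H : Subgroup (Perm Ω) // H.index = 6} := fun s =>
    match s with
    | Sum.inl x => ⟨stabilizer (Perm Ω) x, hidx1 x⟩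
    | Sum.inr c => ⟨(stabilizer (Perm X₂) c).comap (ψ₂ : Perm Ω →* Perm X₂), hidx c⟩
  have hF : Function.Bijective F := by
    constructor
    · rintro (x | c) (x' | c') h
      · have h1 : stabilizer (Perm Ω) x = stabilizer (Perm Ω) x' := congrArg Subtype.val h
        rw [stabilizer_injective (by omega) h1]
      · exfalso
        have h1 : stabilizer (Perm Ω) x =
            (stabilizer (Perm X₂) c').comap (ψ₂ : Perm Ω →* Perm X₂) := congrArg Subtype.val h
        exact not_std_of_exotic h6 _ (hex c') x h1.symm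
      · exfalso
        have h1 : (stabilizer (Perm X₂) c).comap (ψ₂ : Perm Ω →* Perm X₂) =
            stabilizer (Perm Ω) x' := congrArg Subtype.val h
        exact not_std_of_exotic h6 _ (hex c) x' h1
      · have h1 : (stabilizer (Perm X₂) c).comap (ψ₂ : Perm Ω →* Perm X₂) =
            (stabilizer (Perm X₂) c').comap (ψ₂ : Perm Ω →* Perm X₂) := congrArg Subtype.val h
        have h2 := Subgroup.comap_injective ψ₂.surjective h1
        rw [stabilizer_injective (by omega) h2]
    · rintro ⟨H, hH⟩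
      rcases std_or_exotic h6 H hH with ⟨x, hx⟩ | ⟨X, _, _, hE⟩
      · exact ⟨Sum.inl x, Subtype.ext hx.symm⟩
      · obtain ⟨β, hβ⟩ := exotic_conj h6 H₂ H ⟨hX₂, ψ₂, c₀, hψ₂, htr₂⟩ hE
        refine ⟨Sum.inr (ψ₂ β c₀), Subtype.ext ?_⟩
        change (stabilizer (Perm X₂) (ψ₂ β c₀)).comap (ψ₂ : Perm Ω →* Perm X₂) = H
        rw [← comap_conj_eq, ← hH₂eq, hβ]
  rw [← Nat.card_congr (Equiv.ofBijective F hF), Nat.card_sum, Nat.card_eq_fintype_card,
    Nat.card_eq_fintype_card, h6, hX₂]

/-- Every subgroup of index 6 in `S_6` is isomorphic to `S_5`. -/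
theorem nonempty_equiv_perm_five (h6 : Fintype.card Ω = 6) (H : Subgroup (Perm Ω)) (hH : H.index = 6) :
    Nonempty (H ≃* Perm (Fin 5)) := by
  classical
  have hH' : H.index = Fintype.card Ω := by rw [hH, h6]
  obtain ⟨ψ, hψ⟩ := exists_coset_iso H hH' (by omega)
  have hcardX : Fintype.card (Perm Ω ⧸ H) = 6 := by
    rw [← Nat.card_eq_fintype_card]; exact hH
  set c₀ : Perm Ω ⧸ H := QuotientGroup.mk 1 with hc₀
  have hmap : H.map (ψ : Perm Ω →* Perm (Perm Ω ⧸ H)) = stabilizer (Perm (Perm Ω ⧸ H)) c₀ := by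
    ext g
    rw [mem_stabilizer_iff]
    constructor
    · rintro ⟨h, hh, rfl⟩
      exact (hψ h).mp hh
    · intro hg
      refine ⟨ψ.symm g, ?_, ψ.apply_symm_apply g⟩
      rw [SetLike.mem_coe, hψ, ψ.apply_symm_apply]
      exact hg
  obtain ⟨e1⟩ := nonempty_stabilizer_equiv c₀
  have hc5 : Fintype.card {y : Perm Ω ⧸ H // y ≠ c₀} = Fintype.card (Fin 5) := by
    rw [Fintype.card_subtype_compl, hcardX, Fintype.card_fin]
    simp
  let e2 : {y : Perm Ω ⧸ H // y ≠ c₀} ≃ Fin 5 := Fintype.equivOfCardEq hc5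
  exact ⟨(ψ.subgroupMap H).trans ((MulEquiv.subgroupCongr hmap).trans (e1.trans e2.permCongrHom))⟩

end
end Cfsg.Agent.H9SymIdx
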