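import Mathlib
import Cfsg.Prelude.Def_PLocal
import Cfsg.Agent.Lib.Lead.FrobNPC5
import Cfsg.Agent.Lib.Helper4.ThreeStep4
import Cfsg.Agent.S0659

set_option autoImplicit false

/-!
# Glauberman–Thompson for fusion systems (part 8): the group-theoretic input

In a finite group without a normal `p`-complement (`p` odd), some `p'`-element normalizes both `Z(J(T))` and a subgroup
of the Sylow subgroup `T` without centralizing the latter.
-/

namespace Cfsg.Agent.H9ZJ

open Cfsg Cfsg.Agent.Lib.Lead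

universe u

theorem exists_local_witness {L : Type u} [Group L] [Finite L] {p : ℕ} [hp : Fact p.Prime] (hp2 : p ≠ 2)
    (T : Sylow p L) (h : ¬ PLocalCentral p L) :
    ∃ (D : Subgroup L) (g : L), D ≤ (T : Subgroup L) ∧ g ∈ Subgroup.normalizer (D : Set L) ∧
      g ∈ Subgroup.normalizer (centerThompsonAOf (T : Subgroup L) : Set L) ∧ (orderOf g).Coprime p ∧
      g ∉ Subgroup.centralizer (D : Set L) := by
  obtain ⟨M, hMdef⟩ : ∃ M : Subgroup L, M = Subgroup.normalizer (centerThompsonAOf (T : Subgroup L) : Set L) :=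
    ⟨_, rfl⟩
  have h1 : ¬ HasNormalPComplement p L := fun hh => h (hasNormalPComplement_iff_plocalCentral.mp hh)
  have h2 : ¬ HasNormalPComplement p M := by
    intro hh
    apply h1
    apply Cfsg.Agent.S0659.result hp2 T
    rw [← hMdef]
    exact hh
  have h3 : ¬ PLocalCentral p M := fun hh => h2 (hasNormalPComplement_iff_plocalCentral.mpr hh)
  have hTM : (T : Subgroup L) ≤ M := by
    rw [hMdef]
    exact Subgroup.le_normalizer.trans
      (Cfsg.Agent.Lib.Helper4.ThreeStep.normalizer_le_normalizer_zj T.isPGroup')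
  have h4 : ¬ ∀ Q : Subgroup M, Q ≤ ((T.subtype hTM : Sylow p M) : Subgroup M) →
      ∀ g ∈ Subgroup.normalizer (Q : Set M), Nat.Coprime (orderOf g) p → g ∈ Subgroup.centralizer (Q : Set M) :=
    fun hh => h3 (plocalCentral_of_sylow (T.subtype hTM) hh)
  push Not at h4
  obtain ⟨Q, hQT, g, hgN, hgc, hgC⟩ := h4
  refine ⟨Q.map M.subtype, (g : L), ?_, ?_, ?_, ?_, ?_⟩
  · rintro _ ⟨x, hx, rfl⟩
    have := hQT hx
    rw [Sylow.coe_subtype, Subgroup.mem_subgroupOf] at this
    exact this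
  · rw [Subgroup.mem_normalizer_iff] at hgN ⊢
    intro y
    constructor
    · rintro ⟨d, hd, rfl⟩
      exact ⟨g * d * g⁻¹, (hgN d).mp hd, rfl⟩
    · rintro ⟨d, hd, hdy⟩
      have hyM : y ∈ M := by
        have e : y = (g : L)⁻¹ * ((g : L) * y * (g : L)⁻¹) * (g : L) := by group
        rw [e, ← hdy]
        exact M.mul_mem (M.mul_mem (M.inv_mem g.2) d.2) g.2
      refine ⟨⟨y, hyM⟩, ?_, rfl⟩
      have h5 : g * ⟨y, hyM⟩ * g⁻¹ = d := Subtype.ext hdy.symm
      exact (hgN ⟨y, hyM⟩).mpr (by rw [h5]; exact hd)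
  · rw [← hMdef]; exact g.2
  · rw [Subgroup.orderOf_coe]; exact hgc
  · intro hc
    apply hgC
    rw [Subgroup.mem_centralizer_iff] at hc ⊢
    intro d hd
    exact Subtype.ext (hc (d : L) ⟨d, hd, rfl⟩)

end Cfsg.Agent.H9ZJ
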