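import Mathlib
import Cfsg.Prelude.Def_FusionSystem
import Cfsg.Prelude.Def_PLocal
import Cfsg.Agent.Lib.Helper9.ZJF8
import Cfsg.Agent.Lib.Helper9.ZJF3
import Cfsg.Agent.Lib.Helper9.Realize3

set_option autoImplicit false

/-!
# Glauberman–Thompson for fusion systems (part 9): `Z(J)` of the top subgroup; powers of realized automorphisms
-/

namespace Cfsg.Agent.H9ZJ

open Cfsg Cfsg.FusionSystem Cfsg.Agent.Lib.Helper9 Cfsg.Agent.Lib.Lead

universe u

theorem zj_range {X G : Type u} [Group X] [Group G] (f : X →* G) (hf : Function.Injective f) :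
    centerThompsonAOf f.range = (centerThompsonAOf (⊤ : Subgroup X)).map f := by
  rw [MonoidHom.range_eq_map]
  exact Cfsg.Agent.Lib.Helper4.ThreeStep.centerThompsonAOf_map f hf ⊤

theorem zj_subgroup {G : Type u} [Group G] (R : Subgroup G) :
    centerThompsonAOf R = (centerThompsonAOf (⊤ : Subgroup R)).map R.subtype := by
  have := zj_range R.subtype R.subtype_injective
  rw [Subgroup.range_subtype] at this
  exact this

theorem zj_top_normal {X : Type u} [Group X] [Finite X] {p : ℕ} [Fact p.Prime] (hX : IsPGroup p X) :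
    (centerThompsonAOf (⊤ : Subgroup X)).Normal := by
  have h1 := Cfsg.Agent.Lib.Helper4.ThreeStep.normalizer_le_normalizer_zj (G := X) (p := p) (P := ⊤)
    (hX.to_subgroup ⊤)
  have h2 : Subgroup.normalizer ((⊤ : Subgroup X) : Set X) = ⊤ := Subgroup.normalizer_eq_top_iff.mpr inferInstance
  rw [h2] at h1
  exact Subgroup.normalizer_eq_top_iff.mp (top_le_iff.mp h1)

theorem zj_top_le {G : Type u} [Group G] (R : Subgroup G) : centerThompsonAOf R ≤ R := by
  rw [zj_subgroup]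
  rintro _ ⟨x, -, rfl⟩
  exact x.2

theorem zj_top_ne_bot {X : Type u} [Group X] [Finite X] {p : ℕ} [Fact p.Prime] (hX : IsPGroup p X)
    [Nontrivial X] : centerThompsonAOf (⊤ : Subgroup X) ≠ ⊥ :=
  Cfsg.Agent.Lib.Helper4.ThreeStep.zj_ne_bot (G := X) (p := p) (hX.to_subgroup ⊤) top_ne_bot

variable {Ω : Type u} [Group Ω] {S : Subgroup Ω} {L : Type u} [Group L]

/-- powers of a realized automorphism are realized by powers. -/
theorem ι_pow_rel (ι : S →* L) {P : Subgroup Ω} (hP : P ≤ S) (α : MulAut P) (g : L)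
    (h : ∀ y : P, ι ⟨(α y : P), hP (α y).2⟩ = g * ι ⟨y, hP y.2⟩ * g⁻¹) (k : ℕ) (y : P) :
    ι ⟨((α ^ k) y : P), hP ((α ^ k) y).2⟩ = g ^ k * ι ⟨y, hP y.2⟩ * (g ^ k)⁻¹ := by
  induction k generalizing y with
  | zero => simp
  | succ k ih =>
    rw [pow_succ, pow_succ, MulAut.mul_apply, ih (α y), h y]
    group

/-- A nontrivial `p'`-automorphism in a realized system shows that the realizing group is not `p`-nilpotent. -/
theorem not_plocalCentral_of_aut [Finite S] [Finite L] (p : ℕ) [hp : Fact p.Prime] (hS : IsPGroup p S)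
    (F : FusionSystem S) (ι : S →* L) (hι : F.IsRealizedBy ι) {P : Subgroup Ω} (hP : P ≤ S) (α : MulAut P)
    (hα : α ∈ F.autGroup P) (hα1 : α ≠ 1) (hαc : (orderOf α).Coprime p) : ¬ PLocalCentral p L := by
  intro hpl
  obtain ⟨g, hg⟩ := exists_conj_of_aut hι hP hα
  obtain ⟨a, ha⟩ := exists_pow_coprime p g (isOfFinOrder_of_finite g)
  have hD : IsPGroup p ((P.subgroupOf S).map ι) := (hS.to_subgroup _).map ι
  have hnorm : g ^ (p ^ a) ∈ Subgroup.normalizer (((P.subgroupOf S).map ι : Subgroup L) : Set L) := by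
    have key : ∀ (k : ℕ), ∀ d ∈ (P.subgroupOf S).map ι, g ^ k * d * (g ^ k)⁻¹ ∈ (P.subgroupOf S).map ι := by
      rintro k _ ⟨s, hs, rfl⟩
      have hsP : (s : Ω) ∈ P := Subgroup.mem_subgroupOf.mp hs
      have := ι_pow_rel ι hP α g hg k ⟨s, hsP⟩
      refine ⟨⟨((α ^ k) ⟨s, hsP⟩ : P), hP ((α ^ k) ⟨s, hsP⟩).2⟩, ?_, this⟩
      exact Subgroup.mem_subgroupOf.mpr ((α ^ k) ⟨s, hsP⟩).2
    have hfin : ∀ k : ℕ, (g ^ k)⁻¹ = g ^ (k * (orderOf g - 1)) := by
      intro k
      rw [pow_mul, inv_eq_iff_mul_eq_one, ← pow_succ']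
      have : orderOf (g ^ k) ∣ orderOf g := orderOf_pow_dvd k
      have hpos : 0 < orderOf g := orderOf_pos g
      rw [← pow_mul, show k * (orderOf g - 1 + 1) = orderOf g * k by
        rw [Nat.sub_add_cancel hpos]; ring, pow_mul, pow_orderOf_eq_one, one_pow]
    rw [Subgroup.mem_normalizer_iff]
    intro d
    refine ⟨key _ d, fun hd => ?_⟩
    have h1 := key (p ^ a * (orderOf g - 1)) _ hd
    rw [← hfin] at h1
    have h2 : (g ^ p ^ a)⁻¹ * (g ^ p ^ a * d * (g ^ p ^ a)⁻¹) * (g ^ p ^ a)⁻¹⁻¹ = d := by group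
    rwa [h2] at h1
  have hc := hpl _ hD _ hnorm ha
  apply pow_ne_one_of_coprime p α hα1 hαc a
  ext y
  have h1 := ι_pow_rel ι hP α g hg (p ^ a) y
  have hmem : ι ⟨y, hP y.2⟩ ∈ (((P.subgroupOf S).map ι : Subgroup L) : Set L) :=
    ⟨⟨y, hP y.2⟩, Subgroup.mem_subgroupOf.mpr y.2, rfl⟩
  have h2 := (Subgroup.mem_centralizer_iff.mp hc) _ hmem
  have h3 : g ^ p ^ a * ι ⟨y, hP y.2⟩ * (g ^ p ^ a)⁻¹ = ι ⟨y, hP y.2⟩ := by
    rw [← h2]; group
  rw [h3] at h1
  have := hι.1 h1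
  simp only [MulAut.one_apply]
  exact congrArg (fun s : S => (s : Ω)) this

end Cfsg.Agent.H9ZJ
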