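import Mathlib
import Cfsg.Prelude.Def_FusionSystem
import Cfsg.Prelude.Def_PLocal
import Cfsg.Agent.Lib.Helper9.ZJF9
import Cfsg.Agent.Lib.Helper9.FusionFactor

set_option autoImplicit false

/-!
# Glauberman–Thompson for fusion systems (part 10): a realized non-inner system has `Z(J(S))` bad
-/

namespace Cfsg.Agent.H9ZJ

open Cfsg Cfsg.FusionSystem Cfsg.Agent.Lib.Helper9 Cfsg.Agent.Lib.Lead
open Cfsg.Agent.Lib.Helper4.ThreeStep

universe u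

variable {Ω : Type u} [Group Ω] {S : Subgroup Ω} {L : Type u} [Group L]

theorem mem_normalizer_sup {G : Type u} [Group G] {A B : Subgroup G} {g : G}
    (hA : g ∈ Subgroup.normalizer (A : Set G)) (hB : g ∈ Subgroup.normalizer (B : Set G)) :
    g ∈ Subgroup.normalizer ((A ⊔ B : Subgroup G) : Set G) := by
  apply mem_normalizer_of_map_conj_eq
  rw [Subgroup.map_sup, map_conj_eq_of_mem_normalizer hA, map_conj_eq_of_mem_normalizer hB]

theorem bad_zj_of_realized [Finite S] [Finite L] (p : ℕ) [hp : Fact p.Prime] (hp2 : p ≠ 2) (hS : IsPGroup p S)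
    (F : FusionSystem S) (ι : S →* L) (hι : F.IsRealizedBy ι) (T : Sylow p L) (hT : (T : Subgroup L) = ι.range)
    {P : Subgroup Ω} (hP : P ≤ S) (α : MulAut P) (hα : α ∈ F.autGroup P) (hα1 : α ≠ 1)
    (hαc : (orderOf α).Coprime p) : Bad p F (centerThompsonAOf S) := by
  have hnpl := not_plocalCentral_of_aut p hS F ι hι hP α hα hα1 hαc
  obtain ⟨D, g, hDT, hgD, hgZ, hgc, hgnC⟩ := exists_local_witness hp2 T hnpl
  obtain ⟨Z0, hZ0⟩ : ∃ Z0 : Subgroup S, Z0 = centerThompsonAOf (⊤ : Subgroup S) := ⟨_, rfl⟩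
  have hZS : centerThompsonAOf S = Z0.map S.subtype := by rw [hZ0]; exact zj_subgroup S
  have hZT : centerThompsonAOf (T : Subgroup L) = Z0.map ι := by rw [hT, hZ0]; exact zj_range ι hι.1
  haveI hZ0n : Z0.Normal := by rw [hZ0]; exact zj_top_normal hS
  rw [hZT] at hgZ
  obtain ⟨V, hV⟩ : ∃ V : Subgroup L, V = D ⊔ Z0.map ι := ⟨_, rfl⟩
  have hVr : V ≤ ι.range := by
    rw [hV]
    apply sup_le
    · rw [← hT]; exact hDT
    · rintro _ ⟨z, -, rfl⟩; exact ⟨z, rfl⟩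
  have hgV : g ∈ Subgroup.normalizer (V : Set L) := by rw [hV]; exact mem_normalizer_sup hgD hgZ
  obtain ⟨P1, hP1⟩ : ∃ P1 : Subgroup Ω, P1 = preimageAlong ι V := ⟨_, rfl⟩
  have hmemP1 : ∀ y : Ω, y ∈ P1 ↔ ∃ hy : y ∈ S, ι ⟨y, hy⟩ ∈ V := by
    intro y; rw [hP1]; exact mem_preimageAlong_iff ι V y
  have hP1S : P1 ≤ S := by rw [hP1]; exact preimageAlong_le ι V
  have hιP1 : ∀ y : P1, ι ⟨y, hP1S y.2⟩ ∈ V := fun y => ((hmemP1 y).mp y.2).2
  have hex : ∀ y : P1, ∃ z : P1, ι ⟨z, hP1S z.2⟩ = g * ι ⟨y, hP1S y.2⟩ * g⁻¹ := by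
    intro y
    have h1 : g * ι ⟨y, hP1S y.2⟩ * g⁻¹ ∈ V := (Subgroup.mem_normalizer_iff.mp hgV _).mp (hιP1 y)
    obtain ⟨s, hs⟩ := hVr h1
    have hsP1 : (s : Ω) ∈ P1 := by
      rw [hmemP1]; exact ⟨s.2, by rw [Subtype.coe_eta, hs]; exact h1⟩
    exact ⟨⟨s, hsP1⟩, hs⟩
  obtain ⟨α1, hα1mem, Hα1⟩ := exists_aut_of_conj hι hP1S g hex
  refine ⟨P1, ?_, ?_, α1, hα1mem, ?_, ?_, ?_⟩
  · rw [hZS]
    rintro _ ⟨z, hz, rfl⟩
    rw [hmemP1]
    refine ⟨z.2, ?_⟩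
    rw [hV]
    exact le_sup_right (a := D) ⟨z, hz, rfl⟩
  · intro x hx
    refine ⟨hP1S hx, ?_⟩
    rw [hZS]
    show x ∈ Subgroup.normalizer ((Z0.map S.subtype : Subgroup Ω) : Set Ω)
    rw [Subgroup.mem_normalizer_iff]
    intro h
    constructor
    · rintro ⟨z, hz, rfl⟩
      exact ⟨⟨x, hP1S hx⟩ * z * (⟨x, hP1S hx⟩ : S)⁻¹, hZ0n.conj_mem z hz _, rfl⟩
    · rintro ⟨z, hz, hzx⟩
      refine ⟨(⟨x, hP1S hx⟩ : S)⁻¹ * z * (⟨x, hP1S hx⟩ : S)⁻¹⁻¹, hZ0n.conj_mem z hz _, ?_⟩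
      show x⁻¹ * (z : Ω) * x⁻¹⁻¹ = h
      have : (z : Ω) = x * h * x⁻¹ := hzx
      rw [this]; group
  · intro y hy
    rw [hZS] at hy ⊢
    obtain ⟨z, hz, hzy⟩ := hy
    have h1 : (⟨y, hP1S y.2⟩ : S) = z := Subtype.ext hzy.symm
    have h2 := Hα1 y
    rw [h1] at h2
    have h3 : g * ι z * g⁻¹ ∈ Z0.map ι := (Subgroup.mem_normalizer_iff.mp hgZ _).mp ⟨z, hz, rfl⟩
    rw [← h2] at h3
    obtain ⟨z', hz', hzz'⟩ := h3
    have h4 := hι.1 hzz'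
    refine ⟨z', hz', ?_⟩
    rw [h4]
    rfl
  · intro h1
    apply hgnC
    rw [Subgroup.mem_centralizer_iff]
    intro d hd
    obtain ⟨s, hs⟩ : d ∈ ι.range := hT ▸ hDT hd
    have hsP1 : (s : Ω) ∈ P1 := by
      rw [hmemP1]
      refine ⟨s.2, ?_⟩
      rw [Subtype.coe_eta, hs, hV]
      exact le_sup_left (b := Z0.map ι) hd
    have h2 := Hα1 ⟨s, hsP1⟩
    rw [h1] at h2
    simp only [MulAut.one_apply, Subtype.coe_eta] at h2
    rw [hs] at h2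
    exact (eq_mul_inv_iff_mul_eq.mp h2)
  · have h1 : α1 ^ orderOf g = 1 := by
      ext y
      have h2 := ι_pow_rel ι hP1S α1 g Hα1 (orderOf g) y
      rw [pow_orderOf_eq_one, one_mul, inv_one, mul_one] at h2
      have := hι.1 h2
      simp only [MulAut.one_apply]
      exact congrArg (fun s : S => (s : Ω)) this
    exact Nat.Coprime.coprime_dvd_left (orderOf_dvd_of_pow_eq_one h1) hgc

end Cfsg.Agent.H9ZJ
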