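import Mathlib
import Cfsg.Prelude.Def_FusionSystem
import Cfsg.Prelude.Def_PLocal
import Cfsg.Agent.Lib.Helper9.ZJF10
import Cfsg.Agent.Lib.Helper9.KNorm3

set_option autoImplicit false

/-!
# Glauberman–Thompson for fusion systems (part 11): small lemmas for the main induction
-/

namespace Cfsg.Agent.H9ZJ

open Cfsg Cfsg.FusionSystem Cfsg.Agent.Lib.Helper9 Cfsg.Agent.Lib.Lead

universe u

variable {Ω : Type u} [Group Ω] {S : Subgroup Ω}

/-- a subgroup with a nontrivial `p'`-automorphism in the system is bad (and nontrivial). -/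
theorem bad_self (p : ℕ) (F : FusionSystem S) {P : Subgroup Ω} (hP : P ≤ S) (α : MulAut P)
    (hα : α ∈ F.autGroup P) (hα1 : α ≠ 1) (hαc : (orderOf α).Coprime p) : P ≠ ⊥ ∧ Bad p F P := by
  refine ⟨?_, P, le_rfl, fun x hx => ⟨hP hx, Subgroup.le_normalizer hx⟩, α, hα, fun x _ => (α x).2, hα1, hαc⟩
  rintro rfl
  apply hα1
  ext x
  have hx : x = 1 := Subsingleton.elim _ _
  rw [hx]
  simp

/-- the normalizer of `R` normalizes `Z(J(R))` (no finiteness of the ambient group needed). -/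
theorem normalizer_le_normalizer_zj' (R : Subgroup Ω) :
    Subgroup.normalizer (R : Set Ω) ≤ Subgroup.normalizer (centerThompsonAOf R : Set Ω) := by
  have key : ∀ s ∈ Subgroup.normalizer (R : Set Ω), ∀ y ∈ centerThompsonAOf R, s * y * s⁻¹ ∈ centerThompsonAOf R := by
    intro s hs y hy
    rw [zj_subgroup] at hy ⊢
    obtain ⟨z, hz, rfl⟩ := hy
    have h1 := Cfsg.Agent.Lib.Helper4.ThreeStep.centerThompsonAOf_map (conjAut R s hs).toMonoidHom
      (conjAut R s hs).injective ⊤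
    have h2 : (⊤ : Subgroup R).map (conjAut R s hs).toMonoidHom = ⊤ :=
      Subgroup.map_top_of_surjective _ (conjAut R s hs).surjective
    rw [h2] at h1
    refine ⟨conjAut R s hs z, ?_, rfl⟩
    rw [h1]
    exact ⟨z, hz, rfl⟩
  intro s hs
  rw [Subgroup.mem_normalizer_iff]
  intro y
  refine ⟨key s hs y, fun hy => ?_⟩
  have h1 := key s⁻¹ (Subgroup.inv_mem _ hs) _ hy
  have h2 : s⁻¹ * (s * y * s⁻¹) * s⁻¹⁻¹ = y := by group
  rwa [h2] at h1

theorem zj_ne_bot' [Finite S] {p : ℕ} [Fact p.Prime] (hS : IsPGroup p S) (hne : S ≠ ⊥) :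
    centerThompsonAOf S ≠ ⊥ := by
  haveI : Nontrivial S := (Subgroup.nontrivial_iff_ne_bot S).mpr hne
  have h1 := zj_top_ne_bot hS
  rw [zj_subgroup]
  intro h
  apply h1
  exact (Subgroup.map_eq_bot_iff_of_injective _ S.subtype_injective).mp h

end Cfsg.Agent.H9ZJ
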