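import Mathlib
import Cfsg.Prelude.Def_FusionSystem
import Cfsg.Prelude.Def_FusionComponents
import Cfsg.Agent.Lib.Helper9.ZJF4
import Cfsg.Agent.Lib.Helper9.FusionFactor

set_option autoImplicit false

/-!
# Glauberman–Thompson for fusion systems (part 5): lifting `Bad` from a factor system
-/

namespace Cfsg.Agent.H9ZJ

open Cfsg Cfsg.FusionSystem Cfsg.Agent.Lib.Helper9

variable {Ω : Type*} [Group Ω] {S : Subgroup Ω} {Ω' : Type*} [Group Ω'] {S' : Subgroup Ω'}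

theorem bad_lift [Finite S] (p : ℕ) [hp : Fact p.Prime] (F : FusionSystem S) {Q : Subgroup Ω}
    (θ : S →* Ω') (E : FusionSystem S') (hE : F.IsFactorSystem Q θ E) {Z' : Subgroup Ω'}
    (hbad : Bad p E Z') : Bad p F (preimageAlong θ Z') := by
  obtain ⟨hQS, hker, hrange, hhom⟩ := hE
  obtain ⟨P', hZP', hP'N, α', hα', hα'Z, hα'1, hα'c⟩ := hbad
  have hP'S' : P' ≤ S' := hP'N.trans inf_le_left
  obtain ⟨P, hPdef⟩ : ∃ P, P = preimageAlong θ P' := ⟨_, rfl⟩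
  rw [mem_autGroup_iff E hP'S', hhom, ← hPdef] at hα'
  obtain ⟨-, φ, hφ, hind⟩ := hα'
  have hPS : P ≤ S := by rw [hPdef]; exact preimageAlong_le θ P'
  have hmemP : ∀ x : Ω, x ∈ P ↔ ∃ hx : x ∈ S, θ ⟨x, hx⟩ ∈ P' := by
    intro x; rw [hPdef]; exact mem_preimageAlong_iff θ P' x
  have hθP : ∀ x : P, θ ⟨x, hPS x.2⟩ ∈ P' := fun x => ((hmemP x).mp x.2).2
  have hφS : ∀ x : P, φ x ∈ S := (F.le_of_mem hφ).2
  have hrel : ∀ x : P, ((α' ⟨θ ⟨x, hPS x.2⟩, hθP x⟩ : P') : Ω') = θ ⟨φ x, hφS x⟩ :=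
    fun x => inducedAlong_apply hind x (hPS x.2) (hθP x) (hφS x)
  have hval : ∀ x : P, φ x ∈ P := by
    intro x
    rw [hmemP]
    refine ⟨hφS x, ?_⟩
    rw [← hrel]
    exact (α' _).2
  obtain ⟨α, hα, Hα⟩ := fs_hom_to_aut F hφ hval
  have hrelα : ∀ x : P, ((α' ⟨θ ⟨x, hPS x.2⟩, hθP x⟩ : P') : Ω') = θ ⟨(α x : P), hPS (α x).2⟩ := by
    intro x
    rw [hrel]
    congr 1
    exact Subtype.ext (Hα x).symm
  have hrelpow : ∀ (k : ℕ) (x : P),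
      (((α' ^ k) ⟨θ ⟨x, hPS x.2⟩, hθP x⟩ : P') : Ω') = θ ⟨((α ^ k) x : P), hPS ((α ^ k) x).2⟩ := by
    intro k
    induction k with
    | zero => intro x; simp
    | succ k ih =>
      intro x
      rw [pow_succ, pow_succ, MulAut.mul_apply, MulAut.mul_apply]
      have h1 : α' ⟨θ ⟨x, hPS x.2⟩, hθP x⟩ = ⟨θ ⟨(α x : P), hPS (α x).2⟩, hθP (α x)⟩ :=
        Subtype.ext (hrelα x)
      rw [h1]
      exact ih (α x)
  haveI : Finite P := fs_finite_of_le hPS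
  haveI : Finite (MulAut P) :=
    Finite.of_injective (fun e : MulAut P => (e : P → P)) DFunLike.coe_injective
  obtain ⟨a, ha⟩ := exists_pow_coprime p α (isOfFinOrder_of_finite α)
  -- surjectivity of θ on P
  have hsurj : ∀ y : P', ∃ x : P, θ ⟨x, hPS x.2⟩ = (y : Ω') := by
    intro y
    have hy : (y : Ω') ∈ θ.range := by rw [hrange]; exact hP'S' y.2
    obtain ⟨s, hs⟩ := hy
    have hsP : (s : Ω) ∈ P := by
      rw [hmemP]
      exact ⟨s.2, by rw [Subtype.coe_eta, hs]; exact y.2⟩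
    exact ⟨⟨s, hsP⟩, hs⟩
  have hmemZ : ∀ x : Ω, x ∈ preimageAlong θ Z' ↔ ∃ hx : x ∈ S, θ ⟨x, hx⟩ ∈ Z' :=
    fun x => mem_preimageAlong_iff θ Z' x
  refine ⟨P, ?_, ?_, α ^ (p ^ a), Subgroup.pow_mem _ hα _, ?_, ?_, ha⟩
  · intro x hx
    rw [hmemZ] at hx
    obtain ⟨hxS, hxZ⟩ := hx
    rw [hmemP]
    exact ⟨hxS, hZP' hxZ⟩
  · intro x hx
    refine ⟨hPS hx, ?_⟩
    have hθx : θ ⟨x, hPS hx⟩ ∈ Subgroup.normalizer (Z' : Set Ω') := (hP'N (hθP ⟨x, hx⟩)).2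
    show x ∈ Subgroup.normalizer ((preimageAlong θ Z' : Subgroup Ω) : Set Ω)
    rw [Subgroup.mem_normalizer_iff]
    intro h
    rw [hmemZ, hmemZ]
    constructor
    · rintro ⟨hhS, hhZ⟩
      refine ⟨S.mul_mem (S.mul_mem (hPS hx) hhS) (S.inv_mem (hPS hx)), ?_⟩
      have : (⟨x * h * x⁻¹, S.mul_mem (S.mul_mem (hPS hx) hhS) (S.inv_mem (hPS hx))⟩ : S) =
          ⟨x, hPS hx⟩ * ⟨h, hhS⟩ * (⟨x, hPS hx⟩ : S)⁻¹ := rfl
      rw [this, map_mul, map_mul, map_inv]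
      exact (Subgroup.mem_normalizer_iff.mp hθx _).mp hhZ
    · rintro ⟨hcS, hcZ⟩
      have hhS : h ∈ S := by
        have h1 : h = x⁻¹ * (x * h * x⁻¹) * x := by group
        rw [h1]
        exact S.mul_mem (S.mul_mem (S.inv_mem (hPS hx)) hcS) (hPS hx)
      refine ⟨hhS, ?_⟩
      have : (⟨x * h * x⁻¹, hcS⟩ : S) = ⟨x, hPS hx⟩ * ⟨h, hhS⟩ * (⟨x, hPS hx⟩ : S)⁻¹ := rfl
      rw [this, map_mul, map_mul, map_inv] at hcZ
      exact (Subgroup.mem_normalizer_iff.mp hθx _).mpr hcZ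
  · apply pow_preserve
    intro x hx
    rw [hmemZ] at hx ⊢
    obtain ⟨hxS, hxZ⟩ := hx
    refine ⟨hPS (α x).2, ?_⟩
    rw [← hrelα]
    exact hα'Z _ hxZ
  · intro h1
    apply pow_ne_one_of_coprime p α' hα'1 hα'c a
    ext y
    obtain ⟨x, hx⟩ := hsurj y
    have h2 := hrelpow (p ^ a) x
    rw [h1] at h2
    simp only [MulAut.one_apply] at h2 ⊢
    have hy : y = ⟨θ ⟨x, hPS x.2⟩, hθP x⟩ := Subtype.ext hx.symm
    rw [hy]
    exact h2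

end Cfsg.Agent.H9ZJ
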