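import Mathlib
import Cfsg.Agent.Lib.Lead.Nilpotent

set_option autoImplicit false

/-!
# Glauberman–Thompson for fusion systems (part 6): a group-theoretic lemma on nilpotent groups

If `Q` is normal in the nilpotent group `G` and `C_G(Q) ≰ Q`, there is a normal subgroup `X > Q` with
`[X, X] ≤ Q` that acts on `Q` through inner automorphisms of `Q`.
-/

namespace Cfsg.Agent.H9ZJ

open scoped Pointwise commutatorElement

variable {G : Type*} [Group G]

theorem exists_normal_over [Group.IsNilpotent G] (Q : Subgroup G) [hQ : Q.Normal]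
    (hC : ¬ Subgroup.centralizer (Q : Set G) ≤ Q) :
    ∃ X : Subgroup G, X.Normal ∧ Q < X ∧ ⁅X, X⁆ ≤ Q ∧
      ∀ Y W : Subgroup G, Y ≤ Q → ⁅Q, Y⁆ ≤ W → ⁅X, Y⁆ ≤ W := by
  obtain ⟨C, hCdef⟩ : ∃ C : Subgroup G, C = Subgroup.centralizer (Q : Set G) := ⟨_, rfl⟩
  haveI hCn : C.Normal := by rw [hCdef]; infer_instance
  obtain ⟨Z, hZdef⟩ : ∃ Z : Subgroup G, Z = (Subgroup.center (G ⧸ Q)).comap (QuotientGroup.mk' Q) := ⟨_, rfl⟩
  haveI hZn : Z.Normal := by rw [hZdef]; infer_instance
  have hmemZ : ∀ z : G, z ∈ Z ↔ ∀ g : G, ⁅z, g⁆ ∈ Q := by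
    intro z
    rw [hZdef, Subgroup.mem_comap, Subgroup.mem_center_iff]
    constructor
    · intro h g
      rw [← QuotientGroup.eq_one_iff, commutatorElement_def]
      have := h (QuotientGroup.mk' Q g)
      simp only [QuotientGroup.mk'_apply] at this
      simp only [QuotientGroup.mk_mul, QuotientGroup.mk_inv]
      rw [← this]; group
    · intro h y
      obtain ⟨g, rfl⟩ := QuotientGroup.mk'_surjective Q y
      have := h g
      rw [← QuotientGroup.eq_one_iff, commutatorElement_def] at this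
      simp only [QuotientGroup.mk_mul, QuotientGroup.mk_inv] at this
      simp only [QuotientGroup.mk'_apply]
      have h2 : (QuotientGroup.mk z : G ⧸ Q) * QuotientGroup.mk g =
          ((QuotientGroup.mk z : G ⧸ Q) * QuotientGroup.mk g * (QuotientGroup.mk z)⁻¹ * (QuotientGroup.mk g)⁻¹) *
            (QuotientGroup.mk g * QuotientGroup.mk z) := by group
      rw [h2, this, one_mul]
  -- the image of C in G/Q is a nontrivial normal subgroup
  have hne : C.map (QuotientGroup.mk' Q) ≠ ⊥ := by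
    intro h
    apply hC
    rw [← hCdef]
    intro c hc
    have : QuotientGroup.mk' Q c ∈ C.map (QuotientGroup.mk' Q) := ⟨c, hc, rfl⟩
    rw [h, Subgroup.mem_bot, QuotientGroup.mk'_apply, QuotientGroup.eq_one_iff] at this
    exact this
  haveI : (C.map (QuotientGroup.mk' Q)).Normal :=
    Subgroup.Normal.map hCn _ (QuotientGroup.mk'_surjective Q)
  have h1 := Cfsg.Agent.Lib.Lead.inf_center_ne_bot (C.map (QuotientGroup.mk' Q)) hne
  obtain ⟨⟨y, hy⟩, hy1⟩ := (Subgroup.ne_bot_iff_exists_ne_one).mp h1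
  obtain ⟨⟨x, hxC, rfl⟩, hycen⟩ := hy
  have hxQ : x ∉ Q := by
    intro hx
    apply hy1
    apply Subtype.ext
    show QuotientGroup.mk' Q x = 1
    rw [QuotientGroup.mk'_apply, QuotientGroup.eq_one_iff]
    exact hx
  have hxZ : x ∈ Z := by rw [hZdef]; exact hycen
  have hQZ : Q ≤ Z := by
    intro q hq
    rw [hmemZ]
    intro g
    rw [commutatorElement_def]
    have e : q * g * q⁻¹ * g⁻¹ = q * (g * q⁻¹ * g⁻¹) := by group
    rw [e]
    exact Q.mul_mem hq (hQ.conj_mem _ (Q.inv_mem hq) g)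
  refine ⟨(C ⊔ Q) ⊓ Z, inferInstance, ?_, ?_, ?_⟩
  · refine lt_of_le_of_ne (le_inf le_sup_right hQZ) ?_
    intro h
    apply hxQ
    rw [h]
    exact ⟨le_sup_left (a := C) hxC, hxZ⟩
  · rw [Subgroup.commutator_le]
    intro a ha b _
    exact (hmemZ a).mp ha.2 b
  · intro Y W hYQ hQY
    rw [Subgroup.commutator_le] at hQY ⊢
    intro a ha y hy
    have haCQ : a ∈ ((C ⊔ Q : Subgroup G) : Set G) := ha.1
    rw [Subgroup.mul_normal] at haCQ
    obtain ⟨c, hc, q, hq, rfl⟩ := Set.mem_mul.mp haCQ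
    have hc' : c ∈ Subgroup.centralizer (Q : Set G) := hCdef ▸ hc
    have hcomm : ∀ z ∈ Q, c * z = z * c := fun z hz => ((Subgroup.mem_centralizer_iff.mp hc') z hz).symm
    have h3 : ⁅c * q, y⁆ = ⁅q, y⁆ := by
      rw [commutatorElement_def, commutatorElement_def]
      have hy' := hYQ hy
      have e1 : c * q * y * (c * q)⁻¹ * y⁻¹ = c * (q * y * q⁻¹) * c⁻¹ * y⁻¹ := by group
      rw [e1, hcomm (q * y * q⁻¹) (Q.mul_mem (Q.mul_mem hq hy') (Q.inv_mem hq))]
      group
    rw [h3]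
    exact hQY q hq y hy

end Cfsg.Agent.H9ZJ
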