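import Mathlib
import Cfsg.Prelude.Def_FusionSystem
import Cfsg.Prelude.Def_FusionComponents
import Cfsg.Agent.Lib.Helper9.ZJF5
import Cfsg.Agent.Lib.Helper9.ZJF6
import Cfsg.Agent.Lib.Helper9.FusionNormal5
import Cfsg.Agent.S5134

set_option autoImplicit false

/-!
# Glauberman–Thompson for fusion systems (part 7): an inner factor system forces the normal subgroup to be centric
-/

namespace Cfsg.Agent.H9ZJ

open Cfsg Cfsg.FusionSystem Cfsg.Agent.Lib.Helper9

variable {Ω : Type*} [Group Ω] {S : Subgroup Ω} {Ω' : Type*} [Group Ω'] {S' : Subgroup Ω'}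

/-- If the factor system modulo `Q` is inner, every subgroup between `Q` and `S` normalized by `S` is strongly closed. -/
theorem stronglyClosed_of_factor_inner [Finite S] (p : ℕ) [Fact p.Prime] (hS : IsPGroup p S) (F : FusionSystem S)
    (hF : F.IsSaturated p) {Q : Subgroup Ω} (hQ : F.StronglyClosed Q) (θ : S →* Ω') (E : FusionSystem S')
    (hE : F.IsFactorSystem Q θ E)
    (hinner : ∀ (P' : Subgroup Ω') (φ' : P' →* Ω'), φ' ∈ E.Hom P' → ∃ s' ∈ S', ∀ x : P', φ' x = s' * x * s'⁻¹)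
    {X : Subgroup Ω} (hQX : Q ≤ X) (hXS : X ≤ S) (hXn : S ≤ Subgroup.normalizer (X : Set Ω)) :
    F.StronglyClosed X := by
  have hmor := (Cfsg.Agent.S5134.result p hS F hF Q hQ θ E hE).1
  obtain ⟨hQS, hker, hrange, hhom⟩ := hE
  refine ⟨hXS, fun P hPX φ hφ x => ?_⟩
  obtain ⟨φ', hφ', hind⟩ := hmor.2 P φ hφ
  obtain ⟨s', hs', Hs'⟩ := hinner _ φ' hφ'
  rw [← hrange] at hs'
  obtain ⟨s, rfl⟩ := hs'
  obtain ⟨hP, hφS, hP', he⟩ := hind
  have h1 := he x
  rw [Hs'] at h1
  -- θ (φ x) = θ (s x s⁻¹)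
  have h2 : θ (⟨φ x, hφS x⟩ * (s * ⟨x, hP x.2⟩ * s⁻¹)⁻¹) = 1 := by
    rw [map_mul, map_inv, map_mul, map_mul, map_inv, ← h1]
    group
  have h3 := (hker _).mp h2
  have h4 : s.1 * (x : Ω) * s.1⁻¹ ∈ X := (Subgroup.mem_normalizer_iff.mp (hXn s.2) _).mp (hPX x.2)
  have h5 : φ x = (φ x * (s.1 * (x : Ω) * s.1⁻¹)⁻¹) * (s.1 * (x : Ω) * s.1⁻¹) := by group
  rw [h5]
  exact X.mul_mem (hQX h3) h4

/-- **Step 4**: if `Q` is the largest normal subgroup of the saturated system and every subgroup between `Q` and `S`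
normalized by `S` is strongly closed, then `C_S(Q) ≤ Q`. -/
theorem centralizerIn_le_of_stronglyClosed [Finite S] (p : ℕ) [Fact p.Prime] (hS : IsPGroup p S) (F : FusionSystem S)
    (hF : F.IsSaturated p) {Q : Subgroup Ω} (hQ : F.IsNormal Q)
    (hmax : ∀ T : Subgroup Ω, F.IsNormal T → Q ≤ T → T = Q)
    (hsc : ∀ X : Subgroup Ω, Q ≤ X → X ≤ S → S ≤ Subgroup.normalizer (X : Set Ω) → F.StronglyClosed X) :
    centralizerIn S Q ≤ Q := by
  by_contra hC
  have hQS := hQ.1
  haveI hn : (Q.subgroupOf S).Normal :=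
    (Subgroup.normal_subgroupOf_iff_le_normalizer hQS).mpr
      (fs_stronglyClosed_le_normalizer F (fs_stronglyClosed_of_isNormal F hQ))
  haveI : Group.IsNilpotent S := hS.isNilpotent
  have hC0 : ¬ Subgroup.centralizer ((Q.subgroupOf S : Subgroup S) : Set S) ≤ Q.subgroupOf S := by
    intro h
    apply hC
    intro c hc
    have hcS : c ∈ S := hc.1
    have : (⟨c, hcS⟩ : S) ∈ Q.subgroupOf S := by
      apply h
      rw [Subgroup.mem_centralizer_iff]
      intro q hq
      apply Subtype.ext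
      exact (Subgroup.mem_centralizer_iff.mp hc.2) q (Subgroup.mem_subgroupOf.mp hq)
    exact Subgroup.mem_subgroupOf.mp this
  obtain ⟨X0, hX0n, hQX0, hXX, hXY⟩ := exists_normal_over (Q.subgroupOf S) hC0
  obtain ⟨X, hXdef⟩ : ∃ X : Subgroup Ω, X = X0.map S.subtype := ⟨_, rfl⟩
  have hmapQ : (Q.subgroupOf S).map S.subtype = Q := by
    rw [Subgroup.subgroupOf_map_subtype]; exact inf_eq_left.mpr hQS
  have hQX : Q ≤ X := by
    rw [hXdef, ← hmapQ]; exact Subgroup.map_mono hQX0.le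
  have hXS : X ≤ S := by
    rw [hXdef]; rintro _ ⟨x, -, rfl⟩; exact x.2
  have hXne : X ≠ Q := by
    intro h
    apply hQX0.ne
    have h1 : X0.map S.subtype = (Q.subgroupOf S).map S.subtype := by rw [← hXdef, h, hmapQ]
    exact (Subgroup.map_injective S.subtype_injective h1).symm
  have hXnorm : S ≤ Subgroup.normalizer (X : Set Ω) := by
    have key : ∀ s ∈ S, ∀ y ∈ X, s * y * s⁻¹ ∈ X := by
      intro s hs y hy
      rw [hXdef] at hy ⊢
      obtain ⟨y0, hy0, rfl⟩ := hy
      exact ⟨⟨s, hs⟩ * y0 * (⟨s, hs⟩ : S)⁻¹, hX0n.conj_mem y0 hy0 ⟨s, hs⟩, rfl⟩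
    intro s hs
    rw [Subgroup.mem_normalizer_iff]
    intro y
    refine ⟨key s hs y, fun hy => ?_⟩
    have h1 := key s⁻¹ (S.inv_mem hs) _ hy
    have h2 : s⁻¹ * (s * y * s⁻¹) * s⁻¹⁻¹ = y := by group
    rwa [h2] at h1
  have hXsc : F.StronglyClosed X := hsc X hQX hXS hXnorm
  -- the series
  obtain ⟨n, Qs, h0, hlast, hmono, hstep⟩ := fs_series_of_isNormal p hS F Q hQ
  have hQsQ : ∀ i : Fin (n + 1), Qs i ≤ Q := fun i => hlast ▸ hmono (Fin.le_last i)
  -- commutator transfer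
  have hcomm : ∀ Y W : Subgroup Ω, Y ≤ Q → W ≤ S → ⁅Q, Y⁆ ≤ W → ⁅X, Y⁆ ≤ W := by
    intro Y W hYQ hWS hQY
    have hYS : Y ≤ S := hYQ.trans hQS
    have hmapY : (Y.subgroupOf S).map S.subtype = Y := by
      rw [Subgroup.subgroupOf_map_subtype]; exact inf_eq_left.mpr hYS
    have hmapW : (W.subgroupOf S).map S.subtype = W := by
      rw [Subgroup.subgroupOf_map_subtype]; exact inf_eq_left.mpr hWS
    have h1 : ⁅Q.subgroupOf S, Y.subgroupOf S⁆ ≤ W.subgroupOf S := by
      rw [← Subgroup.map_le_map_iff_of_injective S.subtype_injective, Subgroup.map_commutator, hmapQ, hmapY, hmapW]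
      exact hQY
    have h2 := hXY (Y.subgroupOf S) (W.subgroupOf S)
      (by intro y hy; exact Subgroup.mem_subgroupOf.mpr (hYQ (Subgroup.mem_subgroupOf.mp hy))) h1
    have h3 := Subgroup.map_mono (f := S.subtype) h2
    rw [Subgroup.map_commutator, hmapY, hmapW, ← hXdef] at h3
    exact h3
  have hXXQ : ⁅X, X⁆ ≤ Q := by
    have h3 := Subgroup.map_mono (f := S.subtype) hXX
    rw [Subgroup.map_commutator, hmapQ, ← hXdef] at h3
    exact h3
  -- extended chain
  let Qs' : Fin (n + 2) → Subgroup Ω := fun i => if h : (i : ℕ) ≤ n then Qs ⟨i, Nat.lt_succ_of_le h⟩ else X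
  have hQs'le : ∀ i : Fin (n + 2), Qs' i ≤ X := by
    intro i
    simp only [Qs']
    split_ifs with h
    · exact (hQsQ _).trans hQX
    · exact le_rfl
  have hXnormal : F.IsNormal X := by
    refine fs_isNormal_of_series p hS F hF X (n + 1) Qs' ?_ ?_ ?_ ?_
    · simp only [Qs']
      rw [dif_pos (by simp)]
      exact h0
    · simp only [Qs']
      rw [dif_neg (by simp)]
    · intro i j hij
      simp only [Qs']
      by_cases hj : (j : ℕ) ≤ n
      · have hi : (i : ℕ) ≤ n := le_trans (Fin.le_def.mp hij) hj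
        rw [dif_pos hi, dif_pos hj]
        exact hmono (Fin.le_def.mpr (Fin.le_def.mp hij))
      · rw [dif_neg hj]
        exact hQs'le i
    · intro i
      by_cases hi : (i : ℕ) < n
      · have h1 : Qs' i.succ = Qs (Fin.succ ⟨i, hi⟩) := by
          simp only [Qs']
          rw [dif_pos (by simp; omega)]
          rfl
        have h2 : Qs' (Fin.castSucc i) = Qs (Fin.castSucc ⟨i, hi⟩) := by
          simp only [Qs']
          rw [dif_pos (by simp; omega)]
          rfl
        rw [h1, h2]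
        obtain ⟨hs1, hs2⟩ := hstep ⟨i, hi⟩
        exact ⟨hs1, hcomm _ _ (hQsQ _) ((hQsQ _).trans hQS) hs2⟩
      · have hi' : (i : ℕ) = n := by have := i.2; omega
        have h1 : Qs' i.succ = X := by
          simp only [Qs']
          rw [dif_neg (by simp; omega)]
        have h2 : Qs' (Fin.castSucc i) = Q := by
          simp only [Qs']
          rw [dif_pos (by simp; omega)]
          rw [← hlast]
          congr 1
          apply Fin.ext
          simp [hi']
        rw [h1, h2]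
        exact ⟨hXsc, hXXQ⟩
  exact hXne (hmax X hXnormal hQX)

end Cfsg.Agent.H9ZJ
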