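import Mathlib
import Cfsg.Prelude.Def_FusionSystem
import Cfsg.Prelude.Def_PLocal
import Cfsg.Agent.Lib.Helper9.ZJF13

set_option autoImplicit false

/-!
# Glauberman–Thompson for fusion systems (part 14): the criterion, modulo existence of models
-/

namespace Cfsg.Agent.H9ZJ

open Cfsg Cfsg.FusionSystem Cfsg.Agent.Lib.Helper9 Cfsg.Agent.Lib.Lead

universe u

variable {Ω : Type u} [Group Ω] {S : Subgroup Ω}

/-- If the normalizer system of `Z` is inner, `Z` is not bad. -/
theorem not_bad_of_normalizer_inner [Finite S] (p : ℕ) [hp : Fact p.Prime] (hS : IsPGroup p S)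
    (F : FusionSystem S) {Z : Subgroup Ω} (hZS : Z ≤ S)
    (h : ∀ N : FusionSystem (normalizerIn S Z), F.IsNormalizerSystem Z N →
      ∀ P : Subgroup Ω, N.Hom P = (innerFusionSystem (normalizerIn S Z)).Hom P) : ¬ Bad p F Z := by
  rintro ⟨P, hZP, hPN, α, hα, hαZ, hα1, hαc⟩
  obtain ⟨N, hN⟩ := Cfsg.Agent.S5096.result F Z hZS
  have hαN := mem_normalizer_autGroup F N hN hZP hPN α hα hαZ
  rw [mem_autGroup_iff N hPN, h N hN P] at hαN
  obtain ⟨-, g, hg, Hg⟩ := hαN
  have hmem : α ∈ autInducedBy S P := by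
    rw [mem_autInducedBy_iff]
    exact ⟨g, hg.1, fun x => Hg x⟩
  obtain ⟨k, hk⟩ := (isPGroup_autInducedBy p hS P) ⟨α, hmem⟩
  have hk' : α ^ p ^ k = 1 := congrArg Subtype.val hk
  exact pow_ne_one_of_coprime p α hα1 hαc k hk'

theorem inner_iff_zj [Finite S] (p : ℕ) [hp : Fact p.Prime] (hS : IsPGroup p S) (F : FusionSystem S)
    (hF : F.IsSaturated p) (hp2 : p ≠ 2)
    (hmodel : ∀ {Ω : Type u} [Group Ω] {S : Subgroup Ω} [Finite S], IsPGroup p S → ∀ F : FusionSystem S,
      F.IsConstrained p → ∃ (G : Type u) (_ : Group G) (ι : S →* G), F.IsModel p G ι) :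
    (∀ P : Subgroup Ω, F.Hom P = (innerFusionSystem S).Hom P) ↔
      ∀ N : FusionSystem (normalizerIn S (centerThompsonAOf S)), F.IsNormalizerSystem (centerThompsonAOf S) N →
        ∀ P : Subgroup Ω, N.Hom P = (innerFusionSystem (normalizerIn S (centerThompsonAOf S))).Hom P := by
  have hZS : centerThompsonAOf S ≤ S := zj_top_le S
  constructor
  · intro hinner N hN P
    ext φ
    constructor
    · intro hφ
      have hPN : P ≤ normalizerIn S (centerThompsonAOf S) := (N.le_of_mem hφ).1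
      rw [hN] at hφ
      have h1 := hφ.1
      rw [hinner] at h1
      obtain ⟨-, g, hg, Hg⟩ := h1
      exact ⟨hPN, g, ⟨hg, normalizer_le_normalizer_zj' S (Subgroup.le_normalizer hg)⟩, Hg⟩
    · rintro ⟨hPN, g, hg, Hg⟩
      have h1 : conjHom P g ∈ N.Hom P := N.conj_mem hPN hg
      have h2 : φ = conjHom P g := by
        ext x
        rw [Hg]
        rfl
      rw [h2]; exact h1
  · intro h P
    have hZ : ¬ Bad p F (centerThompsonAOf S) := not_bad_of_normalizer_inner p hS F hZS h
    have hall := zj_induction p hp2 hmodel (Nat.card S) hS F hF rfl hZ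
    have hpg : ∀ P : Subgroup Ω, P ≤ S → IsPGroup p (F.autGroup P) := by
      intro P hP
      by_contra hh
      exact hall P (bad_of_not_isPGroup p F hP hh).2
    rw [Cfsg.Agent.S5083.result p hS F hF hpg]

end Cfsg.Agent.H9ZJ
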