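import Mathlib
import Cfsg.Prelude.Def_FusionSystem
import Cfsg.Prelude.Def_PLocal
import Cfsg.Agent.Lib.Helper9.ZJF10
import Cfsg.Agent.Lib.Helper9.KL7

set_option autoImplicit false

/-!
# Generic maximal-bad induction (part 3): from a subgroup of the realizing group without normal `p`-complement to a
nontrivial `p'`-automorphism in the system
-/

namespace Cfsg.Agent.H9ZJ

open Cfsg Cfsg.FusionSystem Cfsg.Agent.Lib.Helper9 Cfsg.Agent.Lib.Lead
open Cfsg.Agent.Lib.Helper4.ThreeStep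

universe u

variable {Ω : Type u} [Group Ω] {S : Subgroup Ω} {L : Type u} [Group L]

/-- If `M ≥ T = ι(S)` has no normal `p`-complement and normalizes `Y ≤ ι(S)`, some `p'`-element `g` of `M` induces a
nontrivial automorphism in the system of a subgroup `P₁` containing the preimage of `Y`. -/
theorem exists_aut_of_not_pnilp [Finite S] [Finite L] (p : ℕ) [hp : Fact p.Prime] (hS : IsPGroup p S)
    (F : FusionSystem S) (ι : S →* L) (hι : F.IsRealizedBy ι) (T : Sylow p L) (hT : (T : Subgroup L) = ι.range)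
    (M : Subgroup L) (hTM : (T : Subgroup L) ≤ M) (h : ¬ HasNormalPComplement p M)
    (Y : Subgroup L) (hY : Y ≤ ι.range) (hMY : M ≤ Subgroup.normalizer (Y : Set L)) :
    ∃ (P₁ : Subgroup Ω) (hP₁ : P₁ ≤ S), (∀ s : S, ι s ∈ Y → (s : Ω) ∈ P₁) ∧
      ∃ α₁ ∈ F.autGroup P₁, ∃ g ∈ M, (∀ y : P₁, ι ⟨(α₁ y : P₁), hP₁ (α₁ y).2⟩ = g * ι ⟨y, hP₁ y.2⟩ * g⁻¹) ∧
        α₁ ≠ 1 ∧ (orderOf α₁).Coprime p := by
  have h3 : ¬ PLocalCentral p M := fun hh => h (hasNormalPComplement_iff_plocalCentral.mpr hh)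
  have h4 : ¬ ∀ Q : Subgroup M, Q ≤ ((T.subtype hTM : Sylow p M) : Subgroup M) →
      ∀ g ∈ Subgroup.normalizer (Q : Set M), Nat.Coprime (orderOf g) p → g ∈ Subgroup.centralizer (Q : Set M) :=
    fun hh => h3 (plocalCentral_of_sylow (T.subtype hTM) hh)
  push Not at h4
  obtain ⟨Q, hQT, g, hgN, hgc, hgC⟩ := h4
  obtain ⟨D, hDdef⟩ : ∃ D : Subgroup L, D = Q.map M.subtype := ⟨_, rfl⟩
  have hDT : D ≤ (T : Subgroup L) := by
    rw [hDdef]
    rintro _ ⟨x, hx, rfl⟩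
    have := hQT hx
    rw [Sylow.coe_subtype, Subgroup.mem_subgroupOf] at this
    exact this
  have hgD : (g : L) ∈ Subgroup.normalizer (D : Set L) := by
    rw [hDdef]
    rw [Subgroup.mem_normalizer_iff] at hgN ⊢
    intro y
    constructor
    · rintro ⟨d, hd, rfl⟩
      exact ⟨g * d * g⁻¹, (hgN d).mp hd, rfl⟩
    · rintro ⟨d, hd, hdy⟩
      have hyM : y ∈ M := by
        have e : y = (g : L)⁻¹ * ((g : L) * y * (g : L)⁻¹) * (g : L) := by group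
        rw [e, ← hdy]
        exact M.mul_mem (M.mul_mem (M.inv_mem g.2) d.2) g.2
      refine ⟨⟨y, hyM⟩, ?_, rfl⟩
      have h5 : g * ⟨y, hyM⟩ * g⁻¹ = d := Subtype.ext hdy.symm
      exact (hgN ⟨y, hyM⟩).mpr (by rw [h5]; exact hd)
  have hgcL : (orderOf (g : L)).Coprime p := by rw [Subgroup.orderOf_coe]; exact hgc
  have hgnC : (g : L) ∉ Subgroup.centralizer (D : Set L) := by
    intro hc
    apply hgC
    rw [Subgroup.mem_centralizer_iff] at hc ⊢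
    intro d hd
    exact Subtype.ext (hc (d : L) (by rw [hDdef]; exact ⟨d, hd, rfl⟩))
  have hgY : (g : L) ∈ Subgroup.normalizer (Y : Set L) := hMY g.2
  obtain ⟨V, hV⟩ : ∃ V : Subgroup L, V = D ⊔ Y := ⟨_, rfl⟩
  have hVr : V ≤ ι.range := by
    rw [hV]
    apply sup_le
    · rw [← hT]; exact hDT
    · exact hY
  have hgV : (g : L) ∈ Subgroup.normalizer (V : Set L) := by rw [hV]; exact mem_normalizer_sup hgD hgY
  obtain ⟨P1, hP1⟩ : ∃ P1 : Subgroup Ω, P1 = preimageAlong ι V := ⟨_, rfl⟩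
  have hmemP1 : ∀ y : Ω, y ∈ P1 ↔ ∃ hy : y ∈ S, ι ⟨y, hy⟩ ∈ V := by
    intro y; rw [hP1]; exact mem_preimageAlong_iff ι V y
  have hP1S : P1 ≤ S := by rw [hP1]; exact preimageAlong_le ι V
  have hιP1 : ∀ y : P1, ι ⟨y, hP1S y.2⟩ ∈ V := fun y => ((hmemP1 y).mp y.2).2
  have hex : ∀ y : P1, ∃ z : P1, ι ⟨z, hP1S z.2⟩ = (g : L) * ι ⟨y, hP1S y.2⟩ * (g : L)⁻¹ := by
    intro y
    have h1 : (g : L) * ι ⟨y, hP1S y.2⟩ * (g : L)⁻¹ ∈ V := (Subgroup.mem_normalizer_iff.mp hgV _).mp (hιP1 y)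
    obtain ⟨s, hs⟩ := hVr h1
    have hsP1 : (s : Ω) ∈ P1 := by
      rw [hmemP1]; exact ⟨s.2, by rw [Subtype.coe_eta, hs]; exact h1⟩
    exact ⟨⟨s, hsP1⟩, hs⟩
  obtain ⟨α1, hα1mem, Hα1⟩ := exists_aut_of_conj hι hP1S (g : L) hex
  refine ⟨P1, hP1S, ?_, α1, hα1mem, (g : L), g.2, Hα1, ?_, ?_⟩
  · intro s hs
    rw [hmemP1]
    refine ⟨s.2, ?_⟩
    rw [Subtype.coe_eta, hV]
    exact le_sup_right (a := D) hs
  · intro h1
    apply hgnC
    rw [Subgroup.mem_centralizer_iff]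
    intro d hd
    obtain ⟨s, hs⟩ : d ∈ ι.range := hT ▸ hDT hd
    have hsP1 : (s : Ω) ∈ P1 := by
      rw [hmemP1]
      refine ⟨s.2, ?_⟩
      rw [Subtype.coe_eta, hs, hV]
      exact le_sup_left (b := Y) hd
    have h2 := Hα1 ⟨s, hsP1⟩
    rw [h1] at h2
    simp only [MulAut.one_apply, Subtype.coe_eta] at h2
    rw [hs] at h2
    exact (eq_mul_inv_iff_mul_eq.mp h2)
  · have h1 : α1 ^ orderOf (g : L) = 1 := by
      ext y
      have h2 := ι_pow_rel ι hP1S α1 (g : L) Hα1 (orderOf (g : L)) y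
      rw [pow_orderOf_eq_one, one_mul, inv_one, mul_one] at h2
      have := hι.1 h2
      simp only [MulAut.one_apply]
      exact congrArg (fun s : S => (s : Ω)) this
    exact Nat.Coprime.coprime_dvd_left (orderOf_dvd_of_pow_eq_one h1) hgcL

/-- If `X` is normal in `S` and `N_L(ι X)` has no normal `p`-complement then `X` is bad. -/
theorem bad_of_realized_normalizer [Finite S] [Finite L] (p : ℕ) [hp : Fact p.Prime] (hS : IsPGroup p S)
    (F : FusionSystem S) (ι : S →* L) (hι : F.IsRealizedBy ι) (T : Sylow p L) (hT : (T : Subgroup L) = ι.range)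
    {X : Subgroup Ω} (hXS : X ≤ S) (hXn : S ≤ Subgroup.normalizer (X : Set Ω))
    (h : ¬ HasNormalPComplement p ↥(Subgroup.normalizer (((X.subgroupOf S).map ι : Subgroup L) : Set L))) :
    Bad p F X := by
  have hTM : (T : Subgroup L) ≤ Subgroup.normalizer (((X.subgroupOf S).map ι : Subgroup L) : Set L) := by
    apply Cfsg.Agent.H9KL.le_normalizer_of_forall_conj_mem
    rw [hT]
    rintro _ ⟨s, rfl⟩ _ ⟨x, hx, rfl⟩
    refine ⟨s * x * s⁻¹, ?_, by simp⟩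
    have hsn := hXn s.2
    have hx' : (x : Ω) ∈ X := Subgroup.mem_subgroupOf.mp hx
    exact Subgroup.mem_subgroupOf.mpr ((Subgroup.mem_normalizer_iff.mp hsn _).mp hx')
  have hY : (X.subgroupOf S).map ι ≤ ι.range := by
    rintro _ ⟨s, -, rfl⟩; exact ⟨s, rfl⟩
  obtain ⟨P₁, hP₁S, hXP₁, α₁, hα₁, g, hg, Hα₁, hα₁1, hα₁c⟩ :=
    exists_aut_of_not_pnilp p hS F ι hι T hT _ hTM h _ hY le_rfl
  refine ⟨P₁, ?_, ?_, α₁, hα₁, ?_, hα₁1, hα₁c⟩
  · intro x hx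
    exact hXP₁ ⟨x, hXS hx⟩ ⟨⟨x, hXS hx⟩, Subgroup.mem_subgroupOf.mpr hx, rfl⟩
  · intro x hx
    exact ⟨hP₁S hx, hXn (hP₁S hx)⟩
  · intro y hy
    have h1 : ι ⟨y, hP₁S y.2⟩ ∈ (X.subgroupOf S).map ι := ⟨⟨y, hP₁S y.2⟩, Subgroup.mem_subgroupOf.mpr hy, rfl⟩
    have h2 := (Subgroup.mem_normalizer_iff.mp hg _).mp h1
    rw [← Hα₁ y] at h2
    obtain ⟨z, hz, hzz⟩ := h2
    have h4 := hι.1 hzz
    have h5 : (z : Ω) = ((α₁ y : P₁) : Ω) := congrArg (fun s : S => (s : Ω)) h4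
    rw [← h5]
    exact Subgroup.mem_subgroupOf.mp hz

end Cfsg.Agent.H9ZJ
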