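import Mathlib
import Cfsg.Prelude.Def_FusionSystem
import Cfsg.Prelude.Def_PLocal
import Cfsg.Agent.Lib.Helper9.ZJG3
import Cfsg.Agent.Lib.Helper9.ZJF14
import Cfsg.Agent.S5097

set_option autoImplicit false

/-!
# Thompson's normal `p`-complement theorem for fusion systems (part 1): centrally bad subgroups
-/

namespace Cfsg.Agent.H9ZJ

open Cfsg Cfsg.FusionSystem Cfsg.Agent.Lib.Helper9 Cfsg.Agent.Lib.Lead

universe u

variable {Ω : Type u} [Group Ω] {S : Subgroup Ω}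

/-- `Z` is *centrally bad*: some nontrivial `p'`-automorphism in the system of a subgroup `P` with `Z ≤ P ≤ C_S(Z)`
fixes `Z` elementwise (so that `C_F(Z)` is not the inner system). -/
def CBad (p : ℕ) (F : FusionSystem S) (Z : Subgroup Ω) : Prop :=
  ∃ P : Subgroup Ω, Z ≤ P ∧ P ≤ centralizerIn S Z ∧ ∃ α ∈ F.autGroup P,
    (∀ x : P, (x : Ω) ∈ Z → ((α x : P) : Ω) = x) ∧ α ≠ 1 ∧ (orderOf α).Coprime p

theorem CBad.bad {p : ℕ} {F : FusionSystem S} {Z : Subgroup Ω} (h : CBad p F Z) : Bad p F Z := by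
  obtain ⟨P, hZP, hPC, α, hα, hαZ, hα1, hαc⟩ := h
  refine ⟨P, hZP, fun x hx => ⟨(hPC hx).1, Subgroup.centralizer_le_normalizer _ (hPC hx).2⟩, α, hα, ?_, hα1, hαc⟩
  intro x hx
  rw [hαZ x hx]
  exact hx

theorem cbad_of_le {p : ℕ} {R : Subgroup Ω} (hRS : R ≤ S) (E : FusionSystem R) (F : FusionSystem S)
    (hEF : ∀ P : Subgroup Ω, E.Hom P ⊆ F.Hom P) {Z : Subgroup Ω} (h : CBad p E Z) : CBad p F Z := by
  obtain ⟨P, hZP, hPC, α, hα, hαZ, hα1, hαc⟩ := h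
  have hPR : P ≤ R := hPC.trans inf_le_left
  refine ⟨P, hZP, fun x hx => ⟨hRS (hPC hx).1, (hPC hx).2⟩, α, ?_, hαZ, hα1, hαc⟩
  rw [mem_autGroup_iff F (hPR.trans hRS)]
  rw [mem_autGroup_iff E hPR] at hα
  exact hEF P hα

/-- If the centralizer system of `Z` is inner, `Z` is not centrally bad. -/
theorem not_cbad_of_centralizer_inner [Finite S] (p : ℕ) [hp : Fact p.Prime] (hS : IsPGroup p S)
    (F : FusionSystem S) {Z : Subgroup Ω} (hZS : Z ≤ S)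
    (h : ∀ C : FusionSystem (centralizerIn S Z), F.IsCentralizerSystem Z C →
      ∀ P : Subgroup Ω, C.Hom P = (innerFusionSystem (centralizerIn S Z)).Hom P) : ¬ CBad p F Z := by
  rintro ⟨P, hZP, hPC, α, hα, hαZ, hα1, hαc⟩
  obtain ⟨C, hC⟩ := Cfsg.Agent.S5097.result F Z hZS
  have hPS : P ≤ S := hPC.trans inf_le_left
  have hαF := (mem_autGroup_iff F hPS α).mp hα
  have hle : P ⊔ Z ≤ P := sup_le le_rfl hZP
  have hmem : P.subtype.comp α.toMonoidHom ∈ C.Hom P := by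
    rw [hC]
    refine ⟨hαF, hPC, fun x => hPC (α x).2, _, fs_restrict_mem F hαF hle, fun x => rfl, ?_⟩
    intro x
    exact hαZ ⟨x, hZP x.2⟩ x.2
  rw [h C hC P] at hmem
  obtain ⟨-, g, hg, Hg⟩ := hmem
  have hmem' : α ∈ autInducedBy S P := by
    rw [mem_autInducedBy_iff]
    exact ⟨g, hg.1, fun x => Hg x⟩
  obtain ⟨k, hk⟩ := (isPGroup_autInducedBy p hS P) ⟨α, hmem'⟩
  have hk' : α ^ p ^ k = 1 := congrArg Subtype.val hk
  exact pow_ne_one_of_coprime p α hα1 hαc k hk'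

variable {L : Type u} [Group L]

/-- If `X` is central in `S` and `C_L(ι X)` has no normal `p`-complement then `X` is centrally bad. -/
theorem cbad_of_realized_centralizer [Finite S] [Finite L] (p : ℕ) [hp : Fact p.Prime] (hS : IsPGroup p S)
    (F : FusionSystem S) (ι : S →* L) (hι : F.IsRealizedBy ι) (T : Sylow p L) (hT : (T : Subgroup L) = ι.range)
    {X : Subgroup Ω} (hXS : X ≤ S) (hXc : S ≤ Subgroup.centralizer (X : Set Ω))
    (h : ¬ HasNormalPComplement p ↥(Subgroup.centralizer (((X.subgroupOf S).map ι : Subgroup L) : Set L))) :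
    CBad p F X := by
  have hTM : (T : Subgroup L) ≤ Subgroup.centralizer (((X.subgroupOf S).map ι : Subgroup L) : Set L) := by
    rw [hT]
    rintro _ ⟨s, rfl⟩
    rw [Subgroup.mem_centralizer_iff]
    rintro _ ⟨x, hx, rfl⟩
    have hx' : (x : Ω) ∈ X := Subgroup.mem_subgroupOf.mp hx
    have h1 := (Subgroup.mem_centralizer_iff.mp (hXc s.2)) (x : Ω) hx'
    have h2 : x * s = s * x := Subtype.ext h1
    rw [← map_mul, ← map_mul, h2]
  have hY : (X.subgroupOf S).map ι ≤ ι.range := by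
    rintro _ ⟨s, -, rfl⟩; exact ⟨s, rfl⟩
  obtain ⟨P₁, hP₁S, hXP₁, α₁, hα₁, g, hg, Hα₁, hα₁1, hα₁c⟩ :=
    exists_aut_of_not_pnilp p hS F ι hι T hT _ hTM h _ hY (Subgroup.centralizer_le_normalizer _)
  refine ⟨P₁, ?_, ?_, α₁, hα₁, ?_, hα₁1, hα₁c⟩
  · intro x hx
    exact hXP₁ ⟨x, hXS hx⟩ ⟨⟨x, hXS hx⟩, Subgroup.mem_subgroupOf.mpr hx, rfl⟩
  · intro x hx
    exact ⟨hP₁S hx, hXc (hP₁S hx)⟩
  · intro y hy
    have h1 : ι ⟨y, hP₁S y.2⟩ ∈ (X.subgroupOf S).map ι := ⟨⟨y, hP₁S y.2⟩, Subgroup.mem_subgroupOf.mpr hy, rfl⟩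
    have h2 := (Subgroup.mem_centralizer_iff.mp hg) _ h1
    have h3 : g * ι ⟨y, hP₁S y.2⟩ * g⁻¹ = ι ⟨y, hP₁S y.2⟩ := by
      rw [← h2]; group
    have h4 := Hα₁ y
    rw [h3] at h4
    exact congrArg (fun s : S => (s : Ω)) (hι.1 h4)

end Cfsg.Agent.H9ZJ
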