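import Mathlib
import Cfsg.Prelude.Def_FusionSystem
import Cfsg.Prelude.Def_PLocal
import Cfsg.Agent.Lib.Helper9.TH1
import Cfsg.Agent.Lib.Lead.Thom1

set_option autoImplicit false

/-!
# Thompson's normal `p`-complement theorem for fusion systems (part 2): `J(R)` and `Z(R)` for subgroups `R`
-/

namespace Cfsg.Agent.H9ZJ

open Cfsg Cfsg.FusionSystem Cfsg.Agent.Lib.Helper9 Cfsg.Agent.Lib.Lead
open Cfsg.Agent.Lib.Helper4.ThreeStep

universe u

section
variable {X G : Type u} [Group X] [Group G]

theorem thompsonAOf_map (f : X →* G) (hf : Function.Injective f) (T : Subgroup X) :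
    thompsonSubgroupAOf (T.map f) = (thompsonSubgroupAOf T).map f := by
  unfold thompsonSubgroupAOf
  rw [← ZJFun.map_thompsonSubgroupA (T.equivMapOfInjective f hf), Subgroup.map_map, Subgroup.map_map]
  congr 1

theorem thompsonAOf_le (R : Subgroup G) : thompsonSubgroupAOf R ≤ R := by
  rintro _ ⟨x, -, rfl⟩
  exact x.2

theorem normalizer_le_normalizer_thompsonA (R : Subgroup G) :
    Subgroup.normalizer (R : Set G) ≤ Subgroup.normalizer (thompsonSubgroupAOf R : Set G) := by
  intro g hg
  apply mem_normalizer_of_map_conj_eq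
  rw [← thompsonAOf_map _ (MulAut.conj g).injective, map_conj_eq_of_mem_normalizer hg]

theorem thompsonAOf_ne_bot {R : Subgroup G} [Finite R] (hne : R ≠ ⊥) : thompsonSubgroupAOf R ≠ ⊥ := by
  haveI : Nontrivial R := (Subgroup.nontrivial_iff_ne_bot R).mpr hne
  have h1 : thompsonSubgroupA R ≠ ⊥ := ZJFun.thompsonSubgroupA_ne_bot
  intro h
  apply h1
  unfold thompsonSubgroupAOf at h
  exact (Subgroup.map_eq_bot_iff_of_injective _ R.subtype_injective).mp h

theorem thompsonAOf_top_map (f : X →* G) (hf : Function.Injective f) :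
    thompsonSubgroupAOf f.range = (thompsonSubgroupAOf (⊤ : Subgroup X)).map f := by
  rw [MonoidHom.range_eq_map]
  exact thompsonAOf_map f hf ⊤

theorem thompsonAOf_subgroupOf_self (R : Subgroup G) :
    (thompsonSubgroupAOf R).subgroupOf R = thompsonSubgroupAOf (⊤ : Subgroup R) := by
  have h := thompsonAOf_top_map R.subtype R.subtype_injective
  rw [Subgroup.range_subtype] at h
  rw [h]
  exact Subgroup.comap_map_eq_self_of_injective R.subtype_injective _

theorem normalizer_le_normalizer_Zc (R : Subgroup G) :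
    Subgroup.normalizer (R : Set G) ≤ Subgroup.normalizer (Thom.Zc R : Set G) := by
  intro g hg
  apply mem_normalizer_of_map_conj_eq
  rw [← Thom.Zc_map_of_injOn _ R (MulAut.conj g).injective.injOn, map_conj_eq_of_mem_normalizer hg]

theorem Zc_top_map (f : X →* G) (hf : Function.Injective f) :
    Thom.Zc f.range = (Thom.Zc (⊤ : Subgroup X)).map f := by
  rw [MonoidHom.range_eq_map]
  exact Thom.Zc_map_of_injOn f ⊤ hf.injOn

theorem Zc_subgroupOf_self (R : Subgroup G) :
    (Thom.Zc R).subgroupOf R = Thom.Zc (⊤ : Subgroup R) := by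
  have h := Zc_top_map R.subtype R.subtype_injective
  rw [Subgroup.range_subtype] at h
  rw [h]
  exact Subgroup.comap_map_eq_self_of_injective R.subtype_injective _

theorem Zc_ne_bot {R : Subgroup G} [Finite R] {p : ℕ} [Fact p.Prime] (hR : IsPGroup p R) (hne : R ≠ ⊥) :
    Thom.Zc R ≠ ⊥ := by
  haveI : Nontrivial R := (Subgroup.nontrivial_iff_ne_bot R).mpr hne
  haveI := hR.center_nontrivial
  intro h
  have h1 := card_inf_centralizer_eq_card_center R
  have h2 : Nat.card (Thom.Zc R) = 1 := by rw [h]; exact Subgroup.card_bot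
  have h3 : Nat.card (Subgroup.center R) = 1 := by
    rw [← h1]; exact h2
  have h4 := (Subgroup.card_eq_one).mp h3
  exact (Subgroup.nontrivial_iff_ne_bot _).mp inferInstance h4

end

end Cfsg.Agent.H9ZJ
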