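import Mathlib
import Cfsg.Prelude.Def_FusionSystem
import Cfsg.Prelude.Def_FusionComponents
import Cfsg.Prelude.Def_PLocal
import Cfsg.Agent.Lib.Helper9.ZJF12

set_option autoImplicit false

/-!
# Generic maximal-bad induction (part 1): no normal subgroup of the factor system of the normalizer of a maximal bad
subgroup is bad
-/

namespace Cfsg.Agent.H9ZJ

open Cfsg Cfsg.FusionSystem Cfsg.Agent.Lib.Helper9 Cfsg.Agent.Lib.Lead

universe u

variable {Ω : Type u} [Group Ω] {S : Subgroup Ω}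

theorem factor_not_bad [Finite S] (p : ℕ) [Fact p.Prime] (hS : IsPGroup p S) (F : FusionSystem S)
    (hF : F.IsSaturated p) {Q : Subgroup Ω} (hQ : IsMaxBad p F Q)
    (E : FusionSystem (normalizerIn S Q)) (hE : F.IsNormalizerSystem Q E)
    [hn : (Q.subgroupOf (normalizerIn S Q)).Normal]
    (E' : FusionSystem (⊤ : Subgroup (normalizerIn S Q ⧸ Q.subgroupOf (normalizerIn S Q))))
    (hE' : E.IsFactorSystem Q (QuotientGroup.mk' (Q.subgroupOf (normalizerIn S Q))) E')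
    (Z' : Subgroup (normalizerIn S Q ⧸ Q.subgroupOf (normalizerIn S Q))) (hZ'ne : Z' ≠ ⊥) [hZ'n : Z'.Normal] :
    ¬ Bad p E' Z' := by
  intro hb
  obtain ⟨R, hRdef⟩ : ∃ R : Subgroup Ω, R = normalizerIn S Q := ⟨_, rfl⟩
  have hRS : normalizerIn S Q ≤ S := fs_normalizerIn_le S Q
  haveI : Finite (normalizerIn S Q) := fs_finite_of_le hRS
  have hRp : IsPGroup p (normalizerIn S Q) := hS.to_le hRS
  obtain ⟨θ, hθ⟩ : ∃ θ : normalizerIn S Q →* (normalizerIn S Q ⧸ Q.subgroupOf (normalizerIn S Q)),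
    θ = QuotientGroup.mk' (Q.subgroupOf (normalizerIn S Q)) := ⟨_, rfl⟩
  rw [← hθ] at hE'
  have hker : ∀ s : normalizerIn S Q, θ s = 1 ↔ (s : Ω) ∈ Q := hE'.2.1
  have hQR : Q ≤ normalizerIn S Q := hE'.1
  have hXp : IsPGroup p (normalizerIn S Q ⧸ Q.subgroupOf (normalizerIn S Q)) :=
    hRp.to_quotient _
  have hbE : Bad p E (preimageAlong θ Z') := bad_lift p E θ E' hE' hb
  have hEF : ∀ P : Subgroup Ω, E.Hom P ⊆ F.Hom P := by
    intro P φ hφ
    rw [hE] at hφ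
    exact hφ.1
  have hbF : Bad p F (preimageAlong θ Z') := bad_of_le hRS E F hEF hbE
  have hmem : ∀ x : Ω, x ∈ preimageAlong θ Z' ↔ ∃ hx : x ∈ normalizerIn S Q, θ ⟨x, hx⟩ ∈ Z' :=
    fun x => mem_preimageAlong_iff θ Z' x
  have hQH : Q ≤ preimageAlong θ Z' := ker_le_preimageAlong θ Z' hQR hker
  have hHR : preimageAlong θ Z' ≤ normalizerIn S Q := preimageAlong_le θ Z'
  -- the preimage is strictly larger than Q
  have hlt : Q < preimageAlong θ Z' := by
    refine lt_of_le_of_ne hQH ?_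
    intro heq
    obtain ⟨⟨z, hz⟩, hz1⟩ := (Subgroup.ne_bot_iff_exists_ne_one).mp hZ'ne
    have hz1' : z ≠ 1 := fun h => hz1 (Subtype.ext h)
    obtain ⟨r, rfl⟩ : ∃ r, θ r = z := by rw [hθ]; exact QuotientGroup.mk'_surjective _ z
    have hrH : (r : Ω) ∈ preimageAlong θ Z' := by
      rw [hmem]; exact ⟨r.2, by rw [Subtype.coe_eta]; exact hz⟩
    rw [← heq] at hrH
    exact hz1' ((hker r).mpr hrH)
  -- the preimage is normalized by N_S(Q)
  have hnorm : normalizerIn S Q ≤ normalizerIn S (preimageAlong θ Z') := by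
    intro r hr
    refine ⟨hRS hr, ?_⟩
    have key : ∀ r ∈ normalizerIn S Q, ∀ y ∈ preimageAlong θ Z', r * y * r⁻¹ ∈ preimageAlong θ Z' := by
      intro r hr y hy
      rw [hmem] at hy ⊢
      obtain ⟨hyR, hyZ⟩ := hy
      refine ⟨Subgroup.mul_mem _ (Subgroup.mul_mem _ hr hyR) (Subgroup.inv_mem _ hr), ?_⟩
      have : (⟨r * y * r⁻¹, Subgroup.mul_mem _ (Subgroup.mul_mem _ hr hyR) (Subgroup.inv_mem _ hr)⟩ :
          normalizerIn S Q) = ⟨r, hr⟩ * ⟨y, hyR⟩ * (⟨r, hr⟩ : normalizerIn S Q)⁻¹ := rfl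
      rw [this, map_mul, map_mul, map_inv]
      exact hZ'n.conj_mem _ hyZ _
    show r ∈ Subgroup.normalizer ((preimageAlong θ Z' : Subgroup Ω) : Set Ω)
    rw [Subgroup.mem_normalizer_iff]
    intro y
    refine ⟨key r hr y, fun hy => ?_⟩
    have h1 := key r⁻¹ (Subgroup.inv_mem _ hr) _ hy
    have h2 : r⁻¹ * (r * y * r⁻¹) * r⁻¹⁻¹ = y := by group
    rwa [h2] at h1
  haveI : Finite (normalizerIn S (preimageAlong θ Z')) := fs_finite_of_le (fs_normalizerIn_le S _)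
  haveI : Finite (preimageAlong θ Z') := fs_finite_of_le (hHR.trans hRS)
  have hne : preimageAlong θ Z' ≠ ⊥ := by
    rintro h
    rw [h] at hlt
    exact not_lt_bot hlt
  refine hQ.not_bad_of_lt hS hF (Or.inr ⟨Subgroup.card_le_of_le hnorm, ?_⟩) hne hbF
  by_contra hcl
  push Not at hcl
  exact hlt.ne (Subgroup.eq_of_le_of_card_ge hlt.le hcl)

end Cfsg.Agent.H9ZJ
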