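import Mathlib
import Cfsg.Prelude.Def_FusionSystem
import Cfsg.Prelude.Def_FusionComponents
import Cfsg.Prelude.Def_PLocal
import Cfsg.Agent.Lib.Helper9.ZJG1
import Cfsg.Agent.Lib.Helper9.ZJF13

set_option autoImplicit false

/-!
# Generic maximal-bad induction (part 2): the induction skeleton

`Φ` is a hypothesis on saturated fusion systems which passes to the factor system `N_F(Q)/Q` of the normalizer of a
maximal bad subgroup `Q`, and which is contradictory as soon as a maximal bad subgroup contains its centralizer.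
Then a system satisfying `Φ` has no bad subgroup at all.
-/

namespace Cfsg.Agent.H9ZJ

open Cfsg Cfsg.FusionSystem Cfsg.Agent.Lib.Helper9 Cfsg.Agent.Lib.Lead

universe u

theorem maxbad_induction (p : ℕ) [hp : Fact p.Prime]
    (Φ : ∀ {Ω : Type u} [Group Ω] {S : Subgroup Ω}, FusionSystem S → Prop)
    (hfac : ∀ {Ω : Type u} [Group Ω] {S : Subgroup Ω} [Finite S], IsPGroup p S → ∀ F : FusionSystem S,
      F.IsSaturated p → Φ F → ∀ Q : Subgroup Ω, IsMaxBad p F Q →
      ∀ E : FusionSystem (normalizerIn S Q), F.IsNormalizerSystem Q E →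
      ∀ [hn : (Q.subgroupOf (normalizerIn S Q)).Normal]
        (E' : FusionSystem (⊤ : Subgroup (normalizerIn S Q ⧸ Q.subgroupOf (normalizerIn S Q)))),
        E.IsFactorSystem Q (QuotientGroup.mk' (Q.subgroupOf (normalizerIn S Q))) E' → Φ E')
    (hcon : ∀ {Ω : Type u} [Group Ω] {S : Subgroup Ω} [Finite S], IsPGroup p S → ∀ F : FusionSystem S,
      F.IsSaturated p → Φ F → ∀ Q : Subgroup Ω, IsMaxBad p F Q → centralizerIn S Q ≤ Q → False) :
    ∀ (n : ℕ) {Ω : Type u} [Group Ω] {S : Subgroup Ω} [Finite S] (_ : IsPGroup p S) (F : FusionSystem S),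
      F.IsSaturated p → Nat.card S = n → Φ F → ∀ Q : Subgroup Ω, ¬ Bad p F Q := by
  intro n
  induction n using Nat.strong_induction_on with
  | _ n ih =>
  intro Ω _ S _ hS F hF hn hΦ Q₀ hbad₀
  obtain ⟨P₀, -, hP₀N, α₀, hα₀, -, hα₀1, hα₀c⟩ := hbad₀
  have hP₀S : P₀ ≤ S := hP₀N.trans inf_le_left
  obtain ⟨hP₀ne, hbadP₀⟩ := bad_self p F hP₀S α₀ hα₀ hα₀1 hα₀c
  obtain ⟨Q, hQ⟩ := exists_isMaxBad p hS F hF hP₀ne hbadP₀
  have hQS : Q ≤ S := hQ.1.1
  have hRS : normalizerIn S Q ≤ S := fs_normalizerIn_le S Q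
  haveI : Finite (normalizerIn S Q) := fs_finite_of_le hRS
  have hRp : IsPGroup p (normalizerIn S Q) := hS.to_le hRS
  obtain ⟨E, hE⟩ := Cfsg.Agent.S5096.result F Q hQS
  have hEsat := normalizerSystem_saturated p hS F hF hQ.1 E hE
  have hQnE : E.IsNormal Q := normalizerSystem_isNormal F hQS E hE
  have hQsc := fs_stronglyClosed_of_isNormal E hQnE
  have hmaxE : ∀ T : Subgroup Ω, E.IsNormal T → Q ≤ T → T = Q :=
    fun T hT hQT => hQ.eq_of_isNormal hS hF E hE hT hQT
  haveI hn' : (Q.subgroupOf (normalizerIn S Q)).Normal :=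
    (Subgroup.normal_subgroupOf_iff_le_normalizer hQnE.1).mpr (fs_stronglyClosed_le_normalizer E hQsc)
  obtain ⟨E', hE'⟩ := Cfsg.Agent.S5132.result p hRp E Q hQsc
  have hsurj := Cfsg.Agent.S5134.result p hRp E hEsat Q hQsc _ E' hE'
  have hE'sat := Cfsg.Agent.S5133.result p hRp E hEsat E' _ hsurj
  have hXp : IsPGroup p (⊤ : Subgroup (normalizerIn S Q ⧸ Q.subgroupOf (normalizerIn S Q))) :=
    (hRp.to_quotient _).to_subgroup ⊤
  -- the quotient is smaller
  have hcard : Nat.card (⊤ : Subgroup (normalizerIn S Q ⧸ Q.subgroupOf (normalizerIn S Q))) < n := by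
    rw [Subgroup.card_top, ← Subgroup.index_eq_card]
    have h1 := Subgroup.card_mul_index (Q.subgroupOf (normalizerIn S Q))
    have h2 : Nat.card (normalizerIn S Q) ≤ n := hn ▸ Subgroup.card_le_of_le hRS
    have h3 : 1 < Nat.card (Q.subgroupOf (normalizerIn S Q)) := by
      rw [Nat.card_congr (Subgroup.subgroupOfEquivOfLe hQnE.1).toEquiv]
      haveI : Finite Q := fs_finite_of_le hQS
      have hpos : 0 < Nat.card Q := Nat.card_pos
      have hne1 : Nat.card Q ≠ 1 := fun h => hQ.2.1 (Subgroup.card_eq_one.mp h)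
      omega
    have hipos : 0 < (Q.subgroupOf (normalizerIn S Q)).index := Nat.pos_of_ne_zero Subgroup.index_ne_zero_of_finite
    nlinarith
  have hΦ' : Φ E' := hfac hS F hF hΦ Q hQ E hE E' hE'
  have ihres := ih _ hcard hXp E' hE'sat rfl hΦ'
  -- the factor system is inner
  have hpg : ∀ P' : Subgroup (normalizerIn S Q ⧸ Q.subgroupOf (normalizerIn S Q)), P' ≤ ⊤ →
      IsPGroup p (E'.autGroup P') := by
    intro P' hP'
    by_contra h
    exact ihres P' (bad_of_not_isPGroup p E' hP' h).2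
  have hE'inner := Cfsg.Agent.S5083.result p hXp E' hE'sat hpg
  have hinner : ∀ (P' : Subgroup (normalizerIn S Q ⧸ Q.subgroupOf (normalizerIn S Q))) (φ' : P' →* _),
      φ' ∈ E'.Hom P' → ∃ s' ∈ (⊤ : Subgroup (normalizerIn S Q ⧸ Q.subgroupOf (normalizerIn S Q))),
        ∀ x : P', φ' x = s' * x * s'⁻¹ := by
    intro P' φ' hφ'
    rw [hE'inner] at hφ'
    obtain ⟨-, g, hg, h⟩ := hφ'
    exact ⟨g, hg, h⟩
  have hsc : ∀ X : Subgroup Ω, Q ≤ X → X ≤ normalizerIn S Q →
      normalizerIn S Q ≤ Subgroup.normalizer (X : Set Ω) → E.StronglyClosed X :=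
    fun X hQX hXR hXn => stronglyClosed_of_factor_inner p hRp E hEsat hQsc _ E' hE' hinner hQX hXR hXn
  have hcent : centralizerIn (normalizerIn S Q) Q ≤ Q :=
    centralizerIn_le_of_stronglyClosed p hRp E hEsat hQnE hmaxE hsc
  have hcentS : centralizerIn S Q ≤ Q := by
    intro x hx
    exact hcent ⟨⟨hx.1, Subgroup.centralizer_le_normalizer _ hx.2⟩, hx.2⟩
  exact hcon hS F hF hΦ Q hQ hcentS

end Cfsg.Agent.H9ZJ
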