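import Mathlib
import Cfsg.Prelude.Def_FusionSystem
import Cfsg.Prelude.Def_FusionComponents
import Cfsg.Prelude.Def_FusionReduction
import Cfsg.Prelude.Def_PLocal
import Cfsg.Agent.Lib.Helper9.TH2
import Cfsg.Agent.Lib.Helper9.ZJG2
import Cfsg.Agent.Lib.Helper9.KL14
import Cfsg.Agent.Lib.Helper9.KL21
import Cfsg.Agent.S2800
import Cfsg.Agent.S5077

set_option autoImplicit false

/-!
# Thompson's normal `p`-complement theorem for fusion systems (part 3): the two inputs of the induction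
-/

namespace Cfsg.Agent.H9ZJ

open Cfsg Cfsg.FusionSystem Cfsg.Agent.Lib.Helper9 Cfsg.Agent.Lib.Lead

universe u

variable {Ω : Type u} [Group Ω] {S : Subgroup Ω}

/-- The hypothesis carried through the induction. -/
def ThomHyp (p : ℕ) {Ω : Type u} [Group Ω] {S : Subgroup Ω} (F : FusionSystem S) : Prop :=
  (p ≠ 2 ∨ F.IsSectionFree p (Equiv.Perm (Fin 4))) ∧
    ¬ CBad p F (S ⊓ Subgroup.centralizer (S : Set Ω)) ∧ ¬ Bad p F (thompsonSubgroupAOf S)

/-- A bad subgroup normalized by `N_S(N_S(Q))` contradicts the maximality of `Q` unless `Q` is normal in `S`. -/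
theorem IsMaxBad.false_of_bad_char [Finite S] {p : ℕ} [Fact p.Prime] (hS : IsPGroup p S) {F : FusionSystem S}
    (hF : F.IsSaturated p) {Q : Subgroup Ω} (hQ : IsMaxBad p F Q) {X : Subgroup Ω} (hX : Bad p F X)
    (hXne : X ≠ ⊥) (hchar : normalizerIn S (normalizerIn S Q) ≤ normalizerIn S X)
    (hlt : normalizerIn S Q < S) : False := by
  have h1 := fs_lt_normalizerIn p hS hlt
  haveI : Finite (normalizerIn S X) := fs_finite_of_le (fs_normalizerIn_le S _)
  refine hQ.not_bad_of_lt hS hF (Or.inl ?_) hXne hX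
  have h3 : normalizerIn S Q < normalizerIn S X := lt_of_lt_of_le h1 hchar
  by_contra hcl
  push Not at hcl
  exact h3.ne (Subgroup.eq_of_le_of_card_ge h3.le hcl)

theorem thom_factor [Finite S] (p : ℕ) [hp : Fact p.Prime] (hS : IsPGroup p S) (F : FusionSystem S)
    (hF : F.IsSaturated p) (hΦ : ThomHyp p F) (Q : Subgroup Ω) (hQ : IsMaxBad p F Q)
    (E : FusionSystem (normalizerIn S Q)) (hE : F.IsNormalizerSystem Q E)
    [hn : (Q.subgroupOf (normalizerIn S Q)).Normal]
    (E' : FusionSystem (⊤ : Subgroup (normalizerIn S Q ⧸ Q.subgroupOf (normalizerIn S Q))))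
    (hE' : E.IsFactorSystem Q (QuotientGroup.mk' (Q.subgroupOf (normalizerIn S Q))) E') : ThomHyp p E' := by
  have hQS : Q ≤ S := hQ.1.1
  have hRS : normalizerIn S Q ≤ S := fs_normalizerIn_le S Q
  haveI : Finite (normalizerIn S Q) := fs_finite_of_le hRS
  have hRp : IsPGroup p (normalizerIn S Q) := hS.to_le hRS
  have hXp : IsPGroup p (normalizerIn S Q ⧸ Q.subgroupOf (normalizerIn S Q)) := hRp.to_quotient _
  have hEsat := normalizerSystem_saturated p hS F hF hQ.1 E hE
  have hQnE : E.IsNormal Q := normalizerSystem_isNormal F hQS E hE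
  have htopp : IsPGroup p (⊤ : Subgroup (normalizerIn S Q ⧸ Q.subgroupOf (normalizerIn S Q))) :=
    hXp.to_subgroup ⊤
  have key : ∀ Z' : Subgroup (normalizerIn S Q ⧸ Q.subgroupOf (normalizerIn S Q)),
      (Nontrivial (normalizerIn S Q ⧸ Q.subgroupOf (normalizerIn S Q)) → Z' ≠ ⊥) → Z'.Normal →
      ¬ Bad p E' Z' := by
    intro Z' hZ'ne hZ'n hb
    have hnt : Nontrivial (normalizerIn S Q ⧸ Q.subgroupOf (normalizerIn S Q)) := by
      obtain ⟨P', -, -, α', -, -, hα'1, -⟩ := hb
      by_contra hnn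
      rw [not_nontrivial_iff_subsingleton] at hnn
      apply hα'1
      ext x
      apply Subsingleton.elim
    exact factor_not_bad p hS F hF hQ E hE E' hE' Z' (hZ'ne hnt) hb
  have htopn : Subgroup.normalizer
      ((⊤ : Subgroup (normalizerIn S Q ⧸ Q.subgroupOf (normalizerIn S Q))) :
        Set (normalizerIn S Q ⧸ Q.subgroupOf (normalizerIn S Q))) = ⊤ :=
    Subgroup.normalizer_eq_top_iff.mpr inferInstance
  refine ⟨?_, ?_, ?_⟩
  · rcases hΦ.1 with h2 | hfree
    · exact Or.inl h2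
    · right
      have h1 := Cfsg.Agent.H9KL.normalizer_sectionFree p hS F hF hfree Q hQ.1 E hE
      exact Cfsg.Agent.H9KL.factor_sectionFree p hRp E hEsat Q hQnE h1 _ E' hE'
  · intro hb
    refine key _ ?_ ?_ hb.bad
    · intro hnt
      have htop : (⊤ : Subgroup (normalizerIn S Q ⧸ Q.subgroupOf (normalizerIn S Q))) ≠ ⊥ := top_ne_bot
      exact Zc_ne_bot htopp htop
    · have h1 := normalizer_le_normalizer_Zc
        (⊤ : Subgroup (normalizerIn S Q ⧸ Q.subgroupOf (normalizerIn S Q)))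
      rw [htopn] at h1
      exact Subgroup.normalizer_eq_top_iff.mp (top_le_iff.mp h1)
  · intro hb
    refine key _ ?_ ?_ hb
    · intro hnt
      have htop : (⊤ : Subgroup (normalizerIn S Q ⧸ Q.subgroupOf (normalizerIn S Q))) ≠ ⊥ := top_ne_bot
      exact thompsonAOf_ne_bot htop
    · have h1 := normalizer_le_normalizer_thompsonA
        (⊤ : Subgroup (normalizerIn S Q ⧸ Q.subgroupOf (normalizerIn S Q)))
      rw [htopn] at h1
      exact Subgroup.normalizer_eq_top_iff.mp (top_le_iff.mp h1)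

end Cfsg.Agent.H9ZJ
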