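import Mathlib
import Cfsg.Prelude.Def_FusionSystem
import Cfsg.Prelude.Def_FusionComponents
import Cfsg.Prelude.Def_FusionReduction
import Cfsg.Prelude.Def_PLocal
import Cfsg.Agent.Lib.Helper9.TH3

set_option autoImplicit false

/-!
# Thompson's normal `p`-complement theorem for fusion systems (part 4): the constrained case
-/

namespace Cfsg.Agent.H9ZJ

open Cfsg Cfsg.FusionSystem Cfsg.Agent.Lib.Helper9 Cfsg.Agent.Lib.Lead

universe u

variable {Ω : Type u} [Group Ω] {S : Subgroup Ω}

theorem thom_constrained [Finite S] (p : ℕ) [hp : Fact p.Prime] (hS : IsPGroup p S)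
    (F : FusionSystem S) (hF : F.IsSaturated p) (hΦ : ThomHyp p F) (Q : Subgroup Ω) (hQ : IsMaxBad p F Q)
    (hcent : centralizerIn S Q ≤ Q) : False := by
  have hQS : Q ≤ S := hQ.1.1
  have hRS : normalizerIn S Q ≤ S := fs_normalizerIn_le S Q
  haveI : Finite (normalizerIn S Q) := fs_finite_of_le hRS
  have hRp : IsPGroup p (normalizerIn S Q) := hS.to_le hRS
  obtain ⟨E, hE⟩ := Cfsg.Agent.S5096.result F Q hQS
  have hQfc : F.IsFullyCentralized Q := (((Cfsg.Agent.S5077.result p hS F).mp hF).1 Q hQ.1).1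
  have hQc : F.IsCentric Q := fs_centric_of_fullyCentralized_of_le F hQfc hcent
  obtain ⟨-, -, G, hG, ι, hmodel⟩ :=
    Cfsg.Agent.H9KL.exists_model_of_fn_centric p hS F hF hQ.1 hQc E hE
  obtain ⟨hfin, hι, ⟨TG, hTG⟩, -⟩ := id hmodel
  haveI := hfin
  obtain ⟨P, hQP, hPN, α, hα, hαQ, hα1, hαc⟩ := hQ.2.2.1
  have hαE := mem_normalizer_autGroup F E hE hQP hPN α hα hαQ
  have hnpl := not_plocalCentral_of_aut p hRp E ι hι hPN α hαE hα1 hαc
  have hEF : ∀ P : Subgroup Ω, E.Hom P ⊆ F.Hom P := by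
    intro P φ hφ
    rw [hE] at hφ
    exact hφ.1
  have hTne : normalizerIn S Q ≠ ⊥ := by
    intro h
    apply hQ.2.1
    exact le_bot_iff.mp (h ▸ le_normalizerIn_self hQS)
  have hfree : p ≠ 2 ∨ ¬ Involves (Equiv.Perm (Fin 4)) G := by
    rcases hΦ.1 with h2 | hfr
    · exact Or.inl h2
    · exact Or.inr (hfr Q hQ.1 hQc E hE G ι hmodel)
  by_cases hN : HasNormalPComplement p ↥(Subgroup.normalizer ((thompsonSubgroupAOf (TG : Subgroup G)) : Set G))
  · have hC : ¬ HasNormalPComplement p ↥(Subgroup.centralizer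
        (((TG : Subgroup G) ⊓ Subgroup.centralizer ((TG : Subgroup G) : Set G) : Subgroup G) : Set G)) := by
      intro hC
      exact hnpl (hasNormalPComplement_iff_plocalCentral.mp (Cfsg.Agent.S2800.result TG hfree hC hN))
    have e1 : ((TG : Subgroup G) ⊓ Subgroup.centralizer ((TG : Subgroup G) : Set G) : Subgroup G) =
        ((Thom.Zc (normalizerIn S Q)).subgroupOf (normalizerIn S Q)).map ι := by
      rw [Zc_subgroupOf_self, ← Zc_top_map ι hι.1, ← hTG]
      rfl
    rw [e1] at hC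
    have hcb := cbad_of_realized_centralizer p hRp E ι hι TG hTG (Thom.Zc_le _) (Thom.le_centralizer_Zc _) hC
    have hcbF : CBad p F (Thom.Zc (normalizerIn S Q)) := cbad_of_le hRS E F hEF hcb
    by_cases hRS' : normalizerIn S Q = S
    · rw [hRS'] at hcbF
      exact hΦ.2.1 hcbF
    · have hlt : normalizerIn S Q < S := lt_of_le_of_ne hRS hRS'
      refine hQ.false_of_bad_char hS hF hcbF.bad (Zc_ne_bot hRp hTne) ?_ hlt
      intro x hx
      exact ⟨hx.1, normalizer_le_normalizer_Zc _ hx.2⟩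
  · have e1 : thompsonSubgroupAOf (TG : Subgroup G) =
        ((thompsonSubgroupAOf (normalizerIn S Q)).subgroupOf (normalizerIn S Q)).map ι := by
      rw [thompsonAOf_subgroupOf_self, ← thompsonAOf_top_map ι hι.1, ← hTG]
    rw [e1] at hN
    have hXS : thompsonSubgroupAOf (normalizerIn S Q) ≤ normalizerIn S Q := thompsonAOf_le _
    have hXn : normalizerIn S Q ≤ Subgroup.normalizer (thompsonSubgroupAOf (normalizerIn S Q) : Set Ω) :=
      Subgroup.le_normalizer.trans (normalizer_le_normalizer_thompsonA _)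
    have hb := bad_of_realized_normalizer p hRp E ι hι TG hTG hXS hXn hN
    have hbF : Bad p F (thompsonSubgroupAOf (normalizerIn S Q)) := bad_of_le hRS E F hEF hb
    by_cases hRS' : normalizerIn S Q = S
    · rw [hRS'] at hbF
      exact hΦ.2.2 hbF
    · have hlt : normalizerIn S Q < S := lt_of_le_of_ne hRS hRS'
      refine hQ.false_of_bad_char hS hF hbF (thompsonAOf_ne_bot hTne) ?_ hlt
      intro x hx
      exact ⟨hx.1, normalizer_le_normalizer_thompsonA _ hx.2⟩

end Cfsg.Agent.H9ZJ
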