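import Mathlib
import Cfsg.Prelude.Def_FusionSystem
import Cfsg.Prelude.Def_FusionComponents
import Cfsg.Agent.Lib.Helper9.TH4
import Cfsg.Agent.Lib.Helper9.ChainStab

set_option autoImplicit false

/-!
# Frobenius-type criterion with characteristic subgroups (part 1): a `p'`-automorphism which is trivial on a strongly
closed subgroup `X` and on the inner factor system modulo `X` is trivial
-/

namespace Cfsg.Agent.H9ZJ

open Cfsg Cfsg.FusionSystem Cfsg.Agent.Lib.Helper9 Cfsg.Agent.Lib.Lead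

universe u

variable {Ω : Type u} [Group Ω] {S : Subgroup Ω}

theorem pow_fix_of_fix {P : Type*} [Group P] (γ : MulAut P) (t : P) (h : γ t = t) (n : ℕ) : (γ ^ n) t = t := by
  induction n with
  | zero => simp
  | succ n ih => rw [pow_succ, MulAut.mul_apply, h, ih]

theorem aut_eq_one_of_factor_inner [Finite S] (p : ℕ) [hp : Fact p.Prime] (hS : IsPGroup p S)
    (F : FusionSystem S) {X : Subgroup Ω} (hX : F.StronglyClosed X)
    {Ω' : Type*} [Group Ω'] {S' : Subgroup Ω'} (θ : S →* Ω') (E' : FusionSystem S')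
    (hE' : F.IsFactorSystem X θ E') (hmor : F.IsMorphism E' θ)
    (hinner : ∀ (P' : Subgroup Ω') (φ' : P' →* Ω'), φ' ∈ E'.Hom P' → ∃ s' ∈ S', ∀ x : P', φ' x = s' * x * s'⁻¹)
    (hXp : IsPGroup p (F.autGroup X)) {P : Subgroup Ω} (hXP : X ≤ P) (hPS : P ≤ S) (α : MulAut P)
    (hα : α ∈ F.autGroup P) (hαc : (orderOf α).Coprime p) : α = 1 := by
  by_contra hα1
  haveI : Finite P := fs_finite_of_le hPS
  have hker : ∀ s : S, θ s = 1 ↔ (s : Ω) ∈ X := hE'.2.1
  have hrange : θ.range = S' := hE'.2.2.1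
  have hφ := (mem_autGroup_iff F hPS α).mp hα
  obtain ⟨φ', hφ', hP, hφS, hP', hind⟩ := hmor.2 P _ hφ
  obtain ⟨s', hs', Hs'⟩ := hinner _ φ' hφ'
  obtain ⟨s, rfl⟩ : s' ∈ θ.range := hrange ▸ hs'
  obtain ⟨b, hb⟩ := hS s
  have hb' : (θ s) ^ p ^ b = 1 := by rw [← map_pow, hb, map_one]
  have hstep : ∀ x : P, θ ⟨((α x : P) : Ω), hPS (α x).2⟩ = θ s * θ ⟨x, hPS x.2⟩ * (θ s)⁻¹ := by
    intro x
    have h1 := hind x
    rw [Hs'] at h1
    exact h1.symm
  have hpow : ∀ (j : ℕ) (x : P), θ ⟨(((α ^ j) x : P) : Ω), hPS ((α ^ j) x).2⟩ =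
      (θ s) ^ j * θ ⟨x, hPS x.2⟩ * ((θ s) ^ j)⁻¹ := by
    intro j
    induction j with
    | zero => intro x; simp
    | succ j ih =>
      intro x
      rw [pow_succ, MulAut.mul_apply, ih (α x), hstep x, pow_succ]
      group
  have hiff : ∀ x : P, ((α x : P) : Ω) ∈ X ↔ (x : Ω) ∈ X := fun x => fs_stronglyClosed_mem_iff F hX hφ hXP x
  obtain ⟨r, hr⟩ : ∃ r : MulAut X, r = restrictAut hXP α hiff := ⟨_, rfl⟩
  have hrmem : r ∈ F.autGroup X := by
    rw [mem_autGroup_iff F hX.1]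
    have h1 := fs_restrict_mem F hφ hXP
    have h2 : X.subtype.comp r.toMonoidHom = (P.subtype.comp α.toMonoidHom).comp (Subgroup.inclusion hXP) := by
      ext t
      rw [hr]
      rfl
    rw [h2]; exact h1
  obtain ⟨c, hc⟩ := hXp ⟨r, hrmem⟩
  have hc' : r ^ p ^ c = 1 := congrArg Subtype.val hc
  have hfixc : ∀ t : P, (t : Ω) ∈ X → (α ^ p ^ c) t = t := by
    intro t ht
    have h1 := pow_restrict hXP α r (fun x => by rw [hr]; rfl) (p ^ c) ⟨t, ht⟩
    rw [hc'] at h1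
    apply Subtype.ext
    exact h1
  obtain ⟨β, hβ⟩ : ∃ β : MulAut P, β = α ^ (p ^ c * p ^ b) := ⟨_, rfl⟩
  have hβfix : ∀ y ∈ X.subgroupOf P, β y = y := by
    intro y hy
    rw [hβ, pow_mul]
    exact pow_fix_of_fix _ y (hfixc y (Subgroup.mem_subgroupOf.mp hy)) _
  have hβmod : ∀ x ∈ (⊤ : Subgroup P), x⁻¹ * β x ∈ X.subgroupOf P := by
    intro x _
    rw [Subgroup.mem_subgroupOf]
    have h1 := hpow (p ^ c * p ^ b) x
    have hs1 : (θ s) ^ (p ^ c * p ^ b) = 1 := by rw [mul_comm, pow_mul, hb', one_pow]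
    rw [hs1, one_mul, inv_one, mul_one] at h1
    rw [← hβ] at h1
    have h2 : θ (⟨x, hPS x.2⟩⁻¹ * ⟨((β x : P) : Ω), hPS (β x).2⟩) = 1 := by
      rw [map_mul, map_inv, h1, inv_mul_cancel]
    exact (hker _).mp h2
  have h3 := stab_step β hβfix hβmod
  obtain ⟨d, hd⟩ := (IsPGroup.iff_card.mp (hS.to_le hPS))
  have h4 : β ^ Nat.card P = 1 := by
    ext x
    have := h3 x (Subgroup.mem_top x)
    rw [this]
    rfl
  apply pow_ne_one_of_coprime p α hα1 hαc (c + b + d)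
  rw [pow_add, pow_add, pow_mul, ← hβ, ← hd]
  exact h4

end Cfsg.Agent.H9ZJ
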