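import Mathlib
import Cfsg.Prelude.Def_FusionSystem
import Cfsg.Prelude.Def_FusionComponents
import Cfsg.Agent.Lib.Helper9.TH5

set_option autoImplicit false

/-!
# Frobenius-type criterion with characteristic subgroups (part 2): the hypothesis passes to `N_F(X)/X`
-/

namespace Cfsg.Agent.H9ZJ

open Cfsg Cfsg.FusionSystem Cfsg.Agent.Lib.Helper9 Cfsg.Agent.Lib.Lead

universe u

theorem characteristic_of_equiv {G H : Type*} [Group G] [Group H] (e : G ≃* H) {K : Subgroup G}
    (hK : K.Characteristic) : (K.map e.toMonoidHom).Characteristic := by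
  rw [Subgroup.characteristic_iff_map_le]
  intro ϕ
  rintro _ ⟨_, ⟨k, hk, rfl⟩, rfl⟩
  have h1 := (Subgroup.characteristic_iff_map_le.mp hK) ((e.trans ϕ).trans e.symm)
  have h2 : e.symm (ϕ (e k)) ∈ K := h1 ⟨k, hk, rfl⟩
  exact ⟨_, h2, by simp⟩

theorem characteristic_subgroupOf_congr {Ω : Type*} [Group Ω] {T S : Subgroup Ω} (X : Subgroup Ω) (h : T = S)
    (hc : (X.subgroupOf S).Characteristic) : (X.subgroupOf T).Characteristic := by
  subst h
  exact hc

theorem characteristic_of_subgroupOf_top {G : Type*} [Group G] {K : Subgroup G}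
    (h : (K.subgroupOf ⊤).Characteristic) : K.Characteristic := by
  have h1 := characteristic_of_equiv (Subgroup.topEquiv (G := G)) h
  have h2 : (K.subgroupOf ⊤).map (Subgroup.topEquiv (G := G)).toMonoidHom = K := by
    ext x
    constructor
    · rintro ⟨y, hy, rfl⟩
      exact Subgroup.mem_subgroupOf.mp hy
    · intro hx
      exact ⟨⟨x, Subgroup.mem_top x⟩, Subgroup.mem_subgroupOf.mpr hx, rfl⟩
  rwa [h2] at h1

variable {Ω : Type u} [Group Ω] {S : Subgroup Ω}

theorem thompsonA_characteristic (S : Subgroup Ω) : ((thompsonSubgroupAOf S).subgroupOf S).Characteristic := by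
  rw [thompsonAOf_subgroupOf_self, Subgroup.characteristic_iff_map_eq]
  intro ϕ
  rw [← thompsonAOf_map _ ϕ.injective]
  congr 1
  exact Subgroup.map_top_of_surjective _ ϕ.surjective

theorem Zc_characteristic (S : Subgroup Ω) : ((Thom.Zc S).subgroupOf S).Characteristic := by
  rw [Zc_subgroupOf_self, Subgroup.characteristic_iff_map_eq]
  intro ϕ
  rw [← Thom.Zc_map_of_injOn _ _ ϕ.injective.injOn]
  congr 1
  exact Subgroup.map_top_of_surjective _ ϕ.surjective

/-- The hypothesis of the criterion. -/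
def CharP (p : ℕ) {Ω : Type u} [Group Ω] {S : Subgroup Ω} (F : FusionSystem S) : Prop :=
  ∀ Q : Subgroup Ω, Q ≤ S → Q ≠ ⊥ → (Q.subgroupOf S).Characteristic → IsPGroup p (F.autGroup Q)

theorem charP_factor [Finite S] (p : ℕ) [hp : Fact p.Prime] (F : FusionSystem S)
    (hΦ : CharP p F) {X : Subgroup Ω} (hXS : X ≤ S)
    (hXc : (X.subgroupOf S).Characteristic) (E : FusionSystem (normalizerIn S X))
    (hE : F.IsNormalizerSystem X E) [hn : (X.subgroupOf (normalizerIn S X)).Normal]
    (E' : FusionSystem (⊤ : Subgroup (normalizerIn S X ⧸ X.subgroupOf (normalizerIn S X))))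
    (hE' : E.IsFactorSystem X (QuotientGroup.mk' (X.subgroupOf (normalizerIn S X))) E') : CharP p E' := by
  have hRS : normalizerIn S X ≤ S := fs_normalizerIn_le S X
  haveI : Finite (normalizerIn S X) := fs_finite_of_le hRS
  have hXn : (X.subgroupOf S).Normal := Subgroup.normal_of_characteristic _
  have hTS : normalizerIn S X = S := by
    apply le_antisymm hRS
    intro s hs
    refine ⟨hs, ?_⟩
    exact (Subgroup.normal_subgroupOf_iff_le_normalizer hXS).mp hXn hs
  intro Q' hQ'top hQ'ne hQ'c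
  have hQ'c' : Q'.Characteristic := characteristic_of_subgroupOf_top hQ'c
  haveI hXTc : (X.subgroupOf (normalizerIn S X)).Characteristic := characteristic_subgroupOf_congr X hTS hXc
  have hKc := Subgroup.Characteristic.comap_quotient_mk (H := X.subgroupOf (normalizerIn S X)) hQ'c'
  obtain ⟨Qt, hQt⟩ : ∃ Qt : Subgroup Ω,
    Qt = preimageAlong (QuotientGroup.mk' (X.subgroupOf (normalizerIn S X))) Q' := ⟨_, rfl⟩
  have hQtT : Qt ≤ normalizerIn S X := by rw [hQt]; exact preimageAlong_le _ _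
  have hsub : Qt.subgroupOf (normalizerIn S X) =
      Q'.comap (QuotientGroup.mk' (X.subgroupOf (normalizerIn S X))) := by
    rw [hQt]
    exact Subgroup.comap_map_eq_self_of_injective (normalizerIn S X).subtype_injective _
  have hQtc : (Qt.subgroupOf S).Characteristic := by
    apply characteristic_subgroupOf_congr Qt hTS.symm
    rw [hsub]
    exact hKc
  have hQtne : Qt ≠ ⊥ := by
    intro hbot
    apply hQ'ne
    rw [Subgroup.eq_bot_iff_forall]
    intro y' hy'
    obtain ⟨y, rfl⟩ := QuotientGroup.mk'_surjective (X.subgroupOf (normalizerIn S X)) y'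
    have hy : (y : Ω) ∈ Qt := by
      rw [hQt, mem_preimageAlong_iff]
      exact ⟨y.2, hy'⟩
    rw [hbot, Subgroup.mem_bot] at hy
    have : y = 1 := Subtype.ext hy
    rw [this, map_one]
  have hpg := hΦ Qt (hQtT.trans hRS) hQtne hQtc
  subst hQt
  rintro ⟨α', hα'⟩
  have hα'E := (mem_autGroup_iff E' hQ'top α').mp hα'
  obtain ⟨-, φ, hφE, hP, hφS, hP', hind⟩ := (hE'.2.2.2 Q' _).mp hα'E
  have hφF : φ ∈ F.Hom _ := by rw [hE] at hφE; exact hφE.1
  have hval : ∀ y, φ y ∈ preimageAlong (QuotientGroup.mk' (X.subgroupOf (normalizerIn S X))) Q' := by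
    intro y
    rw [mem_preimageAlong_iff]
    refine ⟨hφS y, ?_⟩
    rw [← hind y]
    exact (α' _).2
  obtain ⟨a, ha, Ha⟩ := fs_hom_to_aut F hφF hval
  obtain ⟨k, hk⟩ := hpg ⟨a, ha⟩
  have hk' : a ^ p ^ k = 1 := congrArg Subtype.val hk
  have hpow : ∀ (j : ℕ) (y : preimageAlong (QuotientGroup.mk' (X.subgroupOf (normalizerIn S X))) Q'),
      (((α' ^ j) ⟨_, hP' y⟩ : Q') : _ ⧸ _) =
      QuotientGroup.mk' (X.subgroupOf (normalizerIn S X)) ⟨((a ^ j) y : _), hP ((a ^ j) y).2⟩ := by
    intro j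
    induction j with
    | zero => intro y; rfl
    | succ j ih =>
      intro y
      rw [pow_succ, MulAut.mul_apply, pow_succ, MulAut.mul_apply]
      have h1 : α' ⟨_, hP' y⟩ = ⟨_, hP' (a y)⟩ := by
        apply Subtype.ext
        have h2 := hind y
        rw [MonoidHom.comp_apply] at h2
        refine Eq.trans h2 ?_
        congr 1
        apply Subtype.ext
        exact (Ha y).symm
      rw [h1]
      exact ih (a y)
  refine ⟨k, Subtype.ext ?_⟩
  show α' ^ p ^ k = 1
  apply MulEquiv.ext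
  intro y'
  obtain ⟨y, hy⟩ := QuotientGroup.mk'_surjective (X.subgroupOf (normalizerIn S X)) (y' : _ ⧸ _)
  have hyQt : (y : Ω) ∈ preimageAlong (QuotientGroup.mk' (X.subgroupOf (normalizerIn S X))) Q' := by
    rw [mem_preimageAlong_iff]
    exact ⟨y.2, by rw [Subtype.coe_eta, hy]; exact y'.2⟩
  have h1 := hpow (p ^ k) ⟨y, hyQt⟩
  rw [hk'] at h1
  have h2 : (⟨_, hP' ⟨y, hyQt⟩⟩ : Q') = y' := Subtype.ext hy
  rw [h2] at h1
  have h3 : (α' ^ p ^ k) y' = y' := Subtype.ext (h1.trans hy)
  rw [h3]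
  rfl

end Cfsg.Agent.H9ZJ
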