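import Mathlib
import Cfsg.Prelude.Def_FusionSystem
import Cfsg.Prelude.Def_FusionComponents
import Cfsg.Prelude.Def_FusionReduction
import Cfsg.Agent.Lib.Helper9.TH6

set_option autoImplicit false

/-!
# Frobenius-type criterion with characteristic subgroups (part 3): the induction
-/

namespace Cfsg.Agent.H9ZJ

open Cfsg Cfsg.FusionSystem Cfsg.Agent.Lib.Helper9 Cfsg.Agent.Lib.Lead

universe u

variable {Ω : Type u} [Group Ω] {S : Subgroup Ω}

theorem not_bad_of_char [Finite S] (p : ℕ) [hp : Fact p.Prime] (hS : IsPGroup p S) (F : FusionSystem S)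
    (hF : F.IsSaturated p) (hfree : p ≠ 2 ∨ F.IsSectionFree p (Equiv.Perm (Fin 4))) (hΦ : CharP p F)
    (ih : ∀ {Ω' : Type u} [Group Ω'] {S' : Subgroup Ω'} [Finite S'], IsPGroup p S' → ∀ F' : FusionSystem S',
      F'.IsSaturated p → Nat.card S' < Nat.card S → (p ≠ 2 ∨ F'.IsSectionFree p (Equiv.Perm (Fin 4))) →
      CharP p F' → ∀ Q : Subgroup Ω', ¬ Bad p F' Q)
    {X : Subgroup Ω} (hXS : X ≤ S) (hXne : X ≠ ⊥) (hXc : (X.subgroupOf S).Characteristic) :
    ¬ Bad p F X := by
  rintro ⟨P, hXP, hPN, α, hα, hαX, hα1, hαc⟩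
  have hRS : normalizerIn S X ≤ S := fs_normalizerIn_le S X
  haveI : Finite (normalizerIn S X) := fs_finite_of_le hRS
  have hRp : IsPGroup p (normalizerIn S X) := hS.to_le hRS
  have hXn : (X.subgroupOf S).Normal := Subgroup.normal_of_characteristic _
  have hTS : normalizerIn S X = S := by
    apply le_antisymm hRS
    intro s hs
    exact ⟨hs, (Subgroup.normal_subgroupOf_iff_le_normalizer hXS).mp hXn hs⟩
  have hXfn : F.IsFullyNormalized X := by
    refine ⟨hXS, fun Q' _ => ?_⟩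
    rw [hTS]
    exact Subgroup.card_le_of_le (fs_normalizerIn_le S Q')
  obtain ⟨E, hE⟩ := Cfsg.Agent.S5096.result F X hXS
  have hEsat := normalizerSystem_saturated p hS F hF hXfn E hE
  have hXnE : E.IsNormal X := normalizerSystem_isNormal F hXS E hE
  have hXsc := fs_stronglyClosed_of_isNormal E hXnE
  haveI hn' : (X.subgroupOf (normalizerIn S X)).Normal :=
    (Subgroup.normal_subgroupOf_iff_le_normalizer hXnE.1).mpr (fs_stronglyClosed_le_normalizer E hXsc)
  obtain ⟨E', hE'⟩ := Cfsg.Agent.S5132.result p hRp E X hXsc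
  have hsurj := Cfsg.Agent.S5134.result p hRp E hEsat X hXsc _ E' hE'
  have hE'sat := Cfsg.Agent.S5133.result p hRp E hEsat E' _ hsurj
  have hXp : IsPGroup p (⊤ : Subgroup (normalizerIn S X ⧸ X.subgroupOf (normalizerIn S X))) :=
    (hRp.to_quotient _).to_subgroup ⊤
  have hcard : Nat.card (⊤ : Subgroup (normalizerIn S X ⧸ X.subgroupOf (normalizerIn S X))) < Nat.card S := by
    rw [Subgroup.card_top, ← Subgroup.index_eq_card]
    have h1 := Subgroup.card_mul_index (X.subgroupOf (normalizerIn S X))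
    have h2 : Nat.card (normalizerIn S X) ≤ Nat.card S := Subgroup.card_le_of_le hRS
    have h3 : 1 < Nat.card (X.subgroupOf (normalizerIn S X)) := by
      rw [Nat.card_congr (Subgroup.subgroupOfEquivOfLe hXnE.1).toEquiv]
      haveI : Finite X := fs_finite_of_le hXS
      have hpos : 0 < Nat.card X := Nat.card_pos
      have hne1 : Nat.card X ≠ 1 := fun h => hXne (Subgroup.card_eq_one.mp h)
      omega
    have hipos : 0 < (X.subgroupOf (normalizerIn S X)).index := Nat.pos_of_ne_zero Subgroup.index_ne_zero_of_finite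
    nlinarith
  have hfree' : p ≠ 2 ∨ E'.IsSectionFree p (Equiv.Perm (Fin 4)) := by
    rcases hfree with h2 | hfr
    · exact Or.inl h2
    · right
      have h1 := Cfsg.Agent.H9KL.normalizer_sectionFree p hS F hF hfr X hXfn E hE
      exact Cfsg.Agent.H9KL.factor_sectionFree p hRp E hEsat X hXnE h1 _ E' hE'
  have hchar' : CharP p E' := charP_factor p F hΦ hXS hXc E hE E' hE'
  have ihres := ih hXp E' hE'sat hcard hfree' hchar'
  have hpg : ∀ P' : Subgroup (normalizerIn S X ⧸ X.subgroupOf (normalizerIn S X)), P' ≤ ⊤ →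
      IsPGroup p (E'.autGroup P') := by
    intro P' hP'
    by_contra h
    exact ihres P' (bad_of_not_isPGroup p E' hP' h).2
  have hE'inner := Cfsg.Agent.S5083.result p hXp E' hE'sat hpg
  have hinner : ∀ (P' : Subgroup (normalizerIn S X ⧸ X.subgroupOf (normalizerIn S X))) (φ' : P' →* _),
      φ' ∈ E'.Hom P' → ∃ s' ∈ (⊤ : Subgroup (normalizerIn S X ⧸ X.subgroupOf (normalizerIn S X))),
        ∀ x : P', φ' x = s' * x * s'⁻¹ := by
    intro P' φ' hφ'
    rw [hE'inner] at hφ'
    obtain ⟨-, g, hg, h⟩ := hφ'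
    exact ⟨g, hg, h⟩
  have hαE := mem_normalizer_autGroup F E hE hXP hPN α hα hαX
  have hXpE : IsPGroup p (E.autGroup X) := by
    have hle : E.autGroup X ≤ F.autGroup X := by
      intro a ha
      rw [mem_autGroup_iff F hXS]
      rw [mem_autGroup_iff E hXnE.1, hE] at ha
      exact ha.1
    exact (hΦ X hXS hXne hXc).to_le hle
  exact hα1 (aut_eq_one_of_factor_inner p hRp E hXsc _ E' hE' hsurj.1 hinner hXpE hXP hPN α hαE hαc)

theorem charP_inner (p : ℕ) [hp : Fact p.Prime] :
    ∀ (n : ℕ) {Ω : Type u} [Group Ω] {S : Subgroup Ω} [Finite S] (_ : IsPGroup p S) (F : FusionSystem S),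
      F.IsSaturated p → Nat.card S = n → (p ≠ 2 ∨ F.IsSectionFree p (Equiv.Perm (Fin 4))) → CharP p F →
      ∀ Q : Subgroup Ω, ¬ Bad p F Q := by
  intro n
  induction n using Nat.strong_induction_on with
  | _ n ih =>
  intro Ω _ S _ hS F hF hn hfree hΦ
  by_cases hS1 : S = ⊥
  · rintro Q ⟨P, -, hPN, α, -, -, hα1, -⟩
    apply hα1
    have hP : P ≤ ⊥ := hS1 ▸ (hPN.trans inf_le_left)
    ext x
    have h1 : ((α x : P) : Ω) = 1 := (Subgroup.mem_bot).mp (hP (α x).2)
    have h2 : (x : Ω) = 1 := (Subgroup.mem_bot).mp (hP x.2)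
    rw [h1]
    exact h2.symm
  · have ih' : ∀ {Ω' : Type u} [Group Ω'] {S' : Subgroup Ω'} [Finite S'], IsPGroup p S' →
        ∀ F' : FusionSystem S', F'.IsSaturated p → Nat.card S' < Nat.card S →
        (p ≠ 2 ∨ F'.IsSectionFree p (Equiv.Perm (Fin 4))) → CharP p F' → ∀ Q : Subgroup Ω', ¬ Bad p F' Q := by
      intro Ω' _ S' _ hS' F' hF' hlt hfr' hc'
      exact ih _ (hn ▸ hlt) hS' F' hF' rfl hfr' hc'
    have hΦT : ThomHyp p F := by
      refine ⟨hfree, fun hcb => ?_, ?_⟩
      · exact not_bad_of_char p hS F hF hfree hΦ ih' inf_le_left (Zc_ne_bot hS hS1) (Zc_characteristic S) hcb.bad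
      · exact not_bad_of_char p hS F hF hfree hΦ ih' (thompsonAOf_le S) (thompsonAOf_ne_bot hS1)
          (thompsonA_characteristic S)
    exact maxbad_induction p (fun F => ThomHyp p F)
      (fun hS F hF hΦ Q hQ E hE _ E' hE' => thom_factor p hS F hF hΦ Q hQ E hE E' hE')
      (fun hS F hF hΦ Q hQ hc => thom_constrained p hS F hF hΦ Q hQ hc)
      (Nat.card S) hS F hF rfl hΦT

end Cfsg.Agent.H9ZJ
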