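import Mathlib
import Cfsg.Prelude.Def_FusionSystem
import Cfsg.Prelude.Def_FusionComponents
import Cfsg.Prelude.Def_FusionReduction
import Cfsg.Prelude.Def_PLocal
import Cfsg.Agent.Lib.Helper9.TH8

set_option autoImplicit false

/-!
# Maximal bad subgroups are centric and normal in `S` (for `p` odd or `S₄`-free systems); constrained subsystems
-/

namespace Cfsg.Agent.H9ZJ

open Cfsg Cfsg.FusionSystem Cfsg.Agent.Lib.Helper9 Cfsg.Agent.Lib.Lead

universe u

variable {Ω : Type u} [Group Ω] {S : Subgroup Ω}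

theorem maxbad_centralizer_le [Finite S] (p : ℕ) [hp : Fact p.Prime] (hS : IsPGroup p S) (F : FusionSystem S)
    (hF : F.IsSaturated p) (hfree : p ≠ 2 ∨ F.IsSectionFree p (Equiv.Perm (Fin 4))) (Q : Subgroup Ω)
    (hQ : IsMaxBad p F Q) : centralizerIn S Q ≤ Q := by
  have hQS : Q ≤ S := hQ.1.1
  have hRS : normalizerIn S Q ≤ S := fs_normalizerIn_le S Q
  haveI : Finite (normalizerIn S Q) := fs_finite_of_le hRS
  have hRp : IsPGroup p (normalizerIn S Q) := hS.to_le hRS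
  obtain ⟨E, hE⟩ := Cfsg.Agent.S5096.result F Q hQS
  have hEsat := normalizerSystem_saturated p hS F hF hQ.1 E hE
  have hQnE : E.IsNormal Q := normalizerSystem_isNormal F hQS E hE
  have hQsc := fs_stronglyClosed_of_isNormal E hQnE
  have hmaxE : ∀ T : Subgroup Ω, E.IsNormal T → Q ≤ T → T = Q :=
    fun T hT hQT => hQ.eq_of_isNormal hS hF E hE hT hQT
  haveI hn' : (Q.subgroupOf (normalizerIn S Q)).Normal :=
    (Subgroup.normal_subgroupOf_iff_le_normalizer hQnE.1).mpr (fs_stronglyClosed_le_normalizer E hQsc)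
  obtain ⟨E', hE'⟩ := Cfsg.Agent.S5132.result p hRp E Q hQsc
  have hsurj := Cfsg.Agent.S5134.result p hRp E hEsat Q hQsc _ E' hE'
  have hE'sat := Cfsg.Agent.S5133.result p hRp E hEsat E' _ hsurj
  have hXp : IsPGroup p (⊤ : Subgroup (normalizerIn S Q ⧸ Q.subgroupOf (normalizerIn S Q))) :=
    (hRp.to_quotient _).to_subgroup ⊤
  haveI : Finite (⊤ : Subgroup (normalizerIn S Q ⧸ Q.subgroupOf (normalizerIn S Q))) := inferInstance
  have hΦ' : ThomHyp p E' := thom_factor' p hS F hF hfree Q hQ E hE E' hE'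
  have ihres := maxbad_induction p (fun F => ThomHyp p F)
    (fun hS F hF hΦ Q hQ E hE _ E' hE' => thom_factor p hS F hF hΦ Q hQ E hE E' hE')
    (fun hS F hF hΦ Q hQ hc => thom_constrained p hS F hF hΦ Q hQ hc)
    _ hXp E' hE'sat rfl hΦ'
  have hpg : ∀ P' : Subgroup (normalizerIn S Q ⧸ Q.subgroupOf (normalizerIn S Q)), P' ≤ ⊤ →
      IsPGroup p (E'.autGroup P') := by
    intro P' hP'
    by_contra h
    exact ihres P' (bad_of_not_isPGroup p E' hP' h).2
  have hE'inner := Cfsg.Agent.S5083.result p hXp E' hE'sat hpg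
  have hinner : ∀ (P' : Subgroup (normalizerIn S Q ⧸ Q.subgroupOf (normalizerIn S Q))) (φ' : P' →* _),
      φ' ∈ E'.Hom P' → ∃ s' ∈ (⊤ : Subgroup (normalizerIn S Q ⧸ Q.subgroupOf (normalizerIn S Q))),
        ∀ x : P', φ' x = s' * x * s'⁻¹ := by
    intro P' φ' hφ'
    rw [hE'inner] at hφ'
    obtain ⟨-, g, hg, h⟩ := hφ'
    exact ⟨g, hg, h⟩
  have hsc : ∀ X : Subgroup Ω, Q ≤ X → X ≤ normalizerIn S Q →
      normalizerIn S Q ≤ Subgroup.normalizer (X : Set Ω) → E.StronglyClosed X :=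
    fun X hQX hXR hXn => stronglyClosed_of_factor_inner p hRp E hEsat hQsc _ E' hE' hinner hQX hXR hXn
  have hcent : centralizerIn (normalizerIn S Q) Q ≤ Q :=
    centralizerIn_le_of_stronglyClosed p hRp E hEsat hQnE hmaxE hsc
  intro x hx
  exact hcent ⟨⟨hx.1, Subgroup.centralizer_le_normalizer _ hx.2⟩, hx.2⟩

/-- Transport of a fusion system along an equality of the underlying subgroups. -/
theorem exists_cast {A B : Subgroup Ω} (h : A = B) (N : FusionSystem A) (p : ℕ) :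
    ∃ N' : FusionSystem B, (∀ P : Subgroup Ω, N'.Hom P = N.Hom P) ∧ (N.IsSaturated p → N'.IsSaturated p) ∧
      (∀ Q : Subgroup Ω, N.IsNormal Q → N'.IsNormal Q) ∧ (∀ Q : Subgroup Ω, N.IsCentric Q → N'.IsCentric Q) := by
  subst h
  exact ⟨N, fun _ => rfl, id, fun _ => id, fun _ => id⟩

/-- A saturated system which is not inner (`p` odd, or `S₄`-free) contains a constrained saturated subsystem over `S`,
the normalizer system of a subgroup `Q` normal in `S`, which is not inner. -/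
theorem exists_constrained_subsystem [Finite S] (p : ℕ) [hp : Fact p.Prime] (hS : IsPGroup p S)
    (F : FusionSystem S) (hF : F.IsSaturated p) (hfree : p ≠ 2 ∨ F.IsSectionFree p (Equiv.Perm (Fin 4)))
    (hne : ¬ ∀ P : Subgroup Ω, F.Hom P = (innerFusionSystem S).Hom P) :
    ∃ (Q : Subgroup Ω) (E : FusionSystem S), (∀ P : Subgroup Ω, E.Hom P = F.normalizerHom Q P) ∧
      E.IsSaturated p ∧ E.IsNormal Q ∧ E.IsCentric Q ∧ F.IsCentric Q ∧
      ¬ ∀ P : Subgroup Ω, E.Hom P = (innerFusionSystem S).Hom P := by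
  have hex : ∃ P : Subgroup Ω, P ≤ S ∧ ¬ IsPGroup p (F.autGroup P) := by
    by_contra hall
    push Not at hall
    exact hne (fun P => by rw [Cfsg.Agent.S5083.result p hS F hF hall])
  obtain ⟨P₀, hP₀S, hP₀⟩ := hex
  obtain ⟨hP₀ne, hbadP₀⟩ := bad_of_not_isPGroup p F hP₀S hP₀
  obtain ⟨Q, hQ⟩ := exists_isMaxBad p hS F hF hP₀ne hbadP₀
  have hQS : Q ≤ S := hQ.1.1
  have hcent := maxbad_centralizer_le p hS F hF hfree Q hQ
  have hTS := thom_constrained' p hS F hF hfree Q hQ hcent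
  obtain ⟨E₀, hE₀⟩ := Cfsg.Agent.S5096.result F Q hQS
  have hE₀sat := normalizerSystem_saturated p hS F hF hQ.1 E₀ hE₀
  have hQnE₀ : E₀.IsNormal Q := normalizerSystem_isNormal F hQS E₀ hE₀
  have hQcE₀ : E₀.IsCentric Q := normalizerSystem_isCentric F hQS hcent E₀ hE₀
  have hQfc : F.IsFullyCentralized Q := (((Cfsg.Agent.S5077.result p hS F).mp hF).1 Q hQ.1).1
  have hQc : F.IsCentric Q := fs_centric_of_fullyCentralized_of_le F hQfc hcent
  obtain ⟨E, hEHom, hEsat, hEn, hEc⟩ := exists_cast hTS E₀ p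
  refine ⟨Q, E, fun P => by rw [hEHom, hE₀], hEsat hE₀sat, hEn Q hQnE₀, hEc Q hQcE₀, hQc, ?_⟩
  intro hinner
  obtain ⟨P, hQP, hPN, α, hα, hαQ, hα1, hαc⟩ := hQ.2.2.1
  have hαE := mem_normalizer_autGroup F E₀ hE₀ hQP hPN α hα hαQ
  rw [mem_autGroup_iff E₀ hPN, ← hEHom, hinner] at hαE
  obtain ⟨-, g, hg, Hg⟩ := hαE
  have hmem : α ∈ autInducedBy S P := by
    rw [mem_autInducedBy_iff]
    exact ⟨g, hg, fun x => Hg x⟩
  obtain ⟨k, hk⟩ := (isPGroup_autInducedBy p hS P) ⟨α, hmem⟩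
  have hk' : α ^ p ^ k = 1 := congrArg Subtype.val hk
  exact pow_ne_one_of_coprime p α hα1 hαc k hk'

end Cfsg.Agent.H9ZJ
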