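import Mathlib

set_option autoImplicit false

/-! S3797 swarm, package HC: a finite abelian `2`-group whose automorphisms act transitively on
its involutions is homocyclic. -/

namespace Cfsg.Agent.Lib.Helper9.TIHC

/-- HC: a finite abelian `2`-group with a group of automorphisms transitive on its involutions
is homocyclic. -/
theorem homocyclic {A : Type*} [CommGroup A] [Finite A] (hA : IsPGroup 2 A)
    (Y : Subgroup (MulAut A))
    (htr : ∀ x y : A, x ≠ 1 → x ^ 2 = 1 → y ≠ 1 → y ^ 2 = 1 → ∃ a ∈ Y, a x = y) :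
    ∃ m r : ℕ, Nonempty (A ≃* (Fin r → Multiplicative (ZMod (2 ^ m)))) := by
  classical
  obtain ⟨ι, _, n, hn1, ⟨e⟩⟩ := CommGroup.equiv_prod_multiplicative_zmod_of_finite A
  -- every `n i` is a power of two
  obtain ⟨k, hk⟩ := hA.exists_card_eq
  have hcardA : Nat.card A = ∏ i, n i := by
    rw [Nat.card_congr e.toEquiv, Nat.card_pi]
    refine Finset.prod_congr rfl (fun i _ => ?_)
    have : NeZero (n i) := ⟨by have := hn1 i; omega⟩
    rw [Nat.card_eq_fintype_card, Fintype.card_multiplicative]
    exact ZMod.card (n i)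
  have hpow : ∀ i, ∃ ei : ℕ, n i = 2 ^ ei := by
    intro i
    have hdvd : n i ∣ 2 ^ k := by
      rw [← hk, hcardA]
      exact Finset.dvd_prod_of_mem n (Finset.mem_univ i)
    obtain ⟨ei, -, hei⟩ := (Nat.dvd_prime_pow Nat.prime_two).mp hdvd
    exact ⟨ei, hei⟩
  choose ex hex using hpow
  have hex1 : ∀ i, 1 ≤ ex i := by
    intro i
    by_contra h
    have h0 : ex i = 0 := by omega
    have := hn1 i
    rw [hex i, h0, pow_zero] at this
    omega
  by_cases hι : IsEmpty ι
  · -- trivial group
    refine ⟨0, 0, ⟨?_⟩⟩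
    have hsub : Subsingleton A := by
      refine ⟨fun a b => e.injective ?_⟩
      funext i
      exact (hι.false i).elim
    exact
      { toFun := fun _ => 1
        invFun := fun _ => 1
        left_inv := fun a => Subsingleton.elim _ _
        right_inv := fun f => by funext i; exact i.elim0
        map_mul' := fun _ _ => by simp }
  · rw [not_isEmpty_iff] at hι
    obtain ⟨i₀, hi₀⟩ := Finite.exists_max ex
    set M := ex i₀ with hM
    have hall : ∀ j, ex j = M := by
      intro j
      by_contra hj
      have hlt : ex j < M := lt_of_le_of_ne (hi₀ j) hj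
      -- the two involutions
      have : NeZero (n i₀) := ⟨by have := hn1 i₀; omega⟩
      have : NeZero (n j) := ⟨by have := hn1 j; omega⟩
      let z : A := e.symm (Pi.mulSingle i₀ (Multiplicative.ofAdd (1 : ZMod (n i₀))))
      let x : A := z ^ (2 ^ (M - 1))
      let y : A := e.symm (Pi.mulSingle j (Multiplicative.ofAdd ((2 ^ (ex j - 1) : ℕ) : ZMod (n j))))
      have hM1 : 1 ≤ M := hex1 i₀
      have hex_x : e x = Pi.mulSingle i₀ (Multiplicative.ofAdd ((2 ^ (M - 1) : ℕ) : ZMod (n i₀))) := by
        show e (z ^ (2 ^ (M - 1))) = _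
        rw [map_pow]
        show (e (e.symm _)) ^ (2 ^ (M - 1)) = _
        rw [MulEquiv.apply_symm_apply, ← Pi.mulSingle_pow]
        congr 1
        rw [← ofAdd_nsmul]
        congr 1
        simp
      have hx1 : x ≠ 1 := by
        intro h
        have h1 : e x i₀ = 1 := by rw [h, map_one]; rfl
        rw [hex_x, Pi.mulSingle_eq_same] at h1
        have h2 : ((2 ^ (M - 1) : ℕ) : ZMod (n i₀)) = 0 := h1
        rw [ZMod.natCast_eq_zero_iff, hex i₀] at h2
        have h3 : 2 ^ M ≤ 2 ^ (M - 1) := Nat.le_of_dvd (by positivity) h2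
        have h4 : 2 ^ (M - 1) < 2 ^ M := Nat.pow_lt_pow_right (by norm_num) (by omega)
        omega
      have hx2 : x ^ 2 = 1 := by
        apply e.injective
        rw [map_pow, hex_x, map_one, ← Pi.mulSingle_pow]
        have : (Multiplicative.ofAdd ((2 ^ (M - 1) : ℕ) : ZMod (n i₀))) ^ 2 = 1 := by
          rw [← ofAdd_nsmul]
          show Multiplicative.ofAdd _ = Multiplicative.ofAdd 0
          congr 1
          rw [nsmul_eq_mul]
          have h5 : ((2 : ℕ) : ZMod (n i₀)) * ((2 ^ (M - 1) : ℕ) : ZMod (n i₀)) = ((2 ^ M : ℕ) : ZMod (n i₀)) := by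
            rw [← Nat.cast_mul, ← pow_succ']
            congr 2
            omega
          rw [h5, ← hex i₀]
          exact ZMod.natCast_self (n i₀)
        rw [this, Pi.mulSingle_one]
      have hey : e y = Pi.mulSingle j (Multiplicative.ofAdd ((2 ^ (ex j - 1) : ℕ) : ZMod (n j))) :=
        MulEquiv.apply_symm_apply e _
      have hy1 : y ≠ 1 := by
        intro h
        have h1 : e y j = 1 := by rw [h, map_one]; rfl
        rw [hey, Pi.mulSingle_eq_same] at h1
        have h2 : ((2 ^ (ex j - 1) : ℕ) : ZMod (n j)) = 0 := h1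
        rw [ZMod.natCast_eq_zero_iff, hex j] at h2
        have h3 : 2 ^ (ex j) ≤ 2 ^ (ex j - 1) := Nat.le_of_dvd (by positivity) h2
        have h4 : 2 ^ (ex j - 1) < 2 ^ (ex j) := Nat.pow_lt_pow_right (by norm_num) (by have := hex1 j; omega)
        omega
      have hy2 : y ^ 2 = 1 := by
        apply e.injective
        rw [map_pow, hey, map_one, ← Pi.mulSingle_pow]
        have : (Multiplicative.ofAdd ((2 ^ (ex j - 1) : ℕ) : ZMod (n j))) ^ 2 = 1 := by
          rw [← ofAdd_nsmul]
          show Multiplicative.ofAdd _ = Multiplicative.ofAdd 0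
          congr 1
          rw [nsmul_eq_mul]
          have h5 : ((2 : ℕ) : ZMod (n j)) * ((2 ^ (ex j - 1) : ℕ) : ZMod (n j)) = ((2 ^ (ex j) : ℕ) : ZMod (n j)) := by
            rw [← Nat.cast_mul, ← pow_succ']
            congr 2
            have := hex1 j
            omega
          rw [h5, ← hex j]
          exact ZMod.natCast_self (n j)
        rw [this, Pi.mulSingle_one]
      obtain ⟨a, -, hax⟩ := htr x y hx1 hx2 hy1 hy2
      -- `y` is a `2^(M-1)`-th power
      have hy_pow : y = (a z) ^ (2 ^ (M - 1)) := by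
        rw [← hax]
        show a (z ^ (2 ^ (M - 1))) = _
        rw [map_pow]
      have h1 : e y j = (e (a z) j) ^ (2 ^ (M - 1)) := by
        rw [hy_pow, map_pow]
        rfl
      rw [hey, Pi.mulSingle_eq_same] at h1
      have h2 : (e (a z) j) ^ (2 ^ (M - 1)) = 1 := by
        have hord : (e (a z) j) ^ (n j) = 1 := by
          have := pow_card_eq_one' (G := Multiplicative (ZMod (n j))) (x := e (a z) j)
          rw [Nat.card_eq_fintype_card] at this
          have hc : Fintype.card (Multiplicative (ZMod (n j))) = n j := by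
            rw [Fintype.card_multiplicative]; exact ZMod.card (n j)
          rw [hc] at this
          exact this
        have hdvd : n j ∣ 2 ^ (M - 1) := by
          rw [hex j]
          exact pow_dvd_pow 2 (by omega)
        obtain ⟨c, hc⟩ := hdvd
        rw [hc, pow_mul, hord, one_pow]
      rw [h2] at h1
      have h3 : ((2 ^ (ex j - 1) : ℕ) : ZMod (n j)) = 0 := h1
      rw [ZMod.natCast_eq_zero_iff, hex j] at h3
      have h4 : 2 ^ (ex j) ≤ 2 ^ (ex j - 1) := Nat.le_of_dvd (by positivity) h3
      have h5 : 2 ^ (ex j - 1) < 2 ^ (ex j) := Nat.pow_lt_pow_right (by norm_num) (by have := hex1 j; omega)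
      omega
    refine ⟨M, Fintype.card ι, ⟨?_⟩⟩
    have hn : ∀ i, n i = 2 ^ M := fun i => by rw [hex i, hall i]
    let e1 : ((i : ι) → Multiplicative (ZMod (n i))) ≃* (ι → Multiplicative (ZMod (2 ^ M))) :=
      MulEquiv.piCongrRight (fun i => AddEquiv.toMultiplicative (ZMod.ringEquivCongr (hn i)).toAddEquiv)
    let e2 : (ι → Multiplicative (ZMod (2 ^ M))) ≃* (Fin (Fintype.card ι) → Multiplicative (ZMod (2 ^ M))) :=
      MulEquiv.arrowCongr (Fintype.equivFin ι) (MulEquiv.refl _)
    exact (e.trans e1).trans e2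

end Cfsg.Agent.Lib.Helper9.TIHC
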