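import Mathlib
import Cfsg.Prelude.Def_ClassicalGeometry
import Cfsg.Agent.Lib.Helper2.SpIsom
import Cfsg.Agent.Lib.Helper1.TISp0
import Cfsg.Agent.Lib.Helper9.TensS7

set_option autoImplicit false

/-! S5955 PK-INV2: elements of `Sp` with scalar square and totally isotropic subspaces. -/

namespace Cfsg.Agent.Lib.Helper1.TISp

open Module Polynomial Cfsg.Agent.Lib.Helper2.SpIsom
open Cfsg.Agent.Lib.Helper9.H9AltForm Cfsg.Agent.Lib.Helper9.H9TK

section inv2

/-- a family `w` that is totally isotropic, paired with a dual family `g`, and whose span is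
`T`-invariant gives a fixed totally isotropic subspace -/
theorem inv2_span {F : Type*} [Field F] {V : Type*} [AddCommGroup V] [Module F V]
    (B : LinearMap.BilinForm F V) (T : V →ₗ[F] V) {m : ℕ} (w g : Fin m → V)
    (hww : ∀ i j, B (w i) (w j) = 0) (hwg : ∀ i j, B (w i) (g j) = if i = j then 1 else 0)
    (hTw : ∀ i, T (w i) ∈ Submodule.span F (Set.range w)) : FixTI B T m := by
  classical
  have hli : LinearIndependent F w := by
    rw [linearIndependent_iff']
    intro s c hc j hj
    have h1 : B (∑ i ∈ s, c i • w i) (g j) = 0 := by rw [hc, map_zero, LinearMap.zero_apply]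
    rw [map_sum, LinearMap.sum_apply] at h1
    rw [Finset.sum_eq_single j] at h1
    · rw [map_smul, LinearMap.smul_apply, hwg, if_pos rfl, smul_eq_mul, mul_one] at h1
      exact h1
    · intro i _ hij
      rw [map_smul, LinearMap.smul_apply, hwg, if_neg hij, smul_zero]
    · intro hj'
      exact absurd hj hj'
  refine ⟨Submodule.span F (Set.range w), ?_, ?_, ?_⟩
  · rw [finrank_span_eq_card hli, Fintype.card_fin]
  · have h1 : ∀ u ∈ Submodule.span F (Set.range w), ∀ j, B u (w j) = 0 := by
      intro u hu j
      induction hu using Submodule.span_induction with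
      | mem x hx =>
        obtain ⟨i, rfl⟩ := hx
        exact hww i j
      | zero => rw [map_zero, LinearMap.zero_apply]
      | add x y _ _ hx hy => rw [map_add, LinearMap.add_apply, hx, hy, add_zero]
      | smul a x _ hx => rw [map_smul, LinearMap.smul_apply, hx, smul_zero]
    intro u hu v hv
    induction hv using Submodule.span_induction with
    | mem x hx =>
      obtain ⟨i, rfl⟩ := hx
      exact h1 u hu i
    | zero => rw [map_zero]
    | add x y _ _ hx hy => rw [map_add, hx, hy, add_zero]
    | smul a x _ hx => rw [map_smul, hx, smul_zero]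
  · rw [Submodule.map_span_le]
    rintro x ⟨i, rfl⟩
    exact hTw i

/-- the core of the case `T ^ 2 = -1` -/
theorem inv2_neg_core {F : Type*} [Field F] {V : Type*} [AddCommGroup V] [Module F V]
    (B : LinearMap.BilinForm F V) (hB : B.IsAlt) (T : V →ₗ[F] V) (ht2 : ∀ v, T (T v) = -v)
    {m : ℕ} (e f : Fin m → V) (h : AltFam B e f) (τ : Fin m → F) (π : Fin m → Fin m)
    (hπ : ∀ i, π (π i) = i) (hτ : ∀ i, τ i * τ (π i) = -1)
    (hTe : ∀ j, T (e j) = τ j • f j) : FixTI B T m := by
  have hTf : ∀ i, T (f (π i)) = τ i • e (π i) := by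
    intro i
    have h1 : T (T (e (π i))) = -e (π i) := ht2 _
    rw [hTe, map_smul] at h1
    have h2 : τ i • (τ (π i) • T (f (π i))) = τ i • (-e (π i)) := by rw [h1]
    rw [smul_smul, hτ, neg_smul, one_smul, smul_neg] at h2
    exact neg_injective h2
  refine inv2_span B T (fun i => e i + f (π i)) f ?_ ?_ ?_
  · intro i j
    simp only [map_add, LinearMap.add_apply]
    rw [h.ee, h.ff, h.ef, h.fe hB]
    by_cases hij : i = π j
    · have hji : π i = j := by rw [hij, hπ]
      rw [if_pos hij, if_pos hji]
      ring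
    · have hji : ¬ π i = j := by
        intro hc
        exact hij (by rw [← hc, hπ])
      rw [if_neg hij, if_neg hji]
      ring
  · intro i j
    simp only [map_add, LinearMap.add_apply]
    rw [h.ef, h.ff, add_zero]
  · intro i
    have h1 : T (e i + f (π i)) = τ i • (e (π i) + f (π (π i))) := by
      rw [map_add, hTe, hTf, hπ, smul_add, add_comm]
    rw [h1]
    exact Submodule.smul_mem _ _ (Submodule.subset_span ⟨π i, rfl⟩)

theorem inv2_exists_sq_add_sq {F : Type*} [Field F] [Fintype F] (h2 : (2 : F) ≠ 0) (c : F) :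
    ∃ x y : F, x ^ 2 + y ^ 2 = c := by
  classical
  have hodd : Fintype.card F % 2 = 1 := by
    apply FiniteField.odd_card_of_char_ne_two
    intro hc
    apply h2
    have h3 := CharP.cast_eq_zero F (ringChar F)
    rw [hc] at h3
    exact_mod_cast h3
  have hf : (Polynomial.X ^ 2 : Polynomial F).degree = 2 := Polynomial.degree_X_pow 2
  have hg : (Polynomial.X ^ 2 - Polynomial.C c : Polynomial F).degree = 2 :=
    Polynomial.degree_X_pow_sub_C (by norm_num) c
  obtain ⟨a, b, hab⟩ := FiniteField.exists_root_sum_quadratic hf hg hodd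
  refine ⟨a, b, ?_⟩
  simp only [Polynomial.eval_pow, Polynomial.eval_X, Polynomial.eval_sub, Polynomial.eval_C] at hab
  linear_combination hab

/-- `r = 2`: every isometry with scalar square fixes a t.i. `m`-space when `m` is even or `q ≡ 1 (4)` -/
theorem fixTI_of_sq_eq_smul {F : Type*} [Field F] [Fintype F] (h2 : (2 : F) ≠ 0)
    {V : Type*} [AddCommGroup V] [Module F V] [FiniteDimensional F V]
    (B : LinearMap.BilinForm F V) (hB : B.IsAlt) (hnd : ∀ x, (∀ y, B x y = 0) → x = 0)
    (d : ℕ) (hdim : finrank F V = 2 * d) (T : V →ₗ[F] V) (hT : ∀ u v, B (T u) (T v) = B u v)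
    (z : F) (hz : T ^ 2 = z • 1) (m : ℕ) (hmd : m ≤ d)
    (hcond : Even m ∨ Fintype.card F % 4 = 1) : FixTI B T m := by
  classical
  rcases Nat.eq_zero_or_pos m with hm0 | hmpos
  · subst hm0
    refine ⟨⊥, finrank_bot F V, ?_, ?_⟩
    · intro u hu v _
      rw [(Submodule.mem_bot F).1 hu, map_zero, LinearMap.zero_apply]
    · rw [Submodule.map_bot]
  have hTT : ∀ v, T (T v) = z • v := by
    intro v
    have h1 := LinearMap.congr_fun hz v
    rw [pow_two, Module.End.mul_apply, LinearMap.smul_apply, Module.End.one_apply] at h1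
    exact h1
  -- `z ^ 2 = 1`
  have hz2 : z = 1 ∨ z = -1 := by
    have hpos : 0 < finrank F V := by omega
    obtain ⟨v, hv⟩ := Module.finrank_pos_iff_exists_ne_zero.1 hpos
    have h1 : ∃ y, B v y ≠ 0 := by
      by_contra hc
      push Not at hc
      exact hv (hnd v hc)
    obtain ⟨y, hy⟩ := h1
    have h3 : B (T (T v)) (T (T y)) = B v y := by rw [hT, hT]
    rw [hTT, hTT, map_smul, map_smul, LinearMap.smul_apply, smul_eq_mul, smul_eq_mul] at h3
    have h4 : (z * z - 1) * B v y = 0 := by linear_combination h3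
    rcases mul_eq_zero.1 h4 with h5 | h5
    · have h6 : (z - 1) * (z + 1) = 0 := by linear_combination h5
      rcases mul_eq_zero.1 h6 with h7 | h7
      · exact Or.inl (by linear_combination h7)
      · exact Or.inr (by linear_combination h7)
    · exact absurd h5 hy
  have hk : 2 * m ≤ finrank F V := by omega
  rcases hz2 with rfl | rfl
  · -- `T ^ 2 = 1`
    have ht2 : ∀ v, T (T v) = v := fun v => by rw [hTT, one_smul]
    obtain ⟨e, f, s, h, he, _⟩ := exists_eigen_altFam hB hnd h2 T hT ht2 m hk
    refine inv2_span B T e f h.ee h.ef ?_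
    intro i
    rw [he]
    exact Submodule.smul_mem _ _ (Submodule.subset_span ⟨i, rfl⟩)
  · -- `T ^ 2 = -1`
    have ht2 : ∀ v, T (T v) = -v := fun v => by rw [hTT, neg_smul, one_smul]
    have hsq := inv2_exists_sq_add_sq h2
    rcases hcond with hev | hq
    · -- `m` even: pair up consecutive hyperbolic planes with `τ = 1, -1`
      obtain ⟨k, hk2⟩ := hev
      obtain ⟨e, f, h, he⟩ := exists_rot_altFam hB hnd h2 hsq T hT ht2
        (fun j => if j % 2 = 0 then (1 : F) else -1)
        (fun j => by
          split_ifs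
          · exact one_ne_zero
          · exact neg_ne_zero.2 one_ne_zero) m hk
      have hπlt : ∀ i : Fin m, (if i.val % 2 = 0 then i.val + 1 else i.val - 1) < m := by
        intro i
        have := i.isLt
        split_ifs <;> omega
      refine inv2_neg_core B hB T ht2 e f h
        (fun j => if j.val % 2 = 0 then (1 : F) else -1)
        (fun i => ⟨if i.val % 2 = 0 then i.val + 1 else i.val - 1, hπlt i⟩) ?_ ?_ he
      · intro i
        apply Fin.ext
        dsimp only
        have := i.isLt
        split_ifs <;> omega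
      · intro i
        dsimp only
        have := i.isLt
        by_cases hi : i.val % 2 = 0
        · have h1 : ¬ (i.val + 1) % 2 = 0 := by omega
          simp only [hi, h1, ↓reduceIte]
          ring
        · have h1 : (i.val - 1) % 2 = 0 := by omega
          simp only [hi, h1, ↓reduceIte]
          ring
    · -- `q ≡ 1 (4)`: a square root of `-1`
      have h1 : IsSquare (-1 : F) := by
        rw [FiniteField.isSquare_neg_one_iff]
        omega
      obtain ⟨ι, hι⟩ := h1
      have hι0 : ι ≠ 0 := by
        rintro rfl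
        rw [mul_zero] at hι
        exact neg_ne_zero.2 one_ne_zero hι
      obtain ⟨e, f, h, he⟩ := exists_rot_altFam hB hnd h2 hsq T hT ht2 (fun _ => ι)
        (fun _ => hι0) m hk
      exact inv2_neg_core B hB T ht2 e f h (fun _ => ι) id (fun _ => rfl) (fun _ => hι.symm) he

/-- `r = 2`: for `m` odd and `q ≡ 3 (4)` the element `J` has no invariant t.i. `m`-space -/
theorem exists_sq_neg_one_not_fixTI {F : Type*} [Field F] [Fintype F] (d m : ℕ) (hm : Odd m)
    (hq : Fintype.card F % 4 = 3) :
    ∃ x : Matrix.symplecticGroup (Fin d) F,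
      ((x ^ 2 : Matrix.symplecticGroup (Fin d) F) : Matrix (Fin d ⊕ Fin d) (Fin d ⊕ Fin d) F) =
        (-1 : F) • (1 : Matrix (Fin d ⊕ Fin d) (Fin d ⊕ Fin d) F) ∧
      ¬ FixTI (sympBilin d F)
        (Matrix.toLin' (x : Matrix (Fin d ⊕ Fin d) (Fin d ⊕ Fin d) F)) m := by
  classical
  refine ⟨⟨Matrix.J (Fin d) F, SymplecticGroup.J_mem (Fin d) F⟩, ?_, ?_⟩
  · rw [pow_two, Submonoid.coe_mul, Matrix.J_squared, neg_smul, one_smul]
  · rintro ⟨W, hWm, -, hinv⟩
    set T : (Fin d ⊕ Fin d → F) →ₗ[F] (Fin d ⊕ Fin d → F) :=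
      Matrix.toLin' (Matrix.J (Fin d) F) with hTdef
    have hTT : ∀ v, T (T v) = -v := by
      intro v
      rw [hTdef, ← LinearMap.comp_apply, ← Matrix.toLin'_mul, Matrix.J_squared]
      simp
    have hinv' : ∀ x ∈ W, T x ∈ W := fun x hx => hinv (Submodule.mem_map_of_mem hx)
    set S : W →ₗ[F] W := T.restrict hinv' with hSdef
    have hSS : S * S = (-1 : F) • (1 : W →ₗ[F] W) := by
      apply LinearMap.ext
      intro v
      apply Subtype.ext
      rw [Module.End.mul_apply, hSdef, LinearMap.coe_restrict_apply, LinearMap.coe_restrict_apply,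
        hTT, LinearMap.smul_apply, Module.End.one_apply, neg_smul, one_smul, Submodule.coe_neg]
    have hdet : LinearMap.det S * LinearMap.det S = -1 := by
      rw [← map_mul, hSS, LinearMap.det_smul, map_one, mul_one, hWm, hm.neg_one_pow]
    have h1 : IsSquare (-1 : F) := ⟨LinearMap.det S, hdet.symm⟩
    rw [FiniteField.isSquare_neg_one_iff] at h1
    exact h1 hq

end inv2

end Cfsg.Agent.Lib.Helper1.TISp
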