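import Mathlib
import Cfsg.Prelude
import Cfsg.Agent.Lib.Helper9.TT9a

set_option autoImplicit false

/-!
# Three-transpositions with local `S_3`: the local structure
-/

namespace Cfsg.Agent.H9TT

open Cfsg Cfsg.Agent.Lib.Helper9

variable {G : Type*} [Group G] {D : Set G}

theorem s3_fact : ∀ s t : Equiv.Perm (Fin 3), s * s = 1 → t * t = 1 → s ≠ 1 → t ≠ 1 → s ≠ t →
    ¬ (s * t = t * s) ∧
      ∀ r : Equiv.Perm (Fin 3), r * r = 1 → r ≠ 1 → r = s ∨ r = t ∨ r = s * t * s := by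
  decide

theorem s3_noncomm : ¬ (Equiv.swap (0 : Fin 3) 1 * Equiv.swap 1 2 =
    Equiv.swap 1 2 * Equiv.swap (0 : Fin 3) 1) := by
  decide

/-- a conjugation-invariant set of 3-transpositions in which the members commuting with any given
member form a line -/
structure LS (D : Set G) : Prop extends TT D where
  hpair : ∀ d ∈ D, ∃ a ∈ Dp D d, ∃ b ∈ Dp D d, ¬ Commute a b
  hnc : ∀ d ∈ D, ∀ x ∈ Dp D d, ∀ y ∈ Dp D d, x ≠ y → ¬ Commute x y
  hthree : ∀ d ∈ D, ∀ x ∈ Dp D d, ∀ y ∈ Dp D d, x ≠ y → ∀ t ∈ Dp D d,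
    t = x ∨ t = y ∨ t = x * y * x

theorem LS.of_hloc (h : TT D)
    (hloc : ∀ d ∈ D, Nonempty (↥(Subgroup.closure (Dp D d)) ≃* Equiv.Perm (Fin 3))) : LS D := by
  have key : ∀ d ∈ D, ∀ ψ : ↥(Subgroup.closure (Dp D d)) ≃* Equiv.Perm (Fin 3),
      ∀ x ∈ Dp D d, ∀ y ∈ Dp D d, x ≠ y → ¬ Commute x y ∧ ∀ t ∈ Dp D d,
        t = x ∨ t = y ∨ t = x * y * x := by
    intro d hd ψ x hx y hy hxy
    obtain ⟨x', hx'⟩ : ∃ x' : ↥(Subgroup.closure (Dp D d)), (x' : G) = x :=
      ⟨⟨x, Subgroup.subset_closure hx⟩, rfl⟩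
    obtain ⟨y', hy'⟩ : ∃ y' : ↥(Subgroup.closure (Dp D d)), (y' : G) = y :=
      ⟨⟨y, Subgroup.subset_closure hy⟩, rfl⟩
    have inv_of : ∀ t ∈ Dp D d, ∀ t' : ↥(Subgroup.closure (Dp D d)), (t' : G) = t →
        ψ t' * ψ t' = 1 ∧ ψ t' ≠ 1 := by
      intro t ht t' e
      constructor
      · rw [← map_mul]
        have : t' * t' = 1 := by
          apply Subtype.ext
          rw [Subgroup.coe_mul, e, h.sq ht.1, Subgroup.coe_one]
        rw [this, map_one]
      · intro e1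
        have : t' = 1 := by
          apply ψ.injective
          rw [e1, map_one]
        have e2 : t = 1 := by rw [← e, this, Subgroup.coe_one]
        have h2 := h.hset.1 t ht.1
        rw [e2, orderOf_one] at h2
        omega
    obtain ⟨hx1, hx2⟩ := inv_of x hx x' hx'
    obtain ⟨hy1, hy2⟩ := inv_of y hy y' hy'
    have hne : ψ x' ≠ ψ y' := by
      intro e
      apply hxy
      rw [← hx', ← hy', ψ.injective e]
    obtain ⟨hA, hB⟩ := s3_fact (ψ x') (ψ y') hx1 hy1 hx2 hy2 hne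
    constructor
    · intro hc
      apply hA
      rw [← map_mul, ← map_mul]
      congr 1
      apply Subtype.ext
      rw [Subgroup.coe_mul, Subgroup.coe_mul, hx', hy']
      exact hc.eq
    · intro t ht
      obtain ⟨t', ht'⟩ : ∃ t' : ↥(Subgroup.closure (Dp D d)), (t' : G) = t :=
        ⟨⟨t, Subgroup.subset_closure ht⟩, rfl⟩
      obtain ⟨ht1, ht2⟩ := inv_of t ht t' ht'
      rcases hB (ψ t') ht1 ht2 with e | e | e
      · left
        rw [← ht', ← hx', ψ.injective e]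
      · right; left
        rw [← ht', ← hy', ψ.injective e]
      · right; right
        rw [← map_mul, ← map_mul] at e
        have := ψ.injective e
        rw [← ht', this, Subgroup.coe_mul, Subgroup.coe_mul, hx', hy']
  refine ⟨h, ?_, ?_, ?_⟩
  · intro d hd
    obtain ⟨ψ⟩ := hloc d hd
    by_contra hcon
    push Not at hcon
    letI : CommGroup ↥(Subgroup.closure (Dp D d)) :=
      Subgroup.closureCommGroupOfComm (fun x hx y hy => (hcon x hx y hy).eq)
    apply s3_noncomm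
    have e1 := mul_comm (ψ.symm (Equiv.swap (0 : Fin 3) 1)) (ψ.symm (Equiv.swap 1 2))
    have e2 := congrArg ψ e1
    rw [map_mul, map_mul] at e2
    simpa using e2
  · intro d hd x hx y hy hxy
    obtain ⟨ψ⟩ := hloc d hd
    exact (key d hd ψ x hx y hy hxy).1
  · intro d hd x hx y hy hxy
    obtain ⟨ψ⟩ := hloc d hd
    exact (key d hd ψ x hx y hy hxy).2

end Cfsg.Agent.H9TT
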