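import Mathlib
import Cfsg.Prelude
import Cfsg.Agent.Lib.Helper9.TL1

set_option autoImplicit false

/-!
# Three-transpositions with local `S_3`: a point collinear with a whole line and its pole
-/

namespace Cfsg.Agent.H9TT

open Cfsg Cfsg.Agent.Lib.Helper9

variable {G : Type*} [Group G] {D : Set G}

theorem s4_id5 : Commute (Equiv.swap (0 : Fin 4) 1 * Equiv.swap 1 2 * Equiv.swap 0 1)
    (Equiv.swap 2 3 * Equiv.swap 1 2 * Equiv.swap 2 3) := by
  show _ * _ = _ * _
  decide

theorem s4_id6 : Equiv.swap (0 : Fin 4) 1 * Equiv.swap 1 2 * Equiv.swap 0 1 ≠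
    Equiv.swap 2 3 * Equiv.swap 1 2 * Equiv.swap 2 3 := by
  decide

/-- in the `S_4` configuration `u - w - v` the two conjugates of `w` commute -/
theorem TT.s4_cross (h : TT D) {u v w : G} (hu : u ∈ D) (hv : v ∈ D) (hw : w ∈ D)
    (huv : u ≠ v) (huv' : Commute u v) (huw : ¬ Commute u w) (hwv : ¬ Commute w v) :
    Commute (u * w * u) (v * w * v) ∧ u * w * u ≠ v * w * v := by
  obtain ⟨φ, hinj, rfl, rfl, rfl⟩ := Cfsg.Agent.S5344.result h.hset hu hw hv huv huv' huw hwv
  constructor
  · have := s4_id5.map φ
    simpa only [map_mul] using this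
  · intro e
    apply s4_id6
    apply hinj
    simpa only [map_mul] using e

/-- elementary consequences of the braid relation -/
theorem braid5 {b e : G} (hbb : b * b = 1) (hee : e * e = 1) (hbr : b * e * b = e * b * e) :
    e * b * e * b * e = b := by
  calc e * b * e * b * e = (e * b * e) * (b * e) := by group
    _ = (b * e * b) * (b * e) := by rw [hbr]
    _ = b * e * (b * b) * e := by group
    _ = b := by rw [hbb, mul_one, mul_assoc, hee, mul_one]

/-- cancelling a conjugation by an involution -/
theorem conj_inv_cancel {a t s : G} (h : a * t * a = a * s * a) : t = s := by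
  have h1 := mul_right_cancel h
  exact mul_left_cancel h1

/-- if `y` is an involution commuting with `x` then `y x y = x` -/
theorem conj_eq_of_commute {x y : G} (hyy : y * y = 1) (hc : Commute x y) : y * x * y = x := by
  rw [mul_assoc, hc.eq, ← mul_assoc, hyy, one_mul]

/-- double conjugation by an involution -/
theorem conj_conj_inv {a t : G} (haa : a * a = 1) : a * (a * t * a) * a = t := by
  calc a * (a * t * a) * a = (a * a) * t * (a * a) := by group
    _ = t := by rw [haa, one_mul, mul_one]

/-- a point `e` collinear with `d` and with all the points of the line of `d` forces a second point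
commuting with that line -/
theorem LS.exists_of_case0 (h : LS D) {d a b e : G} (hd : d ∈ D) (ha : a ∈ Dp D d) (hb : b ∈ Dp D d)
    (hab : ¬ Commute a b) (he : e ∈ D) (hed : ¬ Commute e d) (hea : ¬ Commute e a)
    (heb : ¬ Commute e b) (hec : ¬ Commute e (a * b * a)) :
    ∃ x ∈ D, x ≠ d ∧ Commute x a ∧ Commute x b := by
  have hT := h.toTT
  have hdd := hT.sq hd
  have haa := hT.sq ha.1
  have hbb := hT.sq hb.1
  have hee := hT.sq he
  have hcD : a * b * a ∈ D := hT.third_mem ha.1 hb.1
  have hcc := hT.sq hcD
  have hda : Commute d a := ha.2.2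
  have hdb : Commute d b := hb.2.2
  have hdc : Commute d (a * b * a) := (hda.mul_right hdb).mul_right hda
  -- braid relations
  have br_ae : a * e * a = e * a * e := hT.braid ha.1 he (fun hc => hea hc.symm)
  have br_be : b * e * b = e * b * e := hT.braid hb.1 he (fun hc => heb hc.symm)
  have br_ce : (a * b * a) * e * (a * b * a) = e * (a * b * a) * e :=
    hT.braid hcD he (fun hc => hec hc.symm)
  have br_de : d * e * d = e * d * e := hT.braid hd he (fun hc => hed hc.symm)
  have br_ab : a * b * a = b * a * b := hT.braid ha.1 hb.1 hab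
  -- the points
  have he1D : d * e * d ∈ D := hT.third_mem hd he
  have ha'D : a * e * a ∈ D := hT.third_mem ha.1 he
  have hb'D : b * e * b ∈ D := hT.third_mem hb.1 he
  have he'D : a * (b * e * b) * a ∈ D := hT.third_mem ha.1 hb'D
  -- (1)
  obtain ⟨h1a, h1a'⟩ := hT.s4_cross hd ha.1 he (fun e0 => ha.2.1 e0.symm) hda
    (fun hc => hed hc.symm) hea
  obtain ⟨h1b, h1b'⟩ := hT.s4_cross hd hb.1 he (fun e0 => hb.2.1 e0.symm) hdb
    (fun hc => hed hc.symm) heb
  -- (2) `a' e' a' = c`
  have h2 : (a * e * a) * (a * (b * e * b) * a) * (a * e * a) = a * b * a := by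
    have e1 : (a * e * a) * (a * (b * e * b) * a) * (a * e * a) =
        a * (e * (a * a) * b * e * b * (a * a) * e) * a := by group
    rw [e1, haa, mul_one, mul_one, braid5 hbb hee br_be]
  -- (3) `b' e' b' = a`
  have h3 : (b * e * b) * (a * (b * e * b) * a) * (b * e * b) = a := by
    have e1 : (b * e * b) * (a * (b * e * b) * a) * (b * e * b) =
        b * (e * (b * a * b) * e * (b * a * b) * e) * b := by group
    rw [e1, ← br_ab, braid5 hcc hee br_ce, br_ab]
    calc b * (b * a * b) * b = (b * b) * a * (b * b) := by group
      _ = a := by rw [hbb, one_mul, mul_one]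
  -- (4) `e₁` does not commute with `e'`
  have h4 : ¬ Commute (d * e * d) (a * (b * e * b) * a) := by
    intro hc
    have hc2 : Commute (d * e * d) (a * b * a) := by
      rw [← h2]
      exact (h1a.mul_right hc).mul_right h1a
    apply hec
    have hc3 : Commute (d * (d * e * d) * d) (d * (a * b * a) * d) := by
      have e1 : d * (d * e * d) * d * (d * (a * b * a) * d) =
          d * ((d * e * d) * (d * d) * (a * b * a)) * d := by group
      have e2 : d * (a * b * a) * d * (d * (d * e * d) * d) =
          d * ((a * b * a) * (d * d) * (d * e * d)) * d := by group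
      show _ * _ = _ * _
      rw [e1, e2, hdd, mul_one, mul_one, hc2.eq]
    have e3 : d * (d * e * d) * d = e := by
      calc d * (d * e * d) * d = (d * d) * e * (d * d) := by group
        _ = e := by rw [hdd, one_mul, mul_one]
    have e4 : d * (a * b * a) * d = a * b * a := by
      rw [hdc.eq, mul_assoc, hdd, mul_one]
    rwa [e3, e4] at hc3
  -- (5) `a'` does not commute with `e'`
  have h5 : ¬ Commute (a * (b * e * b) * a) (a * e * a) := by
    intro hc
    have e1 : a * (b * e * b) * a = a * b * a := by
      rw [← conj_eq_of_commute (hT.sq ha'D) hc]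
      exact h2
    have e2 : b * e * b = b := conj_inv_cancel e1
    have e5 : e = b := by
      have e6 : b * e * b = b * b * b := by rw [e2, hbb, one_mul]
      exact conj_inv_cancel e6
    apply heb
    rw [e5]
  -- (6) `b'` does not commute with `e'`
  have h6 : ¬ Commute (a * (b * e * b) * a) (b * e * b) := by
    intro hc
    have e1 : a * (b * e * b) * a = a := by
      rw [← conj_eq_of_commute (hT.sq hb'D) hc]
      exact h3
    have e2 : b * e * b = a := by
      have e6 : a * (b * e * b) * a = a * a * a := by rw [e1, haa, one_mul]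
      exact conj_inv_cancel e6
    have e5 : e = b * a * b := by
      have e6 : b * e * b = b * (b * a * b) * b := by rw [e2, conj_conj_inv hbb]
      exact conj_inv_cancel e6
    apply hec
    rw [e5, br_ab]
  -- (7)
  obtain ⟨h7a, -⟩ := hT.s4_cross he1D ha'D he'D h1a' h1a h4 h5
  obtain ⟨h7b, -⟩ := hT.s4_cross he1D hb'D he'D h1b' h1b h4 h6
  rw [h2] at h7a
  rw [h3] at h7b
  refine ⟨(d * e * d) * (a * (b * e * b) * a) * (d * e * d), hT.third_mem he1D he'D, ?_, h7b, ?_⟩
  · -- (8)
    intro e0
    have e1 : a * (b * e * b) * a = (d * e * d) * d * (d * e * d) := by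
      have e7 : (d * e * d) * ((d * e * d) * (a * (b * e * b) * a) * (d * e * d)) * (d * e * d) =
          (d * e * d) * d * (d * e * d) := by rw [e0]
      rw [conj_conj_inv (hT.sq he1D)] at e7
      exact e7
    have e2 : (d * e * d) * d * (d * e * d) = e := by
      calc (d * e * d) * d * (d * e * d) = d * e * (d * d) * (d * e * d) := by group
        _ = d * (e * d * e) * d := by rw [hdd, mul_one]; group
        _ = d * (d * e * d) * d := by rw [br_de]
        _ = e := conj_conj_inv hdd
    rw [e2] at e1
    -- `a (b e b) a = e` gives `b e b = a e a`, so `e b e = e a e`, so `a = b`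
    have e3 : b * e * b = a * e * a := by
      have e7 : a * (b * e * b) * a = a * (a * e * a) * a := by rw [e1, conj_conj_inv haa]
      exact conj_inv_cancel e7
    rw [br_be, br_ae] at e3
    have e5 : b = a := conj_inv_cancel e3
    apply hab
    rw [e5]
  · -- commutes with `b = a c a`
    have e1 : a * (a * b * a) * a = b := conj_conj_inv haa
    have e2 := (h7b.mul_right h7a).mul_right h7b
    rw [e1] at e2
    exact e2

end Cfsg.Agent.H9TT
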