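import Mathlib
import Cfsg.Prelude
import Cfsg.Agent.Lib.Helper9.TL2
import Cfsg.Agent.S5350
import Cfsg.Agent.Lib.Helper6.PRes

set_option autoImplicit false

/-!
# Three-transpositions: the `3`-core of the subgroup generated by a conjugation-invariant set
-/

namespace Cfsg.Agent.H9TT

open Cfsg Cfsg.Agent.Lib.Helper9

variable {G : Type*} [Group G] {D : Set G}

/-- the members of `D` in the subgroup they generate -/
def DH (D : Set G) : Set ↥(Subgroup.closure D) := {x | (x : G) ∈ D}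

theorem TT.closure_normal (h : TT D) : (Subgroup.closure D).Normal := by
  constructor
  intro n hn g
  induction hn using Subgroup.closure_induction with
  | mem x hx => exact Subgroup.subset_closure (h.hconj g x hx)
  | one => simp
  | mul x y _ _ hx hy =>
    have e : g * (x * y) * g⁻¹ = (g * x * g⁻¹) * (g * y * g⁻¹) := by group
    rw [e]; exact Subgroup.mul_mem _ hx hy
  | inv x _ hx =>
    have e : g * x⁻¹ * g⁻¹ = (g * x * g⁻¹)⁻¹ := by group
    rw [e]; exact Subgroup.inv_mem _ hx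

theorem commute_coe_iff {H : Subgroup G} (x y : ↥H) : Commute x y ↔ Commute (x : G) (y : G) := by
  constructor
  · intro hc
    have := congrArg Subtype.val hc.eq
    rw [Subgroup.coe_mul, Subgroup.coe_mul] at this
    exact this
  · intro hc
    show x * y = y * x
    apply Subtype.ext
    rw [Subgroup.coe_mul, Subgroup.coe_mul]
    exact hc.eq

theorem TT.DH_class (h : TT D) (hne : D.Nonempty)
    (hcl : ∀ x ∈ D, ∀ y ∈ D, ∃ g ∈ Subgroup.closure D, g * x * g⁻¹ = y) :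
    IsThreeTranspositionClass (DH D) := by
  refine ⟨⟨?_, ?_⟩, ?_, ?_⟩
  · intro x hx
    rw [← Subgroup.orderOf_coe]
    exact h.hset.1 _ hx
  · intro x hx y hy
    rcases h.hset.2 _ hx _ hy with h2 | h3
    · left
      apply Subtype.ext
      simpa using h2
    · right
      apply Subtype.ext
      simpa using h3
  · obtain ⟨d0, hd0⟩ := hne
    refine ⟨⟨d0, Subgroup.subset_closure hd0⟩, hd0, ?_⟩
    ext w
    constructor
    · intro hw
      obtain ⟨g, hg, e⟩ := hcl d0 hd0 _ hw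
      show IsConj _ w
      rw [isConj_iff]
      refine ⟨⟨g, hg⟩, ?_⟩
      apply Subtype.ext
      simpa using e
    · intro hw
      have hw' : IsConj _ w := hw
      rw [isConj_iff] at hw'
      obtain ⟨g, e⟩ := hw'
      show (w : G) ∈ D
      rw [← e]
      simpa using h.hconj (g : G) d0 hd0
  · exact Subgroup.closure_closure_coe_preimage

theorem mem_Dp_coe_iff (u : ↥(Subgroup.closure D)) (y : ↥(Subgroup.closure D)) :
    y ∈ {y : ↥(Subgroup.closure D) | y ∈ DH D ∧ y ≠ u ∧ Commute u y} ↔ (y : G) ∈ Dp D (u : G) := by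
  constructor
  · rintro ⟨h1, h2, h3⟩
    refine ⟨h1, ?_, (commute_coe_iff u y).mp h3⟩
    intro e
    exact h2 (Subtype.ext e)
  · rintro ⟨h1, h2, h3⟩
    refine ⟨h1, ?_, (commute_coe_iff u y).mpr h3⟩
    intro e
    apply h2
    rw [e]

/-- members of `D` with the same line differ by an element of the `3`-core of `⟨D⟩` -/
theorem TT.mem_pCoreOf_of_Dp_eq [Finite G] (h : TT D)
    (hcl : ∀ x ∈ D, ∀ y ∈ D, ∃ g ∈ Subgroup.closure D, g * x * g⁻¹ = y)
    (hD2 : ∃ a ∈ D, ∃ b ∈ D, a ≠ b) {u w : G} (hu : u ∈ D) (hw : w ∈ D)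
    (hL : Dp D u = Dp D w) : u⁻¹ * w ∈ pCoreOf 3 (Subgroup.closure D) := by
  have hne : D.Nonempty := ⟨u, hu⟩
  have hclass := h.DH_class hne hcl
  have hD2' : ∃ a ∈ DH D, ∃ b ∈ DH D, a ≠ b := by
    obtain ⟨a, ha, b, hb, hab⟩ := hD2
    refine ⟨⟨a, Subgroup.subset_closure ha⟩, ha, ⟨b, Subgroup.subset_closure hb⟩, hb, ?_⟩
    intro e
    exact hab (congrArg Subtype.val e)
  obtain ⟨u', hu'⟩ : ∃ u' : ↥(Subgroup.closure D), (u' : G) = u :=
    ⟨⟨u, Subgroup.subset_closure hu⟩, rfl⟩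
  obtain ⟨w', hw'⟩ : ∃ w' : ↥(Subgroup.closure D), (w' : G) = w :=
    ⟨⟨w, Subgroup.subset_closure hw⟩, rfl⟩
  have hu'D : u' ∈ DH D := by show (u' : G) ∈ D; rw [hu']; exact hu
  have hw'D : w' ∈ DH D := by show (w' : G) ∈ D; rw [hw']; exact hw
  obtain ⟨hA, -⟩ := Cfsg.Agent.S5350.result hclass hD2' hu'D
  have hmem : w' ∈ {w : ↥(Subgroup.closure D) | w ∈ DH D ∧
      {y : ↥(Subgroup.closure D) | y ∈ DH D ∧ y ≠ u' ∧ Commute u' y} =
        {y : ↥(Subgroup.closure D) | y ∈ DH D ∧ y ≠ w ∧ Commute w y}} := by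
    refine ⟨hw'D, ?_⟩
    ext y
    rw [mem_Dp_coe_iff, mem_Dp_coe_iff, hu', hw', hL]
  rw [hA] at hmem
  refine ⟨u'⁻¹ * w', hmem.2, ?_⟩
  simp [hu', hw']

/-- conjugation by the `3`-core of `⟨D⟩` preserves the lines -/
theorem TT.Dp_conj_pCoreOf [Finite G] (h : TT D)
    (hcl : ∀ x ∈ D, ∀ y ∈ D, ∃ g ∈ Subgroup.closure D, g * x * g⁻¹ = y)
    (hD2 : ∃ a ∈ D, ∃ b ∈ D, a ≠ b) {u g : G} (hu : u ∈ D)
    (hg : g ∈ pCoreOf 3 (Subgroup.closure D)) : Dp D (g * u * g⁻¹) = Dp D u := by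
  have hne : D.Nonempty := ⟨u, hu⟩
  have hclass := h.DH_class hne hcl
  have hD2' : ∃ a ∈ DH D, ∃ b ∈ DH D, a ≠ b := by
    obtain ⟨a, ha, b, hb, hab⟩ := hD2
    refine ⟨⟨a, Subgroup.subset_closure ha⟩, ha, ⟨b, Subgroup.subset_closure hb⟩, hb, ?_⟩
    intro e
    exact hab (congrArg Subtype.val e)
  obtain ⟨u', hu'⟩ : ∃ u' : ↥(Subgroup.closure D), (u' : G) = u :=
    ⟨⟨u, Subgroup.subset_closure hu⟩, rfl⟩
  have hu'D : u' ∈ DH D := by show (u' : G) ∈ D; rw [hu']; exact hu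
  obtain ⟨g', hg', hgg'⟩ := hg
  obtain ⟨hA, hB⟩ := Cfsg.Agent.S5350.result hclass hD2' hu'D
  have hmem : g' * u' * g'⁻¹ ∈ {w : ↥(Subgroup.closure D) | ∃ g ∈ pCore 3 ↥(Subgroup.closure D),
      w = g * u' * g⁻¹} := ⟨g', hg', rfl⟩
  rw [← hB] at hmem
  have hset := hmem.2
  have hcoe : ((g' * u' * g'⁻¹ : ↥(Subgroup.closure D)) : G) = g * u * g⁻¹ := by
    rw [← hgg', ← hu']
    simp
  have hsub : ∀ y : G, y ∈ D → ∃ y' : ↥(Subgroup.closure D), (y' : G) = y :=
    fun y hy => ⟨⟨y, Subgroup.subset_closure hy⟩, rfl⟩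
  ext y
  constructor
  · intro hy
    obtain ⟨y', rfl⟩ := hsub y hy.1
    have h1 : y' ∈ {y : ↥(Subgroup.closure D) | y ∈ DH D ∧ y ≠ g' * u' * g'⁻¹ ∧
        Commute (g' * u' * g'⁻¹) y} := by
      rw [mem_Dp_coe_iff, hcoe]; exact hy
    rw [← hset] at h1
    rw [mem_Dp_coe_iff, hu'] at h1
    exact h1
  · intro hy
    obtain ⟨y', rfl⟩ := hsub y hy.1
    have h1 : y' ∈ {y : ↥(Subgroup.closure D) | y ∈ DH D ∧ y ≠ u' ∧ Commute u' y} := by
      rw [mem_Dp_coe_iff, hu']; exact hy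
    rw [hset] at h1
    rw [mem_Dp_coe_iff, hcoe] at h1
    exact h1

theorem TT.pCoreOf_normal (h : TT D) : (pCoreOf 3 (Subgroup.closure D)).Normal := by
  haveI := h.closure_normal
  exact Cfsg.Agent.Lib.Helper6.pCoreOf_normal_of_normal 3 (Subgroup.closure D)

/-- a normal `3`-subgroup meets a centraliser in a subgroup of the `3`-core of the centraliser -/
theorem card_inf_centralizer_le [Finite G] (N : Subgroup G) [hN : N.Normal] (hN3 : IsPGroup 3 N)
    (u : G) : Nat.card ↥(N ⊓ Subgroup.centralizer ({u} : Set G)) ≤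
      Nat.card ↥(pCore 3 ↥(Subgroup.centralizer ({u} : Set G))) := by
  have h1 : N.subgroupOf (Subgroup.centralizer ({u} : Set G)) ≤
      pCore 3 ↥(Subgroup.centralizer ({u} : Set G)) := by
    apply Cfsg.Agent.Lib.Helper6.le_pCore
    · infer_instance
    · exact hN3.comap_subtype
  have h2 := Subgroup.card_le_of_le h1
  have h3 : Nat.card ↥(N.subgroupOf (Subgroup.centralizer ({u} : Set G))) =
      Nat.card ↥(N ⊓ Subgroup.centralizer ({u} : Set G)) := by
    rw [← Subgroup.inf_subgroupOf_right]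
    exact Nat.card_congr (Subgroup.subgroupOfEquivOfLe inf_le_right).toEquiv
  rw [h3] at h2
  exact h2

/-- the elements of a normal `3`-subgroup centralising `u` are the powers of one element of order
three -/
theorem mem_zpowers_of_card [Finite G] (N : Subgroup G) [hN : N.Normal] (hN3 : IsPGroup 3 N)
    {u z : G} (hcard : Nat.card ↥(pCore 3 ↥(Subgroup.centralizer ({u} : Set G))) = 3)
    (hzN : z ∈ N) (hzu : Commute u z) (hz3 : orderOf z = 3) :
    ∀ g ∈ N, Commute u g → g ∈ Subgroup.zpowers z := by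
  intro g hg hgu
  have hle : Subgroup.zpowers z ≤ N ⊓ Subgroup.centralizer ({u} : Set G) := by
    rw [Subgroup.zpowers_le]
    refine ⟨hzN, ?_⟩
    show z ∈ Subgroup.centralizer ({u} : Set G)
    rw [Subgroup.mem_centralizer_singleton_iff]
    exact hzu.eq.symm
  have hc1 := card_inf_centralizer_le N hN3 u
  rw [hcard] at hc1
  have hc2 : Nat.card ↥(Subgroup.zpowers z) = 3 := by rw [Nat.card_zpowers, hz3]
  have heq : Subgroup.zpowers z = N ⊓ Subgroup.centralizer ({u} : Set G) :=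
    Subgroup.eq_of_le_of_card_ge hle (by rw [hc2]; exact hc1)
  rw [heq]
  refine ⟨hg, ?_⟩
  show g ∈ Subgroup.centralizer ({u} : Set G)
  rw [Subgroup.mem_centralizer_singleton_iff]
  exact hgu.eq.symm

end Cfsg.Agent.H9TT
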