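import Mathlib
import Cfsg.Prelude
import Cfsg.Agent.Lib.Helper9.TL3

set_option autoImplicit false

/-!
# Three-transpositions with local `S_3`: a `K_{3,3}` component
-/

namespace Cfsg.Agent.H9TT

open Cfsg Cfsg.Agent.Lib.Helper9

variable {G : Type*} [Group G] {D : Set G}

/-- two commuting lines `{d, x, dxd}` and `{a, b, aba}` -/
structure K33 (D : Set G) (d x a b : G) : Prop where
  hd : d ∈ D
  hx : x ∈ D
  ha : a ∈ D
  hb : b ∈ D
  hdx : ¬ Commute d x
  hab : ¬ Commute a b
  hda : Commute d a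
  hdb : Commute d b
  hxa : Commute x a
  hxb : Commute x b

namespace K33

variable {d x a b : G}

theorem symm (k : K33 D d x a b) : K33 D a b d x :=
  ⟨k.ha, k.hb, k.hd, k.hx, k.hab, k.hdx, k.hda.symm, k.hxa.symm, k.hdb.symm, k.hxb.symm⟩

theorem swap (k : K33 D d x a b) : K33 D x d a b :=
  ⟨k.hx, k.hd, k.ha, k.hb, fun hc => k.hdx hc.symm, k.hab, k.hxa, k.hxb, k.hda, k.hdb⟩

theorem conj (h : TT D) (k : K33 D d x a b) (g : G) :
    K33 D (g * d * g⁻¹) (g * x * g⁻¹) (g * a * g⁻¹) (g * b * g⁻¹) := by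
  have hcc : ∀ u v : G, Commute (g * u * g⁻¹) (g * v * g⁻¹) ↔ Commute u v := by
    intro u v
    rw [TT.commute_conj_iff]
    have e : g⁻¹ * (g * v * g⁻¹) * g = v := by group
    rw [e]
  exact ⟨h.hconj g d k.hd, h.hconj g x k.hx, h.hconj g a k.ha, h.hconj g b k.hb,
    fun hc => k.hdx ((hcc d x).mp hc), fun hc => k.hab ((hcc a b).mp hc),
    (hcc d a).mpr k.hda, (hcc d b).mpr k.hdb, (hcc x a).mpr k.hxa, (hcc x b).mpr k.hxb⟩

theorem ne_da (k : K33 D d x a b) : a ≠ d := by
  intro e
  apply k.hdx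
  rw [← e]
  exact k.hxa.symm

theorem ne_db (k : K33 D d x a b) : b ≠ d := by
  intro e
  apply k.hdx
  rw [← e]
  exact k.hxb.symm

theorem a_mem (k : K33 D d x a b) : a ∈ Dp D d := ⟨k.ha, k.ne_da, k.hda⟩

theorem b_mem (k : K33 D d x a b) : b ∈ Dp D d := ⟨k.hb, k.ne_db, k.hdb⟩

theorem ne_ab (k : K33 D d x a b) : a ≠ b := by
  intro e
  apply k.hab
  rw [e]

/-- replacing `x` by the third point of its line -/
theorem third (h : TT D) (k : K33 D d x a b) : K33 D d (d * x * d) a b := by
  have hdd := h.sq k.hd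
  refine ⟨k.hd, h.third_mem k.hd k.hx, k.ha, k.hb, ?_, k.hab, k.hda, k.hdb, ?_, ?_⟩
  · intro hc
    apply k.hdx
    have h1 : Commute d (d * (d * x * d) * d) :=
      ((Commute.refl d).mul_right hc).mul_right (Commute.refl d)
    rwa [conj_conj_inv hdd] at h1
  · exact (k.hda.mul_left k.hxa).mul_left k.hda
  · exact (k.hdb.mul_left k.hxb).mul_left k.hdb

theorem c_mem (h : TT D) (k : K33 D d x a b) : a * b * a ∈ Dp D d := by
  refine ⟨h.third_mem k.ha k.hb, ?_, (k.hda.mul_right k.hdb).mul_right k.hda⟩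
  intro e
  apply k.hdx
  rw [← e]
  exact ((k.hxa.mul_right k.hxb).mul_right k.hxa).symm

/-- the line of `d` -/
theorem Dp_d (h : LS D) (k : K33 D d x a b) :
    Dp D d = {t | t = a ∨ t = b ∨ t = a * b * a} := by
  ext t
  constructor
  · intro ht
    exact h.hthree d k.hd a k.a_mem b k.b_mem k.ne_ab t ht
  · rintro (rfl | rfl | rfl)
    · exact k.a_mem
    · exact k.b_mem
    · exact k.c_mem h.toTT

theorem Dp_x (h : LS D) (k : K33 D d x a b) : Dp D x = Dp D d := by
  rw [k.Dp_d h, k.swap.Dp_d h]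

theorem Dp_third (h : LS D) (k : K33 D d x a b) : Dp D (d * x * d) = Dp D d := by
  have k' := (k.third h.toTT).swap
  rw [k.Dp_d h, k'.Dp_d h]

/-- the members of the component -/
theorem mem_X (h : LS D) (k : K33 D d x a b) {t : G} (ht : t ∈ D)
    (hc : Commute t a ∨ Commute t d) :
    t = d ∨ t = x ∨ t = d * x * d ∨ t = a ∨ t = b ∨ t = a * b * a := by
  rcases hc with hc | hc
  · by_cases e : t = a
    · right; right; right; left; exact e
    · have h1 : t ∈ Dp D a := ⟨ht, e, hc.symm⟩
      rw [k.symm.Dp_d h] at h1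
      rcases h1 with h1 | h1 | h1
      · left; exact h1
      · right; left; exact h1
      · right; right; left; exact h1
  · by_cases e : t = d
    · left; exact e
    · have h1 : t ∈ Dp D d := ⟨ht, e, hc.symm⟩
      rw [k.Dp_d h] at h1
      rcases h1 with h1 | h1 | h1
      · right; right; right; left; exact h1
      · right; right; right; right; left; exact h1
      · right; right; right; right; right; exact h1

/-- the component is closed under commuting -/
theorem closed (h : LS D) (k : K33 D d x a b) {t y : G} (ht : t ∈ D)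
    (hc : Commute t a ∨ Commute t d) (hy : y ∈ D) (hyt : Commute y t) :
    Commute y a ∨ Commute y d := by
  have key : ∀ {d x a b : G}, K33 D d x a b → ∀ y ∈ D, Commute y x → Commute y a ∨ Commute y d := by
    intro d x a b k y hy hyx
    by_cases e : y = x
    · left; rw [e]; exact k.hxa
    · right
      have h1 : y ∈ Dp D x := ⟨hy, e, hyx.symm⟩
      rw [k.Dp_x h] at h1
      exact h1.2.2.symm
  rcases k.mem_X h ht hc with rfl | rfl | rfl | rfl | rfl | rfl
  · right; exact hyt
  · exact key k y hy hyt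
  · exact key (k.third h.toTT) y hy hyt
  · left; exact hyt
  · exact (key k.symm y hy hyt).symm
  · exact (key (k.symm.third h.toTT) y hy hyt).symm

end K33

end Cfsg.Agent.H9TT
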