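import Mathlib
import Cfsg.Prelude
import Cfsg.Agent.Lib.Helper9.TL4

set_option autoImplicit false

/-!
# Three-transpositions with local `S_3`: a `K_{3,3}` component is everything
-/

namespace Cfsg.Agent.H9TT

open Cfsg Cfsg.Agent.Lib.Helper9

variable {G : Type*} [Group G] {D : Set G}

/-- non-commuting members are conjugate -/
theorem TT.conj_of_not_commute (h : TT D) {u v : G} (hu : u ∈ D) (hv : v ∈ D)
    (hn : ¬ Commute u v) : (u * v) * u * (u * v)⁻¹ = v := by
  have hb := h.braid hu hv hn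
  rw [mul_inv_rev, h.inv hu, h.inv hv]
  calc u * v * u * (v * u) = (u * v * u) * v * u := by group
    _ = (v * u * v) * v * u := by rw [hb]
    _ = v * u * (v * v) * u := by group
    _ = v := by rw [h.sq hv, mul_one, mul_assoc, h.sq hu, mul_one]

theorem TT.orderOf_mul (h : TT D) {u v : G} (hu : u ∈ D) (hv : v ∈ D) (hn : ¬ Commute u v) :
    orderOf (u * v) = 3 := by
  haveI : Fact (Nat.Prime 3) := ⟨Nat.prime_three⟩
  apply orderOf_eq_prime (h.cube hu hv hn)
  intro e
  apply hn
  have : v = u := by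
    have e1 := eq_inv_of_mul_eq_one_right e
    rw [e1, h.inv hu]
  rw [this]

/-- `y` commuting with neither `p` nor `q` does not commute with `p q` -/
theorem TT.not_commute_mul (h : TT D) {y p q : G} (hy : y ∈ D) (hp : p ∈ D) (hq : q ∈ D)
    (hyp : ¬ Commute y p) (hyq : ¬ Commute y q) (hpq : p ≠ q) : ¬ Commute y (p * q) := by
  intro hc
  have hpp := h.sq hp
  have hqq := h.sq hq
  have hyy := h.sq hy
  -- `q y q = p y p`
  have e1 : q * y * q = p * y * p := by
    have e2 : p * (y * (p * q)) * q = p * ((p * q) * y) * q := by rw [hc.eq]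
    have e3 : p * (y * (p * q)) * q = p * y * p * (q * q) := by group
    have e4 : p * ((p * q) * y) * q = (p * p) * (q * y * q) := by group
    rw [e3, e4, hqq, hpp, mul_one, one_mul] at e2
    exact e2.symm
  have b1 := h.braid hq hy (fun hc' => hyq hc'.symm)
  have b2 := h.braid hp hy (fun hc' => hyp hc'.symm)
  rw [b1, b2] at e1
  exact hpq (conj_inv_cancel e1).symm

/-- `y` commuting with `p q` commutes with `p` -/
theorem TT.commute_of_commute_mul (h : TT D) {y p q : G} (hy : y ∈ D) (hp : p ∈ D) (hq : q ∈ D)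
    (hpq : p ≠ q) (hc : Commute y (p * q)) : Commute y p := by
  by_contra h1
  by_cases h2 : Commute y q
  · apply h1
    have e1 : y * (p * q) = (p * q) * y := hc.eq
    have e2 : y * p * q = p * y * q := by
      calc y * p * q = y * (p * q) := by group
        _ = p * q * y := e1
        _ = p * (q * y) := by group
        _ = p * (y * q) := by rw [h2.eq]
        _ = p * y * q := by group
    exact mul_right_cancel e2
  · exact h.not_commute_mul hy hp hq h1 h2 hpq hc

/-- the members of a cyclic group of order three -/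
theorem mem_zpowers_three {z g : G} (hz : orderOf z = 3) (hg : g ∈ Subgroup.zpowers z) :
    g = 1 ∨ g = z ∨ g = z⁻¹ := by
  obtain ⟨n, rfl⟩ := Subgroup.mem_zpowers_iff.mp hg
  have hz3 : z ^ (3 : ℤ) = 1 := by
    have := pow_orderOf_eq_one z
    rw [hz] at this
    exact_mod_cast this
  have hn : n = 3 * (n / 3) + n % 3 := (Int.mul_ediv_add_emod n 3).symm
  have h0 : 0 ≤ n % 3 := Int.emod_nonneg n (by norm_num)
  have h3 : n % 3 < 3 := Int.emod_lt_of_pos n (by norm_num)
  rw [hn, zpow_add, zpow_mul, hz3, one_zpow, one_mul]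
  have : n % 3 = 0 ∨ n % 3 = 1 ∨ n % 3 = 2 := by omega
  rcases this with e | e | e
  · left; rw [e, zpow_zero]
  · right; left; rw [e, zpow_one]
  · right; right
    rw [e]
    have e2 : z ^ (2 : ℤ) * z = 1 := by
      rw [← zpow_add_one]; exact hz3
    exact eq_inv_of_mul_eq_one_left e2

theorem TT.not_commute_zpowers (h : TT D) {y p q : G} (hy : y ∈ D) (hp : p ∈ D) (hq : q ∈ D)
    (hyp : ¬ Commute y p) (hyq : ¬ Commute y q) (hpq : ¬ Commute p q) {g : G}
    (hg : g ∈ Subgroup.zpowers (p * q)) (hg1 : g ≠ 1) : ¬ Commute y g := by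
  have hne : p ≠ q := by
    intro e; apply hpq; rw [e]
  have hn := h.not_commute_mul hy hp hq hyp hyq hne
  rcases mem_zpowers_three (h.orderOf_mul hp hq hpq) hg with e | e | e
  · exact (hg1 e).elim
  · rw [e]; exact hn
  · rw [e]
    intro hc
    exact hn (by simpa using hc.inv_right)

variable {d x a b : G}

/-- with a member outside the component, `D` is a single class in `⟨D⟩` -/
theorem K33.single_class (h : LS D) (k : K33 D d x a b) {e : G} (he : e ∈ D)
    (heX : ∀ y ∈ D, (Commute y a ∨ Commute y d) → ¬ Commute e y) :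
    ∀ y ∈ D, ∀ y' ∈ D, ∃ g ∈ Subgroup.closure D, g * y * g⁻¹ = y' := by
  have hT := h.toTT
  have key : ∀ y ∈ D, ∃ g ∈ Subgroup.closure D, g * d * g⁻¹ = y := by
    intro y hy
    by_cases hdy : Commute d y
    · have h1 : ¬ Commute e y := heX y hy (Or.inr hdy.symm)
      have h2 : ¬ Commute e d := heX d k.hd (Or.inr (Commute.refl d))
      have h3 : ¬ Commute d e := fun hc => h2 hc.symm
      refine ⟨(e * y) * (d * e), ?_, ?_⟩
      · exact Subgroup.mul_mem _
          (Subgroup.mul_mem _ (Subgroup.subset_closure he) (Subgroup.subset_closure hy))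
          (Subgroup.mul_mem _ (Subgroup.subset_closure k.hd) (Subgroup.subset_closure he))
      · have e1 := hT.conj_of_not_commute k.hd he h3
        have e2 := hT.conj_of_not_commute he hy h1
        calc (e * y) * (d * e) * d * ((e * y) * (d * e))⁻¹
            = (e * y) * ((d * e) * d * (d * e)⁻¹) * (e * y)⁻¹ := by group
          _ = y := by rw [e1, e2]
    · refine ⟨d * y, Subgroup.mul_mem _ (Subgroup.subset_closure k.hd)
        (Subgroup.subset_closure hy), hT.conj_of_not_commute k.hd hy hdy⟩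
  intro y hy y' hy'
  obtain ⟨g, hg, rfl⟩ := key y hy
  obtain ⟨g', hg', rfl⟩ := key y' hy'
  refine ⟨g' * g⁻¹, Subgroup.mul_mem _ hg' (Subgroup.inv_mem _ hg), ?_⟩
  group

variable [Finite G]

/-- the two elements of order three of the component lie in the `3`-core -/
theorem K33.mem_N (h : LS D) (k : K33 D d x a b)
    (hcl : ∀ y ∈ D, ∀ y' ∈ D, ∃ g ∈ Subgroup.closure D, g * y * g⁻¹ = y') :
    d * x ∈ pCoreOf 3 (Subgroup.closure D) ∧ a * b ∈ pCoreOf 3 (Subgroup.closure D) := by
  have hT := h.toTT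
  have hD2 : ∃ a' ∈ D, ∃ b' ∈ D, a' ≠ b' := ⟨d, k.hd, a, k.ha, k.ne_da.symm⟩
  constructor
  · have := hT.mem_pCoreOf_of_Dp_eq hcl hD2 k.hd k.hx (k.Dp_x h).symm
    rwa [hT.inv k.hd] at this
  · have := hT.mem_pCoreOf_of_Dp_eq hcl hD2 k.ha k.hb (k.symm.Dp_x h).symm
    rwa [hT.inv k.ha] at this

/-- the `3`-core is the product of the two groups of order three -/
theorem K33.decomp (h : LS D) (k : K33 D d x a b)
    (hcl : ∀ y ∈ D, ∀ y' ∈ D, ∃ g ∈ Subgroup.closure D, g * y * g⁻¹ = y')
    (hO3 : Nat.card ↥(pCore 3 ↥(Subgroup.centralizer ({d} : Set G))) = 3) :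
    ∀ g ∈ pCoreOf 3 (Subgroup.closure D), ∃ u ∈ Subgroup.zpowers (d * x),
      ∃ v ∈ Subgroup.zpowers (a * b), g = u * v := by
  have hT := h.toTT
  haveI := hT.pCoreOf_normal
  have hN3 : IsPGroup 3 ↥(pCoreOf 3 (Subgroup.closure D)) :=
    Cfsg.Agent.Lib.Helper6.pCoreOf_isPGroup 3 _
  have hD2 : ∃ a' ∈ D, ∃ b' ∈ D, a' ≠ b' := ⟨d, k.hd, a, k.ha, k.ne_da.symm⟩
  obtain ⟨hzaN, hzdN⟩ := k.mem_N h hcl
  have hdd := hT.sq k.hd
  have hxx := hT.sq k.hx
  have hcen : ∀ g ∈ pCoreOf 3 (Subgroup.closure D), Commute d g → g ∈ Subgroup.zpowers (a * b) :=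
    mem_zpowers_of_card _ hN3 hO3 hzdN (k.hda.mul_right k.hdb) (hT.orderOf_mul k.ha k.hb k.hab)
  have hbr := hT.braid k.hd k.hx k.hdx
  intro g hg
  have hyD : g * d * g⁻¹ ∈ D := hT.hconj g d k.hd
  have hDp := hT.Dp_conj_pCoreOf hcl hD2 k.hd hg
  have h1 : a ∈ Dp D (g * d * g⁻¹) := by rw [hDp]; exact k.a_mem
  have h2 : g * d * g⁻¹ ∈ Dp D a := ⟨hyD, fun e => h1.2.1 e.symm, h1.2.2.symm⟩
  rw [k.symm.Dp_d h] at h2
  rcases h2 with e | e | e
  · refine ⟨1, Subgroup.one_mem _, g, ?_, (one_mul g).symm⟩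
    apply hcen g hg
    show d * g = g * d
    have : g * d * g⁻¹ * g = d * g := by rw [e]
    rw [← this]; group
  · -- `g d g⁻¹ = x = (d x) d (d x)⁻¹`
    refine ⟨d * x, Subgroup.mem_zpowers _, (d * x)⁻¹ * g, ?_, by group⟩
    apply hcen _ (Subgroup.mul_mem _ (Subgroup.inv_mem _ hzaN) hg)
    show d * ((d * x)⁻¹ * g) = (d * x)⁻¹ * g * d
    have e1 : g * d = x * g := by
      have : g * d * g⁻¹ * g = x * g := by rw [e]
      rw [← this]; group
    rw [mul_inv_rev, hT.inv k.hd, hT.inv k.hx]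
    calc d * (x * d * g) = (d * x * d) * g := by group
      _ = (x * d * x) * g := by rw [hbr]
      _ = x * d * (x * g) := by group
      _ = x * d * (g * d) := by rw [e1]
      _ = x * d * g * d := by group
  · -- `g d g⁻¹ = d x d = (d x)⁻¹ d (d x)`
    refine ⟨(d * x)⁻¹, Subgroup.inv_mem _ (Subgroup.mem_zpowers _), (d * x) * g, ?_, by group⟩
    apply hcen _ (Subgroup.mul_mem _ hzaN hg)
    show d * ((d * x) * g) = (d * x) * g * d
    have e1 : g * d = d * x * d * g := by
      have : g * d * g⁻¹ * g = d * x * d * g := by rw [e]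
      rw [← this]; group
    have lhs : d * (d * x * g) = x * g := by
      calc d * (d * x * g) = (d * d) * x * g := by group
        _ = x * g := by rw [hdd, one_mul]
    have rhs : d * x * g * d = x * g := by
      calc d * x * g * d = d * x * (g * d) := by group
        _ = d * x * (d * x * d * g) := by rw [e1]
        _ = (d * x * d) * (x * d * g) := by group
        _ = (x * d * x) * (x * d * g) := by rw [hbr]
        _ = x * d * (x * x) * d * g := by group
        _ = x * (d * d) * g := by rw [hxx, mul_one]; group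
        _ = x * g := by rw [hdd, mul_one]
    rw [lhs, rhs]

end Cfsg.Agent.H9TT
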