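import Mathlib
import Cfsg.Prelude
import Cfsg.Agent.Lib.Helper9.TL5

set_option autoImplicit false

/-!
# Three-transpositions with local `S_3`: no member outside a `K_{3,3}` component
-/

namespace Cfsg.Agent.H9TT

open Cfsg Cfsg.Agent.Lib.Helper9

variable {G : Type*} [Group G] {D : Set G} {d x a b : G}

/-- conjugation by `d` inverts the powers of `d x` -/
theorem conj_inv_of_mem_zpowers {d x u : G} (hdd : d * d = 1) (hxx : x * x = 1)
    (hu : u ∈ Subgroup.zpowers (d * x)) : d * u * d = u⁻¹ := by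
  obtain ⟨n, rfl⟩ := Subgroup.mem_zpowers_iff.mp hu
  have hdi : d⁻¹ = d := inv_eq_of_mul_eq_one_right hdd
  have hxi : x⁻¹ = x := inv_eq_of_mul_eq_one_right hxx
  have e1 : d * (d * x) ^ n * d = (d * (d * x) * d⁻¹) ^ n := by
    rw [conj_zpow, hdi]
  rw [e1, ← inv_zpow]
  congr 1
  rw [mul_inv_rev, hdi, hxi]
  calc d * (d * x) * d = (d * d) * x * d := by group
    _ = x * d := by rw [hdd, one_mul]

/-- an involution commuting with a generator centralises the powers -/
theorem conj_eq_of_mem_zpowers {d z v : G} (hdd : d * d = 1) (hc : Commute d z)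
    (hv : v ∈ Subgroup.zpowers z) : d * v * d = v := by
  obtain ⟨n, rfl⟩ := Subgroup.mem_zpowers_iff.mp hv
  exact conj_eq_of_commute hdd (hc.zpow_right n).symm

variable [Finite G]

/-- a `K_{3,3}` component is the whole of `D` -/
theorem K33.false_of_outside (h : LS D) (k : K33 D d x a b)
    (hO3 : ∀ u ∈ D, Nat.card ↥(pCore 3 ↥(Subgroup.centralizer ({u} : Set G))) = 3) {e : G}
    (he : e ∈ D) (heX : ∀ y ∈ D, (Commute y a ∨ Commute y d) → ¬ Commute e y) : False := by
  have hT := h.toTT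
  have hcl := k.single_class h he heX
  have hdd := hT.sq k.hd
  have hxx := hT.sq k.hx
  have hee := hT.sq he
  have hed : ¬ Commute e d := heX d k.hd (Or.inr (Commute.refl d))
  have hex : ¬ Commute e x := heX x k.hx (Or.inl k.hxa)
  have hea : ¬ Commute e a := heX a k.ha (Or.inl (Commute.refl a))
  have heb : ¬ Commute e b := heX b k.hb (Or.inr k.hdb.symm)
  have hde : ¬ Commute d e := fun hc => hed hc.symm
  -- the conjugate configuration at `e`
  obtain ⟨e', f₁, f₂, k'⟩ : ∃ e' f₁ f₂ : G, K33 D e e' f₁ f₂ := by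
    have h1 := k.conj hT (d * e)
    rw [hT.conj_of_not_commute k.hd he hde] at h1
    exact ⟨_, _, _, h1⟩
  have he'e' := hT.sq k'.hx
  -- members commuting with `e` commute with nothing in the component
  have comp : ∀ y ∈ D, Commute e y → ∀ t ∈ D, (Commute t a ∨ Commute t d) → ¬ Commute y t := by
    intro y hy hey t ht htX hyt
    exact heX y hy (k.closed h ht htX hy hyt) hey
  have hf₁ := comp f₁ k'.ha k'.hda
  have hf₁d : ¬ Commute f₁ d := hf₁ d k.hd (Or.inr (Commute.refl d))
  have hf₁x : ¬ Commute f₁ x := hf₁ x k.hx (Or.inl k.hxa)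
  have hf₁a : ¬ Commute f₁ a := hf₁ a k.ha (Or.inl (Commute.refl a))
  have hf₁b : ¬ Commute f₁ b := hf₁ b k.hb (Or.inr k.hdb.symm)
  -- the four elements of order three
  obtain ⟨hzfN, hzeN⟩ := k'.mem_N h hcl
  have dec := k.decomp h hcl (hO3 d k.hd)
  obtain ⟨u, hu, v, hv, huv⟩ := dec _ hzeN
  obtain ⟨u', hu', v', hv', huv'⟩ := dec _ hzfN
  have hoa : orderOf (d * x) = 3 := hT.orderOf_mul k.hd k.hx k.hdx
  have hod : orderOf (a * b) = 3 := hT.orderOf_mul k.ha k.hb k.hab
  have hoe : orderOf (f₁ * f₂) = 3 := hT.orderOf_mul k'.ha k'.hb k'.hab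
  have hof : orderOf (e * e') = 3 := hT.orderOf_mul k'.hd k'.hx k'.hdx
  have hze1 : f₁ * f₂ ≠ 1 := by
    intro e1
    rw [e1, orderOf_one] at hoe
    omega
  have hzf1 : e * e' ≠ 1 := by
    intro e1
    rw [e1, orderOf_one] at hof
    omega
  -- `e` centralises `f₁ f₂` and `f₁` centralises `e e'`
  have hc_e : Commute e (f₁ * f₂) := k'.hda.mul_right k'.hdb
  have hc_f : Commute f₁ (e * e') := k'.hda.symm.mul_right k'.hxa.symm
  -- the components are nontrivial
  have hu1 : u ≠ 1 := by
    intro e1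
    rw [e1, one_mul] at huv
    have hv1 : v ≠ 1 := by rw [← huv]; exact hze1
    apply hT.not_commute_zpowers he k.ha k.hb hea heb k.hab hv hv1
    rw [← huv]; exact hc_e
  have hv1 : v ≠ 1 := by
    intro e1
    rw [e1, mul_one] at huv
    have hu1' : u ≠ 1 := by rw [← huv]; exact hze1
    apply hT.not_commute_zpowers he k.hd k.hx hed hex k.hdx hu hu1'
    rw [← huv]; exact hc_e
  have hu'1 : u' ≠ 1 := by
    intro e1
    rw [e1, one_mul] at huv'
    have hv1' : v' ≠ 1 := by rw [← huv']; exact hzf1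
    apply hT.not_commute_zpowers k'.ha k.ha k.hb hf₁a hf₁b k.hab hv' hv1'
    rw [← huv']; exact hc_f
  have hv'1 : v' ≠ 1 := by
    intro e1
    rw [e1, mul_one] at huv'
    have hu1' : u' ≠ 1 := by rw [← huv']; exact hzf1
    apply hT.not_commute_zpowers k'.ha k.hd k.hx hf₁d hf₁x k.hdx hu' hu1'
    rw [← huv']; exact hc_f
  -- the components agree up to inversion
  have two : ∀ {z s t : G}, orderOf z = 3 → s ∈ Subgroup.zpowers z → t ∈ Subgroup.zpowers z →
      s ≠ 1 → t ≠ 1 → t = s ∨ t = s⁻¹ := by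
    intro z s t hz hs ht hs1 ht1
    rcases mem_zpowers_three hz hs with e1 | e1 | e1
    · exact (hs1 e1).elim
    · rcases mem_zpowers_three hz ht with e2 | e2 | e2
      · exact (ht1 e2).elim
      · left; rw [e1, e2]
      · right; rw [e1, e2]
    · rcases mem_zpowers_three hz ht with e2 | e2 | e2
      · exact (ht1 e2).elim
      · right; rw [e1, e2, inv_inv]
      · left; rw [e1, e2]
  have hcuv : ∀ s ∈ Subgroup.zpowers (d * x), ∀ t ∈ Subgroup.zpowers (a * b), Commute s t := by
    intro s hs t ht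
    obtain ⟨n, rfl⟩ := Subgroup.mem_zpowers_iff.mp hs
    obtain ⟨m, rfl⟩ := Subgroup.mem_zpowers_iff.mp ht
    apply Commute.zpow_zpow
    exact (k.hda.mul_right k.hdb).mul_left (k.hxa.mul_right k.hxb)
  -- the two contradictions
  have caseA : Commute e (e * e') → False := by
    intro hc
    have e1 : e * (e * e') * e = e * e' := conj_eq_of_commute hee hc.symm
    have e2 : e * (e * e') * e = e' * e := by
      calc e * (e * e') * e = (e * e) * e' * e := by group
        _ = e' * e := by rw [hee, one_mul]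
    rw [e2] at e1
    -- `e' e = e e'` contradicts non-commuting
    exact k'.hdx e1.symm
  have caseB : Commute f₁ (d * (f₁ * f₂) * d) → False := by
    intro hc
    have h1 : Commute (d * f₁ * d) (f₁ * f₂) := by
      have h2 : Commute (d * f₁ * d) (d * (d * (f₁ * f₂) * d) * d) := by
        show _ * _ = _ * _
        have e1 : d * f₁ * d * (d * (d * (f₁ * f₂) * d) * d) =
            d * (f₁ * (d * d) * (d * (f₁ * f₂) * d)) * d := by group
        have e2 : d * (d * (f₁ * f₂) * d) * d * (d * f₁ * d) =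
            d * ((d * (f₁ * f₂) * d) * (d * d) * f₁) * d := by group
        rw [e1, e2, hdd, mul_one, mul_one, hc.eq]
      rwa [conj_conj_inv hdd] at h2
    have h3 : Commute (d * f₁ * d) f₁ :=
      hT.commute_of_commute_mul (hT.third_mem k.hd k'.ha) k'.ha k'.hb k'.ne_ab h1
    -- braid: `d f₁ d = f₁ d f₁`
    have hbr := hT.braid k.hd k'.ha (fun hc' => hf₁d hc'.symm)
    rw [hbr] at h3
    apply hf₁d
    have h4 : f₁ * (f₁ * d * f₁) * f₁ = f₁ * d * f₁ :=
      conj_eq_of_commute (hT.sq k'.ha) h3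
    rw [conj_conj_inv (hT.sq k'.ha)] at h4
    -- `d = f₁ d f₁`
    show f₁ * d = d * f₁
    calc f₁ * d = f₁ * d * (f₁ * f₁) := by rw [hT.sq k'.ha, mul_one]
      _ = (f₁ * d * f₁) * f₁ := by group
      _ = d * f₁ := by rw [← h4]
  have hdu : d * u * d = u⁻¹ := conj_inv_of_mem_zpowers hdd hxx hu
  have hdv : d * v * d = v := conj_eq_of_mem_zpowers hdd (k.hda.mul_right k.hdb) hv
  have hduv : d * (u * v) * d = u⁻¹ * v := by
    have e1 : (d * u * d) * (d * v * d) = d * (u * (d * d) * v) * d := by group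
    rw [hdd, mul_one, hdu, hdv] at e1
    exact e1.symm
  have huvc : Commute u v := hcuv u hu v hv
  rcases two hoa hu hu' hu1 hu'1 with eu | eu <;> rcases two hod hv hv' hv1 hv'1 with ev | ev
  · -- `e e' = f₁ f₂`
    apply caseA
    rw [huv', eu, ev, ← huv]
    exact hc_e
  · -- `e e' = u v⁻¹ = (d (f₁ f₂) d)⁻¹`
    apply caseB
    have e1 : d * (f₁ * f₂) * d = (e * e')⁻¹ := by
      rw [huv, hduv, huv', eu, ev, mul_inv_rev, inv_inv]
      exact (huvc.inv_left).eq
    rw [e1]
    exact hc_f.inv_right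
  · -- `e e' = u⁻¹ v = d (f₁ f₂) d`
    apply caseB
    have e1 : d * (f₁ * f₂) * d = e * e' := by
      rw [huv, hduv, huv', eu, ev]
    rw [e1]
    exact hc_f
  · -- `e e' = u⁻¹ v⁻¹ = (f₁ f₂)⁻¹`
    apply caseA
    have e1 : e * e' = (f₁ * f₂)⁻¹ := by
      rw [huv', eu, ev, huv, mul_inv_rev]
      exact (huvc.inv_left.inv_right).eq
    rw [e1]
    exact hc_e.inv_right

end Cfsg.Agent.H9TT
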