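import Mathlib
import Cfsg.Prelude
import Cfsg.Agent.Lib.Helper9.TL6

set_option autoImplicit false

/-!
# Three-transpositions with local `S_3`: the group `S_3 × S_3`
-/

namespace Cfsg.Agent.H9TT

open Cfsg Cfsg.Agent.Lib.Helper9

variable {G : Type*} [Group G] {D : Set G} {d x a b : G}

/-- the internal direct product of two commuting subgroups with trivial intersection -/
theorem prod_equiv_sup (A B : Subgroup G) (hcomm : ∀ p ∈ A, ∀ q ∈ B, Commute p q)
    (hdisj : ∀ g : G, g ∈ A → g ∈ B → g = 1) : Nonempty (↥A × ↥B ≃* ↥(A ⊔ B)) := by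
  have comm : ∀ (m : ↥A) (n : ↥B), Commute (A.subtype m) (B.subtype n) :=
    fun m n => hcomm m.1 m.2 n.1 n.2
  have hinj : Function.Injective (MonoidHom.noncommCoprod A.subtype B.subtype comm) := by
    rw [injective_iff_map_eq_one]
    rintro ⟨p, q⟩ hpq
    rw [MonoidHom.noncommCoprod_apply] at hpq
    have hpq' : (p : G) * (q : G) = 1 := hpq
    have e1 : (p : G) = (q : G)⁻¹ := eq_inv_of_mul_eq_one_left hpq'
    have hp1 : (p : G) = 1 := hdisj _ p.2 (by rw [e1]; exact B.inv_mem q.2)
    have hq1 : (q : G) = 1 := by rw [hp1, one_mul] at hpq'; exact hpq'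
    ext
    · simpa using hp1
    · simpa using hq1
  have hrange : (MonoidHom.noncommCoprod A.subtype B.subtype comm).range = A ⊔ B := by
    rw [MonoidHom.noncommCoprod_range, Subgroup.range_subtype, Subgroup.range_subtype]
  exact ⟨(MonoidHom.ofInjective hinj).trans (MulEquiv.subgroupCongr hrange)⟩

theorem s3_center : ∀ s : Equiv.Perm (Fin 3), (∀ t : Equiv.Perm (Fin 3), s * t = t * s) → s = 1 := by
  decide

/-- a subgroup isomorphic to `S_3` has trivial centre -/
theorem eq_one_of_central_S3 (A : Subgroup G) (ψ : ↥A ≃* Equiv.Perm (Fin 3)) {g : G} (hg : g ∈ A)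
    (hc : ∀ p ∈ A, Commute g p) : g = 1 := by
  have h1 : ψ ⟨g, hg⟩ = 1 := by
    apply s3_center
    intro s
    obtain ⟨p, rfl⟩ := ψ.surjective s
    rw [← map_mul, ← map_mul]
    congr 1
    apply Subtype.ext
    exact (hc p.1 p.2).eq
  have h2 : (⟨g, hg⟩ : ↥A) = 1 := by
    apply ψ.injective
    rw [h1, map_one]
  exact congrArg Subtype.val h2

/-- if `D` is a `K_{3,3}` component then `⟨D⟩` is `S_3 × S_3` -/
theorem K33.iso (h : LS D) (k : K33 D d x a b)
    (hall : ∀ t ∈ D, Commute t a ∨ Commute t d)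
    (ψa : ↥(Subgroup.closure (Dp D a)) ≃* Equiv.Perm (Fin 3))
    (ψd : ↥(Subgroup.closure (Dp D d)) ≃* Equiv.Perm (Fin 3)) :
    Nonempty (↥(Subgroup.closure D) ≃* Equiv.Perm (Fin 3) × Equiv.Perm (Fin 3)) := by
  have hgen : ∀ s ∈ Dp D a, ∀ t ∈ Dp D d, Commute s t := by
    intro s hs t ht
    rw [k.symm.Dp_d h] at hs
    rcases hs with rfl | rfl | rfl
    · exact ht.2.2
    · rw [← k.Dp_x h] at ht
      exact ht.2.2
    · rw [← k.Dp_third h] at ht
      exact ht.2.2
  have hcomm : ∀ p ∈ Subgroup.closure (Dp D a), ∀ q ∈ Subgroup.closure (Dp D d), Commute p q := by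
    intro p hp q hq
    have h1 : Subgroup.closure (Dp D d) ≤ Subgroup.centralizer (Dp D a) := by
      rw [Subgroup.closure_le]
      intro t ht
      rw [SetLike.mem_coe, Subgroup.mem_centralizer_iff]
      intro s hs
      exact (hgen s hs t ht).eq
    have h2 : Subgroup.closure (Dp D a) ≤ Subgroup.centralizer ({q} : Set G) := by
      rw [Subgroup.closure_le]
      intro s hs
      rw [SetLike.mem_coe, Subgroup.mem_centralizer_singleton_iff]
      have := h1 hq
      rw [Subgroup.mem_centralizer_iff] at this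
      exact this s hs
    have := h2 hp
    rw [Subgroup.mem_centralizer_singleton_iff] at this
    exact this
  have hdisj : ∀ g : G, g ∈ Subgroup.closure (Dp D a) → g ∈ Subgroup.closure (Dp D d) → g = 1 := by
    intro g hga hgd
    apply eq_one_of_central_S3 _ ψa hga
    intro p hp
    exact (hcomm p hp g hgd).symm
  obtain ⟨ρ⟩ := prod_equiv_sup _ _ hcomm hdisj
  have hsup : Subgroup.closure (Dp D a) ⊔ Subgroup.closure (Dp D d) = Subgroup.closure D := by
    apply le_antisymm
    · apply sup_le
      · exact Subgroup.closure_mono (fun t ht => ht.1)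
      · exact Subgroup.closure_mono (fun t ht => ht.1)
    · rw [Subgroup.closure_le]
      intro t ht
      rcases hall t ht with hc | hc
      · by_cases e : t = a
        · rw [e]
          exact Subgroup.mem_sup_right (Subgroup.subset_closure k.a_mem)
        · exact Subgroup.mem_sup_left (Subgroup.subset_closure ⟨ht, e, hc.symm⟩)
      · by_cases e : t = d
        · rw [e]
          exact Subgroup.mem_sup_left (Subgroup.subset_closure k.symm.a_mem)
        · exact Subgroup.mem_sup_right (Subgroup.subset_closure ⟨ht, e, hc.symm⟩)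
  exact ⟨((MulEquiv.subgroupCongr hsup).symm.trans ρ.symm).trans (MulEquiv.prodCongr ψa ψd)⟩

end Cfsg.Agent.H9TT
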