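import Mathlib
import Cfsg.Prelude
import Cfsg.Agent.Lib.Helper9.TL8
import Cfsg.Agent.Lib.Helper9.TL7

set_option autoImplicit false

/-!
# Three-transpositions with local `S_3`: the group `S_5`
-/

namespace Cfsg.Agent.H9TT

open Cfsg Cfsg.Agent.Lib.Helper9

variable {G : Type*} [Group G] {D : Set G}

/-- without a second point commuting with the line of `d`, the group `⟨D⟩` is `S_5` -/
theorem LS.iso_S5 (h : LS D) {d a b : G} (hd : d ∈ D) (ha : a ∈ Dp D d) (hb : b ∈ Dp D d)
    (hab : ¬ Commute a b) (hno : ∀ x ∈ D, Commute x a → Commute x b → x = d) :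
    Nonempty (↥(Subgroup.closure D) ≃* Equiv.Perm (Fin 5)) := by
  have hT := h.toTT
  have hdd := hT.sq hd
  have haa := hT.sq ha.1
  have hbb := hT.sq hb.1
  have hcD : a * b * a ∈ D := hT.third_mem ha.1 hb.1
  have hne_ab : a ≠ b := by
    intro e; apply hab; rw [e]
  -- every member commutes with one of `d, a, b, c`
  have hcase : ∀ e ∈ D, Commute e d ∨ Commute e a ∨ Commute e b ∨ Commute e (a * b * a) := by
    intro e he
    by_contra hcon
    push Not at hcon
    obtain ⟨h1, h2, h3, h4⟩ := hcon
    obtain ⟨x, hx, hxd, hxa, hxb⟩ := h.exists_of_case0 hd ha hb hab he h1 h2 h3 h4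
    exact hxd (hno x hx hxa hxb)
  -- the second generator
  have hdb : d ∈ Dp D b := ⟨hd, fun e => hb.2.1 e.symm, hb.2.2.symm⟩
  obtain ⟨d', hd', hd'd⟩ : ∃ d' ∈ Dp D b, d' ≠ d := by
    obtain ⟨p, hp, q, hq, hpq⟩ := h.hpair b hb.1
    by_cases e : p = d
    · refine ⟨q, hq, ?_⟩
      intro e2
      apply hpq
      rw [e, e2]
    · exact ⟨p, hp, e⟩
  have hd'd' := hT.sq hd'.1
  have hdd' : ¬ Commute d d' := h.hnc b hb.1 d hdb d' hd' (fun e => hd'd e.symm)
  have hd'b : Commute d' b := hd'.2.2.symm
  have hd'a : ¬ Commute d' a := fun hc => hd'd (hno d' hd'.1 hc hd'b)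
  -- the homomorphism
  obtain ⟨φ, hφ⟩ := exists_hom_of_coxeter 4 ![d, d', a, b]
    (by
      intro i
      fin_cases i
      · exact hdd
      · exact hd'd'
      · exact haa
      · exact hbb)
    (by
      intro i j hij
      fin_cases i <;> fin_cases j <;> simp at hij
      · exact hT.cube hd hd'.1 hdd'
      · exact hT.cube hd'.1 ha.1 hd'a
      · exact hT.cube ha.1 hb.1 hab)
    (by
      intro i j hij
      fin_cases i <;> fin_cases j <;> simp at hij
      · exact ha.2.2
      · exact hb.2.2
      · exact hd'b)
  have h0 : φ (Equiv.swap 0 1) = d := hφ 0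
  have h1 : φ (Equiv.swap 1 2) = d' := hφ 1
  have h2 : φ (Equiv.swap 2 3) = a := hφ 2
  have h3 : φ (Equiv.swap 3 4) = b := hφ 3
  have hinj : Function.Injective φ := by
    apply injective_of_S5
    rw [h0, h1]
    exact fun e => hd'd e.symm
  -- the range
  have hrange : φ.range = Subgroup.closure D := by
    apply le_antisymm
    · rw [range_eq_closure, Subgroup.closure_le]
      rintro _ ⟨i, rfl⟩
      show φ (Equiv.swap i.castSucc i.succ) ∈ Subgroup.closure D
      rw [hφ i]
      apply Subgroup.subset_closure
      fin_cases i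
      · exact hd
      · exact hd'.1
      · exact ha.1
      · exact hb.1
    · rw [Subgroup.closure_le]
      have rd : d ∈ φ.range := ⟨_, h0⟩
      have rd' : d' ∈ φ.range := ⟨_, h1⟩
      have ra : a ∈ φ.range := ⟨_, h2⟩
      have rb : b ∈ φ.range := ⟨_, h3⟩
      have rc : a * b * a ∈ φ.range := φ.range.mul_mem (φ.range.mul_mem ra rb) ra
      -- members commuting with `b`
      have hB : ∀ t ∈ D, Commute t b → t ∈ φ.range := by
        intro t ht htb
        by_cases e : t = b
        · rw [e]; exact rb
        · have h4 : t ∈ Dp D b := ⟨ht, e, htb.symm⟩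
          rcases h.hthree b hb.1 d hdb d' hd' (fun e => hd'd e.symm) t h4 with e | e | e
          · rw [e]; exact rd
          · rw [e]; exact rd'
          · rw [e]; exact φ.range.mul_mem (φ.range.mul_mem rd rd') rd
      -- conjugating into that case
      have hconj : ∀ g ∈ φ.range, g * g = 1 → g ∈ D → ∀ t ∈ D, Commute t (g * b * g) →
          t ∈ φ.range := by
        intro g hg hgg hgD t ht htc
        have h5 : Commute (g * t * g) b := by
          have h6 : Commute (g * t * g) (g * (g * b * g) * g) := by
            show _ * _ = _ * _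
            have e1 : g * t * g * (g * (g * b * g) * g) = g * (t * (g * g) * (g * b * g)) * g := by
              group
            have e2 : g * (g * b * g) * g * (g * t * g) = g * ((g * b * g) * (g * g) * t) * g := by
              group
            rw [e1, e2, hgg, mul_one, mul_one, htc.eq]
          rwa [conj_conj_inv hgg] at h6
        have h7 := hB (g * t * g) (hT.third_mem hgD ht) h5
        have e3 : t = g * (g * t * g) * g := (conj_conj_inv hgg).symm
        rw [e3]
        exact φ.range.mul_mem (φ.range.mul_mem hg h7) hg
      intro e he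
      rcases hcase e he with hc | hc | hc | hc
      · by_cases e1 : e = d
        · rw [e1]; exact rd
        · have h4 : e ∈ Dp D d := ⟨he, e1, hc.symm⟩
          rcases h.hthree d hd a ha b hb hne_ab e h4 with e2 | e2 | e2
          · rw [e2]; exact ra
          · rw [e2]; exact rb
          · rw [e2]; exact rc
      · -- `a = c b c` with `c = a b a`
        apply hconj (a * b * a) rc (hT.sq hcD) hcD e he
        have e2 : (a * b * a) * b * (a * b * a) = a := by
          have hbr := hT.braid ha.1 hb.1 hab
          calc (a * b * a) * b * (a * b * a) = (b * a * b) * b * (b * a * b) := by rw [hbr]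
            _ = b * a * (b * b) * (b * a * b) := by group
            _ = b * (a * b * a) * b := by rw [hbb, mul_one]; group
            _ = b * (b * a * b) * b := by rw [hbr]
            _ = a := conj_conj_inv hbb
        rw [e2]; exact hc
      · exact hB e he hc
      · -- `c = a b a`
        exact hconj a ra haa ha.1 e he hc
  exact ⟨(MulEquiv.subgroupCongr hrange).symm.trans (MonoidHom.ofInjective hinj).symm⟩

end Cfsg.Agent.H9TT
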