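import Mathlib
import Cfsg.Agent.Lib.Helper6.TSU0
import Cfsg.Agent.Lib.Lead.TSU_CNT
import Cfsg.Agent.Lib.Helper9.NDU2_B
import Cfsg.Agent.Lib.Helper9.UPol9
import Cfsg.Agent.Lib.Helper9.SemiInv1
import Cfsg.Agent.Lib.Helper9.L3Fus19

/-!
# S5953 board, PK-R2POS and PK-R2NEG: elements of `SU_n(q)`, `q` odd, with scalar square and
totally singular `m`-spaces
-/

set_option autoImplicit false

namespace Cfsg.Agent.Lib.Helper6.TSU

open Module Matrix Cfsg.Agent.Lib.Helper2 Cfsg.Agent.Lib.Helper2.HermDecomp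
  Cfsg.Agent.Lib.Helper2.HermFrames Cfsg.Agent.Lib.Helper5.PSLCoset Cfsg.Agent.Lib.Helper9.UPol

section abstract

variable {F : Type*} [Field F] {σ : F ≃+* F} {V : Type*} [AddCommGroup V] [Module F V]
  {H : V → V → F}

theorem r2_mem_A (T : V →ₗ[F] V) (w : F) (x : V) :
    x ∈ LinearMap.ker (T - w • LinearMap.id) ↔ T x = w • x := by
  rw [LinearMap.mem_ker, LinearMap.sub_apply, LinearMap.smul_apply, LinearMap.id_apply,
    sub_eq_zero]

theorem r2_mem_B (T : V →ₗ[F] V) (w : F) (x : V) :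
    x ∈ LinearMap.ker (T + w • LinearMap.id) ↔ T x = (-w) • x := by
  rw [LinearMap.mem_ker, LinearMap.add_apply, LinearMap.smul_apply, LinearMap.id_apply,
    neg_smul, add_eq_zero_iff_eq_neg]

/-- the eigenspaces for `w` and `-w` of a map with `T² = w²` are complementary -/
theorem r2_isCompl (h2 : (2 : F) ≠ 0) (T : V →ₗ[F] V) (w : F) (hw : w ≠ 0)
    (hT2 : ∀ v, T (T v) = (w * w) • v) :
    IsCompl (LinearMap.ker (T - w • LinearMap.id)) (LinearMap.ker (T + w • LinearMap.id)) := by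
  constructor
  · rw [Submodule.disjoint_def]
    intro x hx hx'
    have h1 := (r2_mem_A T w x).1 hx
    have h3 := (r2_mem_B T w x).1 hx'
    have h4 : ((2 : F) * w) • x = 0 := by
      have : w • x = (-w) • x := by rw [← h1, h3]
      rw [neg_smul] at this
      rw [mul_smul, two_smul]
      nth_rewrite 2 [this]
      exact add_neg_cancel _
    rcases smul_eq_zero.1 h4 with h' | h'
    · exact absurd h' (mul_ne_zero h2 hw)
    · exact h'
  · rw [codisjoint_iff, Submodule.eq_top_iff']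
    intro v
    have hv : v = ((2 : F) * w)⁻¹ • (w • v + T v) + ((2 : F) * w)⁻¹ • (w • v - T v) := by
      rw [← smul_add]
      have : (w • v + T v) + (w • v - T v) = ((2 : F) * w) • v := by
        rw [mul_smul, two_smul]; abel
      rw [this, smul_smul, inv_mul_cancel₀ (mul_ne_zero h2 hw), one_smul]
    rw [hv]
    apply Submodule.add_mem_sup
    · apply Submodule.smul_mem
      rw [r2_mem_A, map_add, map_smul, hT2, smul_add, mul_smul, add_comm]
    · apply Submodule.smul_mem
      rw [r2_mem_B, map_sub, map_smul, hT2, neg_smul, smul_sub, mul_smul, neg_sub]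

/-- the determinant from the eigenspace dimensions -/
theorem r2_det [FiniteDimensional F V] (h2 : (2 : F) ≠ 0) (T : V →ₗ[F] V) (w : F) (hw : w ≠ 0)
    (hT2 : ∀ v, T (T v) = (w * w) • v) :
    LinearMap.det T = w ^ finrank F (LinearMap.ker (T - w • LinearMap.id)) *
      (-w) ^ finrank F (LinearMap.ker (T + w • LinearMap.id)) := by
  have hc := r2_isCompl h2 T w hw hT2
  set A := LinearMap.ker (T - w • LinearMap.id) with hAdef
  set B := LinearMap.ker (T + w • LinearMap.id) with hBdef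
  set e := Submodule.prodEquivOfIsCompl A B hc with he
  have hTe : T = (e : (A × B) →ₗ[F] V) ∘ₗ
      (LinearMap.prodMap (w • (LinearMap.id : A →ₗ[F] A)) ((-w) • (LinearMap.id : B →ₗ[F] B))) ∘ₗ
      (e.symm : V →ₗ[F] (A × B)) := by
    apply LinearMap.ext
    intro v
    obtain ⟨p, rfl⟩ := e.surjective v
    rw [LinearMap.comp_apply, LinearMap.comp_apply, LinearEquiv.coe_coe, LinearEquiv.coe_coe,
      LinearEquiv.symm_apply_apply, LinearMap.prodMap_apply, he,
      Submodule.coe_prodEquivOfIsCompl', Submodule.coe_prodEquivOfIsCompl', map_add,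
      (r2_mem_A T w p.1).1 p.1.2, (r2_mem_B T w p.2).1 p.2.2]
    simp
  rw [hTe, LinearMap.det_conj, LinearMap.det_prodMap, LinearMap.det_smul, LinearMap.det_smul]
  simp only [LinearMap.det_id, mul_one]

end abstract

section finite

variable {F : Type*} [Field F] [Fintype F] {q : ℕ} {σ : F ≃+* F} {V : Type*} [AddCommGroup V]
  [Module F V] {H : V → V → F}

/-- a nondegenerate subspace of dimension at least `2k` contains a totally singular subspace of
dimension `k` -/
theorem r2_exists_ts_sub [FiniteDimensional F V] (hF : Fintype.card F = q ^ 2)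
    (hσ : orderOf σ = 2) (hσq : ∀ a : F, σ a = a ^ q) (h : IsHerm σ H) {K : Submodule F V}
    (hK : ND H K) (k : ℕ) (hk : 2 * k ≤ finrank F K) :
    ∃ W : Submodule F V, W ≤ K ∧ TS H W ∧ finrank F W = k := by
  classical
  obtain ⟨p, hp⟩ := CharP.exists F
  have : CharP F p := hp
  have : Fact p.Prime := ⟨CharP.char_is_prime F p⟩
  obtain ⟨b, hb⟩ := exists_onb (V := K) (H := fun x y : K => H (x : V) (y : V)) hσ
    (isHerm_restrict h K)
    (by
      intro u hu
      apply Subtype.ext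
      apply hK u u.2
      intro v hv
      exact hu ⟨v, hv⟩) (k := finrank F K) rfl
  have hform : ∀ u v : K, H (u : V) (v : V) =
      Cfsg.hermForm (finrank F K) F q (b.equivFun u) (b.equivFun v) := by
    intro u v
    have := form_eq_sum (V := K) (H := fun x y : K => H (x : V) (y : V)) (isHerm_restrict h K) b hb
      u v
    rw [this]
    unfold Cfsg.hermForm
    apply Finset.sum_congr rfl
    intro i _
    rw [hσq]
    rfl
  obtain ⟨W₀, hW₀d, hW₀⟩ := exists_ts hF (finrank F K) k hk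
  refine ⟨(W₀.map (b.equivFun.symm : (Fin (finrank F K) → F) →ₗ[F] K)).map K.subtype, ?_, ?_, ?_⟩
  · rintro _ ⟨y, -, rfl⟩
    exact y.2
  · rintro _ ⟨y, ⟨c, hc, rfl⟩, rfl⟩ _ ⟨y', ⟨c', hc', rfl⟩, rfl⟩
    rw [Submodule.subtype_apply, Submodule.subtype_apply, hform]
    simp only [LinearEquiv.coe_coe, LinearEquiv.apply_symm_apply]
    exact hW₀ c hc c' hc'
  · rw [Submodule.finrank_map_subtype_eq, LinearEquiv.finrank_map_eq, hW₀d]

/-- `w σ(w) = 1`: totally singular invariant subspaces of dimension up to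
`⌊a₊/2⌋ + ⌊a₋/2⌋` -/
theorem r2_fix_pos [FiniteDimensional F V] (hF : Fintype.card F = q ^ 2) (h2 : (2 : F) ≠ 0)
    (hσ : orderOf σ = 2) (hσq : ∀ a : F, σ a = a ^ q) (h : IsHerm σ H)
    (hnd : ∀ v, (∀ w, H v w = 0) → v = 0) (T : V →ₗ[F] V) (hT : ∀ u v, H (T u) (T v) = H u v)
    (w : F) (hw1 : w * σ w = 1) (hT2 : ∀ v, T (T v) = (w * w) • v) (m : ℕ)
    (hm : m ≤ finrank F (LinearMap.ker (T - w • LinearMap.id)) / 2 +
      finrank F (LinearMap.ker (T + w • LinearMap.id)) / 2) : FixTS H T m := by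
  have hw : w ≠ 0 := by
    rintro rfl
    rw [zero_mul] at hw1
    exact zero_ne_one hw1
  have hc := r2_isCompl h2 T w hw hT2
  set A := LinearMap.ker (T - w • LinearMap.id) with hAdef
  set B := LinearMap.ker (T + w • LinearMap.id) with hBdef
  have horth : ∀ u ∈ A, ∀ v ∈ B, H u v = 0 := by
    intro u hu v hv
    have h1 := hT u v
    rw [(r2_mem_A T w u).1 hu, (r2_mem_B T w v).1 hv, h.smul_left, h.smul_right, map_neg,
      ← mul_assoc, mul_neg, hw1] at h1
    have h3 : (2 : F) * H u v = 0 := by linear_combination -h1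
    exact (mul_eq_zero.1 h3).resolve_left h2
  have hAnd : ND H A := by
    intro u hu hu'
    apply hnd
    intro v
    have hv' : v ∈ A ⊔ B := by rw [hc.sup_eq_top]; trivial
    obtain ⟨a, ha, b, hb, rfl⟩ := Submodule.mem_sup.1 hv'
    rw [h.add_right, hu' a ha, horth u hu b hb, add_zero]
  have hBnd : ND H B := by
    intro u hu hu'
    apply hnd
    intro v
    have hv' : v ∈ A ⊔ B := by rw [hc.sup_eq_top]; trivial
    obtain ⟨a, ha, b, hb, rfl⟩ := Submodule.mem_sup.1 hv'
    rw [h.add_right, hu' b hb, eq_zero_of_symm h (horth a ha u hu), add_zero]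
  obtain ⟨k₁, k₂, hk₁, hk₂, hkm⟩ : ∃ k₁ k₂ : ℕ, 2 * k₁ ≤ finrank F A ∧ 2 * k₂ ≤ finrank F B ∧
      k₁ + k₂ = m := by
    refine ⟨min m (finrank F A / 2), m - min m (finrank F A / 2), ?_, ?_, ?_⟩ <;> omega
  obtain ⟨W₁, hW₁A, hW₁, hW₁d⟩ := r2_exists_ts_sub hF hσ hσq h hAnd k₁ hk₁
  obtain ⟨W₂, hW₂B, hW₂, hW₂d⟩ := r2_exists_ts_sub hF hσ hσq h hBnd k₂ hk₂
  refine ⟨W₁ ⊔ W₂, ?_, ?_, ?_⟩
  · have hdisj : W₁ ⊓ W₂ = ⊥ := by
      rw [eq_bot_iff, ← hc.inf_eq_bot]
      exact inf_le_inf hW₁A hW₂B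
    have h3 := Submodule.finrank_sup_add_finrank_inf_eq W₁ W₂
    rw [hdisj, finrank_bot, add_zero] at h3
    rw [h3, hW₁d, hW₂d, hkm]
  · exact ts_sup h hW₁ hW₂ (fun u hu v hv => horth u (hW₁A hu) v (hW₂B hv))
  · rw [Submodule.map_le_iff_le_comap]
    intro u hu
    obtain ⟨a, ha, b, hb, rfl⟩ := Submodule.mem_sup.1 hu
    rw [Submodule.mem_comap, map_add, (r2_mem_A T w a).1 (hW₁A ha),
      (r2_mem_B T w b).1 (hW₂B hb)]
    exact Submodule.add_mem_sup (W₁.smul_mem _ ha) (W₂.smul_mem _ hb)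

end finite

section r2

variable {F : Type*} [Field F] [Fintype F] {q : ℕ}

theorem fixTS_of_sq_su (hF : Fintype.card F = q ^ 2) (hodd : Odd q) (n m : ℕ) (hmn : 2 * m ≤ n)
    (hcond : 2 * m < n ∨ padicValNat 2 (q + 1) ≤ padicValNat 2 n)
    (x : Matrix.SpecialLinearGroup (Fin n) F) (hx : x ∈ Cfsg.SU n F q) (z : F)
    (hxz : ((x ^ 2 : Matrix.SpecialLinearGroup (Fin n) F) : Matrix (Fin n) (Fin n) F) =
      z • (1 : Matrix (Fin n) (Fin n) F)) :
    FixTS (Cfsg.hermForm n F q) (Matrix.toLin' (x : Matrix (Fin n) (Fin n) F)) m := by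
  rcases Nat.eq_zero_or_pos m with rfl | hm0
  · exact ⟨⊥, finrank_bot F _, fun u hu => by
      rw [(Submodule.mem_bot F).1 hu]
      intro v _
      obtain ⟨σ, -, -, h, -⟩ := exists_data hF n
      exact h.zero_left v, by rw [Submodule.map_bot]⟩
  have h2 := two_ne_zero_of_odd hF hodd
  obtain ⟨σ, hσ, hσq, h, hnd⟩ := exists_data hF n
  have hfr : finrank F (Fin n → F) = n := Module.finrank_fin_fun F
  have hT : ∀ u v : Fin n → F, Cfsg.hermForm n F q
      (Matrix.toLin' (x : Matrix (Fin n) (Fin n) F) u)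
      (Matrix.toLin' (x : Matrix (Fin n) (Fin n) F) v) = Cfsg.hermForm n F q u v := by
    intro u v
    rw [Matrix.toLin'_apply, Matrix.toLin'_apply]
    exact hx u v
  have hT2 : ∀ v : Fin n → F, Matrix.toLin' (x : Matrix (Fin n) (Fin n) F)
      (Matrix.toLin' (x : Matrix (Fin n) (Fin n) F) v) = z • v := by
    intro v
    rw [Matrix.toLin'_apply, Matrix.toLin'_apply, Matrix.mulVec_mulVec, ← pow_two,
      ← Matrix.SpecialLinearGroup.coe_pow, hxz, Matrix.smul_mulVec, Matrix.one_mulVec]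
  have hz := Cfsg.Agent.Lib.Helper9.NDU2.norm_z h hnd _ hT z hT2 (by rw [hfr]; omega)
  obtain ⟨w, rfl⟩ := Cfsg.Agent.Lib.Helper9.NDU2.exists_sqrt_of_norm_one hF hσq z hz
  obtain ⟨hw0, hc⟩ := Cfsg.Agent.Lib.Helper9.NDU2.norm_sq h hnd _ hT w hT2 (by rw [hfr]; omega)
  set T := Matrix.toLin' (x : Matrix (Fin n) (Fin n) F) with hTdef
  rcases hc with hc | hc
  · -- orthogonal eigenspaces
    apply r2_fix_pos hF h2 hσ hσq h hnd T hT w hc hT2 m
    have hcompl := r2_isCompl h2 T w hw0 hT2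
    have d3 := Submodule.finrank_sup_add_finrank_inf_eq (LinearMap.ker (T - w • LinearMap.id))
      (LinearMap.ker (T + w • LinearMap.id))
    rw [hcompl.sup_eq_top, hcompl.inf_eq_bot, finrank_bot, add_zero, finrank_top, hfr] at d3
    rcases hcond with hlt | hval
    · omega
    · -- both eigenspaces have even dimension
      have hdet := r2_det h2 T w hw0 hT2
      rw [hTdef, LinearMap.det_toLin', x.det_coe] at hdet
      rw [← hTdef] at hdet
      set a := finrank F (LinearMap.ker (T - w • LinearMap.id)) with ha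
      set b := finrank F (LinearMap.ker (T + w • LinearMap.id)) with hb
      have hbe : Even b := by
        by_contra hbo
        rw [Nat.not_even_iff_odd] at hbo
        have h5 : w ^ n = -1 := by
          rw [d3, pow_add]
          have : (-w) ^ b = -(w ^ b) := hbo.neg_pow w
          rw [this] at hdet
          linear_combination hdet
        exact no_w hF hodd (by omega) hval w (by rw [← hσq]; exact hc) h5
      obtain ⟨b', hb'⟩ := hbe
      omega
  · -- totally singular eigenspaces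
    obtain ⟨hA, hB, hcompl⟩ := Cfsg.Agent.Lib.Helper9.NDU2.eig_of_neg h2 h T hT w hw0 hT2 hc
    have d1 := ts_finrank_le hσ h hnd (nd_top hnd)
      (le_top : LinearMap.ker (T - w • LinearMap.id) ≤ ⊤) hA
    have d2 := ts_finrank_le hσ h hnd (nd_top hnd)
      (le_top : LinearMap.ker (T + w • LinearMap.id) ≤ ⊤) hB
    have d3 := Submodule.finrank_sup_add_finrank_inf_eq (LinearMap.ker (T - w • LinearMap.id))
      (LinearMap.ker (T + w • LinearMap.id))
    rw [hcompl.sup_eq_top, hcompl.inf_eq_bot, finrank_bot, add_zero, finrank_top, hfr] at d3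
    rw [finrank_top, hfr] at d1 d2
    obtain ⟨W, hWA, hWd⟩ := Cfsg.Agent.H9SemiInv.exists_sub_finrank
      (LinearMap.ker (T - w • LinearMap.id)) m (by omega)
    refine ⟨W, hWd, fun u hu v hv => hA u (hWA hu) v (hWA hv), ?_⟩
    rw [Submodule.map_le_iff_le_comap]
    intro u hu
    rw [Submodule.mem_comap, (r2_mem_A T w u).1 (hWA hu)]
    exact W.smul_mem _ hu

omit [Fintype F] in
theorem r2_herm_single_right {n : ℕ} (hq0 : q ≠ 0) (u : Fin (n + 1) → F) :
    Cfsg.hermForm (n + 1) F q u (Pi.single 0 1) = u 0 := by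
  classical
  unfold Cfsg.hermForm
  rw [Finset.sum_eq_single (0 : Fin (n + 1))]
  · simp
  · intro j _ hj
    rw [Pi.single_eq_of_ne hj, zero_pow hq0, mul_zero]
  · intro h
    exact absurd (Finset.mem_univ _) h

theorem exists_su_sq_not_fixTS (hF : Fintype.card F = q ^ 2) (hodd : Odd q) (n m : ℕ) (hm : 1 ≤ m)
    (hnm : n = 2 * m) (hv : padicValNat 2 n < padicValNat 2 (q + 1)) :
    ∃ x : Matrix.SpecialLinearGroup (Fin n) F, x ∈ Cfsg.SU n F q ∧
      (∃ z : F, ((x ^ 2 : Matrix.SpecialLinearGroup (Fin n) F) : Matrix (Fin n) (Fin n) F) =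
        z • (1 : Matrix (Fin n) (Fin n) F)) ∧
      (∀ z : F, (x : Matrix (Fin n) (Fin n) F) ≠ z • (1 : Matrix (Fin n) (Fin n) F)) ∧
      ¬ FixTS (Cfsg.hermForm n F q) (Matrix.toLin' (x : Matrix (Fin n) (Fin n) F)) m := by
  classical
  have h2 := two_ne_zero_of_odd hF hodd
  have hq0 : q ≠ 0 := by
    rintro rfl
    simp at hodd
  obtain ⟨w, hw1, hwn⟩ := exists_w hF hodd (by omega : 0 < n) (by omega)
  have hw0 : w ≠ 0 := by
    rintro rfl
    rw [zero_mul] at hw1
    exact zero_ne_one hw1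
  obtain ⟨n', rfl⟩ : ∃ n', n = n' + 1 := ⟨n - 1, by omega⟩
  obtain ⟨σ, hσ, hσq, h, hnd⟩ := exists_data hF (n' + 1)
  set d : Fin (n' + 1) → F := Function.update (fun _ => w) 0 (-w) with hd
  have hd0 : d 0 = -w := by rw [hd, Function.update_self]
  have hdi : ∀ i, i ≠ 0 → d i = w := fun i hi => by rw [hd, Function.update_of_ne hi]
  have hdet : (Matrix.diagonal d).det = 1 := by
    rw [Matrix.det_diagonal, Fin.prod_univ_succ, hd0]
    have : ∀ i : Fin n', d i.succ = w := fun i => hdi _ (Fin.succ_ne_zero i)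
    simp only [this]
    rw [Finset.prod_const, Finset.card_univ, Fintype.card_fin]
    linear_combination -hwn
  obtain ⟨x, hx⟩ : ∃ x : Matrix.SpecialLinearGroup (Fin (n' + 1)) F,
      (x : Matrix (Fin (n' + 1)) (Fin (n' + 1)) F) = Matrix.diagonal d := ⟨⟨_, hdet⟩, rfl⟩
  have hdn : ∀ i, d i * σ (d i) = 1 := by
    intro i
    by_cases hi : i = 0
    · rw [hi, hd0, map_neg, hσq]
      linear_combination hw1
    · rw [hdi i hi, hσq]
      exact hw1
  have hdd : ∀ i, d i * d i = w * w := by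
    intro i
    by_cases hi : i = 0
    · rw [hi, hd0]; ring
    · rw [hdi i hi]
  have hxv : ∀ (u : Fin (n' + 1) → F) i,
      Matrix.toLin' (x : Matrix (Fin (n' + 1)) (Fin (n' + 1)) F) u i = d i * u i := by
    intro u i
    rw [Matrix.toLin'_apply, hx, Matrix.mulVec_diagonal]
  refine ⟨x, ?_, ⟨w * w, ?_⟩, ?_, ?_⟩
  · rw [Cfsg.Agent.H9L3.mem_SU_iff_mat σ hσq, hx, Matrix.diagonal_transpose,
      Matrix.diagonal_map (map_zero σ), Matrix.diagonal_mul_diagonal]
    have : (fun i => d i * σ (d i)) = fun _ => (1 : F) := funext hdn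
    rw [this, Matrix.diagonal_one]
  · rw [Matrix.SpecialLinearGroup.coe_pow, hx, pow_two, Matrix.diagonal_mul_diagonal]
    have : (fun i => d i * d i) = fun _ => w * w := funext hdd
    rw [this, Matrix.smul_one_eq_diagonal]
  · intro c hc
    rw [hx, Matrix.smul_one_eq_diagonal] at hc
    have h3 := Matrix.diagonal_injective hc
    have h4 := congrFun h3 0
    have h5 := congrFun h3 (⟨1, by omega⟩ : Fin (n' + 1))
    rw [hd0] at h4
    rw [hdi _ (by intro h; simp [Fin.ext_iff] at h)] at h5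
    have h6 : (2 : F) * w = 0 := by linear_combination h5 - h4
    rcases mul_eq_zero.1 h6 with h7 | h7
    · exact h2 h7
    · exact hw0 h7
  · rintro ⟨W, hWd, hWts, hWi⟩
    set e₀ : Fin (n' + 1) → F := Pi.single 0 1 with he₀
    have hee : Cfsg.hermForm (n' + 1) F q e₀ e₀ = 1 := by
      rw [he₀, r2_herm_single_right hq0, Pi.single_eq_same]
    have hu0 : ∀ u ∈ W, u 0 = 0 := by
      intro u hu
      have h1 : Matrix.toLin' (x : Matrix (Fin (n' + 1)) (Fin (n' + 1)) F) u ∈ W :=
        hWi (Submodule.mem_map_of_mem hu)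
      have h3 : w • u - Matrix.toLin' (x : Matrix (Fin (n' + 1)) (Fin (n' + 1)) F) u ∈ W :=
        W.sub_mem (W.smul_mem _ hu) h1
      have h4 : w • u - Matrix.toLin' (x : Matrix (Fin (n' + 1)) (Fin (n' + 1)) F) u =
          (2 * w * u 0) • e₀ := by
        funext i
        rw [Pi.sub_apply, hxv, Pi.smul_apply, Pi.smul_apply, smul_eq_mul, smul_eq_mul, he₀,
          Pi.single_apply]
        by_cases hi : i = 0
        · rw [hi, hd0, if_pos rfl]; ring
        · rw [hdi i hi, if_neg hi]; ring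
      rw [h4] at h3
      have h5 := hWts _ h3 _ h3
      rw [h.smul_left, h.smul_right, hee, mul_one] at h5
      have h6 : 2 * w * u 0 = 0 := by
        rcases mul_eq_zero.1 h5 with h7 | h7
        · exact h7
        · exact (map_eq_zero σ).1 h7
      rcases mul_eq_zero.1 h6 with h7 | h7
      · exact absurd h7 (mul_ne_zero h2 hw0)
      · exact h7
    have hle : W ≤ orthoCompl h W := fun v hv u hu => hWts u hu v hv
    have hfr := finrank_orthoCompl hσ h hnd W
    rw [Module.finrank_fin_fun, hWd] at hfr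
    have heq : W = orthoCompl h W :=
      Submodule.eq_of_le_of_finrank_eq hle (by rw [hWd]; omega)
    have he₀W : e₀ ∈ orthoCompl h W := by
      intro u hu
      rw [he₀, r2_herm_single_right hq0]
      exact hu0 u hu
    rw [← heq] at he₀W
    have := hWts e₀ he₀W e₀ he₀W
    rw [hee] at this
    exact one_ne_zero this

end r2

end Cfsg.Agent.Lib.Helper6.TSU
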