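import Mathlib
import Cfsg.Prelude.Def_FischerSpaces

set_option autoImplicit false

/-! Lines of a set of 3-transpositions: triples generating `S₃`. -/

namespace Cfsg.Agent.H9TT

open Cfsg Cfsg.LineSystem

variable {G : Type*} [Group G]

/-- `x, y` are non-commuting involutions with `x y x = y x y = z`. -/
structure IsTri (x y z : G) : Prop where
  xx : x * x = 1
  yy : y * y = 1
  braid : x * (y * x) = y * (x * y)
  hz : z = x * (y * x)
  ne : x * y ≠ y * x

namespace IsTri

variable {x y z : G}

theorem zz (h : IsTri x y z) : z * z = 1 := by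
  have hx' : ∀ t, x * (x * t) = t := fun t => by rw [← mul_assoc, h.xx, one_mul]
  have hy' : ∀ t, y * (y * t) = t := fun t => by rw [← mul_assoc, h.yy, one_mul]
  rw [h.hz]
  simp only [mul_assoc, h.xx, h.yy, hx', hy', mul_one]

theorem swap (h : IsTri x y z) : IsTri y x z :=
  ⟨h.yy, h.xx, h.braid.symm, by rw [h.hz, h.braid], fun e => h.ne e.symm⟩

/-- `x z x = y`. -/
theorem conj_xz (h : IsTri x y z) : x * (z * x) = y := by
  have hx' : ∀ t, x * (x * t) = t := fun t => by rw [← mul_assoc, h.xx, one_mul]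
  rw [h.hz]
  simp only [mul_assoc, h.xx, hx', mul_one]

theorem x_ne_y (h : IsTri x y z) : x ≠ y := by
  rintro rfl
  exact h.ne rfl

theorem z_ne_x (h : IsTri x y z) : z ≠ x := by
  intro e
  have h1 := h.conj_xz
  rw [e, h.xx, mul_one] at h1
  exact h.x_ne_y h1

theorem z_ne_y (h : IsTri x y z) : z ≠ y := h.swap.z_ne_x

/-- rotate: `(x, z, y)` is again such a triple. -/
theorem rot (h : IsTri x y z) : IsTri x z y := by
  have hx' : ∀ t, x * (x * t) = t := fun t => by rw [← mul_assoc, h.xx, one_mul]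
  have hy' : ∀ t, y * (y * t) = t := fun t => by rw [← mul_assoc, h.yy, one_mul]
  have hb' : ∀ t, y * (x * (y * t)) = x * (y * (x * t)) := fun t => by
    have := congrArg (· * t) h.braid
    simp only [mul_assoc] at this
    exact this.symm
  refine ⟨h.xx, h.zz, ?_, h.conj_xz.symm, ?_⟩
  · rw [h.conj_xz, h.hz]
    simp only [mul_assoc, h.xx, h.yy, hx', hy', hb', mul_one]
  · intro e
    -- x z = z x  ⇒ x z x = z ⇒ y = z
    have h1 := h.conj_xz
    rw [← e, hx'] at h1
    exact h.z_ne_y h1

theorem ne_xz (h : IsTri x y z) : x * z ≠ z * x := h.rot.ne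

theorem ne_yz (h : IsTri x y z) : y * z ≠ z * y := h.swap.rot.ne

/-- `y z y = x`. -/
theorem conj_yz (h : IsTri x y z) : y * (z * y) = x := h.swap.conj_xz

/-- `z x z = y`. -/
theorem conj_zx (h : IsTri x y z) : z * (x * z) = y := by
  have := h.rot.swap.hz
  exact this.symm

/-- `z y z = x`. -/
theorem conj_zy (h : IsTri x y z) : z * (y * z) = x := h.swap.conj_zx

end IsTri

section D

variable {D : Set G}

theorem sq_of_mem (hT : IsThreeTranspositionSet D) {x : G} (hx : x ∈ D) : x * x = 1 := by
  have := pow_orderOf_eq_one x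
  rw [hT.1 x hx, pow_two] at this
  exact this

theorem inv_of_mem (hT : IsThreeTranspositionSet D) {x : G} (hx : x ∈ D) : x⁻¹ = x :=
  inv_eq_of_mul_eq_one_right (sq_of_mem hT hx)

theorem ne_one_of_mem (hT : IsThreeTranspositionSet D) {x : G} (hx : x ∈ D) : x ≠ 1 := by
  rintro rfl
  have := hT.1 1 hx
  rw [orderOf_one] at this
  norm_num at this

/-- Two non-commuting members of `D` form a triple. -/
theorem isTri_of_not_commute (hT : IsThreeTranspositionSet D) {x y : G} (hx : x ∈ D) (hy : y ∈ D)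
    (hxy : ¬ Commute x y) : IsTri x y (x * (y * x)) := by
  have hx2 := sq_of_mem hT hx
  have hy2 := sq_of_mem hT hy
  have hx' : ∀ t, x * (x * t) = t := fun t => by rw [← mul_assoc, hx2, one_mul]
  have hy' : ∀ t, y * (y * t) = t := fun t => by rw [← mul_assoc, hy2, one_mul]
  have hne : x * y ≠ y * x := hxy
  refine ⟨hx2, hy2, ?_, rfl, hne⟩
  rcases hT.2 x hx y hy with h | h
  · exfalso
    apply hne
    rw [pow_two] at h
    -- x y x y = 1 ⇒ x y = y x
    have h1 : x * (y * (x * y)) = 1 := by simpa only [mul_assoc] using h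
    have h2 : y * (x * (x * (y * (x * y)))) = y * (x * 1) := by rw [h1]
    rw [hx', hy', mul_one] at h2
    exact h2
  · rw [pow_three] at h
    have hxi : x⁻¹ = x := inv_eq_of_mul_eq_one_right hx2
    have hyi : y⁻¹ = y := inv_eq_of_mul_eq_one_right hy2
    have h3 : x * (y * x) = (y * (x * y))⁻¹ :=
      eq_inv_of_mul_eq_one_left (by simpa only [mul_assoc] using h)
    rw [h3, mul_inv_rev, mul_inv_rev, hxi, hyi, mul_assoc]

/-- Conjugation by a member of `D`, for members of `D`: `x y x⁻¹ = x y x`. -/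
theorem conj_eq (hT : IsThreeTranspositionSet D) {x : G} (hx : x ∈ D) (y : G) :
    x * y * x⁻¹ = x * (y * x) := by
  rw [inv_of_mem hT hx, mul_assoc]

end D

end Cfsg.Agent.H9TT
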