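import Mathlib
import Cfsg.Prelude.Def_FischerSpaces
import Cfsg.Agent.Lib.Helper9.TTLines1

set_option autoImplicit false

/-! Lines of a set of 3-transpositions: the line system on the subtype of `D`. -/

namespace Cfsg.Agent.H9TT

open Cfsg Cfsg.LineSystem

variable {G : Type*} [Group G]

theorem tri_cases {x y r : G} (T : IsTri x y r) {p q : G} (hp : p = x ∨ p = y ∨ p = r)
    (hq : q = x ∨ q = y ∨ q = r) (hpq : p ≠ q) :
    ∃ t, IsTri p q t ∧ ∀ w, (w = x ∨ w = y ∨ w = r) ↔ (w = p ∨ w = q ∨ w = t) := by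
  rcases hp with rfl | rfl | rfl <;> rcases hq with rfl | rfl | rfl
  · exact absurd rfl hpq
  · exact ⟨_, T, fun w => Iff.rfl⟩
  · exact ⟨_, T.rot, fun w => by tauto⟩
  · exact ⟨_, T.swap, fun w => by tauto⟩
  · exact absurd rfl hpq
  · exact ⟨_, T.swap.rot, fun w => by tauto⟩
  · exact ⟨_, T.rot.swap, fun w => by tauto⟩
  · exact ⟨_, T.swap.rot.swap, fun w => by tauto⟩
  · exact absurd rfl hpq

variable {D : Set G}

/-- The line through two members of `D`. -/
def lineOf (p q : D) : Set D :=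
  {z : D | (z : G) = p ∨ (z : G) = q ∨ (z : G) = (q : G) * (p : G) * (q : G)⁻¹}

theorem lineOf_eq_of_tri (hT : IsThreeTranspositionSet D) {p q : D} {t : G}
    (T : IsTri (p : G) (q : G) t) :
    lineOf p q = {z : D | (z : G) = p ∨ (z : G) = q ∨ (z : G) = t} := by
  have : (q : G) * (p : G) * (q : G)⁻¹ = t := by
    rw [conj_eq hT q.2, ← T.braid, T.hz]
  unfold lineOf
  rw [this]

theorem lineOf_mem (p q : D) (h : ¬ Commute (p : G) (q : G)) :
    lineOf p q ∈ threeTranspositionLines D := ⟨p, q, h, rfl⟩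

theorem left_mem_lineOf (p q : D) : p ∈ lineOf p q := Or.inl rfl

theorem right_mem_lineOf (p q : D) : q ∈ lineOf p q := Or.inr (Or.inl rfl)

/-- Characterisation of a line by any two of its points. -/
theorem line_char (hT : IsThreeTranspositionSet D) {l : Set D} (hl : l ∈ threeTranspositionLines D)
    {p q : D} (hpq : p ≠ q) (hp : p ∈ l) (hq : q ∈ l) :
    ¬ Commute (p : G) (q : G) ∧ l = lineOf p q := by
  obtain ⟨x, y, hxy, rfl⟩ := hl
  have T := isTri_of_not_commute hT x.2 y.2 hxy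
  have hr : (y : G) * (x : G) * (y : G)⁻¹ = (x : G) * ((y : G) * (x : G)) := by
    rw [conj_eq hT y.2, ← T.braid]
  have hp' : (p : G) = x ∨ (p : G) = y ∨ (p : G) = (x : G) * ((y : G) * (x : G)) := by
    rw [← hr]; exact hp
  have hq' : (q : G) = x ∨ (q : G) = y ∨ (q : G) = (x : G) * ((y : G) * (x : G)) := by
    rw [← hr]; exact hq
  have hne : (p : G) ≠ q := fun e => hpq (Subtype.ext e)
  obtain ⟨t, Tt, hiff⟩ := tri_cases T hp' hq' hne
  refine ⟨Tt.ne, ?_⟩
  rw [lineOf_eq_of_tri hT Tt]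
  ext z
  show ((z : G) = x ∨ (z : G) = y ∨ (z : G) = (y : G) * (x : G) * (y : G)⁻¹) ↔ _
  rw [hr]
  exact hiff _

theorem partialLinear (hT : IsThreeTranspositionSet D) :
    IsPartialLinear (threeTranspositionLines D) := by
  intro l hl m hm x y hxy hxl hyl hxm hym
  rw [(line_char hT hl hxy hxl hyl).2, (line_char hT hm hxy hxm hym).2]

/-- The third point of a line, as a member of `D`. -/
theorem third_mem (hconj : ∀ g : G, ∀ d ∈ D, g * d * g⁻¹ ∈ D) (p q : D) :
    (q : G) * (p : G) * (q : G)⁻¹ ∈ D := hconj q p p.2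

theorem ncard_line (hT : IsThreeTranspositionSet D) (hconj : ∀ g : G, ∀ d ∈ D, g * d * g⁻¹ ∈ D)
    {l : Set D} (hl : l ∈ threeTranspositionLines D) : l.ncard = 3 := by
  obtain ⟨x, y, hxy, rfl⟩ := hl
  have T := isTri_of_not_commute hT x.2 y.2 hxy
  have hr : (y : G) * (x : G) * (y : G)⁻¹ = (x : G) * ((y : G) * (x : G)) := by
    rw [conj_eq hT y.2, ← T.braid]
  rw [Set.ncard_eq_three]
  refine ⟨x, y, ⟨_, third_mem hconj x y⟩, ?_, ?_, ?_, ?_⟩
  · intro e; exact T.x_ne_y (congrArg Subtype.val e)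
  · intro e
    have := congrArg Subtype.val e
    simp only at this
    rw [hr] at this
    exact T.z_ne_x this.symm
  · intro e
    have := congrArg Subtype.val e
    simp only at this
    rw [hr] at this
    exact T.z_ne_y this.symm
  · ext z
    simp only [Set.mem_insert_iff, Set.mem_singleton_iff, Subtype.ext_iff]
    rfl

/-- A line contains two distinct points. -/
theorem exists_two (hT : IsThreeTranspositionSet D) {l : Set D}
    (hl : l ∈ threeTranspositionLines D) : ∃ p q : D, p ≠ q ∧ p ∈ l ∧ q ∈ l := by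
  obtain ⟨x, y, hxy, rfl⟩ := hl
  refine ⟨x, y, ?_, Or.inl rfl, Or.inr (Or.inl rfl)⟩
  rintro rfl
  exact hxy (Commute.refl _)

end Cfsg.Agent.H9TT
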