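import Mathlib
import Cfsg.Prelude.Def_FischerSpaces
import Cfsg.Agent.Lib.Helper9.FischerSp2

set_option autoImplicit false

/-! A configuration of points modelled on a line system gives an isomorphism of the span. -/

namespace Cfsg.Agent.H9TT

open Cfsg Cfsg.LineSystem Cfsg.Agent.H9Fi

variable {X Y : Type*}

theorem iso_of_config (L : Set (Set X)) (M : Set (Set Y)) (Ψ : Y → X)
    (hinj : Function.Injective Ψ)
    (h2 : ∀ l ∈ L, ∃ p q : X, p ≠ q ∧ p ∈ l ∧ q ∈ l)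
    (c1 : ∀ lam ∈ M, Ψ '' lam ∈ L)
    (c2 : ∀ l ∈ L, ∀ y₁ y₂ : Y, y₁ ≠ y₂ → Ψ y₁ ∈ l → Ψ y₂ ∈ l → ∃ lam ∈ M, l = Ψ '' lam)
    (S : Set X) (hS : Set.range Ψ ⊆ span L S) (hS' : S ⊆ Set.range Ψ) :
    Isomorphic (restrict L (span L S)) M := by
  have hsub : IsSubspace L (Set.range Ψ) := by
    rintro l hl _ ⟨y₁, rfl⟩ _ ⟨y₂, rfl⟩ hne h1 h2
    have hne' : y₁ ≠ y₂ := fun e => hne (congrArg Ψ e)
    obtain ⟨lam, _, rfl⟩ := c2 l hl y₁ y₂ hne' h1 h2
    rintro _ ⟨y, _, rfl⟩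
    exact ⟨y, rfl⟩
  have hspan : span L S ⊆ Set.range Ψ := by
    intro x hx
    rw [span, Set.mem_sInter] at hx
    exact hx _ ⟨hS', hsub⟩
  let f : Y → ↥(span L S) := fun y => ⟨Ψ y, hS ⟨y, rfl⟩⟩
  have hf : Function.Bijective f := by
    constructor
    · intro y₁ y₂ e
      exact hinj (congrArg Subtype.val e)
    · rintro ⟨x, hx⟩
      obtain ⟨y, rfl⟩ := hspan hx
      exact ⟨y, rfl⟩
  let e : ↥(span L S) ≃ Y := (Equiv.ofBijective f hf).symm
  have he : ∀ p : ↥(span L S), Ψ (e p) = p := by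
    intro p
    have : f (e p) = p := (Equiv.ofBijective f hf).apply_symm_apply p
    exact congrArg Subtype.val this
  have he' : ∀ y : Y, e (f y) = y := fun y => (Equiv.ofBijective f hf).symm_apply_apply y
  refine ⟨e, ?_⟩
  intro s
  constructor
  · rintro ⟨l, hl, hlsub, rfl⟩
    obtain ⟨p, q, hpq, hp, hq⟩ := h2 l hl
    obtain ⟨y₁, rfl⟩ := hspan (hlsub hp)
    obtain ⟨y₂, rfl⟩ := hspan (hlsub hq)
    have hne' : y₁ ≠ y₂ := fun e => hpq (congrArg Ψ e)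
    obtain ⟨lam, hlam, rfl⟩ := c2 l hl y₁ y₂ hne' hp hq
    have : e '' {x : ↥(span L S) | (x : X) ∈ Ψ '' lam} = lam := by
      ext y
      constructor
      · rintro ⟨p, ⟨y', hy', hp'⟩, rfl⟩
        have h1 : Ψ (e p) = Ψ y' := by rw [he, hp']
        rw [hinj h1]; exact hy'
      · intro hy
        refine ⟨f y, ⟨y, hy, rfl⟩, he' y⟩
    rw [this]; exact hlam
  · intro hs
    refine ⟨Ψ '' (e '' s), c1 _ hs, ?_, ?_⟩
    · rintro _ ⟨y, _, rfl⟩
      exact hS ⟨y, rfl⟩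
    · ext p
      constructor
      · intro hp
        exact ⟨e p, ⟨p, hp, rfl⟩, he p⟩
      · rintro ⟨y, ⟨q, hq, rfl⟩, hy⟩
        rw [he] at hy
        have : q = p := Subtype.ext hy
        rw [← this]; exact hq

end Cfsg.Agent.H9TT
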