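import Mathlib
import Cfsg.Prelude.Def_FischerSpaces
import Cfsg.Agent.Lib.Helper9.TTLines2

set_option autoImplicit false

/-! Three pairwise non-commuting 3-transpositions `a, b, d` with `a` not commuting with `b d b`:
the nine points and twelve lines of an affine plane of order three. -/

namespace Cfsg.Agent.H9TT

open Cfsg Cfsg.LineSystem

variable {G : Type*} [Group G]

/-- conjugation by an involution, written as a product -/
def cj (x y : G) : G := x * (y * x)

theorem IsTri.conj {x p q t : G} (hx : x * x = 1) (T : IsTri p q t) :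
    IsTri (cj x p) (cj x q) (cj x t) := by
  have hx' : ∀ w, x * (x * w) = w := fun w => by rw [← mul_assoc, hx, one_mul]
  have hp' : ∀ w, p * (p * w) = w := fun w => by rw [← mul_assoc, T.xx, one_mul]
  have hq' : ∀ w, q * (q * w) = w := fun w => by rw [← mul_assoc, T.yy, one_mul]
  refine ⟨?_, ?_, ?_, ?_, ?_⟩
  · simp only [cj, mul_assoc, hx', hp', hx, T.xx, mul_one]
  · simp only [cj, mul_assoc, hx', hq', hx, T.yy, mul_one]
  · have h1 : cj x p * (cj x q * cj x p) = x * ((p * (q * p)) * x) := by
      simp only [cj, mul_assoc, hx']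
    have h2 : cj x q * (cj x p * cj x q) = x * ((q * (p * q)) * x) := by
      simp only [cj, mul_assoc, hx']
    rw [h1, h2, T.braid]
  · have h1 : cj x p * (cj x q * cj x p) = x * ((p * (q * p)) * x) := by
      simp only [cj, mul_assoc, hx']
    rw [h1, ← T.hz]
    rfl
  · intro e
    apply T.ne
    have h1 : cj x p * cj x q = x * ((p * q) * x) := by
      simp only [cj, mul_assoc, hx']
    have h2 : cj x q * cj x p = x * ((q * p) * x) := by
      simp only [cj, mul_assoc, hx']
    rw [h1, h2] at e
    have e2 := mul_left_cancel e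
    exact mul_right_cancel e2

theorem commute_cj {x p q : G} (hx : x * x = 1) (h : Commute p q) : Commute (cj x p) (cj x q) := by
  have hx' : ∀ w, x * (x * w) = w := fun w => by rw [← mul_assoc, hx, one_mul]
  have h' : p * q = q * p := h
  show cj x p * cj x q = cj x q * cj x p
  have h1 : cj x p * cj x q = x * ((p * q) * x) := by
    simp only [cj, mul_assoc, hx']
  have h2 : cj x q * cj x p = x * ((q * p) * x) := by
    simp only [cj, mul_assoc, hx']
  rw [h1, h2, h']

theorem IsTri.z_unique {p q t t' : G} (T : IsTri p q t) (T' : IsTri p q t') : t = t' := by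
  rw [T.hz, T'.hz]

variable {D : Set G}

theorem cj_mem (hT : IsThreeTranspositionSet D) (hconj : ∀ g : G, ∀ d ∈ D, g * d * g⁻¹ ∈ D)
    {x y : G} (hx : x ∈ D) (hy : y ∈ D) : cj x y ∈ D := by
  have := hconj x y hy
  rw [conj_eq hT hx] at this
  exact this

/-- The twelve lines. -/
theorem twelve (hT : IsThreeTranspositionSet D) (hconj : ∀ g : G, ∀ d ∈ D, g * d * g⁻¹ ∈ D)
    {a b d : G} (ha : a ∈ D) (hb : b ∈ D) (hd : d ∈ D)
    (hab : ¬ Commute a b) (had : ¬ Commute a d) (hbd : ¬ Commute b d)
    (hag : ¬ Commute a (cj b d)) :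
    IsTri a b (cj a b) ∧ IsTri a d (cj a d) ∧ IsTri b d (cj b d) ∧
    IsTri a (cj b d) (cj a (cj b d)) ∧
    IsTri (cj a b) d (cj (cj a b) d) ∧ IsTri b (cj a d) (cj b (cj a d)) ∧
    IsTri (cj a b) (cj a d) (cj a (cj b d)) ∧
    IsTri a (cj (cj a b) d) (cj b (cj a d)) ∧
    IsTri (cj a d) (cj b d) (cj (cj a b) d) ∧
    IsTri d (cj a (cj b d)) (cj b (cj a d)) ∧
    IsTri b (cj (cj a b) d) (cj a (cj b d)) ∧
    IsTri (cj a b) (cj b d) (cj b (cj a d)) := by
  have ha2 := sq_of_mem hT ha
  have hb2 := sq_of_mem hT hb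
  have hd2 := sq_of_mem hT hd
  have hcD : cj a b ∈ D := cj_mem hT hconj ha hb
  have heD : cj a d ∈ D := cj_mem hT hconj ha hd
  have hgD : cj b d ∈ D := cj_mem hT hconj hb hd
  have hc2 := sq_of_mem hT hcD
  have T1 : IsTri a b (cj a b) := isTri_of_not_commute hT ha hb hab
  have T2 : IsTri a d (cj a d) := isTri_of_not_commute hT ha hd had
  have T3 : IsTri b d (cj b d) := isTri_of_not_commute hT hb hd hbd
  have T4 : IsTri a (cj b d) (cj a (cj b d)) := isTri_of_not_commute hT ha hgD hag
  -- c and d do not commute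
  have hcd : ¬ Commute (cj a b) d := by
    intro h
    have h1 := commute_cj hb2 h
    have e1 : cj b (cj a b) = a := T1.conj_yz
    rw [e1] at h1
    exact hag h1
  have T5 : IsTri (cj a b) d (cj (cj a b) d) := isTri_of_not_commute hT hcD hd hcd
  -- b and e do not commute
  have hbe : ¬ Commute b (cj a d) := by
    intro h
    have h1 := commute_cj ha2 h
    have e1 : cj a (cj a d) = d := T2.conj_xz
    rw [e1] at h1
    exact hcd h1
  have T6 : IsTri b (cj a d) (cj b (cj a d)) := isTri_of_not_commute hT hb heD hbe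
  have T7 : IsTri (cj a b) (cj a d) (cj a (cj b d)) := T3.conj ha2
  have hiD : cj (cj a b) d ∈ D := cj_mem hT hconj hcD hd
  -- a ∘ i = j
  have e8 : cj a (cj (cj a b) d) = cj b (cj a d) := by
    have h1 := T5.conj ha2
    have e1 : cj a (cj a b) = b := T1.conj_xz
    rw [e1] at h1
    exact h1.z_unique T6
  have hai : ¬ Commute a (cj (cj a b) d) := by
    intro h
    have h1 := commute_cj hc2 h
    have e1 : cj (cj a b) a = b := T1.conj_zx
    have e2 : cj (cj a b) (cj (cj a b) d) = d := T5.conj_xz
    rw [e1, e2] at h1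
    exact hbd h1
  have T8 : IsTri a (cj (cj a b) d) (cj b (cj a d)) := by
    have := isTri_of_not_commute hT ha hiD hai
    have e : a * (cj (cj a b) d * a) = cj b (cj a d) := e8
    rw [e] at this
    exact this
  have T9 : IsTri (cj a d) (cj b d) (cj (cj a b) d) := by
    have h1 := T1.conj hd2
    have e1 : cj d a = cj a d := T2.swap.hz.symm
    have e2 : cj d b = cj b d := T3.swap.hz.symm
    have e3 : cj d (cj a b) = cj (cj a b) d := T5.swap.hz.symm
    rw [e1, e2, e3] at h1
    exact h1
  have T10 : IsTri d (cj a (cj b d)) (cj b (cj a d)) := by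
    have h1 := T9.conj ha2
    have e1 : cj a (cj a d) = d := T2.conj_xz
    rw [e1, e8] at h1
    exact h1
  have T11 : IsTri b (cj (cj a b) d) (cj a (cj b d)) := by
    have h1 := T2.conj hc2
    have e1 : cj (cj a b) a = b := T1.conj_zx
    have e3 : cj (cj a b) (cj a d) = cj a (cj b d) := T7.hz.symm
    rw [e1, e3] at h1
    exact h1
  have T12 : IsTri (cj a b) (cj b d) (cj b (cj a d)) := by
    have h1 := T2.conj hb2
    have e1 : cj b a = cj a b := T1.swap.hz.symm
    rw [e1] at h1
    exact h1
  exact ⟨T1, T2, T3, T4, T5, T6, T7, T8, T9, T10, T11, T12⟩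

end Cfsg.Agent.H9TT
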