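import Mathlib
import Cfsg.Prelude.Def_FischerSpaces
import Cfsg.Agent.Lib.Helper9.TTLines4
import Cfsg.Agent.Lib.Helper9.TTLines3
import Cfsg.Agent.Lib.Helper9.FischerSp3

set_option autoImplicit false

/-! The affine plane of order three inside a set of 3-transpositions. -/

namespace Cfsg.Agent.H9TT

open Cfsg Cfsg.LineSystem

variable {G : Type*} [Group G]

/-- The nine points. -/
def pt (a b d : G) : ℕ → ℕ → G
  | 0, 0 => a
  | 1, 0 => b
  | 2, 0 => cj a b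
  | 0, 1 => d
  | 0, 2 => cj a d
  | 2, 2 => cj b d
  | 1, 1 => cj a (cj b d)
  | 1, 2 => cj (cj a b) d
  | 2, 1 => cj b (cj a d)
  | _, _ => a

def triples72 : List ((ℕ × ℕ) × (ℕ × ℕ) × (ℕ × ℕ)) :=
  [((0, 0), (1, 0), (2, 0)),
   ((1, 0), (0, 0), (2, 0)),
   ((0, 0), (2, 0), (1, 0)),
   ((2, 0), (0, 0), (1, 0)),
   ((1, 0), (2, 0), (0, 0)),
   ((2, 0), (1, 0), (0, 0)),
   ((0, 0), (0, 1), (0, 2)),
   ((0, 1), (0, 0), (0, 2)),
   ((0, 0), (0, 2), (0, 1)),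
   ((0, 2), (0, 0), (0, 1)),
   ((0, 1), (0, 2), (0, 0)),
   ((0, 2), (0, 1), (0, 0)),
   ((1, 0), (0, 1), (2, 2)),
   ((0, 1), (1, 0), (2, 2)),
   ((1, 0), (2, 2), (0, 1)),
   ((2, 2), (1, 0), (0, 1)),
   ((0, 1), (2, 2), (1, 0)),
   ((2, 2), (0, 1), (1, 0)),
   ((0, 0), (2, 2), (1, 1)),
   ((2, 2), (0, 0), (1, 1)),
   ((0, 0), (1, 1), (2, 2)),
   ((1, 1), (0, 0), (2, 2)),
   ((2, 2), (1, 1), (0, 0)),
   ((1, 1), (2, 2), (0, 0)),
   ((2, 0), (0, 1), (1, 2)),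
   ((0, 1), (2, 0), (1, 2)),
   ((2, 0), (1, 2), (0, 1)),
   ((1, 2), (2, 0), (0, 1)),
   ((0, 1), (1, 2), (2, 0)),
   ((1, 2), (0, 1), (2, 0)),
   ((1, 0), (0, 2), (2, 1)),
   ((0, 2), (1, 0), (2, 1)),
   ((1, 0), (2, 1), (0, 2)),
   ((2, 1), (1, 0), (0, 2)),
   ((0, 2), (2, 1), (1, 0)),
   ((2, 1), (0, 2), (1, 0)),
   ((2, 0), (0, 2), (1, 1)),
   ((0, 2), (2, 0), (1, 1)),
   ((2, 0), (1, 1), (0, 2)),
   ((1, 1), (2, 0), (0, 2)),
   ((0, 2), (1, 1), (2, 0)),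
   ((1, 1), (0, 2), (2, 0)),
   ((0, 0), (1, 2), (2, 1)),
   ((1, 2), (0, 0), (2, 1)),
   ((0, 0), (2, 1), (1, 2)),
   ((2, 1), (0, 0), (1, 2)),
   ((1, 2), (2, 1), (0, 0)),
   ((2, 1), (1, 2), (0, 0)),
   ((0, 2), (2, 2), (1, 2)),
   ((2, 2), (0, 2), (1, 2)),
   ((0, 2), (1, 2), (2, 2)),
   ((1, 2), (0, 2), (2, 2)),
   ((2, 2), (1, 2), (0, 2)),
   ((1, 2), (2, 2), (0, 2)),
   ((0, 1), (1, 1), (2, 1)),
   ((1, 1), (0, 1), (2, 1)),
   ((0, 1), (2, 1), (1, 1)),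
   ((2, 1), (0, 1), (1, 1)),
   ((1, 1), (2, 1), (0, 1)),
   ((2, 1), (1, 1), (0, 1)),
   ((1, 0), (1, 2), (1, 1)),
   ((1, 2), (1, 0), (1, 1)),
   ((1, 0), (1, 1), (1, 2)),
   ((1, 1), (1, 0), (1, 2)),
   ((1, 2), (1, 1), (1, 0)),
   ((1, 1), (1, 2), (1, 0)),
   ((2, 0), (2, 2), (2, 1)),
   ((2, 2), (2, 0), (2, 1)),
   ((2, 0), (2, 1), (2, 2)),
   ((2, 1), (2, 0), (2, 2)),
   ((2, 2), (2, 1), (2, 0)),
   ((2, 1), (2, 2), (2, 0))]

def co (u : Fin 2 → ZMod 3) : ℕ × ℕ := ((u 0).val, (u 1).val)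

set_option synthInstance.maxSize 4096 in
set_option synthInstance.maxHeartbeats 400000 in
set_option maxRecDepth 100000 in
theorem lookup72 : ∀ u v : Fin 2 → ZMod 3, u ≠ v → (co u, co v, co (-u - v)) ∈ triples72 := by
  decide

variable {D : Set G}

theorem key72 (hT : IsThreeTranspositionSet D) (hconj : ∀ g : G, ∀ d ∈ D, g * d * g⁻¹ ∈ D)
    {a b d : G} (ha : a ∈ D) (hb : b ∈ D) (hd : d ∈ D)
    (hab : ¬ Commute a b) (had : ¬ Commute a d) (hbd : ¬ Commute b d)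
    (hag : ¬ Commute a (cj b d)) :
    ∀ t ∈ triples72, IsTri (pt a b d t.1.1 t.1.2) (pt a b d t.2.1.1 t.2.1.2)
      (pt a b d t.2.2.1 t.2.2.2) := by
  obtain ⟨T1, T2, T3, T4, T5, T6, T7, T8, T9, T10, T11, T12⟩ :=
    twelve hT hconj ha hb hd hab had hbd hag
  intro t ht
  simp only [triples72, List.mem_cons, List.not_mem_nil, or_false] at ht
  rcases ht with rfl | rfl | rfl | rfl | rfl | rfl | rfl | rfl | rfl | rfl | rfl | rfl | rfl | rfl | rfl | rfl | rfl | rfl | rfl | rfl | rfl | rfl | rfl | rfl | rfl | rfl | rfl | rfl | rfl | rfl | rfl | rfl | rfl | rfl | rfl | rfl | rfl | rfl | rfl | rfl | rfl | rfl | rfl | rfl | rfl | rfl | rfl | rfl | rfl | rfl | rfl | rfl | rfl | rfl | rfl | rfl | rfl | rfl | rfl | rfl | rfl | rfl | rfl | rfl | rfl | rfl | rfl | rfl | rfl | rfl | rfl | rfl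
  · exact T1
  · exact T1.swap
  · exact T1.rot
  · exact T1.rot.swap
  · exact T1.swap.rot
  · exact T1.swap.rot.swap
  · exact T2
  · exact T2.swap
  · exact T2.rot
  · exact T2.rot.swap
  · exact T2.swap.rot
  · exact T2.swap.rot.swap
  · exact T3
  · exact T3.swap
  · exact T3.rot
  · exact T3.rot.swap
  · exact T3.swap.rot
  · exact T3.swap.rot.swap
  · exact T4
  · exact T4.swap
  · exact T4.rot
  · exact T4.rot.swap
  · exact T4.swap.rot
  · exact T4.swap.rot.swap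
  · exact T5
  · exact T5.swap
  · exact T5.rot
  · exact T5.rot.swap
  · exact T5.swap.rot
  · exact T5.swap.rot.swap
  · exact T6
  · exact T6.swap
  · exact T6.rot
  · exact T6.rot.swap
  · exact T6.swap.rot
  · exact T6.swap.rot.swap
  · exact T7
  · exact T7.swap
  · exact T7.rot
  · exact T7.rot.swap
  · exact T7.swap.rot
  · exact T7.swap.rot.swap
  · exact T8
  · exact T8.swap
  · exact T8.rot
  · exact T8.rot.swap
  · exact T8.swap.rot
  · exact T8.swap.rot.swap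
  · exact T9
  · exact T9.swap
  · exact T9.rot
  · exact T9.rot.swap
  · exact T9.swap.rot
  · exact T9.swap.rot.swap
  · exact T10
  · exact T10.swap
  · exact T10.rot
  · exact T10.rot.swap
  · exact T10.swap.rot
  · exact T10.swap.rot.swap
  · exact T11
  · exact T11.swap
  · exact T11.rot
  · exact T11.rot.swap
  · exact T11.swap.rot
  · exact T11.swap.rot.swap
  · exact T12
  · exact T12.swap
  · exact T12.rot
  · exact T12.rot.swap
  · exact T12.swap.rot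
  · exact T12.swap.rot.swap

end Cfsg.Agent.H9TT
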