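import Mathlib
import Cfsg.Prelude.Def_FischerSpaces
import Cfsg.Agent.Lib.Helper9.TTLines5

set_option autoImplicit false

/-! The affine plane of order three inside a set of 3-transpositions: the isomorphism. -/

namespace Cfsg.Agent.H9TT

open Cfsg Cfsg.LineSystem Cfsg.Agent.H9Fi

variable {G : Type*} [Group G] {D : Set G}

/-- The point map on vectors. -/
def PG (a b d : G) (u : Fin 2 → ZMod 3) : G := pt a b d (u 0).val (u 1).val

theorem z3_e : ∀ x y : ZMod 3, -x - (x + y) = x + 2 * y := by decide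
theorem z3_f : ∀ c : ZMod 3, c = 0 ∨ c = 1 ∨ c = 2 := by decide

set_option synthInstance.maxSize 4096 in
set_option synthInstance.maxHeartbeats 400000 in
set_option maxRecDepth 100000 in
theorem nine_pts : ∀ u : Fin 2 → ZMod 3,
    u = 0 ∨ u = ![1, 0] ∨ u = ![0, 1] ∨ u = -0 - ![1, 0] ∨ u = -0 - ![0, 1] ∨
    u = -![1, 0] - ![0, 1] ∨ u = -0 - (-![1, 0] - ![0, 1]) ∨ u = -(-0 - ![1, 0]) - ![0, 1] ∨
    u = -![1, 0] - (-0 - ![0, 1]) := by
  decide

section

variable (hT : IsThreeTranspositionSet D) (hconj : ∀ g : G, ∀ d ∈ D, g * d * g⁻¹ ∈ D)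
  {a b d : G} (ha : a ∈ D) (hb : b ∈ D) (hd : d ∈ D)
  (hab : ¬ Commute a b) (had : ¬ Commute a d) (hbd : ¬ Commute b d)
  (hag : ¬ Commute a (cj b d))

include hT hconj ha hb hd hab had hbd hag

theorem master (u v : Fin 2 → ZMod 3) (h : u ≠ v) :
    IsTri (PG a b d u) (PG a b d v) (PG a b d (-u - v)) :=
  key72 hT hconj ha hb hd hab had hbd hag _ (lookup72 u v h)

theorem PG_mem (u : Fin 2 → ZMod 3) : PG a b d u ∈ D := by
  have hc := cj_mem hT hconj ha hb
  have he := cj_mem hT hconj ha hd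
  have hg := cj_mem hT hconj hb hd
  have hh := cj_mem hT hconj ha hg
  have hi := cj_mem hT hconj hc hd
  have hj := cj_mem hT hconj hb he
  unfold PG
  have h0 : (u 0).val < 3 := ZMod.val_lt _
  have h1 : (u 1).val < 3 := ZMod.val_lt _
  generalize (u 0).val = i at h0
  generalize (u 1).val = j at h1
  interval_cases i <;> interval_cases j <;> simp only [pt] <;> assumption

theorem PG_inj : Function.Injective (PG a b d) := by
  intro u v e
  by_contra h
  exact (master hT hconj ha hb hd hab had hbd hag u v h).x_ne_y e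

/-- The isomorphism with the affine plane of order three. -/
theorem ag_iso :
    Isomorphic (restrict (threeTranspositionLines D) (span (threeTranspositionLines D)
      (lineOf (⟨a, ha⟩ : D) ⟨b, hb⟩ ∪ lineOf (⟨a, ha⟩ : D) ⟨d, hd⟩))) affinePlaneThree := by
  have hmem := PG_mem hT hconj ha hb hd hab had hbd hag
  have hmaster := master hT hconj ha hb hd hab had hbd hag
  let Ψ : (Fin 2 → ZMod 3) → D := fun u => ⟨PG a b d u, hmem u⟩
  have hΨinj : Function.Injective Ψ := by
    intro u v e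
    exact PG_inj hT hconj ha hb hd hab had hbd hag (congrArg Subtype.val e)
  have hline : ∀ u v : Fin 2 → ZMod 3, u ≠ v →
      lineOf (Ψ u) (Ψ v) = {z : D | (z : G) = PG a b d u ∨ (z : G) = PG a b d v ∨
        (z : G) = PG a b d (-u - v)} := by
    intro u v h
    exact lineOf_eq_of_tri hT (hmaster u v h)
  have himg : ∀ u v : Fin 2 → ZMod 3, u ≠ v →
      Ψ '' ({u, v, -u - v} : Set (Fin 2 → ZMod 3)) = lineOf (Ψ u) (Ψ v) := by
    intro u v h
    rw [hline u v h, Set.image_insert_eq, Set.image_pair]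
    ext z
    simp only [Set.mem_insert_iff, Set.mem_singleton_iff, Set.mem_setOf_eq, Subtype.ext_iff]
    rfl
  have hnc : ∀ u v : Fin 2 → ZMod 3, u ≠ v → ¬ Commute ((Ψ u : D) : G) ((Ψ v : D) : G) :=
    fun u v h => (hmaster u v h).ne
  have h0 : Ψ 0 = ⟨a, ha⟩ := Subtype.ext rfl
  have h1 : Ψ ![1, 0] = ⟨b, hb⟩ := Subtype.ext rfl
  have h2 : Ψ ![0, 1] = ⟨d, hd⟩ := Subtype.ext rfl
  rw [← h0, ← h1, ← h2]
  apply iso_of_config (threeTranspositionLines D) affinePlaneThree Ψ hΨinj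
  · intro l hl
    exact exists_two hT hl
  · -- c1
    rintro lam ⟨v, w, hw, rfl⟩
    have hne : v ≠ v + w := by
      intro e
      apply hw
      have := congrArg (fun t => t - v) e
      simpa using this.symm
    have hset : {x : Fin 2 → ZMod 3 | ∃ c : ZMod 3, x = v + c • w} = {v, v + w, -v - (v + w)} := by
      have e3 : -v - (v + w) = v + (2 : ZMod 3) • w := by
        funext k
        simp only [Pi.add_apply, Pi.smul_apply, Pi.sub_apply, Pi.neg_apply, smul_eq_mul]
        exact z3_e _ _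
      ext x
      simp only [Set.mem_setOf_eq, Set.mem_insert_iff, Set.mem_singleton_iff]
      constructor
      · rintro ⟨c, rfl⟩
        rcases z3_f c with rfl | rfl | rfl
        · left; simp
        · right; left; simp
        · right; right; exact e3.symm
      · rintro (rfl | rfl | rfl)
        · exact ⟨0, by simp⟩
        · exact ⟨1, by simp⟩
        · exact ⟨2, e3⟩
    rw [hset, himg v (v + w) hne]
    exact lineOf_mem _ _ (hnc v (v + w) hne)
  · -- c2
    intro l hl u₁ u₂ hne h1' h2'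
    have hne' : Ψ u₁ ≠ Ψ u₂ := fun e => hne (hΨinj e)
    obtain ⟨_, rfl⟩ := line_char hT hl hne' h1' h2'
    refine ⟨{u₁, u₂, -u₁ - u₂}, ag_line_mem hne, (himg u₁ u₂ hne).symm⟩
  · -- generation
    set Sp := span (threeTranspositionLines D)
      (lineOf (Ψ 0) (Ψ ![1, 0]) ∪ lineOf (Ψ 0) (Ψ ![0, 1])) with hSp
    have hsub := span_isSubspace (threeTranspositionLines D)
      (lineOf (Ψ 0) (Ψ ![1, 0]) ∪ lineOf (Ψ 0) (Ψ ![0, 1]))
    have hin := subset_span (threeTranspositionLines D)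
      (lineOf (Ψ 0) (Ψ ![1, 0]) ∪ lineOf (Ψ 0) (Ψ ![0, 1]))
    have step : ∀ u v : Fin 2 → ZMod 3, u ≠ v → Ψ u ∈ Sp → Ψ v ∈ Sp → Ψ (-u - v) ∈ Sp := by
      intro u v h hu hv
      have hl : lineOf (Ψ u) (Ψ v) ∈ threeTranspositionLines D := lineOf_mem _ _ (hnc u v h)
      have hne' : Ψ u ≠ Ψ v := fun e => h (hΨinj e)
      have hss := hsub _ hl (Ψ u) hu (Ψ v) hv hne' (left_mem_lineOf _ _) (right_mem_lineOf _ _)
      apply hss
      rw [hline u v h]
      exact Or.inr (Or.inr rfl)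
    have p0 : Ψ 0 ∈ Sp := hin (Or.inl (left_mem_lineOf _ _))
    have p1 : Ψ ![1, 0] ∈ Sp := hin (Or.inl (right_mem_lineOf _ _))
    have p2 : Ψ ![0, 1] ∈ Sp := hin (Or.inr (right_mem_lineOf _ _))
    have p3 : Ψ (-0 - ![1, 0]) ∈ Sp := step _ _ (by decide) p0 p1
    have p4 : Ψ (-0 - ![0, 1]) ∈ Sp := step _ _ (by decide) p0 p2
    have p5 : Ψ (-![1, 0] - ![0, 1]) ∈ Sp := step _ _ (by decide) p1 p2
    have p6 : Ψ (-0 - (-![1, 0] - ![0, 1])) ∈ Sp := step _ _ (by decide) p0 p5
    have p7 : Ψ (-(-0 - ![1, 0]) - ![0, 1]) ∈ Sp := step _ _ (by decide) p3 p2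
    have p8 : Ψ (-![1, 0] - (-0 - ![0, 1])) ∈ Sp := step _ _ (by decide) p1 p4
    rintro _ ⟨u, rfl⟩
    rcases nine_pts u with rfl | rfl | rfl | rfl | rfl | rfl | rfl | rfl | rfl <;> assumption
  · -- S ⊆ range
    rintro z (hz | hz)
    · rw [hline 0 ![1, 0] (by decide)] at hz
      rcases hz with hz | hz | hz
      · exact ⟨0, Subtype.ext hz.symm⟩
      · exact ⟨![1, 0], Subtype.ext hz.symm⟩
      · exact ⟨-0 - ![1, 0], Subtype.ext hz.symm⟩
    · rw [hline 0 ![0, 1] (by decide)] at hz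
      rcases hz with hz | hz | hz
      · exact ⟨0, Subtype.ext hz.symm⟩
      · exact ⟨![0, 1], Subtype.ext hz.symm⟩
      · exact ⟨-0 - ![0, 1], Subtype.ext hz.symm⟩

end

end Cfsg.Agent.H9TT
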