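import Mathlib
import Cfsg.Prelude.Def_FischerSpaces
import Cfsg.Agent.Lib.Helper9.TTLines3
import Cfsg.Agent.Lib.Helper9.TTLines2
import Cfsg.Agent.Lib.Helper9.FischerSp3

set_option autoImplicit false

/-! The dual affine plane of order two: transpositions of `S₄`. -/

namespace Cfsg.Agent.H9TT

open Cfsg Cfsg.LineSystem

/-- The transposition of a two-element subset of `Fin 4`. -/
def tr (s : DualAffinePoint) : Equiv.Perm (Fin 4) :=
  if 0 ∈ s.val ∧ 1 ∈ s.val then Equiv.swap 0 1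
  else if 0 ∈ s.val ∧ 2 ∈ s.val then Equiv.swap 0 2
  else if 0 ∈ s.val ∧ 3 ∈ s.val then Equiv.swap 0 3
  else if 1 ∈ s.val ∧ 2 ∈ s.val then Equiv.swap 1 2
  else if 1 ∈ s.val ∧ 3 ∈ s.val then Equiv.swap 1 3
  else Equiv.swap 2 3

set_option synthInstance.maxSize 4096 in
set_option synthInstance.maxHeartbeats 400000 in
set_option maxRecDepth 100000 in
theorem tr_inj : ∀ s s' : DualAffinePoint, tr s = tr s' → s = s' := by decide

set_option synthInstance.maxSize 4096 in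
set_option synthInstance.maxHeartbeats 400000 in
set_option maxRecDepth 100000 in
theorem tr_conj : ∀ s : DualAffinePoint, ∃ σ : Equiv.Perm (Fin 4),
    tr s = σ * Equiv.swap 0 1 * σ⁻¹ := by decide

set_option synthInstance.maxSize 4096 in
set_option synthInstance.maxHeartbeats 400000 in
set_option maxRecDepth 100000 in
theorem tr_line : ∀ m : Fin 4, ∃ s₁ s₂ s₃ : DualAffinePoint, s₁ ≠ s₂ ∧ s₃ ≠ s₁ ∧ s₃ ≠ s₂ ∧
    m ∉ s₁.val ∧ m ∉ s₂.val ∧ m ∉ s₃.val ∧ tr s₁ * tr s₂ ≠ tr s₂ * tr s₁ ∧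
    tr s₂ * tr s₁ * (tr s₂)⁻¹ = tr s₃ := by decide

set_option synthInstance.maxSize 4096 in
set_option synthInstance.maxHeartbeats 400000 in
set_option maxRecDepth 100000 in
theorem tr_noncomm : ∀ s s' : DualAffinePoint, s ≠ s' → tr s * tr s' ≠ tr s' * tr s →
    ∃ m : Fin 4, m ∉ s.val ∧ m ∉ s'.val := by decide

set_option synthInstance.maxSize 4096 in
set_option synthInstance.maxHeartbeats 400000 in
set_option maxRecDepth 100000 in
theorem tr_gen : ∀ i j : Fin 4, i ≠ j → ∀ s : DualAffinePoint, (i ∉ s.val ∨ j ∉ s.val) ∨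
    ∃ s₁ s₂ : DualAffinePoint, ∃ m : Fin 4, s₁ ≠ s₂ ∧ (i ∉ s₁.val ∨ j ∉ s₁.val) ∧
      (i ∉ s₂.val ∨ j ∉ s₂.val) ∧ m ∉ s₁.val ∧ m ∉ s₂.val ∧ m ∉ s.val := by decide

end Cfsg.Agent.H9TT
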