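import Mathlib
import Cfsg.Prelude.Def_FischerSpaces
import Cfsg.Agent.Lib.Helper9.TTLines7

set_option autoImplicit false

/-! The dual affine plane of order two inside a set of 3-transpositions, from a copy of `S₄`. -/

namespace Cfsg.Agent.H9TT

open Cfsg Cfsg.LineSystem Cfsg.Agent.H9Fi

variable {G : Type*} [Group G] {D : Set G}

theorem phi_tr_mem (hconj : ∀ g : G, ∀ d ∈ D, g * d * g⁻¹ ∈ D) (φ : Equiv.Perm (Fin 4) →* G)
    (h01 : φ (Equiv.swap 0 1) ∈ D) (s : DualAffinePoint) : φ (tr s) ∈ D := by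
  obtain ⟨σ, hσ⟩ := tr_conj s
  rw [hσ, map_mul, map_mul, map_inv]
  exact hconj _ _ h01

/-- The point map. -/
def PhiD (φ : Equiv.Perm (Fin 4) →* G) (h : ∀ s, φ (tr s) ∈ D) (s : DualAffinePoint) : D :=
  ⟨φ (tr s), h s⟩

section

variable (hT : IsThreeTranspositionSet D) (φ : Equiv.Perm (Fin 4) →* G)
  (hφ : Function.Injective φ) (h : ∀ s, φ (tr s) ∈ D)

include hT hφ

theorem PhiD_inj : Function.Injective (PhiD φ h) := by
  intro s s' e
  have := congrArg Subtype.val e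
  exact tr_inj s s' (hφ this)

theorem PhiD_not_commute {s s' : DualAffinePoint} (hc : tr s * tr s' ≠ tr s' * tr s) :
    ¬ Commute ((PhiD φ h s : D) : G) ((PhiD φ h s' : D) : G) := by
  intro hcm
  apply hc
  apply hφ
  rw [map_mul, map_mul]
  exact hcm

theorem PhiD_line (m : Fin 4) :
    PhiD φ h '' {s : DualAffinePoint | m ∉ s.val} ∈ threeTranspositionLines D := by
  obtain ⟨s₁, s₂, s₃, h12, h31, h32, hm1, hm2, hm3, hnc, hconj3⟩ := tr_line m
  have hline : PhiD φ h '' {s : DualAffinePoint | m ∉ s.val} = lineOf (PhiD φ h s₁) (PhiD φ h s₂) := by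
    have h3 : ((PhiD φ h s₂ : D) : G) * ((PhiD φ h s₁ : D) : G) * ((PhiD φ h s₂ : D) : G)⁻¹ =
        ((PhiD φ h s₃ : D) : G) := by
      show φ (tr s₂) * φ (tr s₁) * (φ (tr s₂))⁻¹ = φ (tr s₃)
      rw [← map_inv, ← map_mul, ← map_mul, hconj3]
    ext z
    constructor
    · rintro ⟨s, hs, rfl⟩
      rcases da_D1 m s₁ s₂ s₃ s h31 h32 h12 hm1 hm2 hm3 hs with rfl | rfl | rfl
      · exact Or.inl rfl
      · exact Or.inr (Or.inl rfl)
      · exact Or.inr (Or.inr h3.symm)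
    · rintro (hz | hz | hz)
      · exact ⟨s₁, hm1, Subtype.ext hz.symm⟩
      · exact ⟨s₂, hm2, Subtype.ext hz.symm⟩
      · refine ⟨s₃, hm3, Subtype.ext ?_⟩
        rw [hz, h3]
  rw [hline]
  exact lineOf_mem _ _ (PhiD_not_commute hT φ hφ h hnc)

theorem line_eq_image {l : Set D} (hl : l ∈ threeTranspositionLines D) {s s' : DualAffinePoint}
    (hss : s ≠ s') (h1 : PhiD φ h s ∈ l) (h2 : PhiD φ h s' ∈ l) (m : Fin 4) (hm : m ∉ s.val)
    (hm' : m ∉ s'.val) : l = PhiD φ h '' {t : DualAffinePoint | m ∉ t.val} := by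
  have hne : PhiD φ h s ≠ PhiD φ h s' := fun e => hss (PhiD_inj hT φ hφ h e)
  exact partialLinear hT l hl _ (PhiD_line hT φ hφ h m) _ _ hne h1 h2 ⟨s, hm, rfl⟩ ⟨s', hm', rfl⟩

/-- The isomorphism with the dual affine plane of order two. -/
theorem da_iso (i j : Fin 4) (hij : i ≠ j) :
    Isomorphic (restrict (threeTranspositionLines D) (span (threeTranspositionLines D)
      (PhiD φ h '' {s : DualAffinePoint | i ∉ s.val} ∪ PhiD φ h '' {s : DualAffinePoint | j ∉ s.val})))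
      dualAffinePlaneTwo := by
  apply iso_of_config (threeTranspositionLines D) dualAffinePlaneTwo (PhiD φ h)
    (PhiD_inj hT φ hφ h)
  · intro l hl
    exact exists_two hT hl
  · rintro lam ⟨m, rfl⟩
    exact PhiD_line hT φ hφ h m
  · intro l hl s s' hss h1 h2
    have hne : PhiD φ h s ≠ PhiD φ h s' := fun e => hss (PhiD_inj hT φ hφ h e)
    obtain ⟨hnc, _⟩ := line_char hT hl hne h1 h2
    have hnc' : tr s * tr s' ≠ tr s' * tr s := by
      intro e
      apply hnc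
      show φ (tr s) * φ (tr s') = φ (tr s') * φ (tr s)
      rw [← map_mul, ← map_mul, e]
    obtain ⟨m, hm, hm'⟩ := tr_noncomm s s' hss hnc'
    exact ⟨_, ⟨m, rfl⟩, line_eq_image hT φ hφ h hl hss h1 h2 m hm hm'⟩
  · set Sp := span (threeTranspositionLines D)
      (PhiD φ h '' {s : DualAffinePoint | i ∉ s.val} ∪ PhiD φ h '' {s : DualAffinePoint | j ∉ s.val})
      with hSp
    have hsub := span_isSubspace (threeTranspositionLines D)
      (PhiD φ h '' {s : DualAffinePoint | i ∉ s.val} ∪ PhiD φ h '' {s : DualAffinePoint | j ∉ s.val})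
    have hin := subset_span (threeTranspositionLines D)
      (PhiD φ h '' {s : DualAffinePoint | i ∉ s.val} ∪ PhiD φ h '' {s : DualAffinePoint | j ∉ s.val})
    have hbase : ∀ s : DualAffinePoint, (i ∉ s.val ∨ j ∉ s.val) → PhiD φ h s ∈ Sp := by
      intro s hs
      apply hin
      rcases hs with hs | hs
      · exact Or.inl ⟨s, hs, rfl⟩
      · exact Or.inr ⟨s, hs, rfl⟩
    rintro _ ⟨s, rfl⟩
    rcases tr_gen i j hij s with hs | ⟨s₁, s₂, m, h12, hs1, hs2, hm1, hm2, hm⟩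
    · exact hbase s hs
    · have hne : PhiD φ h s₁ ≠ PhiD φ h s₂ := fun e => h12 (PhiD_inj hT φ hφ h e)
      have hss := hsub _ (PhiD_line hT φ hφ h m) _ (hbase s₁ hs1) _ (hbase s₂ hs2) hne
        ⟨s₁, hm1, rfl⟩ ⟨s₂, hm2, rfl⟩
      exact hss ⟨s, hm, rfl⟩
  · rintro z (⟨s, _, rfl⟩ | ⟨s, _, rfl⟩)
    · exact ⟨s, rfl⟩
    · exact ⟨s, rfl⟩

end

end Cfsg.Agent.H9TT
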