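import Mathlib
import Cfsg.Prelude

set_option autoImplicit false

/-!
# Fixed points of a group acting on an abelian group, and the nine-term identity
-/

namespace Cfsg.Agent.H9TTQ

variable {G V : Type*} [Group G] [Group V]

/-- the fixed points of `g` in `V` -/
def Fx (φ : G →* MulAut V) (g : G) : Subgroup V where
  carrier := {v | φ g v = v}
  mul_mem' := by
    intro a b ha hb
    simp only [Set.mem_setOf_eq] at ha hb ⊢
    rw [map_mul, ha, hb]
  one_mem' := by simp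
  inv_mem' := by
    intro a ha
    simp only [Set.mem_setOf_eq] at ha ⊢
    rw [map_inv, ha]

theorem mem_Fx (φ : G →* MulAut V) (g : G) (v : V) : v ∈ Fx φ g ↔ φ g v = v := Iff.rfl

theorem Fx_one (φ : G →* MulAut V) (v : V) : v ∈ Fx φ 1 := by
  rw [mem_Fx, map_one]; rfl

theorem Fx_mul (φ : G →* MulAut V) {g h : G} {v : V} (hg : v ∈ Fx φ g) (hh : v ∈ Fx φ h) :
    v ∈ Fx φ (g * h) := by
  rw [mem_Fx] at *
  rw [map_mul, MulAut.mul_apply, hh, hg]

theorem Fx_inv (φ : G →* MulAut V) {g : G} {v : V} (hg : v ∈ Fx φ g) : v ∈ Fx φ g⁻¹ := by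
  rw [mem_Fx] at *
  rw [map_inv]
  conv_lhs => rw [← hg]
  exact MulAut.inv_apply_self _ _ _

theorem Fx_inv_iff (φ : G →* MulAut V) {g : G} {v : V} : v ∈ Fx φ g⁻¹ ↔ v ∈ Fx φ g :=
  ⟨fun h => by have := Fx_inv φ h; rwa [inv_inv] at this, Fx_inv φ⟩

theorem Fx_pow (φ : G →* MulAut V) {g : G} {v : V} (hg : v ∈ Fx φ g) (n : ℕ) :
    v ∈ Fx φ (g ^ n) := by
  induction n with
  | zero => rw [pow_zero]; exact Fx_one φ v
  | succ k ih => rw [pow_succ]; exact Fx_mul φ ih hg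

/-- conjugation moves fixed points -/
theorem Fx_conj (φ : G →* MulAut V) {g : G} {v : V} (hg : v ∈ Fx φ g) (k : G) :
    φ k v ∈ Fx φ (k * g * k⁻¹) := by
  rw [mem_Fx] at *
  rw [map_mul, map_mul, MulAut.mul_apply, MulAut.mul_apply, map_inv, MulAut.inv_apply_self, hg]

theorem Fx_of_mul_left (φ : G →* MulAut V) {g h : G} {v : V} (hgh : v ∈ Fx φ (g * h))
    (hh : v ∈ Fx φ h) : v ∈ Fx φ g := by
  have := Fx_mul φ hgh (Fx_inv φ hh)
  rwa [mul_inv_cancel_right] at this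

theorem Fx_of_mul_right (φ : G →* MulAut V) {g h : G} {v : V} (hgh : v ∈ Fx φ (g * h))
    (hg : v ∈ Fx φ g) : v ∈ Fx φ h := by
  have := Fx_mul φ (Fx_inv φ hg) hgh
  rwa [inv_mul_cancel_left] at this

/-- fixed points of the square of an element of order three -/
theorem Fx_of_sq (φ : G →* MulAut V) {g : G} (hg : g ^ 3 = 1) {v : V} (h : v ∈ Fx φ (g * g)) :
    v ∈ Fx φ g := by
  have h2 := Fx_mul φ h h
  have e : g * g * (g * g) = g := by
    calc g * g * (g * g) = g ^ 3 * g := by rw [pow_succ, pow_two]; group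
      _ = g := by rw [hg, one_mul]
  rwa [e] at h2

/-- an element commuting with `g` maps `Fx g` to itself -/
theorem Fx_of_commute (φ : G →* MulAut V) {g k : G} (hc : Commute k g) {v : V} (hg : v ∈ Fx φ g) :
    φ k v ∈ Fx φ g := by
  have := Fx_conj φ hg k
  rwa [hc.eq, mul_inv_cancel_right] at this

/-- in a `2`-group a cube lying in a subgroup forces membership -/
theorem mem_of_cube_mem (hV : IsPGroup 2 V) (S : Subgroup V) {v : V} (h : v ^ 3 ∈ S) : v ∈ S := by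
  obtain ⟨k, hk⟩ := hV v
  have hord : orderOf v ∣ 2 ^ k := orderOf_dvd_of_pow_eq_one hk
  have hcop : Nat.Coprime 3 (orderOf v) := by
    apply Nat.Coprime.coprime_dvd_right hord
    exact Nat.Coprime.pow_right k (by norm_num)
  obtain ⟨m, hm⟩ := exists_pow_eq_self_of_coprime hcop
  rw [← hm]
  exact S.pow_mem h m

section nine

variable (hc : ∀ u v : V, u * v = v * u) (a b : V →* V) (M : Subgroup V)
  (ha : ∀ w ∈ M, a w ∈ M) (hb : ∀ w ∈ M, b w ∈ M)
  (hab : ∀ w ∈ M, a (b w) = b (a w))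
  (ha3 : ∀ w ∈ M, a (a (a w)) = w) (hb3 : ∀ w ∈ M, b (b (b w)) = w)

include hc ha hb hab ha3 hb3

/-- the nine-term identity for two commuting automorphisms of order three of an abelian group -/
theorem nine_identity {v : V} (hv : v ∈ M) :
    ∃ w n1 n2 n3 n4 : V, v ^ 3 * w = n1 * n2 * n3 * n4 ∧
      w ∈ M ∧ n1 ∈ M ∧ n2 ∈ M ∧ n3 ∈ M ∧ n4 ∈ M ∧
      a w = w ∧ a n1 = n1 ∧ b n2 = n2 ∧ a (b n3) = n3 ∧ a (b (b n4)) = n4 := by
  have hbv := hb v hv
  have hbbv := hb _ hbv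
  have hav := ha v hv
  have haav := ha _ hav
  -- commutation facts
  have c1 : a (b v) = b (a v) := hab v hv
  have c2 : a (b (b v)) = b (b (a v)) := by
    rw [hab _ hbv, c1]
  have c3 : a (a (b v)) = b (a (a v)) := by
    rw [c1, hab _ hav]
  have c4 : a (a (b (b v))) = b (b (a (a v))) := by
    rw [c2, hab _ (hb _ hav), hab _ hav]
  have m11 : a (b v) ∈ M := ha _ hbv
  have m12 : a (b (b v)) ∈ M := ha _ hbbv
  have m21 : a (a (b v)) ∈ M := ha _ m11
  have m22 : a (a (b (b v))) ∈ M := ha _ m12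
  have a3 : a (a (a v)) = v := ha3 v hv
  have a3b : a (a (a (b v))) = b v := ha3 _ hbv
  have a3bb : a (a (a (b (b v)))) = b (b v) := ha3 _ hbbv
  have b3 : b (b (b v)) = v := hb3 v hv
  haveI : Std.Commutative (α := V) (· * ·) := ⟨hc⟩
  refine ⟨(v * b v * b (b v)) * (a v * a (b v) * a (b (b v))) *
      (a (a v) * a (a (b v)) * a (a (b (b v)))),
    v * a v * a (a v), v * b v * b (b v), v * a (b v) * a (a (b (b v))),
    v * a (b (b v)) * a (a (b v)), ?_, ?_, ?_, ?_, ?_, ?_, ?_, ?_, ?_, ?_, ?_⟩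
  · rw [pow_succ, pow_two]
    ac_rfl
  · exact M.mul_mem (M.mul_mem (M.mul_mem (M.mul_mem hv hbv) hbbv)
      (M.mul_mem (M.mul_mem hav m11) m12)) (M.mul_mem (M.mul_mem haav m21) m22)
  · exact M.mul_mem (M.mul_mem hv hav) haav
  · exact M.mul_mem (M.mul_mem hv hbv) hbbv
  · exact M.mul_mem (M.mul_mem hv m11) m22
  · exact M.mul_mem (M.mul_mem hv m12) m21
  · simp only [map_mul]
    rw [a3, a3b, a3bb]
    ac_rfl
  · simp only [map_mul]
    rw [a3]
    ac_rfl
  · simp only [map_mul]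
    rw [b3]
    ac_rfl
  · have e2 : a (b (a (b v))) = a (a (b (b v))) := by
      rw [← hab _ hbv]
    have e3 : a (b (a (a (b (b v))))) = v := by
      rw [c4, hb3 _ haav]
      exact a3
    simp only [map_mul]
    rw [e2, e3]
    ac_rfl
  · have e2 : a (b (b (a (b (b v))))) = a (a (b v)) := by
      rw [c2, hb3 _ hav, ← c1]
    have e3 : a (b (b (a (a (b v))))) = v := by
      rw [c3, hb3 _ haav]
      exact a3
    simp only [map_mul]
    rw [e2, e3]
    ac_rfl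

end nine

/-- the nine-term identity for two elements of order three commuting modulo a central element -/
theorem nine_group (hc : ∀ u v : V, u * v = v * u) (φ : G →* MulAut V) {x y z : G}
    (hz : z = x * y * x⁻¹ * y⁻¹) (hzx : Commute z x) (hzy : Commute z y)
    (hx : x ^ 3 = 1) (hy : y ^ 3 = 1) {v : V} (hv : v ∈ Fx φ z) :
    ∃ w n1 n2 n3 n4 : V, v ^ 3 * w = n1 * n2 * n3 * n4 ∧
      w ∈ Fx φ x ∧ n1 ∈ Fx φ x ∧ (n2 ∈ Fx φ z ∧ n2 ∈ Fx φ y) ∧
      (n3 ∈ Fx φ z ∧ n3 ∈ Fx φ (x * y)) ∧ (n4 ∈ Fx φ z ∧ n4 ∈ Fx φ (x * (y * y))) := by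
  have ha : ∀ w ∈ Fx φ z, (φ x).toMonoidHom w ∈ Fx φ z := fun w hw =>
    Fx_of_commute φ hzx.symm hw
  have hb : ∀ w ∈ Fx φ z, (φ y).toMonoidHom w ∈ Fx φ z := fun w hw =>
    Fx_of_commute φ hzy.symm hw
  have hab : ∀ w ∈ Fx φ z, (φ x).toMonoidHom ((φ y).toMonoidHom w) =
      (φ y).toMonoidHom ((φ x).toMonoidHom w) := by
    intro w hw
    show φ x (φ y w) = φ y (φ x w)
    have e : x * y = z * (y * x) := by rw [hz]; group
    have h1 : φ x (φ y w) = φ (x * y) w := by rw [map_mul]; rfl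
    have h2 : φ y (φ x w) = φ (y * x) w := by rw [map_mul]; rfl
    rw [h1, e, map_mul, MulAut.mul_apply, ← h2]
    exact hb _ (ha _ hw)
  have ha3 : ∀ w ∈ Fx φ z, (φ x).toMonoidHom ((φ x).toMonoidHom ((φ x).toMonoidHom w)) = w := by
    intro w _
    show φ x (φ x (φ x w)) = w
    have : φ x (φ x (φ x w)) = φ (x ^ 3) w := by
      rw [pow_succ, pow_two, map_mul, map_mul]; rfl
    rw [this, hx, map_one]; rfl
  have hb3 : ∀ w ∈ Fx φ z, (φ y).toMonoidHom ((φ y).toMonoidHom ((φ y).toMonoidHom w)) = w := by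
    intro w _
    show φ y (φ y (φ y w)) = w
    have : φ y (φ y (φ y w)) = φ (y ^ 3) w := by
      rw [pow_succ, pow_two, map_mul, map_mul]; rfl
    rw [this, hy, map_one]; rfl
  obtain ⟨w, n1, n2, n3, n4, hid, hwM, h1M, h2M, h3M, h4M, hw, h1, h2, h3, h4⟩ :=
    nine_identity hc (φ x).toMonoidHom (φ y).toMonoidHom (Fx φ z) ha hb hab ha3 hb3 hv
  refine ⟨w, n1, n2, n3, n4, hid, hw, h1, ⟨h2M, h2⟩, ⟨h3M, ?_⟩, ⟨h4M, ?_⟩⟩
  · rw [mem_Fx, map_mul]
    exact h3
  · rw [mem_Fx, map_mul, map_mul]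
    exact h4

end Cfsg.Agent.H9TTQ
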