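import Mathlib
import Cfsg.Prelude

set_option autoImplicit false

/-!
# Two elements of order three whose products have order three: the Heisenberg relations
-/

namespace Cfsg.Agent.H9TTQ

variable {G : Type*} [Group G]

theorem sq_eq_inv_of_cube {y : G} (hy : y ^ 3 = 1) : y * y = y⁻¹ := by
  have : y * y * y = 1 := by rw [← hy, pow_succ, pow_two]
  exact eq_inv_of_mul_eq_one_left this

theorem cube_inv {y : G} (hy : y ^ 3 = 1) : y⁻¹ ^ 3 = 1 := by rw [inv_pow, hy, inv_one]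

theorem cube_conj {x : G} (hx : x ^ 3 = 1) (g : G) : (g * x * g⁻¹) ^ 3 = 1 := by
  rw [conj_pow, hx, mul_one, mul_inv_cancel]

theorem cube_swap {x y : G} (h : (x * y) ^ 3 = 1) : (y * x) ^ 3 = 1 := by
  have := cube_conj h x⁻¹
  have e : x⁻¹ * (x * y) * x⁻¹⁻¹ = y * x := by group
  rwa [e] at this

/-- `x` commutes with its conjugate `y⁻¹ x y` -/
theorem heis_comm {x y : G} (hy : y ^ 3 = 1) (h1 : (x * y) ^ 3 = 1)
    (h2 : (x * y⁻¹) ^ 3 = 1) : Commute x (y⁻¹ * x * y) := by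
  have y2 : y * y = y⁻¹ := sq_eq_inv_of_cube hy
  have yi2 : y⁻¹ * y⁻¹ = y := by
    have := sq_eq_inv_of_cube (cube_inv hy)
    rwa [inv_inv] at this
  -- (A) x y x = y⁻¹ x⁻¹ y⁻¹
  have hA : x * y * x = y⁻¹ * x⁻¹ * y⁻¹ := by
    have e : x * y * x * (y * x * y) = 1 := by
      rw [← h1, pow_succ, pow_two]; group
    have := eq_inv_of_mul_eq_one_left e
    rw [this]; group
  -- (C) y x⁻¹ y = x y⁻¹ x
  have h2' : (y * x⁻¹) ^ 3 = 1 := by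
    have := cube_inv h2
    rwa [mul_inv_rev, inv_inv] at this
  have hC : y * x⁻¹ * y = x * y⁻¹ * x := by
    have e : y * x⁻¹ * y * (x⁻¹ * y * x⁻¹) = 1 := by
      rw [← h2', pow_succ, pow_two]; group
    have := eq_inv_of_mul_eq_one_left e
    rw [this]; group
  -- (B) y⁻¹ x y⁻¹ = x⁻¹ y x⁻¹
  have hB : y⁻¹ * x * y⁻¹ = x⁻¹ * y * x⁻¹ := by
    have e : x * (y⁻¹ * x * y⁻¹) * (x * y⁻¹) = 1 := by
      rw [← h2, pow_succ, pow_two]; group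
    have e2 : x * (y⁻¹ * x * y⁻¹) = (x * y⁻¹)⁻¹ := eq_inv_of_mul_eq_one_left e
    calc y⁻¹ * x * y⁻¹ = x⁻¹ * (x * (y⁻¹ * x * y⁻¹)) := by group
      _ = x⁻¹ * (x * y⁻¹)⁻¹ := by rw [e2]
      _ = x⁻¹ * y * x⁻¹ := by group
  -- (E) y x⁻¹ y⁻¹ x = x y x⁻¹ y⁻¹
  have hE : y * x⁻¹ * y⁻¹ * x = x * y * x⁻¹ * y⁻¹ := by
    calc y * x⁻¹ * y⁻¹ * x = y * x⁻¹ * (y * y) * x := by rw [y2]
      _ = (y * x⁻¹ * y) * y * x := by group
      _ = (x * y⁻¹ * x) * y * x := by rw [hC]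
      _ = x * y⁻¹ * (x * y * x) := by group
      _ = x * y⁻¹ * (y⁻¹ * x⁻¹ * y⁻¹) := by rw [hA]
      _ = x * (y⁻¹ * y⁻¹) * x⁻¹ * y⁻¹ := by group
      _ = x * y * x⁻¹ * y⁻¹ := by rw [yi2]
  have hF : y⁻¹ * x * y = x⁻¹ * y * x⁻¹ * y⁻¹ := by
    calc y⁻¹ * x * y = y⁻¹ * x * (y⁻¹ * y⁻¹) := by rw [yi2]
      _ = (y⁻¹ * x * y⁻¹) * y⁻¹ := by group
      _ = x⁻¹ * y * x⁻¹ * y⁻¹ := by rw [hB]
  show x * (y⁻¹ * x * y) = (y⁻¹ * x * y) * x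
  rw [hF]
  calc x * (x⁻¹ * y * x⁻¹ * y⁻¹) = y * x⁻¹ * y⁻¹ := by group
    _ = x⁻¹ * (x * y * x⁻¹ * y⁻¹) := by group
    _ = x⁻¹ * (y * x⁻¹ * y⁻¹ * x) := by rw [hE]
    _ = x⁻¹ * y * x⁻¹ * y⁻¹ * x := by group

/-- the Heisenberg relations: the commutator is central and of order dividing three -/
theorem heis {x y : G} (hx : x ^ 3 = 1) (hy : y ^ 3 = 1) (h1 : (x * y) ^ 3 = 1)
    (h2 : (x * y⁻¹) ^ 3 = 1) :
    Commute (x * y * x⁻¹ * y⁻¹) x ∧ Commute (x * y * x⁻¹ * y⁻¹) y ∧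
      (x * y * x⁻¹ * y⁻¹) ^ 3 = 1 := by
  have h2i : (x * y⁻¹⁻¹) ^ 3 = 1 := by rwa [inv_inv]
  -- x commutes with y x y⁻¹
  have c1 : Commute x (y * x * y⁻¹) := by
    have := heis_comm (cube_inv hy) h2 h2i
    rwa [inv_inv] at this
  -- y commutes with x y x⁻¹
  have c2 : Commute y (x * y * x⁻¹) := by
    have h3 : (y * x⁻¹) ^ 3 = 1 := by
      have := cube_inv h2
      rwa [mul_inv_rev, inv_inv] at this
    have h4 : (y * x⁻¹⁻¹) ^ 3 = 1 := by rw [inv_inv]; exact cube_swap h1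
    have := heis_comm (cube_inv hx) h3 h4
    rwa [inv_inv] at this
  have ez1 : x * y * x⁻¹ * y⁻¹ = x * (y * x * y⁻¹)⁻¹ := by group
  have ez2 : x * y * x⁻¹ * y⁻¹ = (x * y * x⁻¹) * y⁻¹ := by group
  have cx : Commute (x * y * x⁻¹ * y⁻¹) x := by
    rw [ez1]
    exact ((Commute.refl x).mul_right c1.inv_right).symm
  have cy : Commute (x * y * x⁻¹ * y⁻¹) y := by
    rw [ez2]
    exact (c2.mul_right (Commute.refl y).inv_right).symm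
  refine ⟨cx, cy, ?_⟩
  rw [ez1, (c1.inv_right).mul_pow, hx, one_mul, inv_pow, conj_pow, hx, mul_one, mul_inv_cancel,
    inv_one]

end Cfsg.Agent.H9TTQ
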