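import Mathlib
import Cfsg.Prelude
import Cfsg.Agent.Lib.Helper9.TTQ2

set_option autoImplicit false

/-!
# Uniqueness of the group `3^{1+2} : 2` generated by an involution inverting a Heisenberg pair
-/

namespace Cfsg.Agent.H9TTQ

variable {G : Type*} [Group G]

/-- an involution `d` inverting two elements `x`, `y` of order three with central commutator -/
structure HD (d x y : G) : Prop where
  dd : d * d = 1
  x3 : x ^ 3 = 1
  y3 : y ^ 3 = 1
  dx : d * x * d = x⁻¹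
  dy : d * y * d = y⁻¹
  zx : Commute (x * y * x⁻¹ * y⁻¹) x
  zy : Commute (x * y * x⁻¹ * y⁻¹) y
  z3 : (x * y * x⁻¹ * y⁻¹) ^ 3 = 1
  dz : d * (x * y * x⁻¹ * y⁻¹) * d = x * y * x⁻¹ * y⁻¹

namespace HD

variable {d x y : G} (h : HD d x y)
include h

theorem di : d⁻¹ = d := inv_eq_of_mul_eq_one_right h.dd

theorem conj_pow_d (g : G) (n : ℕ) : d * g ^ n * d = (d * g * d) ^ n := by
  have := conj_pow (a := d) (b := g) (i := n)
  rw [h.di] at this
  exact this.symm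

/-- `y x^a = x^a y z^{2a}` -/
theorem y_mul_x_pow (a : ℕ) :
    y * x ^ a = x ^ a * y * (x * y * x⁻¹ * y⁻¹) ^ (2 * a) := by
  obtain ⟨z, hz⟩ : ∃ z, z = x * y * x⁻¹ * y⁻¹ := ⟨_, rfl⟩
  have hzx := h.zx
  have hzy := h.zy
  have hz3 := h.z3
  rw [← hz] at hzx hzy hz3 ⊢
  have hz2 : z * z = z⁻¹ := sq_eq_inv_of_cube hz3
  have base : y * x = x * y * (z * z) := by
    have hc : Commute z⁻¹ (x * y) := (hzx.mul_right hzy).inv_left
    rw [hz2, ← hc.eq, hz]; group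
  induction a with
  | zero => simp
  | succ k ih =>
    have hzk : Commute (z ^ (2 * k)) x := hzx.pow_left _
    calc y * x ^ (k + 1) = (y * x ^ k) * x := by rw [pow_succ]; group
      _ = x ^ k * y * z ^ (2 * k) * x := by rw [ih]
      _ = x ^ k * y * (z ^ (2 * k) * x) := by group
      _ = x ^ k * y * (x * z ^ (2 * k)) := by rw [hzk.eq]
      _ = x ^ k * (y * x) * z ^ (2 * k) := by group
      _ = x ^ k * (x * y * (z * z)) * z ^ (2 * k) := by rw [base]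
      _ = x ^ (k + 1) * y * (z ^ 2 * z ^ (2 * k)) := by rw [pow_succ, pow_two]; group
      _ = x ^ (k + 1) * y * z ^ (2 * (k + 1)) := by rw [← pow_add]; congr 2; ring

/-- every element of the closure has a normal form -/
theorem span {g : G} (hg : g ∈ Subgroup.closure ({d, x, y} : Set G)) :
    ∃ a b c e : ℕ, g = x ^ a * y ^ b * (x * y * x⁻¹ * y⁻¹) ^ c * d ^ e := by
  obtain ⟨z, hz⟩ : ∃ z, z = x * y * x⁻¹ * y⁻¹ := ⟨_, rfl⟩
  have hzx := h.zx
  have hzy := h.zy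
  have hz3 := h.z3
  have hdz := h.dz
  have hyx := h.y_mul_x_pow
  rw [← hz] at hzx hzy hz3 hdz hyx ⊢
  have hxi : x⁻¹ = x * x := (sq_eq_inv_of_cube h.x3).symm
  have hyi : y⁻¹ = y * y := (sq_eq_inv_of_cube h.y3).symm
  -- left multiplication by generators
  have mx : ∀ g : G, (∃ a b c e : ℕ, g = x ^ a * y ^ b * z ^ c * d ^ e) →
      ∃ a b c e : ℕ, x * g = x ^ a * y ^ b * z ^ c * d ^ e := by
    rintro _ ⟨a, b, c, e, rfl⟩
    exact ⟨a + 1, b, c, e, by rw [pow_succ']; group⟩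
  have my : ∀ g : G, (∃ a b c e : ℕ, g = x ^ a * y ^ b * z ^ c * d ^ e) →
      ∃ a b c e : ℕ, y * g = x ^ a * y ^ b * z ^ c * d ^ e := by
    rintro _ ⟨a, b, c, e, rfl⟩
    refine ⟨a, b + 1, 2 * a + c, e, ?_⟩
    have hzy' : Commute (z ^ (2 * a)) (y ^ b) := (hzy.pow_left _).pow_right _
    calc y * (x ^ a * y ^ b * z ^ c * d ^ e) = (y * x ^ a) * y ^ b * z ^ c * d ^ e := by group
      _ = x ^ a * y * z ^ (2 * a) * y ^ b * z ^ c * d ^ e := by rw [hyx]
      _ = x ^ a * y * (z ^ (2 * a) * y ^ b) * z ^ c * d ^ e := by group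
      _ = x ^ a * y * (y ^ b * z ^ (2 * a)) * z ^ c * d ^ e := by rw [hzy'.eq]
      _ = x ^ a * (y * y ^ b) * (z ^ (2 * a) * z ^ c) * d ^ e := by group
      _ = x ^ a * y ^ (b + 1) * z ^ (2 * a + c) * d ^ e := by rw [← pow_succ', ← pow_add]
  have md : ∀ g : G, (∃ a b c e : ℕ, g = x ^ a * y ^ b * z ^ c * d ^ e) →
      ∃ a b c e : ℕ, d * g = x ^ a * y ^ b * z ^ c * d ^ e := by
    rintro _ ⟨a, b, c, e, rfl⟩
    refine ⟨2 * a, 2 * b, c, e + 1, ?_⟩
    have e1 : d * x ^ a * d = x ^ (2 * a) := by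
      rw [h.conj_pow_d, h.dx, hxi, ← pow_two, ← pow_mul]
    have e2 : d * y ^ b * d = y ^ (2 * b) := by
      rw [h.conj_pow_d, h.dy, hyi, ← pow_two, ← pow_mul]
    have e3 : d * z ^ c * d = z ^ c := by
      rw [h.conj_pow_d, hdz]
    have hdd := h.dd
    calc d * (x ^ a * y ^ b * z ^ c * d ^ e)
        = d * x ^ a * 1 * y ^ b * 1 * z ^ c * 1 * d ^ e := by group
      _ = d * x ^ a * (d * d) * y ^ b * (d * d) * z ^ c * (d * d) * d ^ e := by rw [hdd]
      _ = (d * x ^ a * d) * (d * y ^ b * d) * (d * z ^ c * d) * (d * d ^ e) := by group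
      _ = x ^ (2 * a) * y ^ (2 * b) * z ^ c * d ^ (e + 1) := by rw [e1, e2, e3, ← pow_succ']
  induction hg using Subgroup.closure_induction_left with
  | one => exact ⟨0, 0, 0, 0, by simp⟩
  | mul_left s hs g _ ih =>
    rcases hs with rfl | rfl | rfl
    · exact md g ih
    · exact mx g ih
    · exact my g ih
  | inv_mul_cancel s hs g _ ih =>
    rcases hs with rfl | rfl | rfl
    · rw [h.di]; exact md g ih
    · rw [hxi, mul_assoc]; exact mx _ (mx g ih)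
    · rw [hyi, mul_assoc]; exact my _ (my g ih)

/-- the closure has at most 54 elements -/
theorem card_closure_le : Nat.card (Subgroup.closure ({d, x, y} : Set G)) ≤ 54 := by
  obtain ⟨z, hz⟩ : ∃ z, z = x * y * x⁻¹ * y⁻¹ := ⟨_, rfl⟩
  have hz3 := h.z3
  rw [← hz] at hz3
  have hd2 : d ^ 2 = 1 := by rw [pow_two, h.dd]
  let f : Fin 3 × Fin 3 × Fin 3 × Fin 2 → G := fun t =>
    x ^ (t.1 : ℕ) * y ^ (t.2.1 : ℕ) * z ^ (t.2.2.1 : ℕ) * d ^ (t.2.2.2 : ℕ)
  have hsub : (Subgroup.closure ({d, x, y} : Set G) : Set G) ⊆ Set.range f := by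
    intro g hg
    obtain ⟨a, b, c, e, rfl⟩ := h.span hg
    refine ⟨(⟨a % 3, Nat.mod_lt _ (by norm_num)⟩, ⟨b % 3, Nat.mod_lt _ (by norm_num)⟩,
      ⟨c % 3, Nat.mod_lt _ (by norm_num)⟩, ⟨e % 2, Nat.mod_lt _ (by norm_num)⟩), ?_⟩
    show x ^ (a % 3) * y ^ (b % 3) * z ^ (c % 3) * d ^ (e % 2) = _
    rw [← pow_eq_pow_mod a h.x3, ← pow_eq_pow_mod b h.y3, ← pow_eq_pow_mod c hz3,
      ← pow_eq_pow_mod e hd2, hz]
  have hfin : (Set.range f).Finite := Set.finite_range f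
  have h1 : Nat.card (Subgroup.closure ({d, x, y} : Set G)) ≤ (Set.range f).ncard := by
    rw [← Nat.card_coe_set_eq]
    exact Nat.card_mono hfin hsub
  have h2 : (Set.range f).ncard ≤ 54 := by
    have := Set.ncard_image_le (f := f) (Set.finite_univ (α := Fin 3 × Fin 3 × Fin 3 × Fin 2))
    rw [Set.image_univ, Set.ncard_univ] at this
    simpa using this
  exact h1.trans h2

end HD

/-- componentwise pairs satisfy the relations -/
theorem HD.prod {G₁ G₂ : Type*} [Group G₁] [Group G₂] {d₁ x₁ y₁ : G₁} {d₂ x₂ y₂ : G₂}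
    (h₁ : HD d₁ x₁ y₁) (h₂ : HD d₂ x₂ y₂) :
    HD ((d₁, d₂) : G₁ × G₂) (x₁, x₂) (y₁, y₂) where
  dd := by ext <;> simp [h₁.dd, h₂.dd]
  x3 := by ext <;> simp [h₁.x3, h₂.x3]
  y3 := by ext <;> simp [h₁.y3, h₂.y3]
  dx := by ext <;> simp [h₁.dx, h₂.dx]
  dy := by ext <;> simp [h₁.dy, h₂.dy]
  zx := by
    show _ = _
    ext
    · exact h₁.zx.eq
    · exact h₂.zx.eq
  zy := by
    show _ = _
    ext
    · exact h₁.zy.eq
    · exact h₂.zy.eq
  z3 := by
    ext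
    · exact h₁.z3
    · exact h₂.z3
  dz := by
    ext
    · exact h₁.dz
    · exact h₂.dz

/-- two groups of order at least 54 generated by such triples are isomorphic -/
theorem HD.unique {G₁ G₂ : Type*} [Group G₁] [Group G₂] [Finite G₁] [Finite G₂]
    {d₁ x₁ y₁ : G₁} {d₂ x₂ y₂ : G₂}
    (h₁ : HD d₁ x₁ y₁) (h₂ : HD d₂ x₂ y₂)
    (t₁ : Subgroup.closure ({d₁, x₁, y₁} : Set G₁) = ⊤)
    (t₂ : Subgroup.closure ({d₂, x₂, y₂} : Set G₂) = ⊤)
    (c₁ : 54 ≤ Nat.card G₁) (c₂ : 54 ≤ Nat.card G₂) : Nonempty (G₁ ≃* G₂) := by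
  set Γ : Subgroup (G₁ × G₂) :=
    Subgroup.closure ({((d₁, d₂) : G₁ × G₂), (x₁, x₂), (y₁, y₂)} : Set (G₁ × G₂)) with hΓ
  have hcard : Nat.card Γ ≤ 54 := (h₁.prod h₂).card_closure_le
  let f₁ : Γ →* G₁ := (MonoidHom.fst G₁ G₂).comp Γ.subtype
  let f₂ : Γ →* G₂ := (MonoidHom.snd G₁ G₂).comp Γ.subtype
  have s₁ : Function.Surjective f₁ := by
    rw [← MonoidHom.range_eq_top, MonoidHom.range_comp, Subgroup.range_subtype, hΓ,
      MonoidHom.map_closure, eq_top_iff, ← t₁]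
    apply Subgroup.closure_mono
    intro g hg
    rcases hg with hg | hg | hg
    · exact ⟨(d₁, d₂), by simp, hg.symm⟩
    · exact ⟨(x₁, x₂), by simp, hg.symm⟩
    · exact ⟨(y₁, y₂), by simp, hg.symm⟩
  have s₂ : Function.Surjective f₂ := by
    rw [← MonoidHom.range_eq_top, MonoidHom.range_comp, Subgroup.range_subtype, hΓ,
      MonoidHom.map_closure, eq_top_iff, ← t₂]
    apply Subgroup.closure_mono
    intro g hg
    rcases hg with hg | hg | hg
    · exact ⟨(d₁, d₂), by simp, hg.symm⟩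
    · exact ⟨(x₁, x₂), by simp, hg.symm⟩
    · exact ⟨(y₁, y₂), by simp, hg.symm⟩
  have k₁ : Nat.card G₁ ≤ Nat.card Γ := Nat.card_le_card_of_surjective f₁ s₁
  have k₂ : Nat.card G₂ ≤ Nat.card Γ := Nat.card_le_card_of_surjective f₂ s₂
  have b₁ : Function.Bijective f₁ :=
    (Nat.bijective_iff_surjective_and_card f₁).mpr ⟨s₁, by omega⟩
  have b₂ : Function.Bijective f₂ :=
    (Nat.bijective_iff_surjective_and_card f₂).mpr ⟨s₂, by omega⟩
  exact ⟨(MulEquiv.ofBijective f₁ b₁).symm.trans (MulEquiv.ofBijective f₂ b₂)⟩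

end Cfsg.Agent.H9TTQ
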