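import Mathlib
import Cfsg.Prelude
import Cfsg.Agent.Lib.Helper9.TTQ1
import Cfsg.Agent.Lib.Helper9.TTQ2
import Cfsg.Agent.Lib.Helper9.TT9h

set_option autoImplicit false

/-!
# The abstract setting: a group `G = P⟨d⟩` generated by a class of 3-transpositions acting on an
abelian 2-group
-/

namespace Cfsg.Agent.H9TTQ

open Cfsg Cfsg.Agent.H9TT

variable {G V : Type*} [Group G] [Group V]

/-- the abstract setting -/
structure MS (D : Set G) (P : Subgroup G) (φ : G →* MulAut V) : Prop where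
  tc : TC D
  normal : P.Normal
  three : IsPGroup 3 P
  mul_mem : ∀ a ∈ D, ∀ b ∈ D, a * b ∈ P
  comm : ∀ u v : V, u * v = v * u
  two : IsPGroup 2 V
  inj : Function.Injective φ
  hA : ∀ a ∈ D, ∀ b ∈ D, a ≠ b → ∀ v : V, φ (a * b) v = v → φ a v = v
  ne : ∃ a ∈ D, ∃ b ∈ D, a ≠ b

/-- an element of `P` of order dividing two is trivial -/
theorem eq_one_of_sq_of_three {P : Subgroup G} (h3 : IsPGroup 3 P) {x : G} (hx : x ∈ P)
    (h2 : x ^ 2 = 1) : x = 1 := by
  obtain ⟨k, hk⟩ := h3 ⟨x, hx⟩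
  have hk' : x ^ 3 ^ k = 1 := by
    have := congrArg Subtype.val hk
    simpa using this
  have h1 : orderOf x ∣ 2 := orderOf_dvd_of_pow_eq_one h2
  have h3' : orderOf x ∣ 3 ^ k := orderOf_dvd_of_pow_eq_one hk'
  have hc : Nat.Coprime 2 (3 ^ k) := Nat.Coprime.pow_right k (by norm_num)
  have := Nat.dvd_gcd h1 h3'
  rw [hc.gcd_eq_one] at this
  exact orderOf_eq_one_iff.mp (Nat.dvd_one.mp this)

namespace MS

variable {D : Set G} {P : Subgroup G} {φ : G →* MulAut V} (h : MS D P φ)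
include h

theorem sq {a : G} (ha : a ∈ D) : a * a = 1 := h.tc.toTT.sq ha

theorem inv {a : G} (ha : a ∈ D) : a⁻¹ = a := h.tc.toTT.inv ha

theorem ne_one {a : G} (ha : a ∈ D) : a ≠ 1 := by
  intro e
  have := h.tc.hset.1 a ha
  rw [e, orderOf_one] at this
  omega

theorem not_mem {a : G} (ha : a ∈ D) : a ∉ P := by
  intro hp
  apply h.ne_one ha
  exact eq_one_of_sq_of_three h.three hp (by rw [pow_two, h.sq ha])

/-- two members of `D` that commute are equal -/
theorem eq_of_commute {a b : G} (ha : a ∈ D) (hb : b ∈ D) (hc : Commute a b) : a = b := by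
  have h2 : (a * b) ^ 2 = 1 := by
    rw [pow_two]
    exact sq_of_commute (h.sq ha) (h.sq hb) hc
  have h1 := eq_one_of_sq_of_three h.three (h.mul_mem a ha b hb) h2
  exact (eq_of_mul_eq_one_inv (h.sq ha) h1).symm

/-- the product of any two members of `D` cubes to one -/
theorem cube {a b : G} (ha : a ∈ D) (hb : b ∈ D) : (a * b) ^ 3 = 1 :=
  h.tc.toTT.cube' ha hb (h.eq_of_commute ha hb)

/-- the set of elements of `P` inverted by `d` -/
def I (_h : MS D P φ) (d : G) : Set G := {x | x ∈ P ∧ d * x * d = x⁻¹}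

theorem mem_I {d x : G} : x ∈ h.I d ↔ x ∈ P ∧ d * x * d = x⁻¹ := Iff.rfl

theorem one_mem_I {d : G} (hd : d ∈ D) : (1 : G) ∈ h.I d :=
  ⟨P.one_mem, by rw [mul_one, h.sq hd, inv_one]⟩

theorem mul_mem_I {d e : G} (hd : d ∈ D) (he : e ∈ D) : d * e ∈ h.I d := by
  refine ⟨h.mul_mem d hd e he, ?_⟩
  rw [mul_inv_rev, h.inv hd, h.inv he]
  calc d * (d * e) * d = (d * d) * e * d := by group
    _ = e * d := by rw [h.sq hd, one_mul]

theorem inv_mem_I {d x : G} (hd : d ∈ D) (hx : x ∈ h.I d) : x⁻¹ ∈ h.I d := by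
  refine ⟨P.inv_mem hx.1, ?_⟩
  have e : d * x⁻¹ * d = (d * x * d)⁻¹ := by
    rw [mul_inv_rev, mul_inv_rev, h.inv hd]; group
  rw [e, hx.2]

theorem pow_mem_I {d x : G} (hd : d ∈ D) (hx : x ∈ h.I d) (n : ℕ) : x ^ n ∈ h.I d := by
  refine ⟨P.pow_mem hx.1 n, ?_⟩
  have e : d * x ^ n * d = (d * x * d) ^ n := by
    have := conj_pow (a := d) (b := x) (i := n)
    rw [h.inv hd] at this
    exact this.symm
  rw [e, hx.2, inv_pow]

theorem sandwich_I {d x y : G} (hd : d ∈ D) (hx : x ∈ h.I d) (hy : y ∈ h.I d) :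
    x * y * x ∈ h.I d := by
  refine ⟨P.mul_mem (P.mul_mem hx.1 hy.1) hx.1, ?_⟩
  have hdd := h.sq hd
  calc d * (x * y * x) * d = d * x * 1 * y * 1 * x * d := by group
    _ = d * x * (d * d) * y * (d * d) * x * d := by rw [hdd]
    _ = (d * x * d) * (d * y * d) * (d * x * d) := by group
    _ = (x * y * x)⁻¹ := by rw [hx.2, hy.2]; group

/-- a commutator with `d` is inverted by `d` -/
theorem comm_mem_I {d w : G} (hd : d ∈ D) (hw : w ∈ P) : w⁻¹ * (d * w * d) ∈ h.I d := by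
  have hdw : d * w * d ∈ P := by
    have := h.normal.conj_mem w hw d
    rwa [h.inv hd] at this
  refine ⟨P.mul_mem (P.inv_mem hw) hdw, ?_⟩
  calc d * (w⁻¹ * (d * w * d)) * d = d * w⁻¹ * d * w * (d * d) := by group
    _ = d * w⁻¹ * d * w := by rw [h.sq hd, mul_one]
    _ = (w⁻¹ * (d * w * d))⁻¹ := by
        rw [mul_inv_rev, mul_inv_rev, mul_inv_rev, h.inv hd, inv_inv]; group

/-- `d x` is a member of `D` whenever `d` inverts `x ∈ P` -/
theorem mul_mem_D {d x : G} (hd : d ∈ D) (hx : x ∈ h.I d) : d * x ∈ D := by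
  obtain ⟨k, hk⟩ := h.three ⟨x, hx.1⟩
  have hk' : x ^ 3 ^ k = 1 := by
    have := congrArg Subtype.val hk
    simpa using this
  have hodd : Odd (3 ^ k) := Odd.pow (by decide)
  obtain ⟨m, hm⟩ := hodd
  -- w = x ^ (m+1), w * w = x
  have hww : x ^ (m + 1) * x ^ (m + 1) = x := by
    rw [← pow_add]
    have : m + 1 + (m + 1) = 3 ^ k + 1 := by omega
    rw [this, pow_succ, hk', one_mul]
  have hwI := h.pow_mem_I hd hx (m + 1)
  have hconj := h.tc.hconj (x ^ (m + 1))⁻¹ d hd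
  rw [inv_inv] at hconj
  have e : (x ^ (m + 1))⁻¹ * d * x ^ (m + 1) = d * x := by
    have e1 : (x ^ (m + 1))⁻¹ = d * x ^ (m + 1) * d := hwI.2.symm
    calc (x ^ (m + 1))⁻¹ * d * x ^ (m + 1) = d * x ^ (m + 1) * d * d * x ^ (m + 1) := by rw [e1]
      _ = d * x ^ (m + 1) * (d * d) * x ^ (m + 1) := by group
      _ = d * (x ^ (m + 1) * x ^ (m + 1)) := by rw [h.sq hd]; group
      _ = d * x := by rw [hww]
  rwa [e] at hconj

theorem cube_I {d x : G} (hd : d ∈ D) (hx : x ∈ h.I d) : x ^ 3 = 1 := by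
  have := h.cube hd (h.mul_mem_D hd hx)
  have e : d * (d * x) = x := by
    calc d * (d * x) = (d * d) * x := by group
      _ = x := by rw [h.sq hd, one_mul]
  rwa [e] at this

/-- fixed points of a nontrivial inverted element are fixed by `d` -/
theorem Fx_le_of_I {d x : G} (hd : d ∈ D) (hx : x ∈ h.I d) (hx1 : x ≠ 1) {v : V}
    (hv : v ∈ Fx φ x) : v ∈ Fx φ d := by
  have hdx := h.mul_mem_D hd hx
  have hne : d ≠ d * x := by
    intro e
    apply hx1
    have := mul_left_cancel (a := d) (b := 1) (c := x) (by rw [mul_one]; exact e)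
    exact this.symm
  have e : d * (d * x) = x := by
    calc d * (d * x) = (d * d) * x := by group
      _ = x := by rw [h.sq hd, one_mul]
  have := h.hA d hd (d * x) hdx hne v
  rw [e] at this
  exact this hv

end MS

end Cfsg.Agent.H9TTQ
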