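import Mathlib
import Cfsg.Prelude
import Cfsg.Agent.Lib.Helper9.TTQ3

set_option autoImplicit false

/-!
# The abstract setting: generation by inverted elements, no inverted `3²`, Heisenberg pairs
-/

namespace Cfsg.Agent.H9TTQ

open Cfsg Cfsg.Agent.H9TT

variable {G V : Type*} [Group G] [Group V]

namespace MS

variable {D : Set G} {P : Subgroup G} {φ : G →* MulAut V} (h : MS D P φ)
include h

theorem I_subset {d : G} : h.I d ⊆ (P : Set G) := fun _ hx => hx.1

theorem closure_I_le {d : G} : Subgroup.closure (h.I d) ≤ P :=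
  (Subgroup.closure_le P).mpr h.I_subset

theorem conj_mem_closure_I {d k : G} (hd : d ∈ D) (hk : k ∈ Subgroup.closure (h.I d)) :
    d * k * d ∈ Subgroup.closure (h.I d) := by
  have hdd := h.sq hd
  induction hk using Subgroup.closure_induction with
  | mem x hx =>
    rw [hx.2]
    exact Subgroup.subset_closure (h.inv_mem_I hd hx)
  | one => rw [mul_one, hdd]; exact Subgroup.one_mem _
  | mul a b _ _ iha ihb =>
    have e : d * (a * b) * d = (d * a * d) * (d * b * d) := by
      calc d * (a * b) * d = d * a * 1 * b * d := by group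
        _ = d * a * (d * d) * b * d := by rw [hdd]
        _ = (d * a * d) * (d * b * d) := by group
    rw [e]
    exact Subgroup.mul_mem _ iha ihb
  | inv a _ iha =>
    have e : d * a⁻¹ * d = (d * a * d)⁻¹ := by
      rw [mul_inv_rev, mul_inv_rev, h.inv hd]; group
    rw [e]
    exact Subgroup.inv_mem _ iha

/-- `P` is generated by the elements inverted by `d` -/
theorem closure_I {d : G} (hd : d ∈ D) : Subgroup.closure (h.I d) = P := by
  apply le_antisymm h.closure_I_le
  have hdd := h.sq hd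
  have key : ∀ g : G, g ∈ Subgroup.closure (h.I d) ∨ d * g ∈ Subgroup.closure (h.I d) := by
    intro g
    have hg : g ∈ Subgroup.closure D := by rw [h.tc.hgen]; exact Subgroup.mem_top g
    induction hg using Subgroup.closure_induction with
    | mem x hx => exact Or.inr (Subgroup.subset_closure (h.mul_mem_I hd hx))
    | one => exact Or.inl (Subgroup.one_mem _)
    | mul a b _ _ iha ihb =>
      rcases iha with ha | ha <;> rcases ihb with hb | hb
      · exact Or.inl (Subgroup.mul_mem _ ha hb)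
      · right
        have e : d * (a * b) = (d * a * d) * (d * b) := by
          calc d * (a * b) = d * a * 1 * b := by group
            _ = d * a * (d * d) * b := by rw [hdd]
            _ = (d * a * d) * (d * b) := by group
        rw [e]
        exact Subgroup.mul_mem _ (h.conj_mem_closure_I hd ha) hb
      · right
        have e : d * (a * b) = (d * a) * b := by group
        rw [e]
        exact Subgroup.mul_mem _ ha hb
      · left
        have e : a * b = (d * (d * a) * d) * (d * b) := by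
          calc a * b = 1 * a * 1 * b := by group
            _ = (d * d) * a * (d * d) * b := by rw [hdd]
            _ = (d * (d * a) * d) * (d * b) := by group
        rw [e]
        exact Subgroup.mul_mem _ (h.conj_mem_closure_I hd ha) hb
    | inv a _ iha =>
      rcases iha with ha | ha
      · exact Or.inl (Subgroup.inv_mem _ ha)
      · right
        have e : d * a⁻¹ = d * (d * a)⁻¹ * d := by
          rw [mul_inv_rev, h.inv hd]
          calc d * a⁻¹ = d * a⁻¹ * 1 := by group
            _ = d * a⁻¹ * (d * d) := by rw [hdd]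
            _ = d * (a⁻¹ * d) * d := by group
        rw [e]
        exact h.conj_mem_closure_I hd (Subgroup.inv_mem _ ha)
  intro p hp
  rcases key p with hp' | hp'
  · exact hp'
  · exfalso
    apply h.not_mem hd
    have := P.mul_mem (h.closure_I_le hp') (P.inv_mem hp)
    rwa [mul_inv_cancel_right] at this

theorem inv_conj {d x : G} (hd : d ∈ D) (hx : x ∈ h.I d) : d * x⁻¹ * d = x := by
  have := (h.inv_mem_I hd hx).2
  rwa [inv_inv] at this

theorem mul_mem_I_of_commute {d x y : G} (hd : d ∈ D) (hx : x ∈ h.I d) (hy : y ∈ h.I d)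
    (hc : Commute x y) : x * y ∈ h.I d := by
  refine ⟨P.mul_mem hx.1 hy.1, ?_⟩
  have hdd := h.sq hd
  calc d * (x * y) * d = d * x * 1 * y * d := by group
    _ = d * x * (d * d) * y * d := by rw [hdd]
    _ = (d * x * d) * (d * y * d) := by group
    _ = x⁻¹ * y⁻¹ := by rw [hx.2, hy.2]
    _ = (x * y)⁻¹ := by rw [hc.eq, mul_inv_rev]

/-- products of two inverted elements cube to one -/
theorem cube_mul_I {d x y : G} (hd : d ∈ D) (hx : x ∈ h.I d) (hy : y ∈ h.I d) :
    (x * y) ^ 3 = 1 := by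
  have ha := h.mul_mem_D hd hx
  have hb := h.mul_mem_D hd hy
  have hc := h.tc.toTT.third_mem hd ha
  have := h.cube hc hb
  have hdd := h.sq hd
  have e : d * (d * x) * d * (d * y) = x * y := by
    calc d * (d * x) * d * (d * y) = (d * d) * x * (d * d) * y := by group
      _ = x * y := by rw [hdd]; group
  rwa [e] at this

/-- the key sub-lemma: a vector fixed by `u` and by `x⁻¹ u x` is fixed by `x` -/
theorem Fx_sub {d x u : G} (hd : d ∈ D) (hx : x ∈ h.I d) (hu : u ∈ h.I d) (hu1 : u ≠ 1)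
    {v : V} (hv : v ∈ Fx φ u) (hv' : v ∈ Fx φ (x⁻¹ * u * x)) : v ∈ Fx φ x := by
  have hvd : v ∈ Fx φ d := h.Fx_le_of_I hd hu hu1 hv
  have hdu := h.mul_mem_D hd hu
  have hd' : x⁻¹ * d * x ∈ D := by
    have := h.tc.hconj x⁻¹ d hd
    rwa [inv_inv] at this
  have he' : x⁻¹ * (d * u) * x ∈ D := by
    have := h.tc.hconj x⁻¹ (d * u) hdu
    rwa [inv_inv] at this
  have hdd := h.sq hd
  have hne : x⁻¹ * d * x ≠ x⁻¹ * (d * u) * x := by
    intro e
    apply hu1
    have e1 : d = d * u := by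
      have := congrArg (fun t => x * t * x⁻¹) e
      beta_reduce at this
      have l : x * (x⁻¹ * d * x) * x⁻¹ = d := by group
      have r : x * (x⁻¹ * (d * u) * x) * x⁻¹ = d * u := by group
      rwa [l, r] at this
    have := mul_left_cancel (a := d) (b := 1) (c := u) (by rw [mul_one]; exact e1)
    exact this.symm
  have eprod : (x⁻¹ * d * x) * (x⁻¹ * (d * u) * x) = x⁻¹ * u * x := by
    calc (x⁻¹ * d * x) * (x⁻¹ * (d * u) * x) = x⁻¹ * (d * d) * u * x := by group
      _ = x⁻¹ * u * x := by rw [hdd]; group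
  have hvd' : v ∈ Fx φ (x⁻¹ * d * x) := by
    have := h.hA _ hd' _ he' hne v
    rw [eprod] at this
    exact this hv'
  have h2 := Fx_mul φ hvd hvd'
  have e2 : d * (x⁻¹ * d * x) = x * x := by
    calc d * (x⁻¹ * d * x) = (d * x⁻¹ * d) * x := by group
      _ = x * x := by rw [h.inv_conj hd hx]
  rw [e2] at h2
  exact Fx_of_sq φ (h.cube_I hd hx) h2

/-- commuting inverted elements generate a cyclic group -/
theorem eq_pow_of_commute {d x y : G} (hd : d ∈ D) (hx : x ∈ h.I d) (hy : y ∈ h.I d)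
    (hx1 : x ≠ 1) (hc : Commute x y) : y = 1 ∨ y = x ∨ y = x⁻¹ := by
  by_contra hcon
  push Not at hcon
  obtain ⟨hy1, hyx, hyxi⟩ := hcon
  have hx3 := h.cube_I hd hx
  have hy3 := h.cube_I hd hy
  have hz : (1 : G) = x * y * x⁻¹ * y⁻¹ := by
    rw [hc.eq]; group
  have hxy : x * y ∈ h.I d := h.mul_mem_I_of_commute hd hx hy hc
  have hxy1 : x * y ≠ 1 := by
    intro e
    apply hyxi
    exact (eq_inv_of_mul_eq_one_right e)
  have hyy : y * y = y⁻¹ := sq_eq_inv_of_cube hy3
  have hxyy : x * (y * y) ∈ h.I d := by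
    rw [hyy]
    exact h.mul_mem_I_of_commute hd hx (h.inv_mem_I hd hy) hc.inv_right
  have hxyy1 : x * (y * y) ≠ 1 := by
    rw [hyy]
    intro e
    apply hyx
    have := eq_inv_of_mul_eq_one_left e
    rw [inv_inv] at this
    exact this.symm
  have hall : ∀ v : V, v ∈ Fx φ d := by
    intro v
    obtain ⟨w, n1, n2, n3, n4, hid, hw, h1, ⟨-, h2⟩, ⟨-, h3⟩, ⟨-, h4⟩⟩ :=
      nine_group h.comm φ hz (Commute.one_left x) (Commute.one_left y) hx3 hy3 (Fx_one φ v)
    have hw' := h.Fx_le_of_I hd hx hx1 hw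
    have h1' := h.Fx_le_of_I hd hx hx1 h1
    have h2' := h.Fx_le_of_I hd hy hy1 h2
    have h3' := h.Fx_le_of_I hd hxy hxy1 h3
    have h4' := h.Fx_le_of_I hd hxyy hxyy1 h4
    have hprod : v ^ 3 * w ∈ Fx φ d := by
      rw [hid]
      exact (Fx φ d).mul_mem ((Fx φ d).mul_mem ((Fx φ d).mul_mem h1' h2') h3') h4'
    have hv3 : v ^ 3 ∈ Fx φ d := by
      have := (Fx φ d).mul_mem hprod ((Fx φ d).inv_mem hw')
      rwa [mul_inv_cancel_right] at this
    exact mem_of_cube_mem h.two _ hv3
  apply h.ne_one hd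
  apply h.inj
  rw [map_one]
  ext v
  exact hall v

/-- the Heisenberg relations for two inverted elements -/
theorem heis_I {d x y : G} (hd : d ∈ D) (hx : x ∈ h.I d) (hy : y ∈ h.I d) :
    Commute (x * y * x⁻¹ * y⁻¹) x ∧ Commute (x * y * x⁻¹ * y⁻¹) y ∧
      (x * y * x⁻¹ * y⁻¹) ^ 3 = 1 ∧ d * (x * y * x⁻¹ * y⁻¹) * d = x * y * x⁻¹ * y⁻¹ := by
  obtain ⟨c1, c2, c3⟩ := heis (h.cube_I hd hx) (h.cube_I hd hy) (h.cube_mul_I hd hx hy)
    (h.cube_mul_I hd hx (h.inv_mem_I hd hy))
  refine ⟨c1, c2, c3, ?_⟩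
  have hdd := h.sq hd
  have e1 : d * (x * y * x⁻¹ * y⁻¹) * d =
      (d * x * d) * (d * y * d) * (d * x⁻¹ * d) * (d * y⁻¹ * d) := by
    calc d * (x * y * x⁻¹ * y⁻¹) * d = d * x * 1 * y * 1 * x⁻¹ * 1 * y⁻¹ * d := by group
      _ = d * x * (d * d) * y * (d * d) * x⁻¹ * (d * d) * y⁻¹ * d := by rw [hdd]
      _ = _ := by group
  rw [e1, hx.2, hy.2, h.inv_conj hd hx, h.inv_conj hd hy]
  -- x⁻¹ y⁻¹ x y = (y x)⁻¹ z (y x) = z
  have cyx : Commute (x * y * x⁻¹ * y⁻¹) (y * x) := c2.mul_right c1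
  calc x⁻¹ * y⁻¹ * x * y = (y * x)⁻¹ * ((x * y * x⁻¹ * y⁻¹) * (y * x)) := by group
    _ = (y * x)⁻¹ * ((y * x) * (x * y * x⁻¹ * y⁻¹)) := by rw [cyx.eq]
    _ = x * y * x⁻¹ * y⁻¹ := by group

end MS

end Cfsg.Agent.H9TTQ
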