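import Mathlib
import Cfsg.Prelude
import Cfsg.Agent.Lib.Helper9.TTQ4

set_option autoImplicit false

/-!
# The abstract setting: fixed points of the centre of a Heisenberg pair
-/

namespace Cfsg.Agent.H9TTQ

open Cfsg Cfsg.Agent.H9TT

variable {G V : Type*} [Group G] [Group V]

namespace MS

variable {D : Set G} {P : Subgroup G} {φ : G →* MulAut V} (h : MS D P φ)
include h

/-- for non-commuting inverted `x`, `y` the fixed points of `[x, y]` are fixed by `x` -/
theorem Fx_comm_le {d x y : G} (hd : d ∈ D) (hx : x ∈ h.I d) (hy : y ∈ h.I d)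
    (hz1 : x * y * x⁻¹ * y⁻¹ ≠ 1) {v : V} (hv : v ∈ Fx φ (x * y * x⁻¹ * y⁻¹)) : v ∈ Fx φ x := by
  obtain ⟨czx, czy, cz3, -⟩ := h.heis_I hd hx hy
  have hx3 := h.cube_I hd hx
  have hy3 := h.cube_I hd hy
  have hxx : x * x = x⁻¹ := sq_eq_inv_of_cube hx3
  have hyy : y * y = y⁻¹ := sq_eq_inv_of_cube hy3
  have hnc : ¬ Commute x y := by
    intro hc
    apply hz1
    rw [hc.eq]; group
  obtain ⟨z, hz⟩ : ∃ z, z = x * y * x⁻¹ * y⁻¹ := ⟨_, rfl⟩
  rw [← hz] at czx czy cz3 hz1 hv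
  have hy1 : y ≠ 1 := by
    rintro rfl
    exact hnc (Commute.one_right x)
  obtain ⟨w, n1, n2, n3, n4, hid, hw, h1, ⟨h2z, h2⟩, ⟨h3z, h3⟩, ⟨h4z, h4⟩⟩ :=
    nine_group h.comm φ hz czx czy hx3 hy3 hv
  -- n2
  have k2 : n2 ∈ Fx φ x := by
    apply h.Fx_sub hd hx hy hy1 h2
    have e : x⁻¹ * y * x = z⁻¹ * y := by
      have e1 : x⁻¹ * z * x = z := by rw [mul_assoc, czx.eq]; group
      calc x⁻¹ * y * x = (x⁻¹ * z * x)⁻¹ * y := by rw [hz]; group
        _ = z⁻¹ * y := by rw [e1]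
    rw [e]
    exact Fx_mul φ (Fx_inv φ h2z) h2
  -- n3
  have hxi := h.inv_mem_I hd hx
  have hu3 : x⁻¹ * y * x⁻¹ ∈ h.I d := h.sandwich_I hd hxi hy
  have hu31 : x⁻¹ * y * x⁻¹ ≠ 1 := by
    intro e
    apply hnc
    have : y = x * x := by
      calc y = x * (x⁻¹ * y * x⁻¹) * x := by group
        _ = x * x := by rw [e, mul_one]
    rw [this]
    exact (Commute.refl x).mul_right (Commute.refl x)
  have k3 : n3 ∈ Fx φ x := by
    apply h.Fx_sub hd hx hu3 hu31
    · have e : x⁻¹ * y * x⁻¹ = z * (x * y) := by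
        calc x⁻¹ * y * x⁻¹ = (x * x) * y * (x * x) := by rw [hxx]
          _ = x * (x * y * x⁻¹ * y⁻¹) * y * x * (x * x) := by group
          _ = x * z * y * x * (x * x) := by rw [hz]
          _ = (x * z) * y * x * (x * x) := by group
          _ = (z * x) * y * x * (x * x) := by rw [czx.eq]
          _ = z * (x * y) * (x * x * x) := by group
          _ = z * (x * y) := by
            have : x * x * x = 1 := by rw [← hx3, pow_succ, pow_two]
            rw [this, mul_one]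
      rw [e]
      exact Fx_mul φ h3z h3
    · have e : x⁻¹ * (x⁻¹ * y * x⁻¹) * x = x * y := by
        calc x⁻¹ * (x⁻¹ * y * x⁻¹) * x = (x * x)⁻¹ * y := by group
          _ = x * y := by rw [hxx, inv_inv]
      rw [e]
      exact h3
  -- n4
  have hu4 : x * y * x ∈ h.I d := h.sandwich_I hd hx hy
  have hu41 : x * y * x ≠ 1 := by
    intro e
    apply hnc
    have : y = x⁻¹ * x⁻¹ := by
      calc y = x⁻¹ * (x * y * x) * x⁻¹ := by group
        _ = x⁻¹ * x⁻¹ := by rw [e, mul_one]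
    rw [this]
    exact ((Commute.refl x).inv_right).mul_right (Commute.refl x).inv_right
  have h4' : n4 ∈ Fx φ (y * (x * x)) := by
    have e : y * (x * x) = (x * (y * y))⁻¹ := by
      rw [hxx, hyy]; group
    rw [e]
    exact Fx_inv φ h4
  have k4 : n4 ∈ Fx φ x := by
    apply h.Fx_sub hd hx hu4 hu41
    · have e : x * y * x = z * (y * (x * x)) := by
        calc x * y * x = (x * y * x⁻¹ * y⁻¹) * (y * x⁻¹⁻¹ * x) := by group
          _ = z * (y * (x * x)) := by rw [← hz, inv_inv, mul_assoc y x x]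
      rw [e]
      exact Fx_mul φ h4z h4'
    · have e : x⁻¹ * (x * y * x) * x = y * (x * x) := by group
      rw [e]
      exact h4'
  have hprod : v ^ 3 * w ∈ Fx φ x := by
    rw [hid]
    exact (Fx φ x).mul_mem ((Fx φ x).mul_mem ((Fx φ x).mul_mem h1 k2) k3) k4
  have hv3 : v ^ 3 ∈ Fx φ x := by
    have := (Fx φ x).mul_mem hprod ((Fx φ x).inv_mem hw)
    rwa [mul_inv_cancel_right] at this
  exact mem_of_cube_mem h.two _ hv3

end MS

end Cfsg.Agent.H9TTQ
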