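import Mathlib
import Cfsg.Prelude
import Cfsg.Agent.Lib.Helper9.TTQ5
import Cfsg.Agent.S0444

set_option autoImplicit false

/-!
# The abstract setting: the case of a central inverted element
-/

namespace Cfsg.Agent.H9TTQ

open Cfsg Cfsg.Agent.H9TT

variable {G V : Type*} [Group G] [Group V]

namespace MS

variable {D : Set G} {P : Subgroup G} {φ : G →* MulAut V} (h : MS D P φ)
include h

/-- if some nontrivial inverted element is central in `P` then `G` is the symmetric group `S₃` -/
theorem caseA {d y : G} (hd : d ∈ D) (hy : y ∈ h.I d) (hy1 : y ≠ 1)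
    (hcen : ∀ p ∈ P, Commute y p) : Nonempty (G ≃* Equiv.Perm (Fin 3)) := by
  have hdd := h.sq hd
  have he0 : d * y ∈ D := h.mul_mem_D hd hy
  have hnc : ¬ Commute d (d * y) := by
    intro hc
    have := h.eq_of_commute hd he0 hc
    apply hy1
    have := mul_left_cancel (a := d) (b := 1) (c := y) (by rw [mul_one]; exact this)
    exact this.symm
  obtain ⟨e⟩ := Cfsg.Agent.S0444.result h.tc.hset hd he0 hnc
  have hDsub : D ⊆ (Subgroup.closure ({d, d * y} : Set G) : Set G) := by
    intro a ha
    have hda := h.mul_mem_I hd ha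
    have hdm : d ∈ Subgroup.closure ({d, d * y} : Set G) :=
      Subgroup.subset_closure (by simp)
    have hem : d * y ∈ Subgroup.closure ({d, d * y} : Set G) :=
      Subgroup.subset_closure (by simp)
    have ea : a = d * (d * a) := by
      calc a = (d * d) * a := by rw [hdd, one_mul]
        _ = d * (d * a) := by group
    rcases h.eq_pow_of_commute hd hy hda hy1 (hcen _ hda.1) with e1 | e1 | e1
    · rw [ea, e1, mul_one]; exact hdm
    · rw [ea, e1]; exact hem
    · rw [ea, e1]
      have e2 : d * y⁻¹ = d * (d * y)⁻¹ * d := by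
        rw [mul_inv_rev, h.inv hd]
        calc d * y⁻¹ = d * y⁻¹ * 1 := by group
          _ = d * y⁻¹ * (d * d) := by rw [hdd]
          _ = d * (y⁻¹ * d) * d := by group
      rw [e2]
      exact Subgroup.mul_mem _ (Subgroup.mul_mem _ hdm (Subgroup.inv_mem _ hem)) hdm
  have htop : Subgroup.closure ({d, d * y} : Set G) = ⊤ := by
    rw [eq_top_iff, ← h.tc.hgen]
    exact (Subgroup.closure_le _).mpr hDsub
  exact ⟨(Subgroup.topEquiv.symm.trans (MulEquiv.subgroupCongr htop.symm)).trans e⟩

end MS

end Cfsg.Agent.H9TTQ
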