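import Mathlib
import Cfsg.Prelude
import Cfsg.Agent.Lib.Helper9.TTQ5

set_option autoImplicit false

/-!
# The abstract setting: the second centre of `P`
-/

namespace Cfsg.Agent.H9TTQ

open Cfsg Cfsg.Agent.H9TT

variable {G V : Type*} [Group G] [Group V]

/-- the centre of `P` as a subgroup of `G` -/
def ZP (P : Subgroup G) : Subgroup G := P ⊓ Subgroup.centralizer (P : Set G)

instance ZP_normal (P : Subgroup G) [P.Normal] : (ZP P).Normal := by
  unfold ZP
  infer_instance

theorem mem_ZP {P : Subgroup G} {g : G} : g ∈ ZP P ↔ g ∈ P ∧ ∀ p ∈ P, Commute g p := by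
  unfold ZP
  rw [Subgroup.mem_inf, Subgroup.mem_centralizer_iff]
  constructor
  · rintro ⟨h1, h2⟩
    exact ⟨h1, fun p hp => (h2 p hp).symm⟩
  · rintro ⟨h1, h2⟩
    exact ⟨h1, fun p hp => (h2 p hp).eq.symm⟩

/-- the second centre of `P` as a subgroup of `G` -/
def Z2 (P : Subgroup G) [P.Normal] : Subgroup G :=
  P ⊓ (Subgroup.centralizer ((P.map (QuotientGroup.mk' (ZP P)) : Subgroup (G ⧸ ZP P)) :
    Set (G ⧸ ZP P))).comap (QuotientGroup.mk' (ZP P))

instance Z2_normal (P : Subgroup G) [P.Normal] : (Z2 P).Normal := by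
  unfold Z2
  haveI : (P.map (QuotientGroup.mk' (ZP P))).Normal :=
    Subgroup.Normal.map inferInstance _ (QuotientGroup.mk'_surjective _)
  infer_instance

theorem mem_Z2 {P : Subgroup G} [P.Normal] {g : G} :
    g ∈ Z2 P ↔ g ∈ P ∧ ∀ p ∈ P, g * p * g⁻¹ * p⁻¹ ∈ ZP P := by
  unfold Z2
  rw [Subgroup.mem_inf, Subgroup.mem_comap, Subgroup.mem_centralizer_iff]
  constructor
  · rintro ⟨h1, h2⟩
    refine ⟨h1, fun p hp => ?_⟩
    have := h2 _ (Subgroup.mem_map_of_mem _ hp)
    rw [← QuotientGroup.eq_one_iff, QuotientGroup.mk_mul, QuotientGroup.mk_mul,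
      QuotientGroup.mk_mul, QuotientGroup.mk_inv, QuotientGroup.mk_inv]
    simp only [QuotientGroup.mk'_apply] at this
    rw [← this]; group
  · rintro ⟨h1, h2⟩
    refine ⟨h1, ?_⟩
    rintro _ ⟨p, hp, rfl⟩
    have := h2 p hp
    rw [← QuotientGroup.eq_one_iff, QuotientGroup.mk_mul, QuotientGroup.mk_mul,
      QuotientGroup.mk_mul, QuotientGroup.mk_inv, QuotientGroup.mk_inv] at this
    simp only [QuotientGroup.mk'_apply]
    have e := mul_inv_eq_one.mp this
    have e2 := mul_inv_eq_iff_eq_mul.mp e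
    exact e2.symm

theorem ZP_le_Z2 (P : Subgroup G) [P.Normal] : ZP P ≤ Z2 P := by
  intro g hg
  rw [mem_Z2]
  refine ⟨(mem_ZP.mp hg).1, fun p hp => ?_⟩
  have := (mem_ZP.mp hg).2 p hp
  have e : g * p * g⁻¹ * p⁻¹ = 1 := by rw [this.eq]; group
  rw [e]; exact Subgroup.one_mem _

/-- a nonabelian `3`-group has an element of the second centre outside the centre -/
theorem exists_Z2 [Finite G] {P : Subgroup G} [P.Normal] (hP : IsPGroup 3 P)
    (hnab : ¬ P ≤ ZP P) : ∃ w ∈ Z2 P, w ∉ ZP P := by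
  classical
  obtain ⟨p0, hp0, hp0Z⟩ := SetLike.not_le_iff_exists.mp hnab
  set π := QuotientGroup.mk' (ZP P) with hπ
  have hPb : IsPGroup 3 (P.map π) := hP.map π
  haveI : Nontrivial (P.map π) := by
    refine ⟨⟨⟨π p0, Subgroup.mem_map_of_mem _ hp0⟩, 1, ?_⟩⟩
    intro e
    apply hp0Z
    have := congrArg Subtype.val e
    simp only [Subgroup.coe_one] at this
    rwa [hπ, QuotientGroup.mk'_apply, QuotientGroup.eq_one_iff] at this
  haveI : Fact (Nat.Prime 3) := ⟨Nat.prime_three⟩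
  haveI := hPb.center_nontrivial
  obtain ⟨c, hc⟩ := exists_ne (1 : Subgroup.center (P.map π))
  obtain ⟨w, hw, hwc⟩ := c.1.2
  refine ⟨w, ?_, ?_⟩
  · rw [mem_Z2]
    refine ⟨hw, fun p hp => ?_⟩
    have hcen := Subgroup.mem_center_iff.mp c.2 ⟨π p, Subgroup.mem_map_of_mem _ hp⟩
    have hcen' : π p * π w = π w * π p := by
      have := congrArg Subtype.val hcen
      simp only [Subgroup.coe_mul] at this
      rw [hwc]
      exact this
    rw [← QuotientGroup.eq_one_iff]
    show π (w * p * w⁻¹ * p⁻¹) = 1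
    rw [map_mul, map_mul, map_mul, map_inv, map_inv, ← hcen']; group
  · intro hwZ
    apply hc
    apply Subtype.ext
    apply Subtype.ext
    show (c.1.1 : G ⧸ ZP P) = 1
    rw [← hwc, hπ, QuotientGroup.mk'_apply, QuotientGroup.eq_one_iff]
    exact hwZ

end Cfsg.Agent.H9TTQ
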