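import Mathlib
import Cfsg.Prelude
import Cfsg.Agent.Lib.Helper9.TTQ6
import Cfsg.Agent.Lib.Helper9.TTQ7

set_option autoImplicit false

/-!
# The abstract setting: the case without central inverted elements
-/

namespace Cfsg.Agent.H9TTQ

open Cfsg Cfsg.Agent.H9TT

variable {G V : Type*} [Group G] [Group V]

namespace MS

variable {D : Set G} {P : Subgroup G} {φ : G →* MulAut V} (h : MS D P φ)
include h

omit h in
/-- hypothesis of case B: no nontrivial inverted element is central in `P` -/
def NoCentral (h' : MS D P φ) (d : G) : Prop :=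
  ∀ y ∈ h'.I d, (∀ p ∈ P, Commute y p) → y = 1

theorem ZP_commute {d : G} (hd : d ∈ D) (hB : h.NoCentral d) {w : G} (hw : w ∈ ZP P) :
    Commute d w := by
  haveI := h.normal
  have hq := h.comm_mem_I hd (mem_ZP.mp hw).1
  have hdwd : d * w * d ∈ ZP P := by
    have := (ZP_normal P).conj_mem w hw d
    rwa [h.inv hd] at this
  have hqZ : w⁻¹ * (d * w * d) ∈ ZP P := (ZP P).mul_mem ((ZP P).inv_mem hw) hdwd
  have := hB _ hq (mem_ZP.mp hqZ).2
  have e : d * w * d = w := by
    have := inv_mul_eq_one.mp this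
    exact this.symm
  show d * w = w * d
  calc d * w = (d * w * d) * d⁻¹ := by group
    _ = w * d := by rw [e, h.inv hd]

theorem ZP_le_center {d : G} (hd : d ∈ D) (hB : h.NoCentral d) : ZP P ≤ Subgroup.center G := by
  haveI := h.normal
  exact h.tc.le_center_of_commute (ZP P) hd (fun n hn => h.ZP_commute hd hB hn)

theorem not_le_ZP {d : G} (hd : d ∈ D) (hB : h.NoCentral d) : ¬ P ≤ ZP P := by
  intro hle
  have hall : ∀ x ∈ h.I d, x = 1 := by
    intro x hx
    have hc := h.ZP_commute hd hB (hle hx.1)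
    have e : d * x * d = x := by
      rw [hc.eq, mul_assoc, h.sq hd, mul_one]
    have e2 : x = x⁻¹ := by rw [← hx.2, e]
    apply eq_one_of_sq_of_three h.three hx.1
    rw [pow_two]
    nth_rewrite 2 [e2]
    exact mul_inv_cancel x
  have hP : P = ⊥ := by
    rw [← h.closure_I hd, Subgroup.closure_eq_bot_iff]
    intro x hx
    exact hall x hx
  obtain ⟨a, ha, b, hb, hab⟩ := h.ne
  apply hab
  have := h.mul_mem a ha b hb
  rw [hP, Subgroup.mem_bot] at this
  exact (eq_of_mul_eq_one_inv (h.sq ha) this).symm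

/-- an inverted element of the second centre outside the centre -/
theorem exists_y [Finite G] [P.Normal] {d : G} (hd : d ∈ D) (hB : h.NoCentral d) :
    ∃ y ∈ h.I d, y ∈ Z2 P ∧ y ∉ ZP P := by
  obtain ⟨w0, hw0, hw0Z⟩ := exists_Z2 h.three (h.not_le_ZP hd hB)
  by_contra hcon
  push Not at hcon
  have hcomm : ∀ w ∈ Z2 P, Commute d w := by
    intro w hw
    have hwP : w ∈ P := (mem_Z2.mp hw).1
    have hq := h.comm_mem_I hd hwP
    have hdwd : d * w * d ∈ Z2 P := by
      have := (Z2_normal P).conj_mem w hw d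
      rwa [h.inv hd] at this
    have hqZ2 : w⁻¹ * (d * w * d) ∈ Z2 P := (Z2 P).mul_mem ((Z2 P).inv_mem hw) hdwd
    have hqZ := hcon _ hq hqZ2
    have := hB _ hq (mem_ZP.mp hqZ).2
    have e : d * w * d = w := (inv_mul_eq_one.mp this).symm
    show d * w = w * d
    calc d * w = (d * w * d) * d⁻¹ := by group
      _ = w * d := by rw [e, h.inv hd]
  have hcen := h.tc.le_center_of_commute (Z2 P) hd hcomm
  apply hw0Z
  rw [mem_ZP]
  refine ⟨(mem_Z2.mp hw0).1, fun p _ => ?_⟩
  exact (Subgroup.mem_center_iff.mp (hcen hw0) p).symm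

end MS

end Cfsg.Agent.H9TTQ
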