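import Mathlib
import Cfsg.Prelude
import Cfsg.Agent.Lib.Helper9.TTQ8

set_option autoImplicit false

/-!
# The abstract setting: in case B the group `P` is generated by two inverted elements
-/

namespace Cfsg.Agent.H9TTQ

open Cfsg Cfsg.Agent.H9TT

variable {G V : Type*} [Group G] [Group V]

section cmap

variable {P : Subgroup G} [P.Normal] {y : G} (hy : y ∈ Z2 P)
include hy

theorem c_mem {p : G} (hp : p ∈ P) : y * p * y⁻¹ * p⁻¹ ∈ ZP P := (mem_Z2.mp hy).2 p hp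

theorem c_commute {p q : G} (hp : p ∈ P) (hq : q ∈ P) : Commute (y * p * y⁻¹ * p⁻¹) q :=
  (mem_ZP.mp (c_mem hy hp)).2 q hq

theorem c_mul {p q : G} (hp : p ∈ P) (hq : q ∈ P) :
    y * (p * q) * y⁻¹ * (p * q)⁻¹ = (y * p * y⁻¹ * p⁻¹) * (y * q * y⁻¹ * q⁻¹) := by
  have hc := c_commute hy hq hp
  calc y * (p * q) * y⁻¹ * (p * q)⁻¹
      = (y * p * y⁻¹ * p⁻¹) * (p * (y * q * y⁻¹ * q⁻¹)) * p⁻¹ := by group
    _ = (y * p * y⁻¹ * p⁻¹) * ((y * q * y⁻¹ * q⁻¹) * p) * p⁻¹ := by rw [hc.eq]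
    _ = (y * p * y⁻¹ * p⁻¹) * (y * q * y⁻¹ * q⁻¹) := by group

theorem c_inv {p : G} (hp : p ∈ P) :
    y * p⁻¹ * y⁻¹ * p⁻¹⁻¹ = (y * p * y⁻¹ * p⁻¹)⁻¹ := by
  have h1 := c_mul hy hp (P.inv_mem hp)
  have e : y * (p * p⁻¹) * y⁻¹ * (p * p⁻¹)⁻¹ = 1 := by group
  rw [e] at h1
  exact (inv_eq_of_mul_eq_one_right h1.symm).symm

theorem c_sandwich {p q : G} (hp : p ∈ P) (hq : q ∈ P) :
    y * (q * p * q) * y⁻¹ * (q * p * q)⁻¹ =
      (y * p * y⁻¹ * p⁻¹) * ((y * q * y⁻¹ * q⁻¹) * (y * q * y⁻¹ * q⁻¹)) := by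
  rw [c_mul hy (P.mul_mem hq hp) hq, c_mul hy hq hp]
  have hc : Commute (y * q * y⁻¹ * q⁻¹) (y * p * y⁻¹ * p⁻¹) :=
    c_commute hy hq (mem_ZP.mp (c_mem hy hp)).1
  rw [hc.eq, mul_assoc]

end cmap

namespace MS

variable {D : Set G} {P : Subgroup G} {φ : G →* MulAut V} (h : MS D P φ)
include h

/-- the commutators of `y` with inverted elements are pairwise dependent -/
theorem dep [P.Normal] {d y i1 i2 : G} (hd : d ∈ D) (hy : y ∈ h.I d) (hyZ2 : y ∈ Z2 P)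
    (hy1 : y ≠ 1) (hi1 : i1 ∈ h.I d) (hi2 : i2 ∈ h.I d)
    (hz1 : y * i1 * y⁻¹ * i1⁻¹ ≠ 1) :
    y * i2 * y⁻¹ * i2⁻¹ = 1 ∨ y * i2 * y⁻¹ * i2⁻¹ = y * i1 * y⁻¹ * i1⁻¹ ∨
      y * i2 * y⁻¹ * i2⁻¹ = (y * i1 * y⁻¹ * i1⁻¹)⁻¹ := by
  by_contra hcon
  push Not at hcon
  obtain ⟨hz2, hne, hnei⟩ := hcon
  obtain ⟨-, -, h13, -⟩ := h.heis_I hd hy hi1
  obtain ⟨-, -, h23, -⟩ := h.heis_I hd hy hi2
  have hcz : Commute (y * i1 * y⁻¹ * i1⁻¹) (y * i2 * y⁻¹ * i2⁻¹) :=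
    c_commute hyZ2 hi1.1 (mem_ZP.mp (c_mem hyZ2 hi2.1)).1
  obtain ⟨z1, hz1d⟩ : ∃ z, z = y * i1 * y⁻¹ * i1⁻¹ := ⟨_, rfl⟩
  obtain ⟨z2, hz2d⟩ : ∃ z, z = y * i2 * y⁻¹ * i2⁻¹ := ⟨_, rfl⟩
  rw [← hz1d] at hz1 h13 hcz hne hnei
  rw [← hz2d] at hz2 h23 hcz hne hnei
  have hz22 : z2 * z2 = z2⁻¹ := sq_eq_inv_of_cube h23
  -- j3 = i2⁻¹ i1 i2⁻¹, j4 = i2 i1 i2
  have hi2i := h.inv_mem_I hd hi2
  have hj3 : i2⁻¹ * i1 * i2⁻¹ ∈ h.I d := h.sandwich_I hd hi2i hi1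
  have hj4 : i2 * i1 * i2 ∈ h.I d := h.sandwich_I hd hi2 hi1
  have c3 : y * (i2⁻¹ * i1 * i2⁻¹) * y⁻¹ * (i2⁻¹ * i1 * i2⁻¹)⁻¹ = z1 * z2 := by
    rw [c_sandwich hyZ2 hi1.1 hi2i.1, c_inv hyZ2 hi2.1, ← hz1d, ← hz2d, ← mul_inv_rev, hz22,
      inv_inv]
  have c4 : y * (i2 * i1 * i2) * y⁻¹ * (i2 * i1 * i2)⁻¹ = z1 * (z2 * z2) := by
    rw [c_sandwich hyZ2 hi1.1 hi2.1, ← hz1d, ← hz2d]
  have hz12 : z1 * z2 ≠ 1 := by
    intro e
    exact hnei (eq_inv_of_mul_eq_one_right e)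
  have hz122 : z1 * (z2 * z2) ≠ 1 := by
    rw [hz22]
    intro e
    apply hne
    have := eq_inv_of_mul_eq_one_left e
    rw [inv_inv] at this
    exact this.symm
  have hid : (1 : G) = z1 * z2 * z1⁻¹ * z2⁻¹ := by rw [hcz.eq]; group
  have hall : ∀ v : V, v ∈ Fx φ y := by
    intro v
    obtain ⟨w, n1, n2, n3, n4, hidv, hw, h1, ⟨-, h2⟩, ⟨-, h3⟩, ⟨-, h4⟩⟩ :=
      nine_group h.comm φ hid (Commute.one_left z1) (Commute.one_left z2) h13 h23 (Fx_one φ v)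
    have kw : w ∈ Fx φ y := h.Fx_comm_le hd hy hi1 (by rw [← hz1d]; exact hz1)
      (by rw [← hz1d]; exact hw)
    have k1 : n1 ∈ Fx φ y := h.Fx_comm_le hd hy hi1 (by rw [← hz1d]; exact hz1)
      (by rw [← hz1d]; exact h1)
    have k2 : n2 ∈ Fx φ y := h.Fx_comm_le hd hy hi2 (by rw [← hz2d]; exact hz2)
      (by rw [← hz2d]; exact h2)
    have k3 : n3 ∈ Fx φ y := h.Fx_comm_le hd hy hj3 (by rw [c3]; exact hz12)
      (by rw [c3]; exact h3)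
    have k4 : n4 ∈ Fx φ y := h.Fx_comm_le hd hy hj4 (by rw [c4]; exact hz122)
      (by rw [c4]; exact h4)
    have hprod : v ^ 3 * w ∈ Fx φ y := by
      rw [hidv]
      exact (Fx φ y).mul_mem ((Fx φ y).mul_mem ((Fx φ y).mul_mem k1 k2) k3) k4
    have hv3 : v ^ 3 ∈ Fx φ y := by
      have := (Fx φ y).mul_mem hprod ((Fx φ y).inv_mem kw)
      rwa [mul_inv_cancel_right] at this
    exact mem_of_cube_mem h.two _ hv3
  apply hy1
  apply h.inj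
  rw [map_one]
  ext v
  exact hall v

/-- in case B, `P` is generated by two non-commuting inverted elements -/
theorem caseB [Finite G] {d : G} (hd : d ∈ D) (hB : h.NoCentral d) :
    ∃ x y : G, x ∈ h.I d ∧ y ∈ h.I d ∧ x * y * x⁻¹ * y⁻¹ ≠ 1 ∧
      Subgroup.closure ({x, y} : Set G) = P := by
  haveI := h.normal
  obtain ⟨y, hy, hyZ2, hyZ⟩ := h.exists_y hd hB
  have hy1 : y ≠ 1 := by
    rintro rfl
    exact hyZ (Subgroup.one_mem _)
  -- some inverted element does not commute with y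
  have hex : ∃ i0 ∈ h.I d, y * i0 * y⁻¹ * i0⁻¹ ≠ 1 := by
    by_contra hcon
    push Not at hcon
    apply hyZ
    rw [mem_ZP]
    refine ⟨hy.1, ?_⟩
    have hle : Subgroup.closure (h.I d) ≤ Subgroup.centralizer ({y} : Set G) := by
      rw [Subgroup.closure_le]
      intro i hi
      rw [SetLike.mem_coe, Subgroup.mem_centralizer_singleton_iff]
      have := hcon i hi
      have e : y * i = i * y := by
        have := mul_inv_eq_one.mp this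
        calc y * i = (y * i * y⁻¹) * y := by group
          _ = i * y := by rw [this]
      exact e.symm
    rw [h.closure_I hd] at hle
    intro p hp
    have := hle hp
    rw [Subgroup.mem_centralizer_singleton_iff] at this
    exact this.symm
  obtain ⟨i0, hi0, hz⟩ := hex
  refine ⟨y, i0, hy, hi0, hz, ?_⟩
  apply le_antisymm
  · rw [Subgroup.closure_le]
    intro g hg
    rcases hg with rfl | rfl
    · exact hy.1
    · exact hi0.1
  · rw [← h.closure_I hd, Subgroup.closure_le]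
    have hym : y ∈ Subgroup.closure ({y, i0} : Set G) := Subgroup.subset_closure (by simp)
    have him : i0 ∈ Subgroup.closure ({y, i0} : Set G) := Subgroup.subset_closure (by simp)
    have hcyc : ∀ k ∈ h.I d, Commute y k → k ∈ Subgroup.closure ({y, i0} : Set G) := by
      intro k hk hc
      rcases h.eq_pow_of_commute hd hy hk hy1 hc with e | e | e
      · rw [e]; exact Subgroup.one_mem _
      · rw [e]; exact hym
      · rw [e]; exact Subgroup.inv_mem _ hym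
    have hcomm_of : ∀ k : G, y * k * y⁻¹ * k⁻¹ = 1 → Commute y k := by
      intro k hk
      have := mul_inv_eq_one.mp hk
      show y * k = k * y
      calc y * k = (y * k * y⁻¹) * y := by group
        _ = k * y := by rw [this]
    obtain ⟨-, -, hz3, -⟩ := h.heis_I hd hy hi0
    intro i hi
    rcases h.dep hd hy hyZ2 hy1 hi0 hi hz with e | e | e
    · exact hcyc i hi (hcomm_of i e)
    · -- c(i) = z : k = i0 i i0 has c(k) = z^3 = 1
      have hk : i0 * i * i0 ∈ h.I d := h.sandwich_I hd hi0 hi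
      have hck : y * (i0 * i * i0) * y⁻¹ * (i0 * i * i0)⁻¹ = 1 := by
        rw [c_sandwich hyZ2 hi.1 hi0.1, e]
        obtain ⟨z, hzd⟩ : ∃ z, z = y * i0 * y⁻¹ * i0⁻¹ := ⟨_, rfl⟩
        rw [← hzd] at hz3 ⊢
        rw [pow_succ, pow_two] at hz3
        rw [← mul_assoc]
        exact hz3
      have := hcyc _ hk (hcomm_of _ hck)
      have e2 : i = i0⁻¹ * (i0 * i * i0) * i0⁻¹ := by group
      rw [SetLike.mem_coe, e2]
      exact Subgroup.mul_mem _ (Subgroup.mul_mem _ (Subgroup.inv_mem _ him) this)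
        (Subgroup.inv_mem _ him)
    · -- c(i) = z⁻¹ : k = i0⁻¹ i i0⁻¹ has c(k) = z^{-3} = 1
      have hi0i := h.inv_mem_I hd hi0
      have hk : i0⁻¹ * i * i0⁻¹ ∈ h.I d := h.sandwich_I hd hi0i hi
      have hck : y * (i0⁻¹ * i * i0⁻¹) * y⁻¹ * (i0⁻¹ * i * i0⁻¹)⁻¹ = 1 := by
        rw [c_sandwich hyZ2 hi.1 hi0i.1, e, c_inv hyZ2 hi0.1]
        obtain ⟨z, hzd⟩ : ∃ z, z = y * i0 * y⁻¹ * i0⁻¹ := ⟨_, rfl⟩
        rw [← hzd] at hz3 ⊢
        rw [pow_succ, pow_two] at hz3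
        rw [← mul_inv_rev, ← mul_inv_rev, inv_eq_one]
        exact hz3
      have := hcyc _ hk (hcomm_of _ hck)
      have e2 : i = i0 * (i0⁻¹ * i * i0⁻¹) * i0 := by group
      rw [SetLike.mem_coe, e2]
      exact Subgroup.mul_mem _ (Subgroup.mul_mem _ him this) him

end MS

end Cfsg.Agent.H9TTQ
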