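import Mathlib
import Cfsg.Prelude
import Cfsg.Agent.Lib.Helper9.TTQ9
import Cfsg.Agent.Lib.Helper9.TTQ10
import Cfsg.Agent.Lib.Helper9.TT9n

set_option autoImplicit false

/-!
# The abstract setting: the dichotomy
-/

namespace Cfsg.Agent.H9TTQ

open Cfsg Cfsg.Agent.H9TT

variable {G V : Type*} [Group G] [Group V]

/-- a nonabelian `3`-group has order at least `27` -/
theorem card_ge_of_nonabelian [Finite G] {P : Subgroup G} (hP : IsPGroup 3 P) {x y : G}
    (hx : x ∈ P) (hy : y ∈ P) (hxy : x * y ≠ y * x) : 27 ≤ Nat.card P := by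
  haveI : Fact (Nat.Prime 3) := ⟨Nat.prime_three⟩
  obtain ⟨k, hk⟩ := IsPGroup.iff_card.mp hP
  have hcomm_contra : (∀ a b : P, a * b = b * a) → False := by
    intro hc
    apply hxy
    have := congrArg Subtype.val (hc ⟨x, hx⟩ ⟨y, hy⟩)
    simpa using this
  by_contra hlt
  push Not at hlt
  have hk3 : k < 3 := by
    by_contra hk3
    push Not at hk3
    have : 3 ^ 3 ≤ 3 ^ k := Nat.pow_le_pow_right (by norm_num) hk3
    omega
  interval_cases k
  · -- card 1
    apply hcomm_contra
    intro a b
    haveI : Subsingleton P := (Nat.card_eq_one_iff_unique.mp (by simpa using hk)).1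
    exact Subsingleton.elim _ _
  · -- card 3
    apply hcomm_contra
    have hk' : Nat.card P = 3 := by simpa using hk
    haveI : IsCyclic P := isCyclic_of_prime_card hk'
    intro a b
    obtain ⟨g, hg⟩ := IsCyclic.exists_generator (α := P)
    obtain ⟨m, rfl⟩ := Subgroup.mem_zpowers_iff.mp (hg a)
    obtain ⟨n, rfl⟩ := Subgroup.mem_zpowers_iff.mp (hg b)
    rw [← zpow_add, ← zpow_add, add_comm]
  · apply hcomm_contra
    exact (IsPGroup.isMulCommutative_of_card_eq_prime_sq (p := 3) hk).is_comm.comm

namespace MS

variable {D : Set G} {P : Subgroup G} {φ : G →* MulAut V} (h : MS D P φ)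
include h

/-- the dichotomy: `G` is `S₃` or is generated by an involution inverting a Heisenberg pair -/
theorem dichotomy [Finite G] : Nonempty (G ≃* Equiv.Perm (Fin 3)) ∨
    ∃ d x y : G, HD d x y ∧ Subgroup.closure ({d, x, y} : Set G) = ⊤ ∧ 54 ≤ Nat.card G := by
  obtain ⟨d, hd, -⟩ := h.ne
  by_cases hB : h.NoCentral d
  · right
    obtain ⟨x, y, hx, hy, hz, hcl⟩ := h.caseB hd hB
    obtain ⟨c1, c2, c3, c4⟩ := h.heis_I hd hx hy
    refine ⟨d, x, y, ⟨h.sq hd, h.cube_I hd hx, h.cube_I hd hy, hx.2, hy.2, c1, c2, c3, c4⟩,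
      ?_, ?_⟩
    · rw [eq_top_iff, ← h.tc.hgen, Subgroup.closure_le]
      intro e he
      have hdm : d ∈ Subgroup.closure ({d, x, y} : Set G) := Subgroup.subset_closure (by simp)
      have hPle : P ≤ Subgroup.closure ({d, x, y} : Set G) := by
        rw [← hcl]
        apply Subgroup.closure_mono
        intro g hg
        rcases hg with hg | hg
        · rw [hg]; simp
        · rw [hg]; simp
      have ee : e = d * (d * e) := by
        calc e = (d * d) * e := by rw [h.sq hd, one_mul]
          _ = d * (d * e) := by group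
      rw [SetLike.mem_coe, ee]
      exact Subgroup.mul_mem _ hdm (hPle (h.mul_mem d hd e he))
    · have hne : x * y ≠ y * x := by
        intro e
        apply hz
        rw [e]; group
      have h27 := card_ge_of_nonabelian h.three hx.1 hy.1 hne
      have hidx : 2 ≤ P.index := by
        have h0 : P.index ≠ 0 := Subgroup.index_ne_zero_of_finite
        have h1 : P.index ≠ 1 := by
          intro e
          rw [Subgroup.index_eq_one] at e
          apply h.not_mem hd
          rw [e]; exact Subgroup.mem_top d
        omega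
      have := Subgroup.card_mul_index P
      calc 54 = 27 * 2 := by norm_num
        _ ≤ Nat.card P * P.index := Nat.mul_le_mul h27 hidx
        _ = Nat.card G := this
  · left
    unfold NoCentral at hB
    push Not at hB
    obtain ⟨y, hy, hcen, hy1⟩ := hB
    exact h.caseA hd hy hy1 hcen

end MS

end Cfsg.Agent.H9TTQ
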