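import Mathlib
import Cfsg.Prelude
import Cfsg.Agent.Lib.Helper9.TTQ10
import Cfsg.Agent.Lib.Helper9.TTQ12
import Cfsg.Agent.Lib.Helper9.L3Fus19

set_option autoImplicit false

/-!
# The monomial subgroup of `SU₃(2)` over the concrete field with four elements
-/

namespace Cfsg.Agent.H9TTQ

open Matrix

/-- a criterion for the relations avoiding inverses -/
theorem HD.of_sq {G : Type*} [Group G] {d x y : G} (dd : d * d = 1) (x3 : x * x * x = 1)
    (y3 : y * y * y = 1) (dx : d * x * d * x = 1) (dy : d * y * d * y = 1)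
    (zx : (x * y * (x * x) * (y * y)) * x = x * (x * y * (x * x) * (y * y)))
    (zy : (x * y * (x * x) * (y * y)) * y = y * (x * y * (x * x) * (y * y)))
    (z3 : (x * y * (x * x) * (y * y)) * (x * y * (x * x) * (y * y)) *
      (x * y * (x * x) * (y * y)) = 1)
    (dz : d * (x * y * (x * x) * (y * y)) * d = x * y * (x * x) * (y * y)) : HD d x y := by
  have hxi : x⁻¹ = x * x := by
    have : x * x * x = 1 := x3
    exact inv_eq_of_mul_eq_one_left this
  have hyi : y⁻¹ = y * y := inv_eq_of_mul_eq_one_left y3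
  have ez : x * y * x⁻¹ * y⁻¹ = x * y * (x * x) * (y * y) := by
    rw [hxi, hyi]
  refine ⟨dd, by rw [pow_succ, pow_two]; exact x3, by rw [pow_succ, pow_two]; exact y3,
    eq_inv_of_mul_eq_one_left dx, eq_inv_of_mul_eq_one_left dy, ?_, ?_, ?_, ?_⟩
  · rw [ez]; exact zx
  · rw [ez]; exact zy
  · rw [ez, pow_succ, pow_two]; exact z3
  · rw [ez]; exact dz

namespace F4

/-- the Frobenius automorphism -/
def frob : F4 ≃+* F4 where
  toFun a := a ^ 2
  invFun a := a ^ 2
  left_inv := by decide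
  right_inv := by decide
  map_mul' := by decide
  map_add' := by decide

theorem frob_apply (a : F4) : frob a = a ^ 2 := rfl

/-- the permutation matrix of `(1 2)` -/
def mA : Matrix (Fin 3) (Fin 3) F4 := !![z, o, z; o, z, z; z, z, o]
/-- the permutation matrix of `(2 3)` -/
def mB : Matrix (Fin 3) (Fin 3) F4 := !![o, z, z; z, z, o; z, o, z]
/-- a monomial reflection -/
def mC : Matrix (Fin 3) (Fin 3) F4 := !![z, v, z; w, z, z; z, z, o]
/-- an element of order four -/
def mI : Matrix (Fin 3) (Fin 3) F4 := !![o, w, o; w, o, o; w, w, v]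
/-- another element of order four -/
def mJ : Matrix (Fin 3) (Fin 3) F4 := !![o, w, w; w, o, w; o, o, v]

theorem det_mA : mA.det = 1 := by rw [Matrix.det_fin_three]; decide
theorem det_mB : mB.det = 1 := by rw [Matrix.det_fin_three]; decide
theorem det_mC : mC.det = 1 := by rw [Matrix.det_fin_three]; decide
theorem det_mI : mI.det = 1 := by rw [Matrix.det_fin_three]; decide
theorem det_mJ : mJ.det = 1 := by rw [Matrix.det_fin_three]; decide

/-- as elements of `SL₃` -/
def sA : SpecialLinearGroup (Fin 3) F4 := ⟨mA, det_mA⟩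
def sB : SpecialLinearGroup (Fin 3) F4 := ⟨mB, det_mB⟩
def sC : SpecialLinearGroup (Fin 3) F4 := ⟨mC, det_mC⟩
def sI : SpecialLinearGroup (Fin 3) F4 := ⟨mI, det_mI⟩
def sJ : SpecialLinearGroup (Fin 3) F4 := ⟨mJ, det_mJ⟩

theorem sA_mem : sA ∈ Cfsg.SU 3 F4 2 :=
  (Cfsg.Agent.H9L3.mem_SU_iff_mat frob frob_apply sA).mpr (by decide)
theorem sB_mem : sB ∈ Cfsg.SU 3 F4 2 :=
  (Cfsg.Agent.H9L3.mem_SU_iff_mat frob frob_apply sB).mpr (by decide)
theorem sC_mem : sC ∈ Cfsg.SU 3 F4 2 :=
  (Cfsg.Agent.H9L3.mem_SU_iff_mat frob frob_apply sC).mpr (by decide)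
theorem sI_mem : sI ∈ Cfsg.SU 3 F4 2 :=
  (Cfsg.Agent.H9L3.mem_SU_iff_mat frob frob_apply sI).mpr (by decide)
theorem sJ_mem : sJ ∈ Cfsg.SU 3 F4 2 :=
  (Cfsg.Agent.H9L3.mem_SU_iff_mat frob frob_apply sJ).mpr (by decide)

end F4

end Cfsg.Agent.H9TTQ
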