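import Mathlib
import Cfsg.Prelude
import Cfsg.Agent.Lib.Helper9.TTQ13
import Cfsg.Agent.S0827

set_option autoImplicit false

/-!
# The commutator subgroup of `SU₃(2)` over the concrete field with four elements
-/

namespace Cfsg.Agent.H9TTQ

open Matrix
open scoped commutatorElement

/-- the relations pull back along an injective homomorphism -/
theorem HD.of_map {G H : Type*} [Group G] [Group H] (f : G →* H) (hf : Function.Injective f)
    {d x y : G} (h : HD (f d) (f x) (f y)) : HD d x y := by
  refine ⟨?_, ?_, ?_, ?_, ?_, ?_, ?_, ?_, ?_⟩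
  · apply hf; rw [map_mul, map_one]; exact h.dd
  · apply hf; rw [map_pow, map_one]; exact h.x3
  · apply hf; rw [map_pow, map_one]; exact h.y3
  · apply hf; rw [map_mul, map_mul, map_inv]; exact h.dx
  · apply hf; rw [map_mul, map_mul, map_inv]; exact h.dy
  · show _ = _
    apply hf
    have := h.zx.eq
    simpa only [map_mul, map_inv] using this
  · show _ = _
    apply hf
    have := h.zy.eq
    simpa only [map_mul, map_inv] using this
  · apply hf
    have := h.z3
    simpa only [map_mul, map_inv, map_pow, map_one] using this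
  · apply hf
    have := h.dz
    simpa only [map_mul, map_inv] using this

/-- in the presence of the relations, `x` and `y` are commutators with `d` -/
theorem HD.x_eq_comm {G : Type*} [Group G] {d x y : G} (h : HD d x y) : x = ⁅d, x⁆ := by
  rw [commutatorElement_def, h.di]
  calc x = x⁻¹ * x⁻¹ := by rw [sq_eq_inv_of_cube (cube_inv h.x3), inv_inv]
    _ = d * x * d * x⁻¹ := by rw [h.dx]

theorem HD.y_eq_comm {G : Type*} [Group G] {d x y : G} (h : HD d x y) : y = ⁅d, y⁆ := by
  rw [commutatorElement_def, h.di]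
  calc y = y⁻¹ * y⁻¹ := by rw [sq_eq_inv_of_cube (cube_inv h.y3), inv_inv]
    _ = d * y * d * y⁻¹ := by rw [h.dy]

namespace F4

/-- the special unitary group -/
abbrev S32 : Type := ↥(Cfsg.SU 3 F4 2)

def gA : S32 := ⟨sA, sA_mem⟩
def gB : S32 := ⟨sB, sB_mem⟩
def gC : S32 := ⟨sC, sC_mem⟩
def gI : S32 := ⟨sI, sI_mem⟩
def gJ : S32 := ⟨sJ, sJ_mem⟩
def gX : S32 := gA * gB
def gY : S32 := gA * gC

theorem hd_g : HD gA gX gY := by
  apply HD.of_sq
  all_goals exact Subtype.ext (Subtype.ext (by decide))

theorem gA_eq_comm : gA = ⁅gI, gJ⁆ := by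
  have h : gI * gJ = gA * gJ * gI := Subtype.ext (Subtype.ext (by decide))
  rw [commutatorElement_def, h]; group

theorem gA_mem : gA ∈ commutator S32 := by
  rw [gA_eq_comm, commutator_def]
  exact Subgroup.commutator_mem_commutator (Subgroup.mem_top _) (Subgroup.mem_top _)

theorem gX_mem : gX ∈ commutator S32 := by
  rw [hd_g.x_eq_comm, commutator_def]
  exact Subgroup.commutator_mem_commutator (Subgroup.mem_top _) (Subgroup.mem_top _)

theorem gY_mem : gY ∈ commutator S32 := by
  rw [hd_g.y_eq_comm, commutator_def]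
  exact Subgroup.commutator_mem_commutator (Subgroup.mem_top _) (Subgroup.mem_top _)

/-- the normal form map -/
def nf (t : Fin 3 × Fin 3 × Fin 3 × Fin 2) : S32 :=
  gX ^ (t.1 : ℕ) * gY ^ (t.2.1 : ℕ) * (gX * gY * gX⁻¹ * gY⁻¹) ^ (t.2.2.1 : ℕ) * gA ^ (t.2.2.2 : ℕ)

end F4

end Cfsg.Agent.H9TTQ
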