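import Mathlib
import Cfsg.Prelude
import Cfsg.Agent.Lib.Helper9.TTQ14

set_option autoImplicit false

/-!
# The commutator subgroup of `SU₃(2)` has order 54 and is generated by a Heisenberg triple
-/

namespace Cfsg.Agent.H9TTQ

open Matrix
open scoped commutatorElement

namespace F4

set_option maxRecDepth 100000 in
theorem nf_injective : Function.Injective nf := by
  decide

theorem card_S32 : Nat.card S32 = 216 := Cfsg.Agent.Lib.Helper2.U32.card_SU32 F4.card

/-- every commutator in the quaternion group of order eight is `1` or `a 2` -/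
theorem quat_comm : ∀ g h : QuaternionGroup 2,
    g * h * g⁻¹ * h⁻¹ = 1 ∨ g * h * g⁻¹ * h⁻¹ = QuaternionGroup.a 2 := by
  decide

/-- the commutator subgroup of `SU₃(2)` has at most 54 elements -/
theorem card_commutator_le : Nat.card (commutator S32) ≤ 54 := by
  classical
  obtain ⟨N, hN, hN9, -, ⟨e⟩⟩ := Cfsg.Agent.S0827.result (F := F4) F4.card
  let ψ : S32 →* QuaternionGroup 2 :=
    e.toMonoidHom.comp ((QuotientGroup.mk' N).comp (QuotientGroup.mk' (Subgroup.center S32)))
  have hψ : Function.Surjective ψ := by
    show Function.Surjective (e ∘ ((QuotientGroup.mk' N) ∘ (QuotientGroup.mk' (Subgroup.center S32))))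
    exact e.surjective.comp ((QuotientGroup.mk'_surjective N).comp (QuotientGroup.mk'_surjective _))
  set K0 : Subgroup (QuaternionGroup 2) := Subgroup.zpowers (QuaternionGroup.a 2) with hK0
  have hK0card : Nat.card K0 = 2 := by
    rw [hK0, Nat.card_zpowers, QuaternionGroup.orderOf_a]
    decide
  have hle : commutator S32 ≤ K0.comap ψ := by
    rw [commutator_def, Subgroup.commutator_le]
    intro g _ h _
    rw [Subgroup.mem_comap, map_commutatorElement, commutatorElement_def]
    rcases quat_comm (ψ g) (ψ h) with e1 | e1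
    · rw [e1]; exact Subgroup.one_mem _
    · rw [e1]; exact Subgroup.mem_zpowers _
  have hidx : (K0.comap ψ).index = 4 := by
    rw [Subgroup.index_comap_of_surjective _ hψ]
    have h1 := Subgroup.card_mul_index K0
    rw [hK0card, Nat.card_eq_fintype_card, QuaternionGroup.card] at h1
    omega
  have hcard : Nat.card (K0.comap ψ) = 54 := by
    have h1 := Subgroup.card_mul_index (K0.comap ψ)
    rw [hidx, card_S32] at h1
    omega
  calc Nat.card (commutator S32) ≤ Nat.card (K0.comap ψ) := Subgroup.card_le_of_le hle
    _ = 54 := hcard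

/-- the generators inside the commutator subgroup -/
def cA : commutator S32 := ⟨gA, gA_mem⟩
def cX : commutator S32 := ⟨gX, gX_mem⟩
def cY : commutator S32 := ⟨gY, gY_mem⟩

theorem hd_c : HD cA cX cY :=
  HD.of_map (commutator S32).subtype (Subgroup.subtype_injective _) hd_g

theorem card_closure_ge : 54 ≤ Nat.card (Subgroup.closure ({cA, cX, cY} : Set (commutator S32))) := by
  classical
  have hA : cA ∈ Subgroup.closure ({cA, cX, cY} : Set (commutator S32)) :=
    Subgroup.subset_closure (by simp)
  have hX : cX ∈ Subgroup.closure ({cA, cX, cY} : Set (commutator S32)) :=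
    Subgroup.subset_closure (by simp)
  have hY : cY ∈ Subgroup.closure ({cA, cX, cY} : Set (commutator S32)) :=
    Subgroup.subset_closure (by simp)
  let f : Fin 3 × Fin 3 × Fin 3 × Fin 2 → Subgroup.closure ({cA, cX, cY} : Set (commutator S32)) :=
    fun t => ⟨cX ^ (t.1 : ℕ) * cY ^ (t.2.1 : ℕ) * (cX * cY * cX⁻¹ * cY⁻¹) ^ (t.2.2.1 : ℕ) *
      cA ^ (t.2.2.2 : ℕ),
      Subgroup.mul_mem _ (Subgroup.mul_mem _ (Subgroup.mul_mem _ (Subgroup.pow_mem _ hX _)
        (Subgroup.pow_mem _ hY _)) (Subgroup.pow_mem _ (Subgroup.mul_mem _ (Subgroup.mul_mem _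
        (Subgroup.mul_mem _ hX hY) (Subgroup.inv_mem _ hX)) (Subgroup.inv_mem _ hY)) _))
        (Subgroup.pow_mem _ hA _)⟩
  have hf : Function.Injective f := by
    intro s t hst
    apply nf_injective
    have h1 : ((f s : commutator S32) : S32) = ((f t : commutator S32) : S32) := by rw [hst]
    exact h1
  have := Nat.card_le_card_of_injective f hf
  simpa using this

theorem card_commutator : Nat.card (commutator S32) = 54 := by
  apply le_antisymm card_commutator_le
  exact card_closure_ge.trans (Subgroup.card_le_card_group _)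

theorem closure_c : Subgroup.closure ({cA, cX, cY} : Set (commutator S32)) = ⊤ := by
  apply Subgroup.eq_top_of_card_eq
  apply le_antisymm (Subgroup.card_le_card_group _)
  rw [card_commutator]
  exact card_closure_ge

end F4

/-- any finite group of order at least 54 generated by a Heisenberg triple is isomorphic to the
commutator subgroup of `SU₃(2)` -/
theorem HD.iso_SU {G : Type*} [Group G] [Finite G] {d x y : G} (h : HD d x y)
    (ht : Subgroup.closure ({d, x, y} : Set G) = ⊤) (hc : 54 ≤ Nat.card G) :
    ∃ (F : Type) (_ : Field F) (_ : Fintype F), Fintype.card F = 4 ∧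
      Nonempty (G ≃* ↥(commutator ↥(Cfsg.SU 3 F 2))) := by
  haveI : Finite (commutator F4.S32) := by
    apply Nat.finite_of_card_ne_zero
    rw [F4.card_commutator]; norm_num
  refine ⟨F4, inferInstance, inferInstance, F4.card, ?_⟩
  exact HD.unique h F4.hd_c ht F4.closure_c hc (by rw [F4.card_commutator])

end Cfsg.Agent.H9TTQ
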