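import Mathlib
import Cfsg.Prelude

set_option autoImplicit false

/-!
# A finite `p`-group generated by one conjugacy class is cyclic
-/

namespace Cfsg.Agent.H9TTQ

variable {T : Type*} [Group T]

/-- a finite `p`-group generated by the conjugates of `t` is generated by `t` -/
theorem zpowers_eq_top_of_class_gen [Finite T] {p : ℕ} [Fact p.Prime] (hT : IsPGroup p T) {t : T}
    {C : Set T} (hC : ∀ c ∈ C, ∃ g : T, g * t * g⁻¹ = c) (hgen : Subgroup.closure C = ⊤) :
    Subgroup.zpowers t = ⊤ := by
  rcases eq_top_or_exists_le_coatom (Subgroup.zpowers t) with h | ⟨M, hM, hle⟩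
  · exact h
  · exfalso
    haveI : Group.IsNilpotent T := hT.isNilpotent
    have hMn : M.Normal := Subgroup.NormalizerCondition.normal_of_coatom M
      Group.normalizerCondition_of_isNilpotent hM
    have htM : t ∈ M := hle (Subgroup.mem_zpowers t)
    have hCM : Subgroup.closure C ≤ M := by
      rw [Subgroup.closure_le]
      intro c hc
      obtain ⟨g, rfl⟩ := hC c hc
      exact hMn.conj_mem t htM g
    rw [hgen] at hCM
    exact hM.1 (eq_top_iff.mpr hCM)

/-- consequently all the generating conjugates coincide with `t` -/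
theorem eq_of_class_gen [Finite T] {p : ℕ} [Fact p.Prime] (hT : IsPGroup p T) {t : T}
    {C : Set T} (hC : ∀ c ∈ C, ∃ g : T, g * t * g⁻¹ = c) (hgen : Subgroup.closure C = ⊤)
    {c : T} (hc : c ∈ C) : c = t := by
  have htop := zpowers_eq_top_of_class_gen hT hC hgen
  obtain ⟨g, rfl⟩ := hC c hc
  have hg : g ∈ Subgroup.zpowers t := by rw [htop]; exact Subgroup.mem_top g
  obtain ⟨k, rfl⟩ := Subgroup.mem_zpowers_iff.mp hg
  have : Commute (t ^ k) t := (Commute.refl t).zpow_left k
  rw [this.eq, mul_inv_cancel_right]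

end Cfsg.Agent.H9TTQ
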