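import Mathlib
import Cfsg.Prelude
import Cfsg.Agent.Lib.Helper9.TTQ11
import Cfsg.Agent.Lib.Helper9.TTQ15
import Cfsg.Agent.Lib.Helper9.TTQ16
import Cfsg.Agent.Lib.Helper9.TT9v

set_option autoImplicit false

/-!
# The reduced theorem: an abelian self-centralizing normal 2-subgroup
-/

namespace Cfsg.Agent.H9TTQ

open Cfsg Cfsg.Agent.H9TT

variable {H : Type*} [Group H]

section setup

variable (Q : Subgroup H) [hQn : Q.Normal] (hQab : ∀ a ∈ Q, ∀ b ∈ Q, a * b = b * a)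

/-- the action of `H ⧸ Q` on the abelian normal subgroup `Q` -/
def actQ : H ⧸ Q →* MulAut ↥Q :=
  QuotientGroup.lift Q (MulAut.conjNormal (H := Q)) (by
    intro q hq
    ext v
    rw [MulAut.conjNormal_apply, MulAut.one_apply, hQab q hq v v.2, mul_inv_cancel_right])

theorem actQ_mk (h : H) (v : Q) : ((actQ Q hQab (QuotientGroup.mk' Q h) v : Q) : H) = h * v * h⁻¹ := by
  show ((MulAut.conjNormal h v : Q) : H) = h * v * h⁻¹
  exact MulAut.conjNormal_apply h v

end setup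

/-- the image of a class of 3-transpositions in a quotient -/
theorem TC_quot {E : Set H} (hTC : TC E) (Q : Subgroup H) [hQn : Q.Normal]
    (hEQ : ∀ a ∈ E, a ∉ Q) : TC ((QuotientGroup.mk' Q) '' E) := by
  have hgrp := hTC.quot_group Q hEQ
  refine ⟨⟨hgrp.1, hgrp.2.1⟩, hgrp.2.2, ?_⟩
  rintro _ ⟨a, ha, rfl⟩ _ ⟨b, hb, rfl⟩
  obtain ⟨g, rfl⟩ := hTC.hclass a ha b hb
  exact ⟨QuotientGroup.mk' Q g, by rw [map_mul, map_mul, map_inv]⟩

/-- the reduced theorem -/
theorem reduced [Finite H] {E : Set H} (hTC : TC E) (hEne : E.Nonempty)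
    (Q : Subgroup H) [hQn : Q.Normal] (hQab : ∀ a ∈ Q, ∀ b ∈ Q, a * b = b * a)
    (hQ2 : IsPGroup 2 Q) (hCQ : Subgroup.centralizer (Q : Set H) ≤ Q) (hQne : Q ≠ ⊤)
    (N : Subgroup H) [hNn : N.Normal] (hN3 : ∀ n ∈ N, ∃ k : ℕ, n ^ 3 ^ k ∈ Q)
    (hN2 : ∀ h : H, ∃ k : ℕ, h ^ 2 ^ k ∈ N) :
    Nonempty (H ⧸ Q ≃* Equiv.Perm (Fin 3)) ∨
      ∃ (F : Type) (_ : Field F) (_ : Fintype F), Fintype.card F = 4 ∧
        Nonempty (H ⧸ Q ≃* ↥(commutator ↥(Cfsg.SU 3 F 2))) := by
  classical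
  haveI : Fact (Nat.Prime 2) := ⟨Nat.prime_two⟩
  obtain ⟨d, hd⟩ := hEne
  -- no member of E lies in Q
  have hEQ : ∀ a ∈ E, a ∉ Q := by
    intro a ha haQ
    apply hQne
    rw [eq_top_iff, ← hTC.hgen, Subgroup.closure_le]
    intro b hb
    obtain ⟨g, rfl⟩ := hTC.hclass a ha b hb
    exact hQn.conj_mem a haQ g
  -- products of two members of E lie in N
  have hmulN : ∀ a ∈ E, ∀ b ∈ E, a * b ∈ N := by
    have hT : IsPGroup 2 (H ⧸ N) := by
      intro q
      induction q using QuotientGroup.induction_on with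
      | H h =>
        obtain ⟨k, hk⟩ := hN2 h
        refine ⟨k, ?_⟩
        rw [← QuotientGroup.mk_pow]
        exact (QuotientGroup.eq_one_iff _).mpr hk
    have hC : ∀ c ∈ (QuotientGroup.mk' N) '' E, ∃ g : H ⧸ N,
        g * (QuotientGroup.mk' N d) * g⁻¹ = c := by
      rintro _ ⟨a, ha, rfl⟩
      obtain ⟨g, rfl⟩ := hTC.hclass d hd a ha
      exact ⟨QuotientGroup.mk' N g, by rw [map_mul, map_mul, map_inv]⟩
    have hgen : Subgroup.closure ((QuotientGroup.mk' N) '' E) = ⊤ := by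
      rw [← MonoidHom.map_closure, hTC.hgen, ← MonoidHom.range_eq_map, MonoidHom.range_eq_top]
      exact QuotientGroup.mk'_surjective N
    have hall : ∀ a ∈ E, QuotientGroup.mk' N a = QuotientGroup.mk' N d := fun a ha =>
      eq_of_class_gen hT hC hgen ⟨a, ha, rfl⟩
    intro a ha b hb
    rw [← QuotientGroup.eq_one_iff, ← QuotientGroup.mk'_apply, map_mul, hall a ha, hall b hb,
      ← map_mul, hTC.toTT.sq hd, map_one]
  set π := QuotientGroup.mk' Q with hπ
  have hπs : Function.Surjective π := QuotientGroup.mk'_surjective Q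
  -- the setting
  have tc : TC (π '' E) := TC_quot hTC Q hEQ
  have hPn : (N.map π).Normal := Subgroup.Normal.map hNn π hπs
  have hP3 : IsPGroup 3 (N.map π) := by
    rintro ⟨_, ⟨n, hn, rfl⟩⟩
    obtain ⟨k, hk⟩ := hN3 n hn
    refine ⟨k, ?_⟩
    apply Subtype.ext
    show (π n) ^ 3 ^ k = 1
    rw [← map_pow, hπ, QuotientGroup.mk'_apply, QuotientGroup.eq_one_iff]
    exact hk
  have hmulP : ∀ a ∈ π '' E, ∀ b ∈ π '' E, a * b ∈ N.map π := by
    rintro _ ⟨a, ha, rfl⟩ _ ⟨b, hb, rfl⟩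
    rw [← map_mul]
    exact Subgroup.mem_map_of_mem _ (hmulN a ha b hb)
  have hcomm : ∀ u v : Q, u * v = v * u := by
    intro u v
    apply Subtype.ext
    exact hQab u u.2 v v.2
  have hinj : Function.Injective (actQ Q hQab) := by
    rw [injective_iff_map_eq_one]
    intro g hg
    obtain ⟨h, rfl⟩ := hπs g
    rw [hπ, QuotientGroup.mk'_apply, QuotientGroup.eq_one_iff]
    apply hCQ
    rw [Subgroup.mem_centralizer_iff]
    intro q hq
    have h1 := actQ_mk Q hQab h ⟨q, hq⟩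
    rw [← hπ, hg, MulAut.one_apply] at h1
    have h2 : h * q * h⁻¹ = q := h1.symm
    calc q * h = (h * q * h⁻¹) * h := by rw [h2]
      _ = h * q := by group
  -- cube of a product with distinct images
  have hcube : ∀ a ∈ E, ∀ b ∈ E, π a ≠ π b → (a * b) ^ 3 = 1 := by
    intro a ha b hb hne
    rcases hTC.hset.2 a ha b hb with h2 | h3
    · exfalso
      apply hne
      have h2' : (π a * π b) ^ 2 = 1 := by rw [← map_mul, ← map_pow, h2, map_one]
      have h1 := eq_one_of_sq_of_three hP3 (hmulP _ ⟨a, ha, rfl⟩ _ ⟨b, hb, rfl⟩) h2'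
      have haa : π a * π a = 1 := by rw [← map_mul, hTC.toTT.sq ha, map_one]
      exact (eq_of_mul_eq_one_inv haa h1).symm
    · exact h3
  have hA : ∀ a ∈ π '' E, ∀ b ∈ π '' E, a ≠ b → ∀ v : Q,
      actQ Q hQab (a * b) v = v → actQ Q hQab a v = v := by
    rintro _ ⟨a, ha, rfl⟩ _ ⟨b, hb, rfl⟩ hne ⟨q, hq⟩ hfix
    apply Subtype.ext
    rw [actQ_mk]
    show a * q * a⁻¹ = q
    have hfix' : (a * b) * q * (a * b)⁻¹ = q := by
      have := congrArg Subtype.val hfix
      rw [← map_mul, actQ_mk] at this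
      exact this
    have hai : a⁻¹ = a := hTC.toTT.inv ha
    have haa : a * a = 1 := hTC.toTT.sq ha
    have hbi : b⁻¹ = b := hTC.toTT.inv hb
    -- x = a b, x³ = 1
    have hx3 : (a * b) ^ 3 = 1 := hcube a ha b hb hne
    -- a1 = q⁻¹ a q
    have ha1 : q⁻¹ * a * q ∈ E := by
      have := hTC.hconj q⁻¹ a ha
      rwa [inv_inv] at this
    have hπa1 : π (q⁻¹ * a * q) = π a := by
      have hq1 : π q = 1 := by
        rw [hπ, QuotientGroup.mk'_apply, QuotientGroup.eq_one_iff]; exact hq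
      rw [map_mul, map_mul, map_inv, hq1, inv_one, one_mul, mul_one]
    have hy3 : (q⁻¹ * a * q * b) ^ 3 = 1 := hcube _ ha1 b hb (by rw [hπa1]; exact hne)
    -- u = q⁻¹ (a q a⁻¹)
    have hxq : Commute (a * b) q := by
      show a * b * q = q * (a * b)
      calc a * b * q = ((a * b) * q * (a * b)⁻¹) * (a * b) := by group
        _ = q * (a * b) := by rw [hfix']
    have hxinv : a * (a * b) * a⁻¹ = (a * b)⁻¹ := by
      rw [mul_inv_rev, hai, hbi]
      calc a * (a * b) * a = (a * a) * b * a := by group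
        _ = b * a := by rw [haa, one_mul]
    have hxq' : Commute (a * b) (a * q * a⁻¹) := by
      have h1 : Commute (a * (a * b) * a⁻¹) (a * q * a⁻¹) := by
        show a * (a * b) * a⁻¹ * (a * q * a⁻¹) = a * q * a⁻¹ * (a * (a * b) * a⁻¹)
        calc a * (a * b) * a⁻¹ * (a * q * a⁻¹) = a * ((a * b) * q) * a⁻¹ := by group
          _ = a * (q * (a * b)) * a⁻¹ := by rw [hxq.eq]
          _ = a * q * a⁻¹ * (a * (a * b) * a⁻¹) := by group
      rw [hxinv] at h1
      exact Commute.inv_left_iff.mp h1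
    have hxu : Commute (q⁻¹ * (a * q * a⁻¹)) (a * b) :=
      (hxq.inv_right.mul_right hxq').symm
    have hu3 : (q⁻¹ * (a * q * a⁻¹)) ^ 3 = 1 := by
      have e : q⁻¹ * a * q * b = (q⁻¹ * (a * q * a⁻¹)) * (a * b) := by group
      rw [e, hxu.mul_pow, hx3, mul_one] at hy3
      exact hy3
    have huQ : q⁻¹ * (a * q * a⁻¹) ∈ Q := Q.mul_mem (Q.inv_mem hq) (hQn.conj_mem q hq a)
    have hu1 : q⁻¹ * (a * q * a⁻¹) = 1 := by
      obtain ⟨k, hk⟩ := hQ2 ⟨_, huQ⟩
      have hk' : (q⁻¹ * (a * q * a⁻¹)) ^ 2 ^ k = 1 := by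
        have := congrArg Subtype.val hk
        simpa using this
      have h1 : orderOf (q⁻¹ * (a * q * a⁻¹)) ∣ 3 := orderOf_dvd_of_pow_eq_one hu3
      have h2 : orderOf (q⁻¹ * (a * q * a⁻¹)) ∣ 2 ^ k := orderOf_dvd_of_pow_eq_one hk'
      have hc : Nat.Coprime 3 (2 ^ k) := Nat.Coprime.pow_right k (by norm_num)
      have := Nat.dvd_gcd h1 h2
      rw [hc.gcd_eq_one] at this
      exact orderOf_eq_one_iff.mp (Nat.dvd_one.mp this)
    exact (inv_mul_eq_one.mp hu1).symm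
  have hne : ∃ a ∈ π '' E, ∃ b ∈ π '' E, a ≠ b := by
    by_contra hcon
    push Not at hcon
    apply hQne
    have hall : ∀ e ∈ E, d * e ∈ Q := by
      intro e he
      have := hcon _ ⟨d, hd, rfl⟩ _ ⟨e, he, rfl⟩
      rw [← QuotientGroup.eq_one_iff, ← QuotientGroup.mk'_apply, ← hπ, map_mul, ← this, ← map_mul,
        hTC.toTT.sq hd, map_one]
    have hidx := hTC.index_le_two Q hd hall
    have hH2 : IsPGroup 2 H := by
      obtain ⟨k, hk⟩ := IsPGroup.iff_card.mp hQ2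
      have h1 := Subgroup.card_mul_index Q
      have h0 : Q.index ≠ 0 := Subgroup.index_ne_zero_of_finite
      have : Q.index = 1 ∨ Q.index = 2 := by omega
      rcases this with h | h
      · apply IsPGroup.of_card (n := k)
        rw [← h1, h, mul_one, hk]
      · apply IsPGroup.of_card (n := k + 1)
        rw [← h1, h, hk, pow_succ]
    have hC : ∀ c ∈ E, ∃ g : H, g * d * g⁻¹ = c := fun c hc => hTC.hclass d hd c hc
    have htop := zpowers_eq_top_of_class_gen hH2 hC hTC.hgen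
    rw [eq_top_iff]
    refine le_trans ?_ hCQ
    intro h _
    rw [Subgroup.mem_centralizer_iff]
    intro q _
    have hh : h ∈ Subgroup.zpowers d := by rw [htop]; exact Subgroup.mem_top h
    have hq : q ∈ Subgroup.zpowers d := by rw [htop]; exact Subgroup.mem_top q
    obtain ⟨m, rfl⟩ := Subgroup.mem_zpowers_iff.mp hh
    obtain ⟨n, rfl⟩ := Subgroup.mem_zpowers_iff.mp hq
    rw [← zpow_add, ← zpow_add, add_comm]
  have hMS : MS (π '' E) (N.map π) (actQ Q hQab) :=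
    ⟨tc, hPn, hP3, hmulP, hcomm, hQ2, hinj, hA, hne⟩
  rcases hMS.dichotomy with h1 | ⟨d', x, y, hHD, hcl, hcard⟩
  · exact Or.inl h1
  · exact Or.inr (hHD.iso_SU hcl hcard)

end Cfsg.Agent.H9TTQ
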