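import Mathlib
import Cfsg.Prelude
import Cfsg.Agent.Lib.Helper9.TTQ17
import Cfsg.Agent.Lib.Helper9.PCore
import Cfsg.Agent.Lib.Lead.Frattini
import Cfsg.Agent.Lib.Lead.CoprimeFrattini
import Cfsg.Agent.Lib.Helper3.Components7

set_option autoImplicit false

/-!
# The general theorem: reduction modulo the Frattini subgroup of `O₂(H)`
-/

namespace Cfsg.Agent.H9TTQ

open Cfsg Cfsg.Agent.H9TT Cfsg.Agent.Lib.Helper9

variable {H : Type*} [Group H]

/-- the Frattini subgroup of `O₂(H)` as a subgroup of `H` -/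
def PhiQ (H : Type*) [Group H] : Subgroup H :=
  (frattini ↥(Cfsg.pCore 2 H)).map (Cfsg.pCore 2 H).subtype

instance PhiQ_normal : (PhiQ H).Normal := by
  unfold PhiQ
  exact ConjAct.normal_of_characteristic_of_normal

theorem PhiQ_le : PhiQ H ≤ Cfsg.pCore 2 H := Subgroup.map_subtype_le _

/-- the elements of `H` acting trivially on `O₂(H) / Φ(O₂(H))` -/
def CPhi (H : Type*) [Group H] : Subgroup H where
  carrier := {x | ∀ q ∈ Cfsg.pCore 2 H, x * q * x⁻¹ * q⁻¹ ∈ PhiQ H}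
  one_mem' := by
    intro q _
    have : (1 : H) * q * 1⁻¹ * q⁻¹ = 1 := by group
    rw [this]; exact (PhiQ H).one_mem
  mul_mem' := by
    intro x y hx hy q hq
    have hyq : y * q * y⁻¹ ∈ Cfsg.pCore 2 H := (pCore_normal' 2).conj_mem q hq y
    have h1 := hx (y * q * y⁻¹) hyq
    have h2 := hy q hq
    have e : (x * y) * q * (x * y)⁻¹ * q⁻¹ =
        (x * (y * q * y⁻¹) * x⁻¹ * (y * q * y⁻¹)⁻¹) * (y * q * y⁻¹ * q⁻¹) := by group
    rw [e]
    exact (PhiQ H).mul_mem h1 h2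
  inv_mem' := by
    intro x hx q hq
    have hxq : x⁻¹ * q * x ∈ Cfsg.pCore 2 H := by
      have := (pCore_normal' (G := H) 2).conj_mem q hq x⁻¹
      rwa [inv_inv] at this
    have h1 := hx (x⁻¹ * q * x) hxq
    have e : x⁻¹ * q * x⁻¹⁻¹ * q⁻¹ = (x * (x⁻¹ * q * x) * x⁻¹ * (x⁻¹ * q * x)⁻¹)⁻¹ := by group
    rw [e]
    exact (PhiQ H).inv_mem h1

theorem mem_CPhi {x : H} : x ∈ CPhi H ↔ ∀ q ∈ Cfsg.pCore 2 H, x * q * x⁻¹ * q⁻¹ ∈ PhiQ H :=
  Iff.rfl

instance CPhi_normal : (CPhi H).Normal := by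
  constructor
  intro x hx g q hq
  have hgq : g⁻¹ * q * g ∈ Cfsg.pCore 2 H := by
    have := (pCore_normal' (G := H) 2).conj_mem q hq g⁻¹
    rwa [inv_inv] at this
  have h1 := hx (g⁻¹ * q * g) hgq
  have h2 := PhiQ_normal.conj_mem _ h1 g
  have e : g * x * g⁻¹ * q * (g * x * g⁻¹)⁻¹ * q⁻¹ =
      g * (x * (g⁻¹ * q * g) * x⁻¹ * (g⁻¹ * q * g)⁻¹) * g⁻¹ := by group
  rw [e]
  exact h2

/-- if `F*(H) = O₂(H)` then the elements acting trivially on the Frattini quotient lie in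
`O₂(H)` -/
theorem CPhi_le [Finite H] (hF : Cfsg.generalizedFittingSubgroup H = Cfsg.pCore 2 H) :
    CPhi H ≤ Cfsg.pCore 2 H := by
  classical
  haveI : Fact (Nat.Prime 2) := ⟨Nat.prime_two⟩
  have hQ02 : IsPGroup 2 (Cfsg.pCore 2 H) := pCore_isPGroup' 2
  apply le_pCore CPhi_normal
  rintro ⟨c, hcC⟩
  have hn0 : orderOf c ≠ 0 := (orderOf_pos c).ne'
  obtain ⟨k, m, hm, hkm⟩ := Nat.exists_eq_two_pow_mul_odd hn0
  refine ⟨k, ?_⟩
  apply Subtype.ext
  show c ^ 2 ^ k = 1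
  obtain ⟨c', hc'⟩ : ∃ c', c' = c ^ 2 ^ k := ⟨_, rfl⟩
  rw [← hc']
  have hc'm : c' ^ m = 1 := by
    rw [hc', ← pow_mul, ← hkm, pow_orderOf_eq_one]
  have hc'C : c' ∈ CPhi H := by rw [hc']; exact (CPhi H).pow_mem hcC _
  have hAcard : Nat.card (Subgroup.zpowers c') ∣ m := by
    rw [Nat.card_zpowers]
    exact orderOf_dvd_of_pow_eq_one hc'm
  obtain ⟨j, hj⟩ := IsPGroup.iff_card.mp (hQ02.to_subgroup (frattini ↥(Cfsg.pCore 2 H)))
  have hcop : (Nat.card (Subgroup.zpowers c')).Coprime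
      (Nat.card (frattini ↥(Cfsg.pCore 2 H))) := by
    rw [hj]
    apply Nat.Coprime.pow_right
    apply Nat.Coprime.coprime_dvd_left hAcard
    exact Nat.coprime_two_right.mpr hm
  have hAn : Subgroup.zpowers c' ≤ Subgroup.normalizer ((Cfsg.pCore 2 H : Subgroup H) : Set H) := by
    intro a _
    rw [Subgroup.normalizer_eq_top_iff.mpr (pCore_normal' 2)]
    exact Subgroup.mem_top a
  have htriv : ∀ a ∈ Subgroup.zpowers c', ∀ q ∈ Cfsg.pCore 2 H, a * q * a⁻¹ * q⁻¹ ∈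
      (frattini ↥(Cfsg.pCore 2 H)).map (Cfsg.pCore 2 H).subtype := by
    intro a ha q hq
    have haC : a ∈ CPhi H := by
      obtain ⟨i, rfl⟩ := Subgroup.mem_zpowers_iff.mp ha
      exact (CPhi H).zpow_mem hc'C i
    exact haC q hq
  have hle := Cfsg.Agent.Lib.Lead.coprime_trivial_on_frattini_quotient (Subgroup.zpowers c')
    (Cfsg.pCore 2 H) hAn hcop htriv
  have hc'cent : c' ∈ Subgroup.centralizer ((Cfsg.pCore 2 H : Subgroup H) : Set H) :=
    hle (Subgroup.mem_zpowers c')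
  have hc'Q : c' ∈ Cfsg.pCore 2 H := by
    have := Cfsg.Agent.Lib.Helper3.centralizer_generalizedFittingSubgroup_le (G := H)
    rw [hF] at this
    exact this hc'cent
  obtain ⟨i, hi⟩ := hQ02 ⟨c', hc'Q⟩
  have hi' : c' ^ 2 ^ i = 1 := by
    have := congrArg Subtype.val hi
    simpa using this
  have h1 : orderOf c' ∣ m := orderOf_dvd_of_pow_eq_one hc'm
  have h2 : orderOf c' ∣ 2 ^ i := orderOf_dvd_of_pow_eq_one hi'
  have hcp : Nat.Coprime m (2 ^ i) := Nat.Coprime.pow_right i (Nat.coprime_two_right.mpr hm)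
  have := Nat.dvd_gcd h1 h2
  rw [hcp.gcd_eq_one] at this
  exact orderOf_eq_one_iff.mp (Nat.dvd_one.mp this)

end Cfsg.Agent.H9TTQ
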