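import Mathlib
import Cfsg.Prelude
import Cfsg.Agent.Lib.Helper9.TTQ18

set_option autoImplicit false

/-!
# The general theorem
-/

namespace Cfsg.Agent.H9TTQ

open Cfsg Cfsg.Agent.H9TT Cfsg.Agent.Lib.Helper9
open scoped commutatorElement

variable {H : Type*} [Group H]

theorem main [Finite H] {E : Set H} (hE : Cfsg.IsThreeTranspositionClass E)
    (hE2 : ∃ a ∈ E, ∃ b ∈ E, a ≠ b) (hF : Cfsg.generalizedFittingSubgroup H = Cfsg.pCore 2 H)
    (h232 : ∃ P : Sylow 3 (H ⧸ Cfsg.pCore 2 H), (P : Subgroup (H ⧸ Cfsg.pCore 2 H)).Normal ∧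
      ∃ k : ℕ, (P : Subgroup (H ⧸ Cfsg.pCore 2 H)).index = 2 ^ k) :
    Nonempty (H ⧸ Cfsg.pCore 2 H ≃* Equiv.Perm (Fin 3)) ∨
      ∃ (F : Type) (_ : Field F) (_ : Fintype F), Fintype.card F = 4 ∧
        Nonempty (H ⧸ Cfsg.pCore 2 H ≃* ↥(commutator ↥(Cfsg.SU 3 F 2))) := by
  classical
  haveI : Fact (Nat.Prime 2) := ⟨Nat.prime_two⟩
  have hTC : TC E := TC.of_class hE
  obtain ⟨d, hd, -⟩ := hE.2.1
  have hQ02 : IsPGroup 2 (Cfsg.pCore 2 H) := pCore_isPGroup' 2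
  have hQ0n : (Cfsg.pCore 2 H).Normal := pCore_normal' 2
  -- O₂(H) is proper
  have hQ0ne : Cfsg.pCore 2 H ≠ ⊤ := by
    intro htop
    have hH2 : IsPGroup 2 H := by
      intro h
      obtain ⟨k, hk⟩ := hQ02 ⟨h, by rw [htop]; exact Subgroup.mem_top h⟩
      refine ⟨k, ?_⟩
      have := congrArg Subtype.val hk
      simpa using this
    have hC : ∀ c ∈ E, ∃ g : H, g * d * g⁻¹ = c := fun c hc => hTC.hclass d hd c hc
    obtain ⟨a, ha, b, hb, hab⟩ := hE2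
    exact hab ((eq_of_class_gen hH2 hC hTC.hgen ha).trans (eq_of_class_gen hH2 hC hTC.hgen hb).symm)
  -- no member of E lies in O₂(H)
  have hEQ0 : ∀ a ∈ E, a ∉ Cfsg.pCore 2 H := by
    intro a ha haQ
    apply hQ0ne
    rw [eq_top_iff, ← hTC.hgen, Subgroup.closure_le]
    intro b hb
    obtain ⟨g, rfl⟩ := hTC.hclass a ha b hb
    exact hQ0n.conj_mem a haQ g
  have hEΦ : ∀ a ∈ E, a ∉ PhiQ H := fun a ha h => hEQ0 a ha (PhiQ_le h)
  obtain ⟨P, hPn, k, hPk⟩ := h232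
  -- the quotient by Φ
  set π := QuotientGroup.mk' (PhiQ H) with hπ
  have hπs : Function.Surjective π := QuotientGroup.mk'_surjective _
  have hker : π.ker = PhiQ H := QuotientGroup.ker_mk' _
  have tc : TC (π '' E) := TC_quot hTC (PhiQ H) hEΦ
  have hne : (π '' E).Nonempty := ⟨π d, d, hd, rfl⟩
  -- Q̃ abelian
  have hab : ∀ a ∈ (Cfsg.pCore 2 H).map π, ∀ b ∈ (Cfsg.pCore 2 H).map π, a * b = b * a := by
    rintro _ ⟨a, ha, rfl⟩ _ ⟨b, hb, rfl⟩
    have hcomm : (⁅(⟨a, ha⟩ : Cfsg.pCore 2 H), ⟨b, hb⟩⁆ : Cfsg.pCore 2 H) ∈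
        frattini ↥(Cfsg.pCore 2 H) := by
      apply Cfsg.Agent.Lib.Lead.commutator_le_frattini_of_isPGroup hQ02
      rw [commutator_def]
      exact Subgroup.commutator_mem_commutator (Subgroup.mem_top _) (Subgroup.mem_top _)
    have hmem : a * b * a⁻¹ * b⁻¹ ∈ PhiQ H := by
      refine ⟨_, hcomm, ?_⟩
      rw [commutatorElement_def]
      rfl
    have h1 : π (a * b * a⁻¹ * b⁻¹) = 1 := by
      rw [hπ, QuotientGroup.mk'_apply, QuotientGroup.eq_one_iff]; exact hmem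
    rw [map_mul, map_mul, map_mul, map_inv, map_inv] at h1
    have h2 := mul_inv_eq_one.mp h1
    exact mul_inv_eq_iff_eq_mul.mp h2
  have h2grp : IsPGroup 2 ((Cfsg.pCore 2 H).map π) := hQ02.map π
  -- self-centralizing
  have hcent : Subgroup.centralizer (((Cfsg.pCore 2 H).map π : Subgroup (H ⧸ PhiQ H)) :
      Set (H ⧸ PhiQ H)) ≤ (Cfsg.pCore 2 H).map π := by
    intro c hc
    obtain ⟨c0, rfl⟩ := hπs c
    refine Subgroup.mem_map_of_mem _ (CPhi_le hF ?_)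
    rw [mem_CPhi]
    intro q hq
    rw [Subgroup.mem_centralizer_iff] at hc
    have h1 := hc (π q) (Subgroup.mem_map_of_mem _ hq)
    rw [← QuotientGroup.eq_one_iff, ← QuotientGroup.mk'_apply, ← hπ, map_mul, map_mul, map_mul,
      map_inv, map_inv, ← h1]
    group
  have hQtne : (Cfsg.pCore 2 H).map π ≠ ⊤ := by
    intro htop
    apply hQ0ne
    have h1 := Subgroup.comap_map_eq π (Cfsg.pCore 2 H)
    rw [htop, Subgroup.comap_top, hker, sup_eq_left.mpr PhiQ_le] at h1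
    exact h1.symm
  -- Ñ
  set N0 : Subgroup H := (P : Subgroup (H ⧸ Cfsg.pCore 2 H)).comap
    (QuotientGroup.mk' (Cfsg.pCore 2 H)) with hN0
  haveI hN0n : N0.Normal := by
    rw [hN0]; exact Subgroup.Normal.comap hPn _
  haveI hNtn : (N0.map π).Normal := Subgroup.Normal.map hN0n π hπs
  have hN3 : ∀ n ∈ N0.map π, ∃ j : ℕ, n ^ 3 ^ j ∈ (Cfsg.pCore 2 H).map π := by
    rintro _ ⟨n, hn, rfl⟩
    obtain ⟨j, hj⟩ := P.isPGroup' ⟨_, hn⟩
    refine ⟨j, ?_⟩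
    rw [← map_pow]
    apply Subgroup.mem_map_of_mem
    have := congrArg Subtype.val hj
    simp only [SubgroupClass.coe_pow, Subgroup.coe_one] at this
    rw [← map_pow, QuotientGroup.mk'_apply, QuotientGroup.eq_one_iff] at this
    exact this
  have hN2 : ∀ h : H ⧸ PhiQ H, ∃ j : ℕ, h ^ 2 ^ j ∈ N0.map π := by
    intro h
    obtain ⟨h0, rfl⟩ := hπs h
    refine ⟨k, ?_⟩
    rw [← map_pow]
    apply Subgroup.mem_map_of_mem
    haveI := hPn
    have := Subgroup.pow_index_mem (P : Subgroup (H ⧸ Cfsg.pCore 2 H))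
      (QuotientGroup.mk' (Cfsg.pCore 2 H) h0)
    rw [hPk, ← map_pow] at this
    exact this
  haveI hQtn : ((Cfsg.pCore 2 H).map π).Normal := QuotientGroup.map_normal (PhiQ H) (Cfsg.pCore 2 H)
  have hres := reduced tc hne ((Cfsg.pCore 2 H).map π) hab h2grp hcent hQtne (N0.map π) hN3 hN2
  let e3 : H ⧸ Cfsg.pCore 2 H ≃* (H ⧸ PhiQ H) ⧸ (Cfsg.pCore 2 H).map π :=
    (QuotientGroup.quotientQuotientEquivQuotient (PhiQ H) (Cfsg.pCore 2 H) PhiQ_le).symm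
  rcases hres with ⟨⟨e⟩⟩ | ⟨F, i1, i2, hF4, ⟨e⟩⟩
  · exact Or.inl ⟨e3.trans e⟩
  · exact Or.inr ⟨F, i1, i2, hF4, ⟨e3.trans e⟩⟩

end Cfsg.Agent.H9TTQ
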