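import Mathlib
import Cfsg.Prelude
import Cfsg.Agent.Lib.Helper9.TTQ15
import Cfsg.Agent.Lib.Helper9.TT9f

set_option autoImplicit false

/-!
# Splitting over the kernel of a map onto `3^{1+2} : 2`
-/

namespace Cfsg.Agent.H9TTQ

open Cfsg.Agent.H9TT

/-- two involutions whose product has odd order are conjugate -/
theorem invol_conj {H : Type*} [Group H] {s t : H} (hs : s * s = 1) (ht : t * t = 1) {m : ℕ}
    (hu : (s * t) ^ (2 * m + 1) = 1) : ∃ g : H, g * s * g⁻¹ = t := by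
  refine ⟨(s * t) ^ m * s, ?_⟩
  have hsi : s⁻¹ = s := inv_eq_of_mul_eq_one_right hs
  have hti : t⁻¹ = t := inv_eq_of_mul_eq_one_right ht
  -- `s (s t)^m s = (t s)^m`
  have h1 : s * (s * t) ^ m * s = (t * s) ^ m := by
    have := conj_pow (a := s) (b := s * t) (i := m)
    rw [hsi] at this
    rw [← this]
    congr 1
    calc s * (s * t) * s = (s * s) * t * s := by group
      _ = t * s := by rw [hs, one_mul]
  have h2 : (t * s) ^ m = ((s * t) ^ m)⁻¹ := by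
    rw [← inv_pow, mul_inv_rev, hsi, hti]
  calc (s * t) ^ m * s * s * ((s * t) ^ m * s)⁻¹
      = (s * t) ^ m * (s * s) * s⁻¹ * ((s * t) ^ m)⁻¹ := by group
    _ = (s * t) ^ m * s * ((s * t) ^ m)⁻¹ := by rw [hs, hsi, mul_one]
    _ = (s * t) ^ m * (s * ((s * t) ^ m)⁻¹ * s) * s := by
        rw [show (s * t) ^ m * (s * ((s * t) ^ m)⁻¹ * s) * s =
          (s * t) ^ m * s * ((s * t) ^ m)⁻¹ * (s * s) by group, hs, mul_one]
    _ = (s * t) ^ m * (s * (t * s) ^ m * s) * s := by rw [h2]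
    _ = (s * t) ^ m * (s * (s * (s * t) ^ m * s) * s) * s := by rw [h1]
    _ = (s * t) ^ m * ((s * s) * (s * t) ^ m * (s * s)) * s := by group
    _ = (s * t) ^ m * (s * t) ^ m * s := by rw [hs, one_mul, mul_one, mul_assoc ((s * t) ^ m)]
    _ = (s * t) ^ (2 * m) * s := by rw [← pow_add, two_mul]
    _ = (s * t) ^ (2 * m) * (s * t) * t := by
        rw [mul_assoc ((s * t) ^ (2 * m)), mul_assoc s, ht, mul_one]
    _ = t := by rw [← pow_succ, hu, one_mul]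

/-- three involutions with pairwise products of order three, the third off the line -/
theorem HD.of_invs {G : Type*} [Group G] {a b c : G} (ha : a * a = 1) (hb : b * b = 1)
    (hc : c * c = 1) (h1 : (a * b) ^ 3 = 1) (h2 : (a * c) ^ 3 = 1) (h3 : (b * c) ^ 3 = 1)
    (h4 : (a * b * a * c) ^ 3 = 1) : HD a (a * b) (a * c) := by
  have hai : a⁻¹ = a := inv_eq_of_mul_eq_one_right ha
  have hbi : b⁻¹ = b := inv_eq_of_mul_eq_one_right hb
  have hci : c⁻¹ = c := inv_eq_of_mul_eq_one_right hc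
  have hx : a * (a * b) * a = (a * b)⁻¹ := by
    rw [mul_inv_rev, hai, hbi, ← mul_assoc, ha, one_mul]
  have hy : a * (a * c) * a = (a * c)⁻¹ := by
    rw [mul_inv_rev, hai, hci, ← mul_assoc, ha, one_mul]
  have hxi : a * (a * b)⁻¹ * a = a * b := by
    rw [mul_inv_rev, hai, hbi, mul_assoc, mul_assoc, ha, mul_one]
  have hyi : a * (a * c)⁻¹ * a = a * c := by
    rw [mul_inv_rev, hai, hci, mul_assoc, mul_assoc, ha, mul_one]
  have h5 : (a * b * (a * c)) ^ 3 = 1 := by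
    rw [← h4]; congr 1; group
  have h6 : (a * b * (a * c)⁻¹) ^ 3 = 1 := by
    have e : a * b * (a * c)⁻¹ = a * (b * c) * a⁻¹ := by
      rw [mul_inv_rev, hai, hci]; group
    rw [e, conj_pow, h3, mul_one, mul_inv_cancel]
  obtain ⟨c1, c2, c3⟩ := heis h1 h2 h5 h6
  refine ⟨ha, h1, h2, hx, hy, c1, c2, c3, ?_⟩
  obtain ⟨x, hxd⟩ : ∃ x, x = a * b := ⟨_, rfl⟩
  obtain ⟨y, hyd⟩ : ∃ y, y = a * c := ⟨_, rfl⟩
  rw [← hxd] at hx hxi c1 c2 ⊢
  rw [← hyd] at hy hyi c1 c2 ⊢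
  have e1 : a * (x * y * x⁻¹ * y⁻¹) * a =
      (a * x * a) * (a * y * a) * (a * x⁻¹ * a) * (a * y⁻¹ * a) := by
    calc a * (x * y * x⁻¹ * y⁻¹) * a = a * x * 1 * y * 1 * x⁻¹ * 1 * y⁻¹ * a := by group
      _ = a * x * (a * a) * y * (a * a) * x⁻¹ * (a * a) * y⁻¹ * a := by rw [ha]
      _ = _ := by group
  rw [e1, hx, hy, hxi, hyi]
  have cyx : Commute (x * y * x⁻¹ * y⁻¹) (y * x) := c2.mul_right c1
  calc x⁻¹ * y⁻¹ * x * y = (y * x)⁻¹ * ((x * y * x⁻¹ * y⁻¹) * (y * x)) := by group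
    _ = (y * x)⁻¹ * ((y * x) * (x * y * x⁻¹ * y⁻¹)) := by rw [cyx.eq]
    _ = x * y * x⁻¹ * y⁻¹ := by group

namespace F4

theorem gXY_ne : gX * gY ≠ gY * gX := by
  intro h
  have h1 := congrArg (fun g : S32 => (g.1.1 : Matrix (Fin 3) (Fin 3) F4)) h
  revert h1
  decide

theorem gA_ne : gA ≠ 1 := by
  intro h
  have h1 := congrArg (fun g : S32 => (g.1.1 : Matrix (Fin 3) (Fin 3) F4)) h
  revert h1
  decide

end F4

end Cfsg.Agent.H9TTQ
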