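import Mathlib
import Cfsg.Prelude
import Cfsg.Agent.Lib.Helper9.TTQ20

set_option autoImplicit false

/-!
# Splitting over the kernel of a map onto `3^{1+2} : 2`, continued
-/

namespace Cfsg.Agent.H9TTQ

open Cfsg.Agent.H9TT

namespace F4

theorem g_ne1 : gA * gX ≠ 1 := by
  intro h
  have h1 := congrArg (fun g : S32 => (g.1.1 : Matrix (Fin 3) (Fin 3) F4)) h
  revert h1
  decide

theorem g_ne2 : gA * gY ≠ 1 := by
  intro h
  have h1 := congrArg (fun g : S32 => (g.1.1 : Matrix (Fin 3) (Fin 3) F4)) h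
  revert h1
  decide

theorem g_ne3 : gA ≠ gA * gX := by
  intro h
  have h1 := congrArg (fun g : S32 => (g.1.1 : Matrix (Fin 3) (Fin 3) F4)) h
  revert h1
  decide

theorem g_ne4 : gA ≠ gA * gY := by
  intro h
  have h1 := congrArg (fun g : S32 => (g.1.1 : Matrix (Fin 3) (Fin 3) F4)) h
  revert h1
  decide

theorem g_ne5 : gA * gX ≠ gA * gY := by
  intro h
  have h1 := congrArg (fun g : S32 => (g.1.1 : Matrix (Fin 3) (Fin 3) F4)) h
  revert h1
  decide

theorem g_ne6 : gA * (gA * gX) * gA ≠ gA * gY := by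
  intro h
  have h1 := congrArg (fun g : S32 => (g.1.1 : Matrix (Fin 3) (Fin 3) F4)) h
  revert h1
  decide

theorem c_ne0 : cA ≠ 1 := fun h => gA_ne (congrArg Subtype.val h)
theorem c_ne1 : cA * cX ≠ 1 := fun h => g_ne1 (congrArg Subtype.val h)
theorem c_ne2 : cA * cY ≠ 1 := fun h => g_ne2 (congrArg Subtype.val h)
theorem c_ne3 : cA ≠ cA * cX := fun h => g_ne3 (congrArg Subtype.val h)
theorem c_ne4 : cA ≠ cA * cY := fun h => g_ne4 (congrArg Subtype.val h)
theorem c_ne5 : cA * cX ≠ cA * cY := fun h => g_ne5 (congrArg Subtype.val h)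
theorem c_ne6 : cA * (cA * cX) * cA ≠ cA * cY := fun h => g_ne6 (congrArg Subtype.val h)

end F4

end Cfsg.Agent.H9TTQ
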