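import Mathlib
import Cfsg.Prelude
import Cfsg.Agent.Lib.Helper9.TTQ21

set_option autoImplicit false

/-!
# Splitting over the kernel of a map onto `3^{1+2} : 2`: the main lemma
-/

namespace Cfsg.Agent.H9TTQ

open Cfsg.Agent.H9TT

theorem split_of_hom {G : Type*} [Group G] [Finite G] {D : Set G} (hD : TC D)
    (f : G →* commutator F4.S32) (hf : Function.Surjective f) :
    ∃ K : Subgroup G, f.ker.IsComplement' K := by
  classical
  have hC : Nat.card (commutator F4.S32) = 54 := F4.card_commutator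
  haveI : Finite (commutator F4.S32) := by
    apply Nat.finite_of_card_ne_zero
    rw [hC]; norm_num
  haveI : Fact (Nat.Prime 3) := ⟨Nat.prime_three⟩
  obtain ⟨P, hP⟩ := Sylow.exists_subgroup_card_pow_prime 3 (n := 3) (G := commutator F4.S32)
    (by rw [hC]; norm_num)
  have hidx : P.index = 2 := by
    have := P.card_mul_index
    rw [hP, hC] at this
    omega
  have hpowP : ∀ s : commutator F4.S32, s ∈ P → s ^ 27 = 1 := by
    intro s hsP
    have h1 : (⟨s, hsP⟩ : P) ^ Nat.card P = 1 := pow_card_eq_one'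
    rw [hP] at h1
    have h2 := congrArg Subtype.val h1
    simpa using h2
  have hinv : ∀ s : commutator F4.S32, s * s = 1 → s ≠ 1 → s ∉ P := by
    intro s hs hs1 hsP
    apply hs1
    have h27 := hpowP s hsP
    calc s = (s * s) ^ 13 * s := by rw [hs, one_pow, one_mul]
      _ = s ^ 27 := by rw [← pow_two, ← pow_mul, ← pow_succ]
      _ = 1 := h27
  have hprod : ∀ s t : commutator F4.S32, s * s = 1 → s ≠ 1 → t * t = 1 → t ≠ 1 →
      (s * t) ^ 27 = 1 := by
    intro s t hs hs1 ht ht1
    apply hpowP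
    rw [Subgroup.mul_mem_iff_of_index_two hidx]
    exact ⟨fun h => absurd h (hinv s hs hs1), fun h => absurd h (hinv t ht ht1)⟩
  -- the image of `D` misses the identity
  have hf1 : ∀ a ∈ D, f a ≠ 1 := by
    intro a ha h1
    have hle : Subgroup.closure D ≤ f.ker := by
      rw [Subgroup.closure_le]
      intro b hb
      obtain ⟨g, rfl⟩ := hD.hclass a ha b hb
      rw [SetLike.mem_coe, MonoidHom.mem_ker, map_mul, map_mul, h1, mul_one, map_inv,
        mul_inv_cancel]
    rw [hD.hgen] at hle
    have hall : ∀ c : commutator F4.S32, c = 1 := by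
      intro c
      obtain ⟨g, rfl⟩ := hf c
      exact MonoidHom.mem_ker.mp (hle (Subgroup.mem_top g))
    exact F4.c_ne0 (hall _)
  have hne : D.Nonempty := by
    by_contra hemp
    rw [Set.not_nonempty_iff_eq_empty] at hemp
    have h1 := hD.hgen
    rw [hemp, Subgroup.closure_empty] at h1
    have hall : ∀ c : commutator F4.S32, c = 1 := by
      intro c
      obtain ⟨g, rfl⟩ := hf c
      have : g ∈ (⊥ : Subgroup G) := by rw [h1]; exact Subgroup.mem_top g
      rw [Subgroup.mem_bot] at this
      rw [this, map_one]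
    exact F4.c_ne0 (hall _)
  have hsq : ∀ a ∈ D, f a * f a = 1 := by
    intro a ha
    rw [← map_mul, hD.sq ha, map_one]
  -- every involution is an image of a member of `D`
  have hall : ∀ t : commutator F4.S32, t * t = 1 → t ≠ 1 → ∃ a ∈ D, f a = t := by
    intro t ht ht1
    obtain ⟨a0, ha0⟩ := hne
    obtain ⟨g, hg⟩ := invol_conj (m := 13) (hsq a0 ha0) ht
      (hprod _ _ (hsq a0 ha0) (hf1 a0 ha0) ht ht1)
    obtain ⟨g', rfl⟩ := hf g
    exact ⟨g' * a0 * g'⁻¹, hD.hconj g' a0 ha0, by rw [map_mul, map_mul, map_inv, hg]⟩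
  have hd := F4.hd_c
  have hAA : F4.cA * F4.cA = 1 := hd.dd
  have hAX : F4.cA * F4.cX * (F4.cA * F4.cX) = 1 := by
    calc F4.cA * F4.cX * (F4.cA * F4.cX) = (F4.cA * F4.cX * F4.cA) * F4.cX := by group
      _ = 1 := by rw [hd.dx, inv_mul_cancel]
  have hAY : F4.cA * F4.cY * (F4.cA * F4.cY) = 1 := by
    calc F4.cA * F4.cY * (F4.cA * F4.cY) = (F4.cA * F4.cY * F4.cA) * F4.cY := by group
      _ = 1 := by rw [hd.dy, inv_mul_cancel]
  obtain ⟨a, ha, hfa⟩ := hall F4.cA hAA F4.c_ne0
  obtain ⟨b, hb, hfb⟩ := hall (F4.cA * F4.cX) hAX F4.c_ne1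
  obtain ⟨c, hc, hfc⟩ := hall (F4.cA * F4.cY) hAY F4.c_ne2
  -- products of members with distinct images have order three
  have hcube : ∀ u ∈ D, ∀ v ∈ D, f u ≠ f v → (u * v) ^ 3 = 1 := by
    intro u hu v hv huv
    apply hD.cube' hu hv
    intro hcomm
    exfalso
    apply huv
    have h2 : (f u * f v) ^ 2 = 1 := by
      rw [← map_mul, ← map_pow, pow_two]
      have : u * v * (u * v) = 1 := by
        calc u * v * (u * v) = u * (v * u) * v := by group
          _ = u * (u * v) * v := by rw [hcomm.eq]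
          _ = (u * u) * (v * v) := by group
          _ = 1 := by rw [hD.sq hu, hD.sq hv, one_mul]
      rw [this, map_one]
    have h27 := hprod _ _ (hsq u hu) (hf1 u hu) (hsq v hv) (hf1 v hv)
    have h1 : f u * f v = 1 := by
      calc f u * f v = ((f u * f v) ^ 2) ^ 13 * (f u * f v) := by rw [h2, one_pow, one_mul]
        _ = (f u * f v) ^ 27 := by rw [← pow_mul, ← pow_succ]
        _ = 1 := h27
    calc f u = f u * (f v * f v) := by rw [hsq v hv, mul_one]
      _ = (f u * f v) * f v := by group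
      _ = f v := by rw [h1, one_mul]
  have habaD : a * b * a ∈ D := hD.third_mem ha hb
  have hHD : HD a (a * b) (a * c) := by
    apply HD.of_invs (hD.sq ha) (hD.sq hb) (hD.sq hc)
    · apply hcube a ha b hb
      rw [hfa, hfb]; exact F4.c_ne3
    · apply hcube a ha c hc
      rw [hfa, hfc]; exact F4.c_ne4
    · apply hcube b hb c hc
      rw [hfb, hfc]; exact F4.c_ne5
    · apply hcube (a * b * a) habaD c hc
      rw [map_mul, map_mul, hfa, hfb, hfc]; exact F4.c_ne6
  have hfab : f (a * b) = F4.cX := by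
    rw [map_mul, hfa, hfb, ← mul_assoc, hAA, one_mul]
  have hfac : f (a * c) = F4.cY := by
    rw [map_mul, hfa, hfc, ← mul_assoc, hAA, one_mul]
  obtain ⟨K, hK⟩ : ∃ K : Subgroup G, K = Subgroup.closure ({a, a * b, a * c} : Set G) := ⟨_, rfl⟩
  have hKle : Nat.card K ≤ 54 := by rw [hK]; exact hHD.card_closure_le
  have hKmap : K.map f = ⊤ := by
    rw [hK, MonoidHom.map_closure, eq_top_iff, ← F4.closure_c]
    apply Subgroup.closure_mono
    intro g hg
    rcases hg with hg | hg | hg
    · exact ⟨a, by simp, by rw [hfa, hg]⟩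
    · exact ⟨a * b, by simp, by rw [hfab, hg]⟩
    · exact ⟨a * c, by simp, by rw [hfac, hg]⟩
  let fK : K →* commutator F4.S32 := f.comp K.subtype
  have hfKs : Function.Surjective fK := by
    rw [← MonoidHom.range_eq_top, MonoidHom.range_comp, Subgroup.range_subtype, hKmap]
  have hKge : 54 ≤ Nat.card K := by
    rw [← hC]; exact Nat.card_le_card_of_surjective fK hfKs
  have hKcard : Nat.card K = 54 := le_antisymm hKle hKge
  have hfKb : Function.Bijective fK :=
    (Nat.bijective_iff_surjective_and_card fK).mpr ⟨hfKs, by rw [hKcard, hC]⟩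
  refine ⟨K, ?_⟩
  apply Subgroup.isComplement'_of_card_mul_and_disjoint
  · have h1 := f.ker.card_mul_index
    have h2 : f.ker.index = 54 := by
      rw [Subgroup.index_ker, MonoidHom.range_eq_top.mpr hf, Subgroup.card_top, hC]
    rw [hKcard, ← h2]; exact h1
  · rw [Subgroup.disjoint_def]
    intro x hxker hxK
    have h1 : fK ⟨x, hxK⟩ = fK 1 := by
      rw [map_one]; exact MonoidHom.mem_ker.mp hxker
    have h2 := hfKb.1 h1
    exact congrArg Subtype.val h2
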