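import Mathlib
import Cfsg.Prelude
import Cfsg.Agent.Lib.Helper9.TTQ22
import Cfsg.Agent.Lib.Helper1.SUCongr
import Cfsg.Agent.Lib.Helper9.TT9r

set_option autoImplicit false

/-!
# Splitting over `O₂` when the quotient is the derived group of `SU₃(2)`
-/

namespace Cfsg.Agent.H9TTQ

open Cfsg.Agent.H9TT

/-- an isomorphism of groups restricts to an isomorphism of the derived subgroups -/
noncomputable def commutatorCongr {A B : Type*} [Group A] [Group B] (φ : A ≃* B) :
    commutator A ≃* commutator B :=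
  (φ.subgroupMap (commutator A)).trans (MulEquiv.subgroupCongr (by
    rw [commutator_def, commutator_def]
    show Subgroup.map φ.toMonoidHom ⁅(⊤ : Subgroup A), ⊤⁆ = ⁅(⊤ : Subgroup B), ⊤⁆
    rw [Subgroup.map_commutator, Subgroup.map_top_of_surjective _ φ.surjective]))

theorem split_of_iso {G : Type*} [Group G] [Finite G] {D : Set G}
    (hD : Cfsg.IsThreeTranspositionClass D) (Q : Subgroup G) [Q.Normal]
    (hq : ∃ (F : Type) (_ : Field F) (_ : Fintype F), Fintype.card F = 4 ∧
      Nonempty (G ⧸ Q ≃* ↥(commutator ↥(Cfsg.SU 3 F 2)))) :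
    ∃ K : Subgroup G, Q.IsComplement' K := by
  obtain ⟨F, _, _, hF, ⟨ψ⟩⟩ := hq
  have e : F ≃+* F4 := FiniteField.ringEquivOfCardEq (by rw [hF, F4.card])
  let θ : ↥(commutator ↥(Cfsg.SU 3 F 2)) ≃* ↥(commutator F4.S32) :=
    commutatorCongr (Cfsg.Agent.Lib.Helper1.SUCongr.suCongr e)
  let f : G →* commutator F4.S32 :=
    (θ.toMonoidHom.comp ψ.toMonoidHom).comp (QuotientGroup.mk' Q)
  have hf : Function.Surjective f := by
    show Function.Surjective ((θ ∘ ψ) ∘ (QuotientGroup.mk' Q))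
    exact (θ.surjective.comp ψ.surjective).comp (QuotientGroup.mk'_surjective Q)
  have hker : f.ker = Q := by
    ext g
    rw [MonoidHom.mem_ker]
    show θ (ψ (QuotientGroup.mk' Q g)) = 1 ↔ g ∈ Q
    rw [MulEquiv.map_eq_one_iff, MulEquiv.map_eq_one_iff, QuotientGroup.mk'_apply,
      QuotientGroup.eq_one_iff]
  obtain ⟨K, hK⟩ := split_of_hom (TC.of_class hD) f hf
  rw [hker] at hK
  exact ⟨K, hK⟩

end Cfsg.Agent.H9TTQ
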