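import Mathlib
import Cfsg.Agent.Lib.Helper8.CB9

set_option autoImplicit false

/-!
# Twisted transfer

A group `R` acts freely on a finite set `X` through `ρ`, and `π : R →* A` is a homomorphism into a commutative group. A
permutation `g` of `X` is `π`-twisted equivariant when `g (ρ r x) = ρ r' (g x)` for some `r'` with `π r' = π r`. The
transfer `tw` is multiplicative on such permutations.
-/

namespace Cfsg.Agent.H9TW

open Cfsg.Agent.Lib.Helper8.CB

section
variable {R X : Type*} [Group R] (ρ : R →* Equiv.Perm X)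
variable {A : Type*} [CommGroup A] (π : R →* A)

/-- `π`-twisted equivariance. -/
def IsTw (g : Equiv.Perm X) : Prop :=
  ∀ (r : R) (x : X), ∃ r' : R, g (ρ r x) = ρ r' (g x) ∧ π r' = π r

theorem isTw_one : IsTw ρ π (1 : Equiv.Perm X) := fun r _ => ⟨r, rfl, rfl⟩

theorem IsTw.mul {g g' : Equiv.Perm X} (hg' : IsTw ρ π g') (hg : IsTw ρ π g) : IsTw ρ π (g' * g) := by
  intro r x
  obtain ⟨r₁, h1, h1'⟩ := hg r x
  obtain ⟨r₂, h2, h2'⟩ := hg' r₁ (g x)
  refine ⟨r₂, ?_, h2'.trans h1'⟩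
  rw [Equiv.Perm.mul_apply, Equiv.Perm.mul_apply, h1, h2]

theorem isTw_rho (r₀ : R) : IsTw ρ π (ρ r₀) := by
  intro r x
  refine ⟨r₀ * r * r₀⁻¹, ?_, ?_⟩
  · rw [← Equiv.Perm.mul_apply, ← Equiv.Perm.mul_apply, ← map_mul, ← map_mul]
    congr 2
    group
  · rw [map_mul, map_mul, map_inv, mul_comm, ← mul_assoc, inv_mul_cancel, one_mul]

/-- The map induced on the orbit space (through the chosen representatives). -/
noncomputable def bar (g : Equiv.Perm X) (y : Orb ρ) : Orb ρ :=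
  Quotient.mk (orbSetoid ρ) (g (sec ρ y))

theorem IsTw.rel {g : Equiv.Perm X} (hg : IsTw ρ π g) {x x' : X} (h : (orbSetoid ρ).r x x') :
    (orbSetoid ρ).r (g x) (g x') := by
  obtain ⟨r, rfl⟩ := h
  obtain ⟨r', h1, -⟩ := hg r x
  exact ⟨r', h1.symm⟩

theorem bar_surjective {g : Equiv.Perm X} (hg : IsTw ρ π g) : Function.Surjective (bar ρ g) := by
  intro y'
  refine ⟨Quotient.mk (orbSetoid ρ) (g.symm (sec ρ y')), ?_⟩
  unfold bar
  rw [← mk_sec ρ y']
  apply Quotient.sound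
  have h1 : (orbSetoid ρ).r (sec ρ (Quotient.mk (orbSetoid ρ) (g.symm (sec ρ y')))) (g.symm (sec ρ y')) :=
    ⟨_, coord_spec ρ _⟩
  have h2 := hg.rel ρ π h1
  rw [Equiv.apply_symm_apply] at h2
  rw [mk_sec]
  exact h2

end

section
variable {R X : Type*} [Group R] [Finite X] (ρ : R →* Equiv.Perm X)
variable {A : Type*} [CommGroup A] (π : R →* A)

theorem bar_bijective {g : Equiv.Perm X} (hg : IsTw ρ π g) : Function.Bijective (bar ρ g) :=
  ⟨Finite.injective_iff_surjective.mpr (bar_surjective ρ π hg), bar_surjective ρ π hg⟩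

open Classical in
/-- The twisted transfer. -/
noncomputable def tw (g : Equiv.Perm X) : A :=
  letI : Fintype (Orb ρ) := Fintype.ofFinite _
  ∏ y : Orb ρ, π (coord ρ (g (sec ρ y)))

variable (hfree : ∀ (r : R) (x : X), ρ r x = x → r = 1)
include hfree

open Classical in
theorem tw_mul {g g' : Equiv.Perm X} (hg' : IsTw ρ π g') (hg : IsTw ρ π g) :
    tw ρ π (g' * g) = tw ρ π g' * tw ρ π g := by
  letI : Fintype (Orb ρ) := Fintype.ofFinite _
  unfold tw
  have h1 : ∀ y : Orb ρ, π (coord ρ ((g' * g) (sec ρ y))) =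
      π (coord ρ (g (sec ρ y))) * π (coord ρ (g' (sec ρ (bar ρ g y)))) := by
    intro y
    have h2 : g (sec ρ y) = ρ (coord ρ (g (sec ρ y))) (sec ρ (bar ρ g y)) :=
      (coord_spec ρ (g (sec ρ y))).symm
    obtain ⟨r', h3, h4⟩ := hg' (coord ρ (g (sec ρ y))) (sec ρ (bar ρ g y))
    rw [Equiv.Perm.mul_apply]
    nth_rewrite 1 [h2]
    rw [h3, coord_apply ρ hfree, map_mul, h4]
  have h5 : ∏ y : Orb ρ, π (coord ρ (g' (sec ρ (bar ρ g y)))) = ∏ y : Orb ρ, π (coord ρ (g' (sec ρ y))) :=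
    Fintype.prod_bijective (bar ρ g) (bar_bijective ρ π hg) _ _ (fun _ => rfl)
  calc ∏ y : Orb ρ, π (coord ρ ((g' * g) (sec ρ y)))
      = ∏ y : Orb ρ, (π (coord ρ (g (sec ρ y))) * π (coord ρ (g' (sec ρ (bar ρ g y))))) :=
        Finset.prod_congr rfl (fun y _ => h1 y)
    _ = (∏ y : Orb ρ, π (coord ρ (g (sec ρ y)))) * ∏ y : Orb ρ, π (coord ρ (g' (sec ρ (bar ρ g y)))) :=
        Finset.prod_mul_distrib
    _ = _ := by rw [h5, mul_comm]

open Classical in
theorem tw_rho (r₀ : R) : tw ρ π (ρ r₀) = π r₀ ^ Nat.card (Orb ρ) := by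
  letI : Fintype (Orb ρ) := Fintype.ofFinite _
  unfold tw
  have : ∀ y : Orb ρ, π (coord ρ (ρ r₀ (sec ρ y))) = π r₀ := by
    intro y
    rw [coord_apply ρ hfree, coord_sec ρ hfree, mul_one]
  simp only [this, Finset.prod_const, Finset.card_univ]
  rw [Nat.card_eq_fintype_card]

theorem tw_one : tw ρ π (1 : Equiv.Perm X) = 1 := by
  have h := tw_mul ρ π hfree (isTw_one ρ π) (isTw_one ρ π)
  rw [mul_one] at h
  exact (mul_eq_left.mp h.symm)

/-- Conjugation invariance of the twisted transfer. -/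
theorem tw_eq_of_intertwine {g₁ g₂ e : Equiv.Perm X} (h1 : IsTw ρ π g₁) (h2 : IsTw ρ π g₂) (he : IsTw ρ π e)
    (h : e * g₁ = g₂ * e) : tw ρ π g₁ = tw ρ π g₂ := by
  have h3 := congrArg (tw ρ π) h
  rw [tw_mul ρ π hfree he h1, tw_mul ρ π hfree h2 he, mul_comm] at h3
  exact mul_right_cancel h3

end

end Cfsg.Agent.H9TW
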