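import Mathlib

set_option autoImplicit false

/-!
# Equivariant maps into a group with a two-sided action
-/

namespace Cfsg.Agent.H9TW

open MulAction

/-- If every point stabilizer fixes some element of `Γ` for the two-sided action `γ ↦ κ₁ g * γ * (κ₂ g)⁻¹`, there is an
equivariant map. -/
theorem exists_biequivariant {H : Type*} [Group H] {X : Type*} [MulAction H X] {Γ : Type*} [Group Γ]
    (κ₁ κ₂ : H →* Γ) (h : ∀ x : X, ∃ γ : Γ, ∀ g : H, g • x = x → κ₁ g * γ * (κ₂ g)⁻¹ = γ) :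
    ∃ d : X → Γ, ∀ (g : H) (x : X), d (g • x) = κ₁ g * d x * (κ₂ g)⁻¹ := by
  classical
  choose γ₀ hγ₀ using h
  let r : X → X := fun x => (Quotient.mk (MulAction.orbitRel H X) x).out
  have hr : ∀ x, ∃ g : H, g • r x = x := by
    intro x
    have h1 : (MulAction.orbitRel H X).r (r x) x := Quotient.exact (Quotient.out_eq _)
    rw [MulAction.orbitRel_apply] at h1
    obtain ⟨g, hg⟩ := h1
    refine ⟨g⁻¹, ?_⟩
    rw [← hg, inv_smul_smul]
  have hrg : ∀ (g : H) (x : X), r (g • x) = r x := by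
    intro g x
    have : Quotient.mk (MulAction.orbitRel H X) (g • x) = Quotient.mk (MulAction.orbitRel H X) x := by
      apply Quotient.sound
      show (MulAction.orbitRel H X).r (g • x) x
      rw [MulAction.orbitRel_apply]
      exact ⟨g, rfl⟩
    show (Quotient.mk (MulAction.orbitRel H X) (g • x)).out = _
    rw [this]
  refine ⟨fun x => κ₁ (Classical.choose (hr x)) * γ₀ (r x) * (κ₂ (Classical.choose (hr x)))⁻¹, ?_⟩
  intro g x
  obtain ⟨g', hg'⟩ : ∃ g', g' = Classical.choose (hr (g • x)) := ⟨_, rfl⟩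
  obtain ⟨g₀, hg₀⟩ : ∃ g₀, g₀ = Classical.choose (hr x) := ⟨_, rfl⟩
  have h1 : g' • r x = g • x := by
    rw [← hrg g x, hg']
    exact Classical.choose_spec (hr (g • x))
  have h2 : g₀ • r x = x := by
    rw [hg₀]
    exact Classical.choose_spec (hr x)
  have h3 : ((g * g₀)⁻¹ * g') • r x = r x := by
    rw [mul_smul, h1, mul_inv_rev, mul_smul, inv_smul_smul]
    nth_rewrite 1 [← h2]
    rw [inv_smul_smul]
  have h4 := hγ₀ _ _ h3
  show κ₁ (Classical.choose (hr (g • x))) * γ₀ (r (g • x)) * (κ₂ (Classical.choose (hr (g • x))))⁻¹ =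
    κ₁ g * (κ₁ (Classical.choose (hr x)) * γ₀ (r x) * (κ₂ (Classical.choose (hr x)))⁻¹) * (κ₂ g)⁻¹
  rw [← hg', ← hg₀, hrg]
  obtain ⟨k, hk⟩ : ∃ k, k = (g * g₀)⁻¹ * g' := ⟨_, rfl⟩
  have h5 : g' = g * g₀ * k := by rw [hk]; group
  rw [← hk] at h4
  rw [h5, map_mul κ₁ (g * g₀), map_mul κ₂ (g * g₀), mul_inv_rev]
  have h6 : κ₁ (g * g₀) * κ₁ k * γ₀ (r x) * ((κ₂ k)⁻¹ * (κ₂ (g * g₀))⁻¹) =
      κ₁ (g * g₀) * (κ₁ k * γ₀ (r x) * (κ₂ k)⁻¹) * (κ₂ (g * g₀))⁻¹ := by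
    group
  rw [h6, h4, map_mul, map_mul, mul_inv_rev]
  group

end Cfsg.Agent.H9TW
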