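import Mathlib
import Cfsg.Prelude
import Cfsg.Agent.Lib.Helper9.FusionFocal
import Cfsg.Agent.Lib.Helper9.PPINormal1

set_option autoImplicit false

/-!
# Every map of a saturated system is a conjugation by an element of `S` modulo the hyperfocal subgroup
-/

namespace Cfsg.Agent.H9TW

open Cfsg Cfsg.FusionSystem Cfsg.Agent.Lib.Helper9

variable {Ω : Type*} [Group Ω] {S : Subgroup Ω}

theorem conj_mem_of_le_normalizer {R : Subgroup Ω} (hRn : S ≤ Subgroup.normalizer (R : Set Ω)) {g r : Ω}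
    (hg : g ∈ S) (hr : r ∈ R) : g * r * g⁻¹ ∈ R :=
  (Subgroup.mem_normalizer_iff.mp (hRn hg) r).mp hr

/-- The maps that are conjugations by elements of `S` modulo a subgroup `R` normalized by `S`. -/
def innerModSystem (F : FusionSystem S) (R : Subgroup Ω) (hRn : S ≤ Subgroup.normalizer (R : Set Ω)) :
    FusionSystem S where
  Hom P := {φ | φ ∈ F.Hom P ∧ ∃ g ∈ S, ∀ x : P, (g * (x : Ω) * g⁻¹)⁻¹ * φ x ∈ R}
  le_of_mem h := F.le_of_mem h.1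
  injective_of_mem h := F.injective_of_mem h.1
  conj_mem := by
    intro P g hP hg
    refine ⟨F.conj_mem hP hg, g, hg, fun x => ?_⟩
    have : (g * (x : Ω) * g⁻¹)⁻¹ * conjHom P g x = 1 := by
      show (g * (x : Ω) * g⁻¹)⁻¹ * (g * (x : Ω) * g⁻¹) = 1
      group
    rw [this]
    exact R.one_mem
  comp_mem := by
    rintro P Q φ ψ ⟨hφ, g, hg, Hg⟩ ⟨hψ, h, hh, Hh⟩ hPQ
    refine ⟨F.comp_mem hφ hψ hPQ, h * g, S.mul_mem hh hg, fun x => ?_⟩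
    have h1 := Hg x
    have h2 := Hh ⟨φ x, hPQ x⟩
    have h3 := conj_mem_of_le_normalizer hRn hh h1
    have h4 : (h * g * (x : Ω) * (h * g)⁻¹)⁻¹ * (ψ.comp (φ.codRestrict Q hPQ)) x =
        (h * ((g * (x : Ω) * g⁻¹)⁻¹ * φ x) * h⁻¹) * ((h * φ x * h⁻¹)⁻¹ * ψ ⟨φ x, hPQ x⟩) := by
      show (h * g * (x : Ω) * (h * g)⁻¹)⁻¹ * ψ ⟨φ x, hPQ x⟩ = _
      group
    rw [h4]
    exact R.mul_mem h3 h2
  inv_mem := by
    rintro P φ ⟨hφ, g, hg, Hg⟩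
    obtain ⟨ψ, hψ, Hψ⟩ := F.inv_mem hφ
    refine ⟨ψ, ⟨hψ, g⁻¹, S.inv_mem hg, ?_⟩, Hψ⟩
    rintro ⟨_, x, rfl⟩
    rw [Hψ x]
    have h1 := R.inv_mem (Hg x)
    have h2 := conj_mem_of_le_normalizer hRn (S.inv_mem hg) h1
    have h3 : (g⁻¹ * φ x * g⁻¹⁻¹)⁻¹ * (x : Ω) = g⁻¹ * ((g * (x : Ω) * g⁻¹)⁻¹ * φ x)⁻¹ * g⁻¹⁻¹ := by group
    show (g⁻¹ * φ x * g⁻¹⁻¹)⁻¹ * (x : Ω) ∈ R
    rw [h3]
    exact h2

/-- In a saturated system every map is, modulo the hyperfocal subgroup, a conjugation by an element of `S`. -/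
theorem inner_mod_hyp [Finite S] (p : ℕ) [Fact p.Prime] (hS : IsPGroup p S) (F : FusionSystem S)
    (hF : F.IsSaturated p) {P : Subgroup Ω} {φ : P →* Ω} (hφ : φ ∈ F.Hom P) :
    ∃ g ∈ S, ∀ x : P, (g * (x : Ω) * g⁻¹)⁻¹ * φ x ∈ F.hyperfocalSubgroup p := by
  have hRn := hyperfocalSubgroup_normalized F p
  have key := fs_le_of_autGroup_le p hS F (innerModSystem F (F.hyperfocalSubgroup p) hRn) hF ?_ _ P φ hφ rfl
  · exact key.2
  intro Q hQn _ α hα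
  have hQS : Q ≤ S := hQn.1
  rw [mem_autGroup_iff _ hQS]
  have hα' := hα
  rw [mem_autGroup_iff F hQS] at hα'
  refine ⟨hα', ?_⟩
  obtain ⟨β, hβ, s, hs, γ, Hγ, hαβγ⟩ := fs_aut_decomp p hS F hF hQn ⟨α, hα⟩
  have hαeq : α = (β : MulAut Q) * (γ : MulAut Q) := by
    have := congrArg Subtype.val hαβγ
    simpa using this
  refine ⟨s, hs, fun x => ?_⟩
  show (s * (x : Ω) * s⁻¹)⁻¹ * ((α x : Q) : Ω) ∈ F.hyperfocalSubgroup p
  rw [hαeq, MulAut.mul_apply, ← Hγ x]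
  exact H9PPI.residual_quot_mem_hyperfocal F p hQS β hβ _

end Cfsg.Agent.H9TW
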