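import Mathlib
import Cfsg.Prelude
import Cfsg.Agent.Lib.Helper8.CB10
import Cfsg.Agent.Lib.Helper9.TW1
import Cfsg.Agent.Lib.Helper9.TW2
import Cfsg.Agent.Lib.Helper9.TW3

set_option autoImplicit false

/-!
# The degree map of a characteristic biset with values in `S / hyp(F)`, and its degree-one part
-/

namespace Cfsg.Agent.H9TW

open MulAction Cfsg Cfsg.FusionSystem Cfsg.Agent.Lib.Helper9 Cfsg.Agent.Lib.Helper8.BM
  Cfsg.Agent.Lib.Helper8.CB

universe u v

variable {Ω : Type u} [Group Ω] {S : Subgroup Ω}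

/-- The hyperfocal subgroup as a subgroup of `S`. -/
def RS (F : FusionSystem S) (p : ℕ) : Subgroup S := (F.hyperfocalSubgroup p).subgroupOf S

instance RS_normal (F : FusionSystem S) (p : ℕ) : (RS F p).Normal :=
  Subgroup.normal_subgroupOf_of_le_normalizer (hyperfocalSubgroup_normalized F p)

theorem mem_RS (F : FusionSystem S) (p : ℕ) (s : S) : s ∈ RS F p ↔ (s : Ω) ∈ F.hyperfocalSubgroup p :=
  Subgroup.mem_subgroupOf

/-- The quotient `S / hyp(F)`. -/
abbrev Gam (F : FusionSystem S) (p : ℕ) : Type u := S ⧸ RS F p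

/-- The quotient map. -/
def q (F : FusionSystem S) (p : ℕ) : S →* Gam F p := QuotientGroup.mk' (RS F p)

theorem q_eq_one_iff (F : FusionSystem S) (p : ℕ) (s : S) : q F p s = 1 ↔ s ∈ RS F p :=
  QuotientGroup.eq_one_iff s

theorem q_surjective (F : FusionSystem S) (p : ℕ) : Function.Surjective (q F p) :=
  QuotientGroup.mk'_surjective _

/-- The degree map exists. -/
theorem exists_degree [Finite S] (p : ℕ) [Fact p.Prime] (hS : IsPGroup p S) (F : FusionSystem S)
    (hF : F.IsSaturated p) {X : Type*} [MulAction (S × S) X]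
    (hstab : ∀ x : X, stabilizer (S × S) x ∈ graphs F) :
    ∃ d : X → Gam F p, ∀ (a b : S) (x : X), d (((a, b) : S × S) • x) = q F p a * d x * (q F p b)⁻¹ := by
  obtain ⟨d, hd⟩ := exists_biequivariant (H := S × S) (X := X)
    ((q F p).comp (MonoidHom.fst S S)) ((q F p).comp (MonoidHom.snd S S)) (by
      intro x
      obtain ⟨P, φ, hφ, hK⟩ := hstab x
      obtain ⟨g₀, hg₀, Hg₀⟩ := inner_mod_hyp p hS F hF hφ
      refine ⟨(q F p ⟨g₀, hg₀⟩)⁻¹, ?_⟩
      intro g hg
      have hg' : g ∈ stabilizer (S × S) x := hg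
      rw [hK] at hg'
      obtain ⟨w, hw1, hw2⟩ := (mem_gr _ _ g).mp hg'
      rw [MonoidHom.comp_apply, MonoidHom.comp_apply, MonoidHom.coe_fst, MonoidHom.coe_snd]
      have h1 : (⟨g₀, hg₀⟩ * g.1 * (⟨g₀, hg₀⟩ : S)⁻¹)⁻¹ * g.2 ∈ RS F p := by
        rw [mem_RS]
        have := Hg₀ w
        rw [hw1, hw2] at this
        exact this
      have h2 : q F p ((⟨g₀, hg₀⟩ * g.1 * (⟨g₀, hg₀⟩ : S)⁻¹)⁻¹ * g.2) = 1 := (q_eq_one_iff F p _).mpr h1
      rw [map_mul, map_inv, map_mul, map_mul, map_inv] at h2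
      have h3 : q F p g.2 = q F p ⟨g₀, hg₀⟩ * q F p g.1 * (q F p ⟨g₀, hg₀⟩)⁻¹ := by
        rw [inv_mul_eq_one] at h2
        exact h2.symm
      rw [h3]
      group)
  refine ⟨d, fun a b x => ?_⟩
  rw [hd]
  rfl

/-- A degree map. -/
structure Deg (F : FusionSystem S) (p : ℕ) (X : Type v) [MulAction (S × S) X] where
  d : X → Gam F p
  hd : ∀ (a b : S) (x : X), d (((a, b) : S × S) • x) = q F p a * d x * (q F p b)⁻¹

/-- The pairs of elements of `S` with the same image in `S / hyp(F)`. -/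
def H₁ (F : FusionSystem S) (p : ℕ) : Subgroup (S × S) where
  carrier := {g | q F p g.1 = q F p g.2}
  one_mem' := rfl
  mul_mem' := by
    intro a b ha hb
    show q F p (a.1 * b.1) = q F p (a.2 * b.2)
    rw [map_mul, map_mul, ha, hb]
  inv_mem' := by
    intro a ha
    show q F p (a.1⁻¹) = q F p (a.2⁻¹)
    rw [map_inv, map_inv, ha]

theorem mem_H₁ (F : FusionSystem S) (p : ℕ) (g : S × S) : g ∈ H₁ F p ↔ q F p g.1 = q F p g.2 := Iff.rfl

section
variable {F : FusionSystem S} {p : ℕ} {X : Type v} [MulAction (S × S) X]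

/-- The degree-one part of the biset. -/
def Deg.X₁ (D : Deg F p X) : Type v := {x : X // D.d x = 1}

instance Deg.finite_X₁ [Finite X] (D : Deg F p X) : Finite D.X₁ := Subtype.finite

instance Deg.mulAction_X₁ (D : Deg F p X) : MulAction (H₁ F p) D.X₁ where
  smul h x := ⟨(h : S × S) • x.1, by
    have h1 : (h : S × S) = ((h : S × S).1, (h : S × S).2) := rfl
    rw [h1, D.hd, x.2, mul_one, (mem_H₁ F p _).mp h.2, mul_inv_cancel]⟩
  one_smul x := Subtype.ext (one_smul _ _)
  mul_smul h h' x := Subtype.ext (mul_smul (h : S × S) (h' : S × S) x.1)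

theorem Deg.smul_val (D : Deg F p X) (h : H₁ F p) (x : D.X₁) : ((h • x : D.X₁)).1 = (h : S × S) • x.1 := rfl

end

/-- The embedding of `hyp(F)` acting on the right. -/
def jR (F : FusionSystem S) (p : ℕ) : ↥(RS F p) →* ↥(H₁ F p) :=
  ((MonoidHom.inr S S).comp (RS F p).subtype).codRestrict (H₁ F p) (fun r => by
    show q F p 1 = q F p (r : S)
    rw [map_one]
    exact ((q_eq_one_iff F p _).mpr r.2).symm)

/-- The embedding of `hyp(F)` acting on the left. -/
def jL (F : FusionSystem S) (p : ℕ) : ↥(RS F p) →* ↥(H₁ F p) :=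
  ((MonoidHom.inl S S).comp (RS F p).subtype).codRestrict (H₁ F p) (fun r => by
    show q F p (r : S) = q F p 1
    rw [map_one]
    exact (q_eq_one_iff F p _).mpr r.2)

/-- The diagonal embedding of `S`. -/
def jD (F : FusionSystem S) (p : ℕ) : S →* ↥(H₁ F p) :=
  ((MonoidHom.id S).prod (MonoidHom.id S)).codRestrict (H₁ F p) (fun _ => rfl)

section
variable {F : FusionSystem S} {p : ℕ} {X : Type v} [MulAction (S × S) X]

/-- The right action of `hyp(F)` on the degree-one part. -/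
def Deg.rho (D : Deg F p X) : ↥(RS F p) →* Equiv.Perm D.X₁ :=
  (MulAction.toPermHom (H₁ F p) D.X₁).comp (jR F p)

/-- The left action of `hyp(F)` on the degree-one part. -/
def Deg.lf (D : Deg F p X) : ↥(RS F p) →* Equiv.Perm D.X₁ :=
  (MulAction.toPermHom (H₁ F p) D.X₁).comp (jL F p)

/-- The conjugation action of `S` on the degree-one part. -/
def Deg.cj (D : Deg F p X) : S →* Equiv.Perm D.X₁ :=
  (MulAction.toPermHom (H₁ F p) D.X₁).comp (jD F p)

theorem Deg.rho_val (D : Deg F p X) (r : RS F p) (x : D.X₁) :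
    (D.rho r x).1 = (((1 : S), (r : S)) : S × S) • x.1 := rfl

theorem Deg.lf_val (D : Deg F p X) (r : RS F p) (x : D.X₁) :
    (D.lf r x).1 = (((r : S), (1 : S)) : S × S) • x.1 := rfl

theorem Deg.cj_val (D : Deg F p X) (a : S) (x : D.X₁) :
    (D.cj a x).1 = ((a, a) : S × S) • x.1 := rfl

theorem Deg.rho_free (D : Deg F p X) (hstab : ∀ x : X, stabilizer (S × S) x ∈ graphs F)
    (r : RS F p) (x : D.X₁) (h : D.rho r x = x) : r = 1 := by
  have h1 := congrArg Subtype.val h
  rw [D.rho_val] at h1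
  have h2 := rightHom_free F hstab (r : S) x.1 h1
  exact Subtype.ext h2

theorem Deg.cj_eq (D : Deg F p X) (r : RS F p) : D.cj (r : S) = D.lf r * D.rho r := by
  apply Equiv.ext
  intro x
  apply Subtype.ext
  rw [Equiv.Perm.mul_apply, D.cj_val, D.lf_val, D.rho_val, ← mul_smul]
  congr 1
  simp

variable {A : Type*} [CommGroup A] (f₀ : ↥(RS F p) →* A)

theorem Deg.isTw_lf (D : Deg F p X) (r : RS F p) : IsTw D.rho f₀ (D.lf r) := by
  intro r₀ x
  refine ⟨r₀, ?_, rfl⟩
  apply Subtype.ext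
  rw [D.lf_val, D.rho_val, D.rho_val, D.lf_val, ← mul_smul, ← mul_smul]
  congr 1
  simp

theorem Deg.isTw_cj (D : Deg F p X)
    (hinv : ∀ (a : S) (r : ↥(RS F p)), f₀ ⟨a * r * a⁻¹, (RS_normal F p).conj_mem r r.2 a⟩ = f₀ r) (a : S) :
    IsTw D.rho f₀ (D.cj a) := by
  intro r x
  refine ⟨⟨a * r * a⁻¹, (RS_normal F p).conj_mem r r.2 a⟩, ?_, hinv a r⟩
  apply Subtype.ext
  rw [D.cj_val, D.rho_val, D.rho_val, D.cj_val, ← mul_smul, ← mul_smul]
  congr 1
  simp

end

end Cfsg.Agent.H9TW
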