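import Mathlib
import Cfsg.Prelude
import Cfsg.Agent.Lib.Helper9.TW4

set_option autoImplicit false

/-!
# The twisted transfer of the degree-one part of a characteristic biset
-/

namespace Cfsg.Agent.H9TW

open MulAction Cfsg Cfsg.FusionSystem Cfsg.Agent.Lib.Helper9 Cfsg.Agent.Lib.Helper8.BM
  Cfsg.Agent.Lib.Helper8.CB

universe u v

variable {Ω : Type u} [Group Ω] {S : Subgroup Ω}

/-- A set-theoretic section of the quotient map. -/
noncomputable def lam (F : FusionSystem S) (p : ℕ) : Gam F p → S := Function.surjInv (q_surjective F p)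

theorem q_lam (F : FusionSystem S) (p : ℕ) (γ : Gam F p) : q F p (lam F p γ) = γ :=
  Function.surjInv_eq (q_surjective F p) γ

section
variable {F : FusionSystem S} {p : ℕ} {X : Type v} [MulAction (S × S) X] (D : Deg F p X)

/-- The biset is the product of the degree-one part and the group of degrees. -/
noncomputable def Deg.equivProd : X ≃ Gam F p × D.X₁ where
  toFun x := (D.d x, ⟨(((1 : S), lam F p (D.d x)) : S × S) • x, by
    rw [D.hd, map_one, one_mul, q_lam, mul_inv_cancel]⟩)
  invFun y := (((1 : S), (lam F p y.1)⁻¹) : S × S) • y.2.1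
  left_inv x := by
    show (((1 : S), (lam F p (D.d x))⁻¹) : S × S) • ((((1 : S), lam F p (D.d x)) : S × S) • x) = x
    rw [← mul_smul]
    simp only [Prod.mk_mul_mk, mul_one, inv_mul_cancel]
    exact one_smul _ x
  right_inv := by
    rintro ⟨γ, x₁⟩
    have hd : D.d ((((1 : S), (lam F p γ)⁻¹) : S × S) • x₁.1) = γ := by
      rw [D.hd, x₁.2, map_one, one_mul, one_mul, map_inv, inv_inv, q_lam]
    apply Prod.ext
    · exact hd
    · apply Subtype.ext
      show (((1 : S), lam F p (D.d ((((1 : S), (lam F p γ)⁻¹) : S × S) • x₁.1))) : S × S) •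
        ((((1 : S), (lam F p γ)⁻¹) : S × S) • x₁.1) = x₁.1
      rw [hd, ← mul_smul]
      simp only [Prod.mk_mul_mk, mul_one, mul_inv_cancel]
      exact one_smul _ x₁.1

theorem Deg.card_eq [Finite S] [Finite X] (D : Deg F p X) :
    Nat.card X = Nat.card (Gam F p) * Nat.card D.X₁ := by
  rw [Nat.card_congr D.equivProd, Nat.card_prod]

theorem Deg.card_orb [Finite S] [Finite X] (D : Deg F p X)
    (hstab : ∀ x : X, stabilizer (S × S) x ∈ graphs F) {k : ℕ} (hk : Nat.card X = k * Nat.card S) :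
    Nat.card (Orb D.rho) = k := by
  have h1 := card_orb_mul D.rho (D.rho_free hstab)
  have h2 := D.card_eq
  have h3 := Subgroup.card_eq_card_quotient_mul_card_subgroup (RS F p)
  have h4 : k * Nat.card S = Nat.card (Orb D.rho) * Nat.card S := by
    rw [← hk, h2, ← h1, h3]
    ring
  exact (Nat.eq_of_mul_eq_mul_right Nat.card_pos h4).symm

end

section
variable {F : FusionSystem S} {p : ℕ} {X : Type v} [Finite X] [MulAction (S × S) X] (D : Deg F p X)
  (hstab : ∀ x : X, stabilizer (S × S) x ∈ graphs F)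
  {A : Type*} [CommGroup A] (f₀ : ↥(RS F p) →* A)
  (hinv : ∀ (a : S) (r : ↥(RS F p)), f₀ ⟨a * r * a⁻¹, (RS_normal F p).conj_mem r r.2 a⟩ = f₀ r)

/-- The transfer of the conjugation action. -/
noncomputable def Deg.rhoS : S →* A :=
  MonoidHom.mk' (fun a => tw D.rho f₀ (D.cj a)) (fun a b => by
    rw [map_mul]
    exact tw_mul D.rho f₀ (D.rho_free hstab) (D.isTw_cj f₀ hinv a) (D.isTw_cj f₀ hinv b))

/-- The transfer of the left action. -/
noncomputable def Deg.nu : ↥(RS F p) →* A :=
  MonoidHom.mk' (fun r => tw D.rho f₀ (D.lf r)) (fun a b => by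
    rw [map_mul]
    exact tw_mul D.rho f₀ (D.rho_free hstab) (D.isTw_lf f₀ a) (D.isTw_lf f₀ b))

theorem Deg.rhoS_apply (a : S) : D.rhoS hstab f₀ hinv a = tw D.rho f₀ (D.cj a) := rfl

theorem Deg.nu_apply (r : RS F p) : D.nu hstab f₀ r = tw D.rho f₀ (D.lf r) := rfl

theorem Deg.rhoS_apply_RS (r : RS F p) :
    D.rhoS hstab f₀ hinv (r : S) = D.nu hstab f₀ r * f₀ r ^ Nat.card (Orb D.rho) := by
  rw [D.rhoS_apply, D.nu_apply, D.cj_eq,
    tw_mul D.rho f₀ (D.rho_free hstab) (D.isTw_lf f₀ r) (isTw_rho D.rho f₀ r),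
    tw_rho D.rho f₀ (D.rho_free hstab)]

end

end Cfsg.Agent.H9TW
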