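import Mathlib
import Cfsg.Prelude
import Cfsg.Agent.Lib.Helper9.TW5

set_option autoImplicit false

/-!
# Twisting a permutation commuting with the right action into a permutation of the degree-one part
-/

namespace Cfsg.Agent.H9TW

open MulAction Cfsg Cfsg.FusionSystem Cfsg.Agent.Lib.Helper9 Cfsg.Agent.Lib.Helper8.BM
  Cfsg.Agent.Lib.Helper8.CB

universe u v

variable {Ω : Type u} [Group Ω] {S : Subgroup Ω}

section
variable {F : FusionSystem S} {p : ℕ} {X : Type v} [MulAction (S × S) X] (D : Deg F p X)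
  (e : Equiv.Perm X) (he1 : ∀ (t : S) (x : X), e ((((1 : S), t) : S × S) • x) = (((1 : S), t) : S × S) • e x)

/-- The twisted map. -/
noncomputable def Deg.twistFun (x : D.X₁) : D.X₁ :=
  ⟨(((1 : S), lam F p (D.d (e x.1))) : S × S) • e x.1, by
    rw [D.hd, map_one, one_mul, q_lam, mul_inv_cancel]⟩

theorem Deg.twistFun_val (x : D.X₁) :
    (D.twistFun e x).1 = (((1 : S), lam F p (D.d (e x.1))) : S × S) • e x.1 := rfl

include he1 in
theorem Deg.twistFun_injective : Function.Injective (D.twistFun e) := by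
  intro x x' h
  have h1 := congrArg Subtype.val h
  rw [D.twistFun_val, D.twistFun_val, ← he1, ← he1] at h1
  have h2 := e.injective h1
  have h3 := congrArg D.d h2
  rw [D.hd, D.hd, x.2, x'.2, map_one] at h3
  simp only [one_mul] at h3
  rw [inv_inj, q_lam, q_lam] at h3
  rw [h3] at h2
  apply Subtype.ext
  exact smul_left_cancel _ h2

/-- The twisted permutation. -/
noncomputable def Deg.twist [Finite X] : Equiv.Perm D.X₁ :=
  Equiv.ofBijective (D.twistFun e)
    ⟨D.twistFun_injective e he1, Finite.injective_iff_surjective.mp (D.twistFun_injective e he1)⟩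

theorem Deg.twist_val [Finite X] (x : D.X₁) :
    (D.twist e he1 x).1 = (((1 : S), lam F p (D.d (e x.1))) : S × S) • e x.1 := rfl

variable {A : Type*} [CommGroup A] (f₀ : ↥(RS F p) →* A)

theorem Deg.isTw_twist [Finite X]
    (hinv : ∀ (a : S) (r : ↥(RS F p)), f₀ ⟨a * r * a⁻¹, (RS_normal F p).conj_mem r r.2 a⟩ = f₀ r) :
    IsTw D.rho f₀ (D.twist e he1) := by
  intro r x
  obtain ⟨l, hl⟩ : ∃ l, l = lam F p (D.d (e x.1)) := ⟨_, rfl⟩
  refine ⟨⟨l * r * l⁻¹, (RS_normal F p).conj_mem r r.2 l⟩, ?_, hinv l r⟩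
  apply Subtype.ext
  rw [D.twist_val, D.rho_val, D.rho_val, D.twist_val, he1]
  have h1 : D.d ((((1 : S), (r : S)) : S × S) • e x.1) = D.d (e x.1) := by
    rw [D.hd, map_one, one_mul, (q_eq_one_iff F p _).mpr r.2, inv_one, mul_one]
  rw [h1, ← hl, ← mul_smul, ← mul_smul]
  congr 1
  simp

theorem Deg.twist_intertwine [Finite X] (a b : RS F p)
    (he2 : ∀ x : X, e ((((a : S), (1 : S)) : S × S) • x) = (((b : S), (1 : S)) : S × S) • e x) :
    D.twist e he1 * D.lf a = D.lf b * D.twist e he1 := by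
  apply Equiv.ext
  intro x
  apply Subtype.ext
  rw [Equiv.Perm.mul_apply, Equiv.Perm.mul_apply, D.twist_val, D.lf_val, D.lf_val, D.twist_val, he2]
  have h1 : D.d ((((b : S), (1 : S)) : S × S) • e x.1) = D.d (e x.1) := by
    rw [D.hd, map_one, inv_one, mul_one, (q_eq_one_iff F p _).mpr b.2, one_mul]
  rw [h1, ← mul_smul, ← mul_smul]
  congr 1
  simp

end

end Cfsg.Agent.H9TW
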