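import Mathlib
import Cfsg.Prelude
import Cfsg.Agent.Lib.Helper9.TW6
import Cfsg.Agent.Lib.Helper9.ResLim2

set_option autoImplicit false

/-!
# Extension (up to a power prime to `p`) of invariant homomorphisms from the hyperfocal subgroup
-/

namespace Cfsg.Agent.H9TW

open MulAction Cfsg Cfsg.FusionSystem Cfsg.Agent.Lib.Helper9 Cfsg.Agent.Lib.Helper8.BM
  Cfsg.Agent.Lib.Helper8.CB

universe u v

variable {Ω : Type u} [Group Ω] {S : Subgroup Ω}

section
variable {F : FusionSystem S} {p : ℕ} {X : Type v} [Finite X] [MulAction (S × S) X] (D : Deg F p X)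
  (hstab : ∀ x : X, stabilizer (S × S) x ∈ graphs F)
  {A : Type*} [CommGroup A] (f₀ : ↥(RS F p) →* A)
  (hinv : ∀ (a : S) (r : ↥(RS F p)), f₀ ⟨a * r * a⁻¹, (RS_normal F p).conj_mem r r.2 a⟩ = f₀ r)

include hinv in
/-- The transfer of the left action is invariant under the maps of the system. -/
theorem Deg.nu_map [Finite S]
    (hst : ∀ K K', frel F K K' → Nat.card (fixedPoints K X) = Nat.card (fixedPoints K' X))
    {P : Subgroup Ω} {φ : P →* Ω} (hφ : φ ∈ F.Hom P) (u : P)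
    (h1 : (u : Ω) ∈ F.hyperfocalSubgroup p) (h2 : φ u ∈ F.hyperfocalSubgroup p) :
    D.nu hstab f₀ ⟨⟨φ u, (F.le_of_mem hφ).2 u⟩, (mem_RS F p _).mpr h2⟩ =
      D.nu hstab f₀ ⟨⟨u, (F.le_of_mem hφ).1 u.2⟩, (mem_RS F p _).mpr h1⟩ := by
  obtain ⟨e, he⟩ := exists_intertwining F hstab hst hφ
  have he1 : ∀ (t : S) (x : X), (e : Equiv.Perm X) ((((1 : S), t) : S × S) • x) =
      (((1 : S), t) : S × S) • (e : Equiv.Perm X) x := fun t x => (mem_commSub _).mp e.2 t x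
  have he2 : ∀ x : X, (e : Equiv.Perm X) ((((⟨u, (F.le_of_mem hφ).1 u.2⟩ : S), (1 : S)) : S × S) • x) =
      (((⟨φ u, (F.le_of_mem hφ).2 u⟩ : S), (1 : S)) : S × S) • (e : Equiv.Perm X) x := by
    intro x
    have h3 := he u
    rw [mul_inv_eq_iff_eq_mul] at h3
    have h4 := congrArg (fun g : commSub (rightHom S X) => (g : Equiv.Perm X) x) h3
    exact h4
  rw [D.nu_apply, D.nu_apply]
  symm
  exact tw_eq_of_intertwine D.rho f₀ (D.rho_free hstab) (D.isTw_lf f₀ _) (D.isTw_lf f₀ _)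
    (D.isTw_twist (e : Equiv.Perm X) he1 f₀ hinv)
    (D.twist_intertwine (e : Equiv.Perm X) he1 ⟨⟨u, (F.le_of_mem hφ).1 u.2⟩, (mem_RS F p _).mpr h1⟩
      ⟨⟨φ u, (F.le_of_mem hφ).2 u⟩, (mem_RS F p _).mpr h2⟩ he2)

include hinv in
/-- The transfer of the left action is trivial. -/
theorem Deg.nu_eq_one [Finite S] [Fact p.Prime] (hS : IsPGroup p S) (hF : F.IsSaturated p)
    (hst : ∀ K K', frel F K K' → Nat.card (fixedPoints K X) = Nat.card (fixedPoints K' X))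
    (r : RS F p) : D.nu hstab f₀ r = 1 := by
  have hRS : F.hyperfocalSubgroup p ≤ S := hyperfocalSubgroup_le F p
  have hRn := hyperfocalSubgroup_normalized F p
  have hle := H9ResLim.hyperfocal_le_hyperfocalOn p hS F hF (F.hyperfocalSubgroup p) hRS hRn le_rfl
  have hK : H9ResLim.hyperfocalOn F p (F.hyperfocalSubgroup p) ≤
      (((D.nu hstab f₀).ker.map (RS F p).subtype).map S.subtype) := by
    unfold H9ResLim.hyperfocalOn
    rw [Subgroup.closure_le]
    rintro _ ⟨P, α, x, hPR, -, rfl⟩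
    have hPS : P ≤ S := hPR.trans hRS
    have hφ : P.subtype.comp (α : MulAut P).toMonoidHom ∈ F.Hom P := (mem_autGroup_iff F hPS _).mp α.2
    have h1 : (x : Ω) ∈ F.hyperfocalSubgroup p := hPR x.2
    have h2 : (((α : MulAut P) x : P) : Ω) ∈ F.hyperfocalSubgroup p := hPR ((α : MulAut P) x).2
    have h3 := D.nu_map hstab f₀ hinv hst hφ x h1 h2
    refine ⟨⟨(x : Ω)⁻¹ * (((α : MulAut P) x : P) : Ω), S.mul_mem (S.inv_mem (hPS x.2)) (hPS ((α : MulAut P) x).2)⟩,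
      ⟨⟨⟨(x : Ω)⁻¹ * (((α : MulAut P) x : P) : Ω), _⟩, (mem_RS F p _).mpr
        ((F.hyperfocalSubgroup p).mul_mem ((F.hyperfocalSubgroup p).inv_mem h1) h2)⟩, ?_, rfl⟩, rfl⟩
    rw [SetLike.mem_coe, MonoidHom.mem_ker]
    have h4 : (⟨⟨(x : Ω)⁻¹ * (((α : MulAut P) x : P) : Ω),
        S.mul_mem (S.inv_mem (hPS x.2)) (hPS ((α : MulAut P) x).2)⟩, (mem_RS F p _).mpr
        ((F.hyperfocalSubgroup p).mul_mem ((F.hyperfocalSubgroup p).inv_mem h1) h2)⟩ : RS F p) =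
        (⟨⟨x, hPS x.2⟩, (mem_RS F p _).mpr h1⟩ : RS F p)⁻¹ *
          ⟨⟨(((α : MulAut P) x : P) : Ω), hPS ((α : MulAut P) x).2⟩, (mem_RS F p _).mpr h2⟩ := by
      apply Subtype.ext
      apply Subtype.ext
      rfl
    rw [h4, map_mul, map_inv, inv_mul_eq_one]
    exact h3.symm
  have h5 : ((r : S) : Ω) ∈ F.hyperfocalSubgroup p := (mem_RS F p _).mp r.2
  obtain ⟨s, ⟨r', hr', hr's⟩, hsr⟩ := hK (hle h5)
  have h6 : r' = r := by
    apply Subtype.ext
    apply Subtype.ext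
    rw [← hsr, ← hr's]
    rfl
  rw [← h6]
  exact hr'

end

/-- **Extension theorem**: an `S`-invariant homomorphism from the hyperfocal subgroup of a saturated system into a
commutative group extends to `S`, up to a power prime to `p`. -/
theorem exists_extension [Finite S] (p : ℕ) [Fact p.Prime] (hS : IsPGroup p S) (F : FusionSystem S)
    (hF : F.IsSaturated p) {A : Type*} [CommGroup A] (f₀ : ↥(RS F p) →* A)
    (hinv : ∀ (a : S) (r : ↥(RS F p)), f₀ ⟨a * r * a⁻¹, (RS_normal F p).conj_mem r r.2 a⟩ = f₀ r) :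
    ∃ (ρ : S →* A) (k : ℕ), ¬ p ∣ k ∧ ∀ r : RS F p, ρ (r : S) = f₀ r ^ k := by
  obtain ⟨X, hXfin, hXact, hstab, hst, k, hk, hpk⟩ := exists_char_biset p hS F hF
  obtain ⟨d, hd⟩ := exists_degree p hS F hF hstab
  let D : Deg F p X := ⟨d, hd⟩
  refine ⟨D.rhoS hstab f₀ hinv, k, hpk, fun r => ?_⟩
  rw [D.rhoS_apply_RS, D.nu_eq_one hstab f₀ hinv hS hF hst, one_mul, D.card_orb hstab hk]

end Cfsg.Agent.H9TW
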