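import Mathlib

set_option autoImplicit false

/-!
# Tate's argument for `p`-groups: from the extension property to non-generation
-/

namespace Cfsg.Agent.H9TW

open scoped commutatorElement

universe u

/-- In a nilpotent group, `[H, G] = H` forces `H = 1`. -/
theorem eq_bot_of_le_commutator_top {G : Type*} [Group G] [Group.IsNilpotent G] (H : Subgroup G)
    (h : H ≤ ⁅H, (⊤ : Subgroup G)⁆) : H = ⊥ := by
  obtain ⟨n, hn⟩ := Subgroup.nilpotent_iff_lowerCentralSeries.mp (inferInstance : Group.IsNilpotent G)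
  have key : ∀ m : ℕ, H ≤ Subgroup.lowerCentralSeries (⊤ : Subgroup G) m := by
    intro m
    induction m with
    | zero => exact le_top
    | succ m ih =>
      rw [Subgroup.lowerCentralSeries_succ]
      exact h.trans (Subgroup.commutator_mono ih le_rfl)
  have := key n
  rw [hn] at this
  exact le_bot_iff.mp this

section
variable {P : Type u} [Group P] [Finite P] (p : ℕ) [hp : Fact p.Prime] (hP : IsPGroup p P)
  (R : Subgroup P) [hRn : R.Normal]
  (hext : ∀ {A : Type u} [CommGroup A] (f₀ : R →* A),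
    (∀ (a : P) (r : R), f₀ ⟨a * r * a⁻¹, hRn.conj_mem r r.2 a⟩ = f₀ r) →
      ∃ (ρ : P →* A) (k : ℕ), ¬ p ∣ k ∧ ∀ r : R, ρ (r : P) = f₀ r ^ k)

include hP hext in
/-- The case `[R, P] ≤ T`. -/
theorem le_of_le_frattini_sup_aux (T : Subgroup P) [hTn : T.Normal] (hT1 : ⁅R, (⊤ : Subgroup P)⁆ ≤ T)
    (hT2 : T ≤ R) (hfr : R ≤ frattini P ⊔ T) : R ≤ T := by
  classical
  haveI : (T.subgroupOf R).Normal := inferInstance
  have hcomm : ∀ a b : R ⧸ T.subgroupOf R, a * b = b * a := by
    intro a b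
    obtain ⟨a, rfl⟩ := QuotientGroup.mk'_surjective _ a
    obtain ⟨b, rfl⟩ := QuotientGroup.mk'_surjective _ b
    rw [← map_mul, ← map_mul]
    apply QuotientGroup.eq.mpr
    rw [Subgroup.mem_subgroupOf]
    apply hT1
    have h1 : (((a * b)⁻¹ * (b * a) : R) : P) = ⁅(b : P)⁻¹, (a : P)⁻¹⁆ := by
      rw [commutatorElement_def]
      push_cast
      group
    rw [h1]
    exact Subgroup.commutator_mem_commutator (R.inv_mem b.2) (Subgroup.mem_top _)
  letI : CommGroup (R ⧸ T.subgroupOf R) :=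
    { (inferInstance : Group (R ⧸ T.subgroupOf R)) with mul_comm := hcomm }
  obtain ⟨ρ, k, hpk, hρ⟩ := hext (QuotientGroup.mk' (T.subgroupOf R)) (by
    intro a r
    symm
    apply QuotientGroup.eq.mpr
    rw [Subgroup.mem_subgroupOf]
    apply hT1
    have h1 : ((r⁻¹ * ⟨a * r * a⁻¹, hRn.conj_mem r r.2 a⟩ : R) : P) = ⁅(r : P)⁻¹, a⁆ := by
      rw [commutatorElement_def]
      push_cast
      group
    rw [h1]
    exact Subgroup.commutator_mem_commutator (R.inv_mem r.2) (Subgroup.mem_top _))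
  have hRp : IsPGroup p (R ⧸ T.subgroupOf R) := (hP.to_subgroup R).to_quotient _
  have hkcop : ∀ a : R ⧸ T.subgroupOf R, a ^ k = 1 → a = 1 := by
    intro a ha
    obtain ⟨n, hn⟩ := hRp a
    have h1 : orderOf a ∣ k := orderOf_dvd_of_pow_eq_one ha
    have h2 : orderOf a ∣ p ^ n := orderOf_dvd_of_pow_eq_one hn
    have h3 : Nat.Coprime k (p ^ n) :=
      Nat.Coprime.pow_right n ((Nat.Prime.coprime_iff_not_dvd hp.out).mpr hpk).symm
    have h4 : orderOf a = 1 := Nat.eq_one_of_dvd_coprimes h3 h1 h2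
    exact orderOf_eq_one_iff.mp h4
  -- the kernel of `ρ`
  have hinf : ∀ r : R, ρ (r : P) = 1 → (r : P) ∈ T := by
    intro r hr
    rw [hρ] at hr
    have := hkcop _ hr
    have h1 : r ∈ T.subgroupOf R := (QuotientGroup.eq_one_iff r).mp this
    exact h1
  have hTK : T ≤ ρ.ker := by
    intro t ht
    rw [MonoidHom.mem_ker]
    have h1 := hρ ⟨t, hT2 ht⟩
    rw [h1]
    have h2 : QuotientGroup.mk' (T.subgroupOf R) ⟨t, hT2 ht⟩ = 1 := by
      apply (QuotientGroup.eq_one_iff _).mpr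
      exact ht
    rw [h2, one_pow]
  have hsup : ρ.ker ⊔ R = ⊤ := by
    rw [eq_top_iff]
    intro s _
    haveI : Finite (R ⧸ T.subgroupOf R) := inferInstance
    have hcop : Nat.Coprime (Nat.card (R ⧸ T.subgroupOf R)) k := by
      obtain ⟨n, hn⟩ := IsPGroup.iff_card.mp hRp
      rw [hn]
      exact Nat.Coprime.pow_left n ((Nat.Prime.coprime_iff_not_dvd hp.out).mpr hpk)
    obtain ⟨a, ha⟩ := (powCoprime hcop).surjective (ρ s)
    obtain ⟨r, rfl⟩ := QuotientGroup.mk'_surjective _ a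
    have h1 : ρ (r : P) = ρ s := by
      rw [hρ]
      exact ha
    have h2 : s * (r : P)⁻¹ ∈ ρ.ker := by
      rw [MonoidHom.mem_ker, map_mul, map_inv, h1, mul_inv_cancel]
    have h3 : s = (s * (r : P)⁻¹) * (r : P) := by group
    rw [h3]
    exact Subgroup.mul_mem _ (Subgroup.mem_sup_left h2) (Subgroup.mem_sup_right r.2)
  have htop : ρ.ker = ⊤ := by
    apply frattini_nongenerating
    rw [eq_top_iff, ← hsup]
    apply sup_le le_sup_left
    refine hfr.trans ?_
    rw [sup_comm]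
    exact sup_le (hTK.trans le_sup_left) le_sup_right
  intro r hr
  have h1 : r ∈ ρ.ker := by rw [htop]; exact Subgroup.mem_top _
  exact hinf ⟨r, hr⟩ (MonoidHom.mem_ker.mp h1)

include hP hext in
/-- **Tate's argument**: a normal subgroup `T₀ ≤ R` with `R ≤ Φ(P) T₀` contains `R`. -/
theorem le_of_le_frattini_sup (T₀ : Subgroup P) [hT₀n : T₀.Normal] (hT2 : T₀ ≤ R)
    (hfr : R ≤ frattini P ⊔ T₀) : R ≤ T₀ := by
  haveI : Group.IsNilpotent P := hP.isNilpotent
  have h1 : R ≤ T₀ ⊔ ⁅R, (⊤ : Subgroup P)⁆ := by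
    apply le_of_le_frattini_sup_aux p hP R hext (T₀ ⊔ ⁅R, (⊤ : Subgroup P)⁆) le_sup_right
      (sup_le hT2 (Subgroup.commutator_le_left _ _))
    exact hfr.trans (sup_le_sup_left le_sup_left _)
  set π := QuotientGroup.mk' T₀ with hπ
  haveI : Group.IsNilpotent (P ⧸ T₀) := inferInstance
  have h2 : R.map π = ⊥ := by
    apply eq_bot_of_le_commutator_top
    have h3 : R.map π ≤ (T₀ ⊔ ⁅R, (⊤ : Subgroup P)⁆).map π := Subgroup.map_mono h1
    have h4 : T₀.map π = ⊥ := by rw [hπ, QuotientGroup.map_mk'_self]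
    rw [Subgroup.map_sup, h4, bot_sup_eq] at h3
    refine h3.trans ?_
    rw [Subgroup.map_commutator]
    exact Subgroup.commutator_mono le_rfl le_top
  intro r hr
  have h5 : π r ∈ R.map π := Subgroup.mem_map_of_mem π hr
  rw [h2, Subgroup.mem_bot] at h5
  exact (QuotientGroup.eq_one_iff r).mp h5

end

end Cfsg.Agent.H9TW
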