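import Mathlib
import Cfsg.Prelude
import Cfsg.Agent.Lib.Helper9.TW7
import Cfsg.Agent.Lib.Helper9.TW8
import Cfsg.Agent.Lib.Helper9.PPowerIndex1
import Cfsg.Agent.Lib.Lead.Frattini
import Cfsg.Agent.S5092

set_option autoImplicit false

/-!
# Tate's theorem for fusion systems
-/

namespace Cfsg.Agent.H9TW

open MulAction Cfsg Cfsg.FusionSystem Cfsg.Agent.Lib.Helper9
open scoped commutatorElement

universe u

variable {Ω : Type u} [Group Ω] {S : Subgroup Ω}

/-- A normal subgroup `T₀ ≤ hyp(F)` of `S` with `hyp(F) ≤ Φ(S) T₀` contains `hyp(F)`. -/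
theorem hyp_le_of_le_frattini_sup [Finite S] (p : ℕ) [Fact p.Prime] (hS : IsPGroup p S) (F : FusionSystem S)
    (hF : F.IsSaturated p) (T₀ : Subgroup S) [T₀.Normal] (hT2 : T₀ ≤ RS F p)
    (hfr : RS F p ≤ frattini S ⊔ T₀) : RS F p ≤ T₀ :=
  le_of_le_frattini_sup p hS (RS F p) (fun f₀ hinv => exists_extension p hS F hF f₀ hinv) T₀ hT2 hfr

/-- The hyperfocal subgroup is monotone. -/
theorem hyperfocal_mono (p : ℕ) (F H : FusionSystem S) (hHF : H.IsSubsystemOf F) :
    H.hyperfocalSubgroup p ≤ F.hyperfocalSubgroup p := by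
  conv_lhs => unfold FusionSystem.hyperfocalSubgroup
  rw [Subgroup.closure_le]
  rintro _ ⟨P, α, x, hPS, hα, rfl⟩
  have hle : H.autGroup P ≤ F.autGroup P := autGroup_le_of_subsystem H F hHF hPS le_rfl
  have h1 : Subgroup.inclusion hle α ∈ pResidual p (F.autGroup P) :=
    Cfsg.Agent.Lib.Helper6.pResidual_map_le p (Subgroup.inclusion hle) ⟨α, hα, rfl⟩
  exact H9PPI.residual_quot_mem_hyperfocal F p hPS _ h1 x

/-- The image of the commutator subgroup of `S` lies in the image of the Frattini subgroup. -/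
theorem commutator_le_frattini_map [Finite S] (p : ℕ) [Fact p.Prime] (hS : IsPGroup p S) :
    ⁅(S : Subgroup Ω), S⁆ ≤ (frattini ↥S).map S.subtype := by
  rw [← Subgroup.map_subtype_commutator]
  exact Subgroup.map_mono (Cfsg.Agent.Lib.Lead.commutator_le_frattini_of_isPGroup hS)

/-- **Tate's theorem**: if the elementary focal subgroups of `F` and of a saturated subsystem `H` over `S` agree, so do
the hyperfocal subgroups. -/
theorem tate [Finite S] (p : ℕ) [Fact p.Prime] (hS : IsPGroup p S) (F : FusionSystem S)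
    (hF : F.IsSaturated p) (H : FusionSystem S) (hH : H.IsSaturated p) (hHF : H.IsSubsystemOf F)
    (h : (frattini ↥S).map S.subtype ⊔ F.focalSubgroup = (frattini ↥S).map S.subtype ⊔ H.focalSubgroup) :
    F.hyperfocalSubgroup p = H.hyperfocalSubgroup p := by
  have hmono := hyperfocal_mono p F H hHF
  apply le_antisymm _ hmono
  have hT2 : RS H p ≤ RS F p := by
    intro s hs
    rw [mem_RS] at hs ⊢
    exact hmono hs
  have hfr : RS F p ≤ frattini S ⊔ RS H p := by
    intro r hr
    rw [mem_RS] at hr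
    have h1 : (r : Ω) ∈ (frattini ↥S).map S.subtype ⊔ F.focalSubgroup := by
      apply Subgroup.mem_sup_right
      rw [Cfsg.Agent.S5092.result p hS F hF]
      exact Subgroup.mem_sup_left hr
    rw [h, Cfsg.Agent.S5092.result p hS H hH] at h1
    have h2 : (frattini ↥S).map S.subtype ⊔ (H.hyperfocalSubgroup p ⊔ ⁅(S : Subgroup Ω), S⁆) ≤
        (frattini S ⊔ RS H p).map S.subtype := by
      rw [Subgroup.map_sup]
      apply sup_le le_sup_left
      apply sup_le
      · refine le_trans ?_ le_sup_right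
        intro y hy
        exact ⟨⟨y, hyperfocalSubgroup_le H p hy⟩, (mem_RS H p _).mpr hy, rfl⟩
      · exact (commutator_le_frattini_map p hS).trans le_sup_left
    obtain ⟨s, hs, hsr⟩ := h2 h1
    have : s = r := Subtype.ext hsr
    rw [← this]
    exact hs
  have key := hyp_le_of_le_frattini_sup p hS F hF (RS H p) hT2 hfr
  intro y hy
  have h3 : (⟨y, hyperfocalSubgroup_le F p hy⟩ : S) ∈ RS H p := key ((mem_RS F p _).mpr hy)
  exact (mem_RS H p _).mp h3

end Cfsg.Agent.H9TW
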