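import Mathlib
import Cfsg.Prelude
import Cfsg.Agent.Lib.Helper9.TW9
import Cfsg.Agent.S5096
import Cfsg.Agent.Lib.Helper9.FusionAbelian
import Cfsg.Agent.S5132
import Cfsg.Agent.S5133
import Cfsg.Agent.S5134

set_option autoImplicit false

/-!
# If `Aut_F(S)` is inner and `Φ(S)` is strongly closed, the focal subgroup lies in `Φ(S)` and `F` is inner
-/

namespace Cfsg.Agent.H9TW

open MulAction Cfsg Cfsg.FusionSystem Cfsg.Agent.Lib.Helper9
open scoped commutatorElement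

universe u

variable {Ω : Type u} [Group Ω] {S : Subgroup Ω}

/-- If `N_F(S)` is inner, every map of `F` with source `S` is conjugation by an element of `S`. -/
theorem top_aut_inner' [Finite S] (F : FusionSystem S)
    (hN : ∀ N : FusionSystem (normalizerIn S S), F.IsNormalizerSystem S N →
      ∀ P : Subgroup Ω, N.Hom P = (innerFusionSystem (normalizerIn S S)).Hom P)
    (φ : S →* Ω) (hφ : φ ∈ F.Hom S) : ∃ s ∈ S, ∀ x : S, φ x = s * x * s⁻¹ := by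
  obtain ⟨N₀, hN₀⟩ := Cfsg.Agent.S5096.result F S (le_refl S)
  have hval : ∀ x : S, φ x ∈ S := (F.le_of_mem hφ).2
  have hinj : Function.Injective (φ.codRestrict S hval) := by
    intro a b hab
    apply F.injective_of_mem hφ
    exact congrArg Subtype.val hab
  have hsurj : Function.Surjective (φ.codRestrict S hval) := Finite.injective_iff_surjective.mp hinj
  have hmem : φ ∈ F.normalizerHom S S := by
    refine ⟨hφ, le_inf le_rfl Subgroup.le_normalizer, ?_, ?_⟩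
    · intro x
      exact ⟨hval x, Subgroup.le_normalizer (hval x)⟩
    · have hsup : S ⊔ S = S := sup_idem _
      have key : ∀ (P₀ : Subgroup Ω) (h : P₀ = S), ∃ ψ ∈ F.Hom P₀, ∀ x : P₀, ψ x = φ ⟨x, (le_of_eq h) x.2⟩ := by
        intro P₀ h
        subst h
        exact ⟨φ, hφ, fun x => rfl⟩
      obtain ⟨ψ, hψ, Hψ⟩ := key (S ⊔ S) hsup
      refine ⟨ψ, hψ, fun x => ?_, ?_⟩
      · rw [Hψ]
        rfl
      · ext y
        constructor
        · rintro ⟨x, -, rfl⟩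
          rw [Hψ]
          exact hval _
        · intro hy
          obtain ⟨a, ha⟩ := hsurj ⟨y, hy⟩
          have ha' : φ a = y := congrArg Subtype.val ha
          refine ⟨⟨a, le_sup_left (a := S) (b := S) a.2⟩, ?_, ?_⟩
          · show (a : Ω) ∈ S
            exact a.2
          · rw [Hψ]
            exact ha'
  rw [← hN₀ S, hN N₀ hN₀] at hmem
  obtain ⟨-, g, hg, Hg⟩ := hmem
  exact ⟨g, hg.1, Hg⟩

theorem focal_le_frattini [Finite S] (p : ℕ) [Fact p.Prime] (hS : IsPGroup p S) (F : FusionSystem S)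
    (hF : F.IsSaturated p)
    (hN : ∀ N : FusionSystem (normalizerIn S S), F.IsNormalizerSystem S N →
      ∀ P : Subgroup Ω, N.Hom P = (innerFusionSystem (normalizerIn S S)).Hom P)
    (hΦ : F.StronglyClosed ((frattini ↥S).map S.subtype)) {P : Subgroup Ω} {φ : P →* Ω}
    (hφ : φ ∈ F.Hom P) (x : P) : (x : Ω)⁻¹ * φ x ∈ (frattini ↥S).map S.subtype := by
  obtain ⟨Φ, hΦdef⟩ : ∃ Φ : Subgroup Ω, Φ = (frattini ↥S).map S.subtype := ⟨_, rfl⟩
  rw [← hΦdef] at hΦ ⊢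
  have hsub : Φ.subgroupOf S = frattini S := by
    rw [hΦdef]
    exact Subgroup.comap_map_eq_self_of_injective Subtype.coe_injective _
  haveI : (Φ.subgroupOf S).Normal := by rw [hsub]; infer_instance
  obtain ⟨E, hE⟩ := Cfsg.Agent.S5132.result p hS F Φ hΦ
  obtain ⟨θ, hθ⟩ : ∃ θ : S →* S ⧸ Φ.subgroupOf S, θ = QuotientGroup.mk' (Φ.subgroupOf S) := ⟨_, rfl⟩
  rw [← hθ] at hE
  have hsm := Cfsg.Agent.S5134.result p hS F hF Φ hΦ θ E hE
  have hEsat := Cfsg.Agent.S5133.result p hS F hF E θ hsm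
  have hθs : Function.Surjective θ := by rw [hθ]; exact QuotientGroup.mk'_surjective _
  have hθab : ∀ a b : S, θ (a * b) = θ (b * a) := by
    intro a b
    rw [hθ]
    apply QuotientGroup.eq.mpr
    rw [hsub]
    apply Cfsg.Agent.Lib.Lead.commutator_le_frattini_of_isPGroup hS
    have h1 : (a * b)⁻¹ * (b * a) = ⁅b⁻¹, a⁻¹⁆ := by
      rw [commutatorElement_def]; group
    rw [h1, commutator_def]
    exact Subgroup.commutator_mem_commutator (Subgroup.mem_top _) (Subgroup.mem_top _)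
  have hab : ∀ x ∈ (⊤ : Subgroup (S ⧸ Φ.subgroupOf S)), ∀ y ∈ (⊤ : Subgroup (S ⧸ Φ.subgroupOf S)),
      x * y = y * x := by
    intro x _ y _
    obtain ⟨a, rfl⟩ := hθs x
    obtain ⟨b, rfl⟩ := hθs y
    rw [← map_mul, ← map_mul]
    exact hθab a b
  have hTopP : IsPGroup p (⊤ : Subgroup (S ⧸ Φ.subgroupOf S)) := (hS.to_quotient _).to_subgroup _
  obtain ⟨φ', hφ', hind⟩ := hsm.1.2 P φ hφ
  obtain ⟨α, hα, Hα⟩ := fs_abelian_extend p hTopP E hEsat hab hφ'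
  rw [mem_autGroup_iff E le_rfl] at hα
  obtain ⟨-, ψ, hψ, hindψ⟩ := (hE.2.2.2 ⊤ _).mp hα
  have hpre : preimageAlong θ ⊤ = S := by
    unfold preimageAlong
    rw [Subgroup.comap_top, ← MonoidHom.range_eq_map, Subgroup.range_subtype]
  have key : ∀ (P₀ : Subgroup Ω) (_ : P₀ = S) (ψ : P₀ →* Ω), ψ ∈ F.Hom P₀ →
      ∃ s ∈ S, ∀ x : P₀, ψ x = s * x * s⁻¹ := by
    intro P₀ h
    subst h
    exact fun ψ hψ => top_aut_inner' F hN ψ hψ
  obtain ⟨s, hs, Hs⟩ := key _ hpre ψ hψ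
  obtain ⟨hP0, hψS, hP', Hind⟩ := hindψ
  -- `α` is the identity
  have hαid : ∀ z : (⊤ : Subgroup (S ⧸ Φ.subgroupOf S)), ((α z : (⊤ : Subgroup (S ⧸ Φ.subgroupOf S))) :
      S ⧸ Φ.subgroupOf S) = z := by
    rintro ⟨z, hz⟩
    obtain ⟨a, rfl⟩ := hθs z
    have haP : (a : Ω) ∈ preimageAlong θ ⊤ := by rw [hpre]; exact a.2
    have h1 := Hind ⟨a, haP⟩
    have h2 : (⟨θ ⟨((⟨a, haP⟩ : preimageAlong θ ⊤) : Ω), hP0 haP⟩, hP' ⟨a, haP⟩⟩ :
        (⊤ : Subgroup (S ⧸ Φ.subgroupOf S))) = ⟨θ a, hz⟩ := rfl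
    rw [h2] at h1
    have h3 : ((⊤ : Subgroup (S ⧸ Φ.subgroupOf S)).subtype.comp α.toMonoidHom) ⟨θ a, hz⟩ =
        ((α ⟨θ a, hz⟩ : (⊤ : Subgroup (S ⧸ Φ.subgroupOf S))) : S ⧸ Φ.subgroupOf S) := rfl
    rw [← h3, h1]
    have h4 : (⟨ψ ⟨a, haP⟩, hψS ⟨a, haP⟩⟩ : S) = ⟨s, hs⟩ * a * (⟨s, hs⟩ : S)⁻¹ := by
      apply Subtype.ext
      show ψ ⟨a, haP⟩ = s * (a : Ω) * s⁻¹
      exact Hs _
    rw [h4, hθab, inv_mul_cancel_left]
  obtain ⟨hPS, hφS, hPimg, Hφ'⟩ := hind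
  have h5 := Hφ' x
  have h6 := Hα ⟨θ ⟨x, hPS x.2⟩, hPimg x⟩ (Subgroup.mem_top _)
  rw [hαid] at h6
  rw [← h6] at h5
  have h7 : θ ((⟨x, hPS x.2⟩ : S)⁻¹ * ⟨φ x, hφS x⟩) = 1 := by
    rw [map_mul, map_inv, ← h5]
    exact inv_mul_cancel _
  rw [hθ] at h7
  have h8 := (QuotientGroup.eq_one_iff _).mp h7
  rw [Subgroup.mem_subgroupOf] at h8
  exact h8

end Cfsg.Agent.H9TW
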