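import Mathlib
import Cfsg.Agent.Lib.Lead.SZConjB3

set_option autoImplicit false

/-!
# A `p`-nilpotency criterion: a normal subgroup `Q` between `P'` and `Φ(P)` and `N_G(P) = P C_G(P)`
-/

namespace Cfsg.Agent.H9TT

open scoped Pointwise

universe u

theorem mem_conj_smul {G : Type*} [Group G] (g x : G) (H : Subgroup G) :
    x ∈ MulAut.conj g • H ↔ g⁻¹ * x * g ∈ H := by
  rw [Subgroup.mem_pointwise_smul_iff_inv_smul_mem]
  simp [MulAut.smul_def]

theorem card_conj_smul {G : Type*} [Group G] (g : G) (H : Subgroup G) :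
    Nat.card (MulAut.conj g • H : Subgroup G) = Nat.card H :=
  (Nat.card_congr (Subgroup.equivSMul (MulAut.conj g) H).toEquiv).symm

/-- Frattini argument for a normal Hall subgroup `Q'` (a `p`-group) of a normal subgroup `K`. -/
theorem frattini_hall {G : Type u} [Group G] [Finite G] {p : ℕ} [hp : Fact p.Prime] (K : Subgroup G) [hK : K.Normal]
    (Q' : Subgroup K) [Q'.Normal] (hQ'p : IsPGroup p Q') (hcop : (Nat.card Q').Coprime Q'.index)
    (L₀ : Subgroup K) (hL₀ : Nat.card L₀ = Q'.index) (g : G) :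
    ∃ k : K, (k : G)⁻¹ * g ∈ Subgroup.normalizer ((L₀.map K.subtype : Subgroup G) : Set G) := by
  classical
  -- the conjugate of `L₀` by `g`, as a subgroup of `K`
  set L₁ : Subgroup K := (MulAut.conj g • (L₀.map K.subtype)).subgroupOf K with hL₁
  have hle : MulAut.conj g • (L₀.map K.subtype) ≤ K := by
    intro x hx
    rw [mem_conj_smul] at hx
    obtain ⟨y, -, hy⟩ := hx
    have h1 : x = g * (y : G) * g⁻¹ := by
      rw [show (K.subtype y : G) = (y : G) from rfl] at hy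
      rw [hy]; group
    rw [h1]
    exact hK.conj_mem _ y.2 g
  have hcard1 : Nat.card L₁ = Q'.index := by
    rw [hL₁, Nat.card_congr (Subgroup.subgroupOfEquivOfLe hle).toEquiv, card_conj_smul,
      Nat.card_congr (Subgroup.equivMapOfInjective L₀ K.subtype K.subtype_injective).toEquiv.symm, hL₀]
  have hsolv : Group.IsSolvable Q' := by
    haveI : Group.IsNilpotent Q' := hQ'p.isNilpotent
    infer_instance
  obtain ⟨k, hk⟩ := Cfsg.Agent.Lib.Lead.schur_zassenhaus_conj Q' hcop (Or.inl hsolv) L₀ L₁ hL₀ hcard1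
  refine ⟨k, ?_⟩
  -- membership in `L₁`
  have hmemL₁ : ∀ y : K, y ∈ L₁ ↔ g⁻¹ * (y : G) * g ∈ L₀.map K.subtype := by
    intro y
    rw [hL₁, Subgroup.mem_subgroupOf, mem_conj_smul]
  have hmemk : ∀ y : K, y ∈ L₁ ↔ k⁻¹ * y * k ∈ L₀ := by
    intro y
    rw [← hk, mem_conj_smul]
  have hkey : ∀ x : G, x ∈ L₀.map K.subtype →
      ((k : G)⁻¹ * g)⁻¹ * x * ((k : G)⁻¹ * g) ∈ L₀.map K.subtype := by
    rintro x ⟨y, hy, rfl⟩
    -- k y k⁻¹ ∈ L₁
    have h1 : k * y * k⁻¹ ∈ L₁ := by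
      rw [hmemk]
      have : k⁻¹ * (k * y * k⁻¹) * k = y := by group
      rw [this]; exact hy
    have h2 := (hmemL₁ _).mp h1
    have h3 : ((k : G)⁻¹ * g)⁻¹ * (K.subtype y) * ((k : G)⁻¹ * g) = g⁻¹ * ((k * y * k⁻¹ : K) : G) * g := by
      simp [mul_assoc]
    rw [h3]; exact h2
  have hkey' : ∀ x : G, ((k : G)⁻¹ * g)⁻¹ * x * ((k : G)⁻¹ * g) ∈ L₀.map K.subtype → x ∈ L₀.map K.subtype := by
    intro x hx
    obtain ⟨y, hy, hyx⟩ := hx
    -- x = (k⁻¹ g) y (k⁻¹ g)⁻¹; so k x k⁻¹... 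
    have hxK : x ∈ K := by
      have : x = ((k : G)⁻¹ * g) * (y : G) * ((k : G)⁻¹ * g)⁻¹ := by
        rw [show (K.subtype y : G) = (y : G) from rfl] at hyx
        rw [hyx]; group
      rw [this]
      exact hK.conj_mem _ y.2 _
    -- g⁻¹ (k x k⁻¹) g = y' ... 
    have h1 : (k * ⟨x, hxK⟩ * k⁻¹ : K) ∈ L₁ := by
      rw [hmemL₁]
      refine ⟨y, hy, ?_⟩
      rw [hyx]
      simp [mul_assoc]
    have h2 := (hmemk _).mp h1
    have : k⁻¹ * (k * ⟨x, hxK⟩ * k⁻¹) * k = ⟨x, hxK⟩ := by group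
    rw [this] at h2
    exact ⟨⟨x, hxK⟩, h2, rfl⟩
  rw [Subgroup.mem_normalizer_iff'']
  intro x
  exact ⟨hkey x, hkey' x⟩

/-- **Lemma G.** If `Q ⊴ G` lies in a Sylow `p`-subgroup `P`, contains the commutators of `P`, is a set of
non-generators of `P`, and `N_G(P) = P C_G(P)`, then `G` has a normal `p`-complement. -/
theorem pnilp_of_normal_frattini {G : Type u} [Group G] [Finite G] {p : ℕ} [hp : Fact p.Prime] (P : Sylow p G)
    (Q : Subgroup G) [hQn : Q.Normal] (hQP : Q ≤ (P : Subgroup G))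
    (hcomm : ∀ x ∈ (P : Subgroup G), ∀ y ∈ (P : Subgroup G), x * y * x⁻¹ * y⁻¹ ∈ Q)
    (hnongen : ∀ H : Subgroup G, H ≤ (P : Subgroup G) → (P : Subgroup G) ≤ Q ⊔ H → (P : Subgroup G) ≤ H)
    (hNC : ∀ g ∈ Subgroup.normalizer ((P : Subgroup G) : Set G), ∃ s ∈ (P : Subgroup G),
        ∀ x ∈ (P : Subgroup G), g * x * g⁻¹ = s * x * s⁻¹) :
    ∃ L : Subgroup G, L.Normal ∧ (Nat.card L).Coprime p ∧ L ⊔ (P : Subgroup G) = ⊤ := by
  classical
  obtain ⟨π, hπdef⟩ : ∃ π : G →* G ⧸ Q, π = QuotientGroup.mk' Q := ⟨_, rfl⟩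
  have hπ : Function.Surjective π := by rw [hπdef]; exact QuotientGroup.mk'_surjective Q
  have hπker : ∀ x : G, π x = 1 ↔ x ∈ Q := by
    intro x; rw [hπdef]; exact QuotientGroup.eq_one_iff x
  obtain ⟨Pb, hPbdef⟩ : ∃ Pb : Sylow p (G ⧸ Q), Pb = P.mapSurjective hπ := ⟨_, rfl⟩
  have hPbcoe : (Pb : Subgroup (G ⧸ Q)) = (P : Subgroup G).map π := by rw [hPbdef]; rfl
  have hmemPb : ∀ x : G, π x ∈ (Pb : Subgroup (G ⧸ Q)) ↔ x ∈ (P : Subgroup G) := by
    intro x
    rw [hPbcoe]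
    constructor
    · rintro ⟨y, hy, hyx⟩
      have h1 : π (y⁻¹ * x) = 1 := by rw [map_mul, map_inv, hyx, inv_mul_cancel]
      have h2 := hQP ((hπker _).mp h1)
      have := (P : Subgroup G).mul_mem hy h2
      rwa [mul_inv_cancel_left] at this
    · intro hx; exact ⟨x, hx, rfl⟩
  -- Burnside's hypothesis in `G ⧸ Q`
  have hPb : Subgroup.normalizer ((Pb : Subgroup (G ⧸ Q)) : Set (G ⧸ Q)) ≤
      Subgroup.centralizer ((Pb : Subgroup (G ⧸ Q)) : Set (G ⧸ Q)) := by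
    intro gb hgb
    obtain ⟨g, rfl⟩ := hπ gb
    have hgN : g ∈ Subgroup.normalizer ((P : Subgroup G) : Set G) := by
      rw [Subgroup.mem_normalizer_iff]
      intro x
      rw [← hmemPb x, ← hmemPb (g * x * g⁻¹), map_mul, map_mul, map_inv]
      exact (Subgroup.mem_normalizer_iff.mp hgb) (π x)
    obtain ⟨s, hs, hc⟩ := hNC g hgN
    rw [Subgroup.mem_centralizer_iff]
    rintro yb hyb
    obtain ⟨y, rfl⟩ := hπ yb
    have hy : y ∈ (P : Subgroup G) := (hmemPb y).mp hyb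
    -- `π s` commutes with `π y`
    have h1 : π s * π y = π y * π s := by
      have h2 := hcomm s hs y hy
      have h3 : π (s * y * s⁻¹ * y⁻¹) = 1 := (hπker _).mpr h2
      have h4 : s * y = (s * y * s⁻¹ * y⁻¹) * (y * s) := by group
      rw [← map_mul, ← map_mul, h4, map_mul, h3, one_mul]
    have h5 : π g * π y * (π g)⁻¹ = π s * π y * (π s)⁻¹ := by
      rw [← map_inv, ← map_inv, ← map_mul, ← map_mul, ← map_mul, ← map_mul, hc y hy]
    have h6 : π g * π y * (π g)⁻¹ = π y := by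
      rw [h5, h1, mul_inv_cancel_right]
    calc π y * π g = (π g * π y * (π g)⁻¹) * π g := by rw [h6]
      _ = π g * π y := by group
  have hcompl := MonoidHom.ker_transferSylow_isComplement' Pb hPb
  have hnotdvd := MonoidHom.not_dvd_card_ker_transferSylow Pb hPb
  obtain ⟨Kb, hKbdef⟩ : ∃ Kb : Subgroup (G ⧸ Q), Kb = (MonoidHom.transferSylow Pb hPb).ker := ⟨_, rfl⟩
  rw [← hKbdef] at hcompl hnotdvd
  haveI hKbn : Kb.Normal := by rw [hKbdef]; infer_instance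
  obtain ⟨K, hKdef⟩ : ∃ K : Subgroup G, K = Kb.comap π := ⟨_, rfl⟩
  haveI hKn : K.Normal := by rw [hKdef]; exact Subgroup.Normal.comap hKbn π
  have hQK : Q ≤ K := by
    intro x hx
    rw [hKdef, Subgroup.mem_comap, (hπker x).mpr hx]
    exact Kb.one_mem
  have hKcard : Nat.card K = Nat.card Kb * Nat.card Q := by
    rw [hKdef, hπdef]; exact Cfsg.Agent.Lib.Lead.card_comap_mk Q Kb
  -- `K P = G`
  have hKP : ∀ g : G, ∃ x ∈ (P : Subgroup G), g * x⁻¹ ∈ K := by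
    intro g
    have h1 : π g ∈ Kb ⊔ (Pb : Subgroup (G ⧸ Q)) := by rw [hcompl.sup_eq_top]; trivial
    rw [Subgroup.mem_sup_of_normal_left] at h1
    obtain ⟨kb, hkb, yb, hyb, hky⟩ := h1
    obtain ⟨y, rfl⟩ := hπ yb
    refine ⟨y, (hmemPb y).mp hyb, ?_⟩
    rw [hKdef, Subgroup.mem_comap, map_mul, map_inv, ← hky, mul_inv_cancel_right]
    exact hkb
  -- `Q` as a normal Hall subgroup of `K`
  obtain ⟨Q', hQ'def⟩ : ∃ Q' : Subgroup K, Q' = Q.subgroupOf K := ⟨_, rfl⟩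
  haveI hQ'n : Q'.Normal := by rw [hQ'def]; exact Subgroup.Normal.subgroupOf hQn K
  have hQ'card : Nat.card Q' = Nat.card Q := by
    rw [hQ'def]; exact Nat.card_congr (Subgroup.subgroupOfEquivOfLe hQK).toEquiv
  have hQ'p : IsPGroup p Q' := by
    rw [hQ'def]
    exact (P.2.to_le hQP).comap_subtype
  have hQ'idx : Q'.index = Nat.card Kb := by
    have h1 : Nat.card Q' * Q'.index = Nat.card K := Subgroup.card_mul_index Q'
    rw [hQ'card, hKcard, mul_comm] at h1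
    exact Nat.eq_of_mul_eq_mul_right Nat.card_pos h1
  have hcop : (Nat.card Q').Coprime Q'.index := by
    rw [hQ'idx]
    obtain ⟨a, ha⟩ := (IsPGroup.iff_card).mp hQ'p
    rw [ha]
    exact Nat.Coprime.pow_left a ((Nat.Prime.coprime_iff_not_dvd hp.out).mpr hnotdvd)
  obtain ⟨L₀, hL₀⟩ := Subgroup.exists_right_complement'_of_coprime hcop
  have hL₀card : Nat.card L₀ = Q'.index := by
    have h1 := hL₀.card_mul
    have h2 : Nat.card Q' * Q'.index = Nat.card K := Subgroup.card_mul_index Q'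
    rw [← h2] at h1
    exact Nat.eq_of_mul_eq_mul_left Nat.card_pos h1
  obtain ⟨L, hLdef⟩ : ∃ L : Subgroup G, L = L₀.map K.subtype := ⟨_, rfl⟩
  obtain ⟨M, hMdef⟩ : ∃ M : Subgroup G, M = Subgroup.normalizer ((L : Subgroup G) : Set G) := ⟨_, rfl⟩
  have hLM : L ≤ M := by rw [hMdef]; exact Subgroup.le_normalizer
  have hLK : L ≤ K := by rw [hLdef]; exact Subgroup.map_subtype_le L₀
  -- every element of `K` is in `Q L`
  have hKQL : ∀ k : K, ∃ q ∈ Q, ∃ l ∈ L, (k : G) = q * l := by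
    intro k
    have h1 : k ∈ Q' ⊔ L₀ := by rw [hL₀.sup_eq_top]; trivial
    rw [Subgroup.mem_sup_of_normal_left] at h1
    obtain ⟨q, hq, l, hl, hql⟩ := h1
    refine ⟨q, ?_, l, ?_, ?_⟩
    · rw [hQ'def, Subgroup.mem_subgroupOf] at hq; exact hq
    · rw [hLdef]; exact ⟨l, hl, rfl⟩
    · rw [← hql]; rfl
  -- `G = Q M`
  have hQM : ∀ g : G, ∃ q ∈ Q, q⁻¹ * g ∈ M := by
    intro g
    obtain ⟨k, hk⟩ := frattini_hall K Q' hQ'p hcop L₀ hL₀card g
    rw [← hLdef, ← hMdef] at hk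
    obtain ⟨q, hq, l, hl, hkql⟩ := hKQL k
    refine ⟨q, hq, ?_⟩
    have h1 : q⁻¹ * g = l * ((k : G)⁻¹ * g) := by rw [hkql]; group
    rw [h1]
    exact M.mul_mem (hLM hl) hk
  -- `P ≤ M`
  have hPM : (P : Subgroup G) ≤ M := by
    have h1 : (P : Subgroup G) ≤ Q ⊔ ((P : Subgroup G) ⊓ M) := by
      intro x hx
      obtain ⟨q, hq, hqx⟩ := hQM x
      have h2 : q⁻¹ * x ∈ (P : Subgroup G) ⊓ M :=
        ⟨(P : Subgroup G).mul_mem ((P : Subgroup G).inv_mem (hQP hq)) hx, hqx⟩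
      have h3 : x = q * (q⁻¹ * x) := by group
      rw [h3]
      exact Subgroup.mul_mem_sup hq h2
    exact (hnongen _ inf_le_left h1).trans inf_le_right
  have hMtop : M = ⊤ := by
    rw [eq_top_iff]
    intro g _
    obtain ⟨q, hq, hqg⟩ := hQM g
    have h3 : g = q * (q⁻¹ * g) := by group
    rw [h3]
    exact M.mul_mem (hPM (hQP hq)) hqg
  have hLn : L.Normal := by
    rw [← Subgroup.normalizer_eq_top_iff, ← hMdef]; exact hMtop
  refine ⟨L, hLn, ?_, ?_⟩
  · have h1 : Nat.card L = Nat.card Kb := by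
      rw [hLdef, Nat.card_congr (Subgroup.equivMapOfInjective L₀ K.subtype K.subtype_injective).toEquiv.symm,
        hL₀card, hQ'idx]
    rw [h1]
    exact Nat.Coprime.symm ((Nat.Prime.coprime_iff_not_dvd hp.out).mpr hnotdvd)
  · rw [eq_top_iff]
    intro g _
    obtain ⟨x, hx, hgx⟩ := hKP g
    obtain ⟨q, hq, l, hl, hkql⟩ := hKQL ⟨_, hgx⟩
    have h1 : g = l * ((l⁻¹ * q * l) * x) := by
      have : g * x⁻¹ = q * l := hkql
      have h2 : g = (g * x⁻¹) * x := by group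
      rw [h2, this]; group
    rw [h1]
    refine Subgroup.mul_mem_sup hl ((P : Subgroup G).mul_mem (hQP ?_) hx)
    have := hQn.conj_mem q hq l⁻¹
    simpa using this

end Cfsg.Agent.H9TT
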