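import Mathlib
import Cfsg.Prelude
import Cfsg.Agent.Lib.Helper9.Tate1
import Cfsg.Agent.Lib.Helper9.KL9
import Cfsg.Agent.Lib.Helper9.KL2
import Cfsg.Agent.Lib.Helper9.PCore
import Cfsg.Agent.Lib.Helper9.FusionAG3

set_option autoImplicit false

/-!
# Tate-type local argument: the model of `N_N(R)` is a `p`-group
-/

namespace Cfsg.Agent.H9TT

open Cfsg Cfsg.FusionSystem Cfsg.Agent.Lib.Helper9 Cfsg.Agent.H9KL

universe u

variable {Ω : Type u} [Group Ω] {T : Subgroup Ω}

/-- A subgroup containing the commutators of `T` is normalized by `T`. -/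
theorem le_normalizer_of_comm {Q R : Subgroup Ω} (hQR : Q ≤ R)
    (h1 : ∀ x ∈ T, ∀ y ∈ T, x * y * x⁻¹ * y⁻¹ ∈ Q) (hRT : R ≤ T) :
    T ≤ Subgroup.normalizer (R : Set Ω) := by
  intro t ht
  have key : ∀ s ∈ T, ∀ r ∈ R, s * r * s⁻¹ ∈ R := by
    intro s hs r hr
    have h2 : s * r * s⁻¹ = (s * r * s⁻¹ * r⁻¹) * r := by group
    rw [h2]
    exact R.mul_mem (hQR (h1 s hs r (hRT hr))) hr
  rw [Subgroup.mem_normalizer_iff]
  intro r
  constructor
  · exact key t ht r
  · intro h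
    have := key t⁻¹ (T.inv_mem ht) _ h
    have h3 : t⁻¹ * (t * r * t⁻¹) * t⁻¹⁻¹ = r := by group
    rwa [h3] at this

/-- A finite group with `C_G(O_p(G)) ≤ O_p(G)` and a normal `p`-complement is a `p`-group: the complement is
trivial. -/
theorem eq_top_of_normal_complement {G : Type u} [Group G] [Finite G] {p : ℕ} [hp : Fact p.Prime]
    (hcent : Subgroup.centralizer ((pCore p G : Subgroup G) : Set G) ≤ pCore p G)
    (P : Subgroup G) (L : Subgroup G) (hLn : L.Normal) (hLc : (Nat.card L).Coprime p) (hLP : L ⊔ P = ⊤) :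
    P = ⊤ := by
  have hUp : IsPGroup p (pCore p G) := pCore_isPGroup' p
  have hUn : (pCore p G).Normal := pCore_normal' p
  have hdisj : L ⊓ pCore p G = ⊥ := by
    apply Subgroup.inf_eq_bot_of_coprime
    obtain ⟨a, ha⟩ := (IsPGroup.iff_card).mp hUp
    rw [ha]
    exact Nat.Coprime.pow_right a hLc
  have hLC : L ≤ Subgroup.centralizer ((pCore p G : Subgroup G) : Set G) := by
    intro l hl
    rw [Subgroup.mem_centralizer_iff]
    intro u hu
    have h1 : l * u * l⁻¹ * u⁻¹ ∈ L ⊓ pCore p G := by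
      constructor
      · have h2 : l * u * l⁻¹ * u⁻¹ = l * (u * l⁻¹ * u⁻¹) := by group
        rw [h2]
        exact L.mul_mem hl (hLn.conj_mem _ (L.inv_mem hl) u)
      · exact (pCore p G).mul_mem (hUn.conj_mem _ hu l) ((pCore p G).inv_mem hu)
    rw [hdisj, Subgroup.mem_bot] at h1
    have h3 : l * u = (l * u * l⁻¹ * u⁻¹) * (u * l) := by group
    rw [h3, h1, one_mul]
  have hLbot : L = ⊥ := by
    rw [eq_bot_iff, ← hdisj]
    exact le_inf le_rfl (hLC.trans hcent)
  rw [hLbot, bot_sup_eq] at hLP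
  exact hLP

/-- **The local step.** Let `N` be a saturated system over `T` with a normal subgroup `Q` containing the commutators of
`T`, consisting of non-generators of `T`, and such that `Aut_N(T)` is inner. If `R ≥ Q`, then any model of `N_N(R)` is
the image of `N_T(R)`. -/
theorem model_surjective [Finite T] (p : ℕ) [hp : Fact p.Prime] (N : FusionSystem T)
    {Q : Subgroup Ω} (hQ : N.IsNormal Q)
    (h1 : ∀ x ∈ T, ∀ y ∈ T, x * y * x⁻¹ * y⁻¹ ∈ Q)
    (h2 : ∀ H : Subgroup Ω, H ≤ T → T ≤ Q ⊔ H → T ≤ H)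
    (h3 : ∀ φ ∈ N.Hom T, ∃ s ∈ T, ∀ x : T, φ x = s * x * s⁻¹)
    {R : Subgroup Ω} (hQR : Q ≤ R) (hRT : R ≤ T)
    (NR : FusionSystem (normalizerIn T R)) (hNR : N.IsNormalizerSystem R NR)
    (G : Type u) [Group G] (ι : normalizerIn T R →* G) (hG : NR.IsModel p G ι) :
    ∀ g : G, ∃ t, ι t = g := by
  classical
  have hTN : T ≤ Subgroup.normalizer (R : Set Ω) := le_normalizer_of_comm hQR h1 hRT
  have hTRle : normalizerIn T R ≤ T := inf_le_left
  have hTTR : T ≤ normalizerIn T R := le_inf le_rfl hTN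
  haveI : Finite ↥(normalizerIn T R) := fs_finite_of_le hTRle
  have hRTR : R ≤ normalizerIn T R := le_normalizerIn_self hRT
  have hRn : NR.IsNormal R := normalizerSystem_isNormal N hRT NR hNR
  have hRGn : ((R.subgroupOf (normalizerIn T R)).map ι).Normal := model_image_normal p NR ι hG hRn
  obtain ⟨hfin, hι, ⟨PG, hPG⟩, hcent⟩ := hG
  haveI := hfin
  have hautEq : NR.autGroup R = N.autGroup R := normalizerSystem_autGroup_eq N hRT NR hNR
  have hQGn : ((Q.subgroupOf (normalizerIn T R)).map ι).Normal := by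
    refine image_normal_of_aut_invariant NR ι hι hRTR hQR hRGn ?_
    intro α hα x hx
    rw [hautEq] at hα
    exact aut_preserves_of_isNormal N hQ hQR hRT α hα x hx
  have hmemrange : ∀ y : G, y ∈ (PG : Subgroup G) ↔ ∃ t, ι t = y := by
    intro y; rw [hPG]; rfl
  -- apply Lemma G
  obtain ⟨L, hLn, hLc, hLP⟩ := pnilp_of_normal_frattini PG ((Q.subgroupOf (normalizerIn T R)).map ι)
    (by
      rintro _ ⟨t, -, rfl⟩
      rw [hmemrange]; exact ⟨t, rfl⟩)
    (by
      intro x hx y hy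
      obtain ⟨a, rfl⟩ := (hmemrange x).mp hx
      obtain ⟨b, rfl⟩ := (hmemrange y).mp hy
      refine ⟨a * b * a⁻¹ * b⁻¹, ?_, by simp⟩
      show ((a * b * a⁻¹ * b⁻¹ : normalizerIn T R) : Ω) ∈ Q
      exact h1 a (hTRle a.2) b (hTRle b.2))
    (by
      intro H hHP hPH
      -- pull back `H`
      obtain ⟨H'', hH''⟩ : ∃ H'' : Subgroup Ω, H'' = (H.comap ι).map (normalizerIn T R).subtype := ⟨_, rfl⟩
      have hH''T : H'' ≤ T := by
        rw [hH'']
        rintro _ ⟨t, -, rfl⟩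
        exact hTRle t.2
      have hT : T ≤ Q ⊔ H'' := by
        intro t ht
        have htTR : t ∈ normalizerIn T R := hTTR ht
        have h4 : ι ⟨t, htTR⟩ ∈ (Q.subgroupOf (normalizerIn T R)).map ι ⊔ H :=
          hPH ((hmemrange _).mpr ⟨_, rfl⟩)
        rw [Subgroup.mem_sup_of_normal_left] at h4
        obtain ⟨_, ⟨q, hq, rfl⟩, h, hh, hqh⟩ := h4
        have hqQ : (q : Ω) ∈ Q := hq
        have h5 : ι (q⁻¹ * ⟨t, htTR⟩) = h := by
          rw [map_mul, map_inv, ← hqh, inv_mul_cancel_left]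
        have h6 : ((q⁻¹ * ⟨t, htTR⟩ : normalizerIn T R) : Ω) ∈ H'' := by
          rw [hH'']
          refine ⟨q⁻¹ * ⟨t, htTR⟩, ?_, rfl⟩
          show ι (q⁻¹ * ⟨t, htTR⟩) ∈ H
          rw [h5]; exact hh
        have h7 : t = (q : Ω) * ((q⁻¹ * ⟨t, htTR⟩ : normalizerIn T R) : Ω) := by
          simp
        rw [h7]
        exact Subgroup.mul_mem_sup hqQ h6
      have h8 := h2 H'' hH''T hT
      intro y hy
      obtain ⟨t, rfl⟩ := (hmemrange y).mp hy
      have h9 : (t : Ω) ∈ H'' := h8 (hTRle t.2)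
      rw [hH''] at h9
      obtain ⟨t', ht', htt'⟩ := h9
      have : t' = t := Subtype.ext htt'
      rw [← this]
      exact ht')
    (by
      intro g hg
      -- conjugation by `g` on `ι(N_T(R))`
      have hex : ∀ y : normalizerIn T R, ∃ z : normalizerIn T R,
          ι ⟨z, le_refl (normalizerIn T R) z.2⟩ = g * ι ⟨y, le_refl (normalizerIn T R) y.2⟩ * g⁻¹ := by
        intro y
        have h4 : ι y ∈ (PG : Subgroup G) := (hmemrange _).mpr ⟨y, rfl⟩
        have h5 := (Subgroup.mem_normalizer_iff.mp hg (ι y)).mp h4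
        obtain ⟨z, hz⟩ := (hmemrange _).mp h5
        exact ⟨z, hz⟩
      obtain ⟨α, hα, Hα⟩ := exists_aut_of_conj hι (le_refl (normalizerIn T R)) g hex
      rw [mem_autGroup_iff NR (le_refl _), hNR] at hα
      have hαN := hα.1
      have h6 := fs_restrict_mem N hαN hTTR
      obtain ⟨s, hs, Hs⟩ := h3 _ h6
      refine ⟨ι ⟨s, hTTR hs⟩, (hmemrange _).mpr ⟨_, rfl⟩, ?_⟩
      intro x hx
      obtain ⟨t, rfl⟩ := (hmemrange x).mp hx
      have h7 := Hα t
      have h8 := Hs ⟨t, hTRle t.2⟩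
      have h9 : (⟨((α t : normalizerIn T R) : Ω), le_refl (normalizerIn T R) (α t).2⟩ : normalizerIn T R) =
          ⟨s, hTTR hs⟩ * t * ⟨s, hTTR hs⟩⁻¹ := by
        apply Subtype.ext
        exact h8
      have h10 : (⟨(t : Ω), le_refl (normalizerIn T R) t.2⟩ : normalizerIn T R) = t := rfl
      rw [h10] at h7
      rw [← h7, h9, map_mul, map_mul, map_inv])
  have hPtop : (PG : Subgroup G) = ⊤ := eq_top_of_normal_complement hcent PG L hLn hLc hLP
  intro g
  have : g ∈ (PG : Subgroup G) := by rw [hPtop]; trivial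
  exact (hmemrange g).mp this

end Cfsg.Agent.H9TT
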