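import Mathlib
import Cfsg.Prelude
import Cfsg.Agent.Lib.Helper9.Tate2
import Cfsg.Agent.Lib.Helper9.ZW3

set_option autoImplicit false

/-!
# Tate-type local argument: a saturated system with a normal subgroup between `T'` and `Φ(T)` and inner `Aut_N(T)`
is inner
-/

namespace Cfsg.Agent.H9TT

open Cfsg Cfsg.FusionSystem Cfsg.Agent.Lib.Helper9 Cfsg.Agent.H9KL Cfsg.Agent.H9ZW

universe u

variable {Ω : Type u} [Group Ω] {T : Subgroup Ω}

/-- Lemma B2: the Alperin assembly. -/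
theorem inner_of_normal_frattini [Finite T] (p : ℕ) [hp : Fact p.Prime] (hT : IsPGroup p T)
    (N : FusionSystem T) (hN : N.IsSaturated p)
    {Q : Subgroup Ω} (hQ : N.IsNormal Q)
    (h1 : ∀ x ∈ T, ∀ y ∈ T, x * y * x⁻¹ * y⁻¹ ∈ Q)
    (h2 : ∀ H : Subgroup Ω, H ≤ T → T ≤ Q ⊔ H → T ≤ H)
    (h3 : ∀ φ ∈ N.Hom T, ∃ s ∈ T, ∀ x : T, φ x = s * x * s⁻¹) :
    ∀ P : Subgroup Ω, N.Hom P ⊆ (innerFusionSystem T).Hom P := by
  intro P φ hφ
  refine fs_le_of_autGroup_le p hT N (innerFusionSystem T) hN ?_ _ P φ hφ rfl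
  intro R hRfn IH
  have hRT : R ≤ T := hRfn.1
  by_cases hQR : Q ≤ R
  · by_cases hc : N.IsCentric R
    · obtain ⟨NR, hNR⟩ := Cfsg.Agent.S5096.result N R hRT
      obtain ⟨-, -, G, _, ι, hG⟩ := exists_model_of_fn_centric p hT N hN hRfn hc NR hNR
      have hsurj := model_surjective p N hQ h1 h2 h3 hQR hRT NR hNR G ι hG
      have hRTR : R ≤ normalizerIn T R := le_normalizerIn_self hRT
      have hTRle : normalizerIn T R ≤ T := inf_le_left
      intro α hα
      rw [mem_autGroup_iff (innerFusionSystem T) hRT]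
      have hα' : α ∈ NR.autGroup R := by
        rw [normalizerSystem_autGroup_eq N hRT NR hNR]; exact hα
      rw [mem_autGroup_iff NR hRTR] at hα'
      obtain ⟨g, hg⟩ := (hG.2.1.2 R hRTR _ (fun x => hRTR (α x).2)).mp hα'
      obtain ⟨t, rfl⟩ := hsurj g
      refine ⟨hRT, t, hTRle t.2, fun x => ?_⟩
      have h4 := hg x
      rw [← map_inv, ← map_mul, ← map_mul] at h4
      have h5 := hG.2.1.1 h4
      exact congrArg Subtype.val h5
    · exact fs_autGroup_le_of_not_centric p hT N (innerFusionSystem T) hN hRfn hc IH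
  · intro α hα
    rw [mem_autGroup_iff N hRT] at hα
    obtain ⟨ψ, hψ, hψφ, -⟩ := hQ.2 R _ hα
    have hlt : R < R ⊔ Q := by
      refine lt_of_le_of_ne le_sup_left ?_
      intro h
      apply hQR
      rw [h]; exact le_sup_right
    have hle : R ⊔ Q ≤ T := sup_le hRT hQ.1
    have h4 := IH (R ⊔ Q) hle (fs_card_lt_of_lt hlt hle) hψ
    have h5 := fs_restrict_mem (innerFusionSystem T) h4 (le_sup_left : R ≤ R ⊔ Q)
    rw [mem_autGroup_iff _ hRT]
    have h6 : ψ.comp (Subgroup.inclusion (le_sup_left : R ≤ R ⊔ Q)) = R.subtype.comp α.toMonoidHom := by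
      ext x
      exact hψφ x
    rw [← h6]; exact h5

end Cfsg.Agent.H9TT
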