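import Mathlib
import Cfsg.Prelude
import Cfsg.Agent.Lib.Helper9.Tate3

set_option autoImplicit false

/-!
# Tate-type local argument: `Aut_F(S)` inner implies `N_F(Q)` inner for `S' ≤ Q ≤ Φ(S)`
-/

namespace Cfsg.Agent.H9TT

open Cfsg Cfsg.FusionSystem Cfsg.Agent.Lib.Helper9 Cfsg.Agent.H9KL Cfsg.Agent.H9ZW

universe u

variable {Ω : Type u} [Group Ω] {S : Subgroup Ω}

/-- If `N_F(S)` is inner, every map of `F` with source `S` is conjugation by an element of `S`. -/
theorem top_aut_inner [Finite S] (F : FusionSystem S)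
    (hN : ∀ N : FusionSystem (normalizerIn S S), F.IsNormalizerSystem S N →
      ∀ P : Subgroup Ω, N.Hom P = (innerFusionSystem (normalizerIn S S)).Hom P)
    (φ : S →* Ω) (hφ : φ ∈ F.Hom S) : ∃ s ∈ S, ∀ x : S, φ x = s * x * s⁻¹ := by
  obtain ⟨N₀, hN₀⟩ := Cfsg.Agent.S5096.result F S (le_refl S)
  have hval : ∀ x : S, φ x ∈ S := (F.le_of_mem hφ).2
  have hinj : Function.Injective (φ.codRestrict S hval) := by
    intro a b hab
    apply F.injective_of_mem hφ
    exact congrArg Subtype.val hab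
  have hbij : Function.Bijective (φ.codRestrict S hval) :=
    ⟨hinj, Finite.injective_iff_surjective.mp hinj⟩
  obtain ⟨α, hαdef⟩ : ∃ α : MulAut S, α = MulEquiv.ofBijective (φ.codRestrict S hval) hbij := ⟨_, rfl⟩
  have hαφ : S.subtype.comp α.toMonoidHom = φ := by
    ext x
    rw [hαdef]
    rfl
  have hαF : α ∈ F.autGroup S := by
    rw [mem_autGroup_iff F (le_refl S), hαφ]; exact hφ
  rw [← normalizerSystem_autGroup_eq F (le_refl S) N₀ hN₀,
    mem_autGroup_iff N₀ (le_normalizerIn_self (le_refl S)), hαφ, hN N₀ hN₀] at hαF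
  obtain ⟨-, g, hg, Hg⟩ := hαF
  exact ⟨g, hg.1, Hg⟩

/-- A subgroup of (the image of) the Frattini subgroup consists of non-generators. -/
theorem nongen_of_le_frattini [Finite S] {Q : Subgroup Ω} (h2 : Q ≤ (frattini ↥S).map S.subtype) :
    ∀ H : Subgroup Ω, H ≤ S → S ≤ Q ⊔ H → S ≤ H := by
  intro H hHS hSQH
  have h3 : H.subgroupOf S ⊔ frattini ↥S = ⊤ := by
    rw [eq_top_iff]
    intro s _
    have h4 : (s : Ω) ∈ Q ⊔ H := hSQH s.2
    have h5 : Q ⊔ H ≤ (H.subgroupOf S ⊔ frattini ↥S).map S.subtype := by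
      apply sup_le
      · exact h2.trans (Subgroup.map_mono le_sup_right)
      · intro x hx
        exact ⟨⟨x, hHS hx⟩, Subgroup.mem_sup_left hx, rfl⟩
    obtain ⟨s', hs', hss'⟩ := h5 h4
    have : s' = s := Subtype.ext hss'
    rw [← this]; exact hs'
  have h6 := frattini_nongenerating h3
  intro s hs
  have : (⟨s, hs⟩ : S) ∈ H.subgroupOf S := by rw [h6]; trivial
  exact this

/-- The main theorem in unbundled form. -/
theorem normalizer_inner_of_between [Finite S] (p : ℕ) [Fact p.Prime] (hS : IsPGroup p S) (F : FusionSystem S)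
    (hF : F.IsSaturated p)
    (hN : ∀ N : FusionSystem (normalizerIn S S), F.IsNormalizerSystem S N →
      ∀ P : Subgroup Ω, N.Hom P = (innerFusionSystem (normalizerIn S S)).Hom P)
    (Q : Subgroup Ω) (h1 : (commutator ↥S).map S.subtype ≤ Q) (h2 : Q ≤ (frattini ↥S).map S.subtype)
    (N : FusionSystem (normalizerIn S Q)) (hNQ : F.IsNormalizerSystem Q N) (P : Subgroup Ω) :
    N.Hom P = (innerFusionSystem (normalizerIn S Q)).Hom P := by
  have hQS : Q ≤ S := h2.trans (Subgroup.map_subtype_le _)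
  have hcomm : ∀ x ∈ S, ∀ y ∈ S, x * y * x⁻¹ * y⁻¹ ∈ Q := by
    intro x hx y hy
    apply h1
    refine ⟨(⟨x, hx⟩ : S) * ⟨y, hy⟩ * (⟨x, hx⟩ : S)⁻¹ * (⟨y, hy⟩ : S)⁻¹, ?_, rfl⟩
    rw [commutator_def]
    have := Subgroup.commutator_mem_commutator (Subgroup.mem_top (⟨x, hx⟩ : S)) (Subgroup.mem_top (⟨y, hy⟩ : S))
    rwa [commutatorElement_def] at this
  have hSN : S ≤ Subgroup.normalizer (Q : Set Ω) := le_normalizer_of_comm (le_refl Q) hcomm hQS
  have hTS : normalizerIn S Q ≤ S := inf_le_left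
  have hST : S ≤ normalizerIn S Q := le_inf le_rfl hSN
  haveI : Finite ↥(normalizerIn S Q) := fs_finite_of_le hTS
  have hTp : IsPGroup p ↥(normalizerIn S Q) := hS.to_le hTS
  have hNsat : N.IsSaturated p :=
    normalizerSystem_saturated p hS F hF (fullyNormalized_of_le_normalizer F hQS hSN) N hNQ
  have hQn : N.IsNormal Q := normalizerSystem_isNormal F hQS N hNQ
  have hnongen := nongen_of_le_frattini h2
  ext φ
  constructor
  · intro hφ
    refine inner_of_normal_frattini p hTp N hNsat hQn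
      (fun x hx y hy => hcomm x (hTS hx) y (hTS hy))
      (fun H hH hTH => hTS.trans (hnongen H (hH.trans hTS) (hST.trans hTH)))
      ?_ P hφ
    intro ψ hψ
    rw [hNQ] at hψ
    have h4 := fs_restrict_mem F hψ.1 hST
    obtain ⟨s, hs, Hs⟩ := top_aut_inner F hN _ h4
    refine ⟨s, hST hs, fun x => ?_⟩
    exact Hs ⟨x, hTS x.2⟩
  · rintro ⟨hPT, g, hg, Hg⟩
    have h5 : conjHom P g ∈ N.Hom P := N.conj_mem hPT hg
    have h6 : φ = conjHom P g := by
      ext x
      rw [Hg]
      rfl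
    rw [h6]; exact h5

end Cfsg.Agent.H9TT
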