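import Mathlib
import Cfsg.Prelude
import Cfsg.Agent.Lib.Helper9.Tens2
import Cfsg.Agent.Lib.Helper9.OrthNM9

set_option autoImplicit false

namespace Cfsg.Agent.H9Tens

open Matrix Cfsg.Agent.H9Orth
open scoped Kronecker

variable {F : Type*} [Field F]

/-- a symmetric form given as a function, as a Mathlib bilinear form -/
noncomputable def toBilin {κ : Type} [Fintype κ] [DecidableEq κ] (f : (κ → F) → (κ → F) → F)
    (hf : Cfsg.Geo.IsBilinearForm f) : LinearMap.BilinForm F (κ → F) :=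
  LinearMap.mk₂ F f hf.add_left (fun c x v => by rw [hf.smul_left, smul_eq_mul])
    hf.add_right (fun c v x => by rw [hf.smul_right, smul_eq_mul])

theorem toBilin_apply {κ : Type} [Fintype κ] [DecidableEq κ] (f : (κ → F) → (κ → F) → F)
    (hf : Cfsg.Geo.IsBilinearForm f) (x y : κ → F) : toBilin f hf x y = f x y := rfl

/-- the quadratic form `x ↦ f(x, x)` -/
noncomputable def toQuad {κ : Type} [Fintype κ] [DecidableEq κ] (f : (κ → F) → (κ → F) → F)
    (hf : Cfsg.Geo.IsBilinearForm f) : QuadraticForm F (κ → F) :=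
  (toBilin f hf).toQuadraticMap

theorem toQuad_apply {κ : Type} [Fintype κ] [DecidableEq κ] (f : (κ → F) → (κ → F) → F)
    (hf : Cfsg.Geo.IsBilinearForm f) (x : κ → F) : toQuad f hf x = f x x := rfl

theorem polar_toQuad {κ : Type} [Fintype κ] [DecidableEq κ] (f : (κ → F) → (κ → F) → F)
    (hf : Cfsg.Geo.IsSymmetricForm f) (x y : κ → F) :
    QuadraticMap.polar (⇑(toQuad f hf.bilinear)) x y = 2 * f x y := by
  unfold toQuad
  rw [LinearMap.BilinMap.polar_toQuadraticMap, toBilin_apply, toBilin_apply, hf.symm y x]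
  ring

theorem nondegOn_toQuad {κ : Type} [Fintype κ] [DecidableEq κ] (h2 : (2 : F) ≠ 0)
    (f : (κ → F) → (κ → F) → F) (hf : Cfsg.Geo.IsSymmetricForm f) :
    Cfsg.Geo.IsNondegenerateOn (QuadraticMap.polar ⇑(toQuad f hf.bilinear)) ⊤ := by
  intro w _ hw
  obtain ⟨⟨x, hx⟩, ⟨y, hy⟩⟩ := hf.nondegenerate w hw
  refine ⟨⟨x, trivial, ?_⟩, ⟨y, trivial, ?_⟩⟩
  · rw [polar_toQuad f hf]; exact mul_ne_zero h2 hx
  · rw [polar_toQuad f hf]; exact mul_ne_zero h2 hy

/-- the frame and its rigidity for a ternary symmetric form over the field with three elements -/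
theorem f1_frame [Fintype F] (hq : Fintype.card F = 3) (f₁ : (Fin 3 → F) → (Fin 3 → F) → F)
    (hf₁ : Cfsg.Geo.IsSymmetricForm f₁) :
    ∃ d : F, d ≠ 0 ∧ (∃ v₁ v₂ : Fin 3 → F, f₁ v₁ v₁ = d ∧ f₁ v₂ v₂ = d ∧ f₁ v₁ v₂ = 0) ∧
      ∀ s s' : Fin 3 → F, f₁ s s = d → f₁ s' s' = d → s' = s ∨ s' = -s ∨ f₁ s s' = 0 := by
  have h2 := two_ne_zero_of_card hq
  obtain ⟨d, hd, ⟨v₁, v₂, -, -, q1, q2, p⟩, hrig⟩ := rig3 (Q := toQuad f₁ hf₁.bilinear) hq ⊤
    (by rw [finrank_top, Module.finrank_fintype_fun_eq_card, Fintype.card_fin])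
    (nondegOn_toQuad h2 f₁ hf₁)
  refine ⟨d, hd, ⟨v₁, v₂, q1, q2, ?_⟩, ?_⟩
  · rw [polar_toQuad f₁ hf₁] at p
    rcases mul_eq_zero.1 p with h | h
    · exact absurd h h2
    · exact h
  · intro s s' hs hs'
    rcases hrig s trivial s' trivial hs hs' with h | h | h
    · left; exact h
    · right; left; exact h
    · right; right
      rw [polar_toQuad f₁ hf₁] at h
      rcases mul_eq_zero.1 h with h | h
      · exact absurd h h2
      · exact h

/-- a similarity of a ternary symmetric form over the field with three elements is an isometry -/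
theorem sim_one [Fintype F] (hq : Fintype.card F = 3) (f₁ : (Fin 3 → F) → (Fin 3 → F) → F)
    (hf₁ : Cfsg.Geo.IsSymmetricForm f₁) (A : Matrix.GeneralLinearGroup (Fin 3) F) (lam : F)
    (hA : ∀ x x', f₁ ((A : Matrix (Fin 3) (Fin 3) F) *ᵥ x) ((A : Matrix (Fin 3) (Fin 3) F) *ᵥ x') =
      lam * f₁ x x') : lam = 1 := by
  set G := Cfsg.Geo.gramMatrix f₁ with hG
  set M : Matrix (Fin 3) (Fin 3) F := (A : Matrix (Fin 3) (Fin 3) F) with hM
  have hform : ∀ x x', f₁ x x' = x ⬝ᵥ (G *ᵥ x') := by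
    intro x x'
    rw [form_eq_formOfGram f₁ hf₁.bilinear]
    unfold Cfsg.Geo.formOfGram
    simp only [id, dotProduct, Matrix.mulVec, Finset.mul_sum]
    apply Finset.sum_congr rfl
    intro a _
    apply Finset.sum_congr rfl
    intro b _
    ring
  have hmat : Mᵀ * G * M = lam • G := by
    ext a b
    have h1 := hA (Pi.single a 1) (Pi.single b 1)
    rw [hform, hform] at h1
    have e1 : Pi.single a (1 : F) ⬝ᵥ (G *ᵥ Pi.single b 1) = G a b := by
      rw [Matrix.mulVec_single_one, single_one_dotProduct]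
      rfl
    have hc : ∀ c : Fin 3, M *ᵥ Pi.single c 1 = fun i => M i c := by
      intro c
      funext i
      simp [Matrix.mulVec, dotProduct, Pi.single_apply]
    have e2 : (M *ᵥ Pi.single a 1) ⬝ᵥ (G *ᵥ (M *ᵥ Pi.single b 1)) = (Mᵀ * G * M) a b := by
      rw [hc, hc]
      simp only [dotProduct, Matrix.mulVec, Matrix.mul_apply, Matrix.transpose_apply,
        Finset.sum_mul, Finset.mul_sum]
      rw [Finset.sum_comm]
      refine Finset.sum_congr rfl (fun j _ => Finset.sum_congr rfl (fun i _ => ?_))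
      ring
    rw [e1, e2] at h1
    rw [h1]
    rfl
  have hdetG : G.det ≠ 0 := by
    intro h0
    obtain ⟨x', hx'0, hx'⟩ := Matrix.exists_mulVec_eq_zero_iff.2 h0
    obtain ⟨⟨x, hx⟩, -⟩ := hf₁.nondegenerate x' hx'0
    apply hx
    rw [hform, hx', dotProduct_zero]
  have hdet := congrArg Matrix.det hmat
  rw [Matrix.det_mul, Matrix.det_mul, Matrix.det_transpose, Matrix.det_smul, Fintype.card_fin]
    at hdet
  have hdetM : M.det ≠ 0 := by
    have := Matrix.GeneralLinearGroup.det_ne_zero A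
    simpa [hM] using this
  have h1 : M.det * M.det = 1 := mul_self_eq_one_of_card (le_of_eq hq) hdetM
  have h3 : lam ^ 3 = lam := by
    have := FiniteField.pow_card lam
    rwa [hq] at this
  rw [h3] at hdet
  have h4 : (M.det * M.det - lam) * G.det = 0 := by linear_combination hdet
  rcases mul_eq_zero.1 h4 with h5 | h5
  · rw [h1] at h5
    linear_combination -h5
  · exact absurd h5 hdetG

/-- vectors needed in the second factor -/
theorem f2_vectors [Fintype F] (hq : Fintype.card F = 3) {n₂ : ℕ} (hn : 3 ≤ n₂)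
    (f₂ : (Fin n₂ → F) → (Fin n₂ → F) → F) (hf₂ : Cfsg.Geo.IsSymmetricForm f₂) :
    ∃ y₁ y₂ y₃ : Fin n₂ → F, f₂ y₁ y₁ = 1 ∧ f₂ y₂ y₂ = 1 ∧ f₂ y₁ y₂ = 0 ∧ y₃ ≠ 0 ∧
      f₂ y₁ y₃ = 0 ∧ f₂ y₂ y₃ = 0 := by
  have h2 := two_ne_zero_of_card hq
  haveI : Finite F := Finite.of_fintype F
  obtain ⟨n, rfl⟩ : ∃ n, n₂ = n + 1 := ⟨n₂ - 1, by omega⟩
  -- work directly on the whole space
  have hnd' : (QuadraticMap.polarBilin (toQuad f₂ hf₂.bilinear)).Nondegenerate := by
    constructor
    · intro x hx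
      by_contra hx0
      obtain ⟨-, ⟨y, hy⟩⟩ := hf₂.nondegenerate x hx0
      apply hy
      have := hx y
      have h3 : QuadraticMap.polar (⇑(toQuad f₂ hf₂.bilinear)) x y = 0 := this
      rw [polar_toQuad f₂ hf₂] at h3
      rcases mul_eq_zero.1 h3 with h | h
      · exact absurd h h2
      · exact h
    · intro x hx
      by_contra hx0
      obtain ⟨⟨y, hy⟩, -⟩ := hf₂.nondegenerate x hx0
      apply hy
      have := hx y
      have h3 : QuadraticMap.polar (⇑(toQuad f₂ hf₂.bilinear)) y x = 0 := this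
      rw [polar_toQuad f₂ hf₂] at h3
      rcases mul_eq_zero.1 h3 with h | h
      · exact absurd h h2
      · exact h
  obtain ⟨b, horth, hnorm, hlast⟩ := Cfsg.Agent.Lib.Helper5.exists_orthogonal_family_aux h2 n
    (Fin (n + 1) → F) (toQuad f₂ hf₂.bilinear) hnd'
    (by rw [Module.finrank_fintype_fun_eq_card, Fintype.card_fin])
  have i0 : (⟨0, by omega⟩ : Fin (n + 1)) ≠ Fin.last n := by
    intro h; have := congrArg Fin.val h; simp at this; omega
  have i1 : (⟨1, by omega⟩ : Fin (n + 1)) ≠ Fin.last n := by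
    intro h; have := congrArg Fin.val h; simp at this; omega
  have i01 : (⟨0, by omega⟩ : Fin (n + 1)) ≠ ⟨1, by omega⟩ := by
    intro h; have := congrArg Fin.val h; simp at this
  have horth' : ∀ i j, i ≠ j → f₂ (b i) (b j) = 0 := by
    intro i j hij
    have := horth i j hij
    rw [polar_toQuad f₂ hf₂] at this
    rcases mul_eq_zero.1 this with h | h
    · exact absurd h h2
    · exact h
  refine ⟨b ⟨0, by omega⟩, b ⟨1, by omega⟩, b (Fin.last n), hnorm _ i0, hnorm _ i1,
    horth' _ _ i01, ?_, horth' _ _ i0, horth' _ _ i1⟩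
  intro h0
  apply hlast
  rw [h0, toQuad_apply]
  have := hf₂.bilinear.smul_left 0 0 0
  simpa using this

end Cfsg.Agent.H9Tens
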