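import Mathlib
import Cfsg.Prelude
import Cfsg.Agent.Lib.Helper9.Tens3
import Cfsg.Agent.Lib.Helper9.OrthNM10

set_option autoImplicit false

namespace Cfsg.Agent.H9Tens

open Matrix Cfsg.Agent.H9Orth Cfsg.Agent.Lib.Helper2.ReflGen
open scoped Kronecker

variable {F : Type*} [Field F] {ι : Type} [Fintype ι] [DecidableEq ι]
variable {Q : QuadraticForm F (ι → F)}

theorem smul_eq_smul_cancel {κ : Type} {a b : F} {v : κ → F} (hv : v ≠ 0)
    (h : a • v = b • v) : a = b := by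
  obtain ⟨i, hi⟩ := Function.ne_iff.1 hv
  have := congrFun h i
  simp only [Pi.smul_apply, smul_eq_mul] at this
  exact mul_right_cancel₀ hi this

/-- `O₃(3) ⊗ O_{n₂}(3)` is not maximal in `Ω`. -/
theorem tensor3_not_max [Fintype F] (hq : Fintype.card F = 3) {n₂ : ℕ} (hn : 3 ≤ n₂)
    (e : ι ≃ Fin 3 × Fin n₂) (P : Matrix.GeneralLinearGroup ι F)
    (f₁ : (Fin 3 → F) → (Fin 3 → F) → F) (f₂ : (Fin n₂ → F) → (Fin n₂ → F) → F)
    (hf₁ : Cfsg.Geo.IsSymmetricForm f₁) (hf₂ : Cfsg.Geo.IsSymmetricForm f₂)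
    (hT : Cfsg.Geo.IsTensorFormStructure id (QuadraticMap.polar ⇑Q) f₁ f₂ e P) :
    ∃ K : Subgroup (Matrix.GeneralLinearGroup ι F),
      Cfsg.Geo.tensorProductSubgroup 3 n₂ e P ⊓ Cfsg.Geo.omegaGL ⇑Q < K ∧
        K < Cfsg.Geo.omegaGL ⇑Q := by
  have h2 := two_ne_zero_of_card hq
  have h3 := char_three hq
  obtain ⟨c, hc, hform⟩ := tensor_form_pt (QuadraticMap.polar ⇑Q) f₁ f₂ hf₁.bilinear hf₂.bilinear
    e P hT
  obtain ⟨d, hd, ⟨v₁, v₂, hv₁, hv₂, hv₁₂⟩, hrig⟩ := f1_frame hq f₁ hf₁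
  obtain ⟨y₁, y₂, y₃, hy₁, hy₂, hy₁₂, hy₃0, hy₁₃, hy₂₃⟩ := f2_vectors hq hn f₂ hf₂
  -- Mathlib bilinear versions for algebra
  set B₁ := toBilin f₁ hf₁.bilinear with hB₁
  set B₂ := toBilin f₂ hf₂.bilinear with hB₂
  have b1 : ∀ x y, f₁ x y = B₁ x y := fun x y => rfl
  have b2 : ∀ x y, f₂ x y = B₂ x y := fun x y => rfl
  have hy₂₁ : f₂ y₂ y₁ = 0 := by rw [hf₂.symm]; exact hy₁₂
  have hv₂₁ : f₁ v₂ v₁ = 0 := by rw [hf₁.symm]; exact hv₁₂
  have hv₁0 : v₁ ≠ 0 := by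
    rintro rfl
    rw [b1, map_zero] at hv₁
    exact hd hv₁.symm
  have hv₂0 : v₂ ≠ 0 := by
    rintro rfl
    rw [b1, map_zero] at hv₂
    exact hd hv₂.symm
  have hy₁0 : y₁ ≠ 0 := by
    rintro rfl
    rw [b2, map_zero] at hy₁
    exact zero_ne_one hy₁
  -- norms of images of pure tensors
  have hnorm : ∀ v y, Q (tau e P (pt v y)) = 2 * (c * (f₁ v v * f₂ y y)) := by
    intro v y
    have := hform v v y y
    rw [polar_self] at this
    linear_combination (2 : F) * this - Q (tau e P (pt v y)) * h3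
  set s₁ := tau e P (pt v₁ y₁) with hs₁
  set s₂ := tau e P (pt v₁ y₂) with hs₂
  set s₃ := tau e P (pt v₂ y₁) with hs₃
  set ν := 2 * (c * d) with hν
  have hν0 : ν ≠ 0 := mul_ne_zero h2 (mul_ne_zero hc hd)
  have q1 : Q s₁ = ν := by rw [hs₁, hnorm, hv₁, hy₁, mul_one]
  have q2 : Q s₂ = ν := by rw [hs₂, hnorm, hv₁, hy₂, mul_one]
  have q3 : Q s₃ = ν := by rw [hs₃, hnorm, hv₂, hy₁, mul_one]
  have p12 : QuadraticMap.polar (⇑Q) s₁ s₂ = 0 := by rw [hs₁, hs₂, hform, hy₁₂]; ring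
  have p13 : QuadraticMap.polar (⇑Q) s₁ s₃ = 0 := by rw [hs₁, hs₃, hform, hv₁₂]; ring
  have p23 : QuadraticMap.polar (⇑Q) s₂ s₃ = 0 := by rw [hs₂, hs₃, hform, hv₁₂]; ring
  set S : Set (ι → F) := {s | ∃ v y, f₁ v v = d ∧ s = tau e P (pt v y)} with hS
  refine ⟨Cfsg.stabilizing (Cfsg.glToMat ι F) S ⊓ Cfsg.Geo.omegaGL ⇑Q, ?_, ?_⟩
  · apply lt_of_le_of_ne
    · -- the tensor subgroup preserves S
      intro g hg
      obtain ⟨hgT, hgΩ⟩ := Subgroup.mem_inf.1 hg
      refine Subgroup.mem_inf.2 ⟨?_, hgΩ⟩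
      apply mem_stabilizing_of_mapsTo
      rintro s ⟨v, y, hv, rfl⟩
      obtain ⟨A, B, hAB⟩ := exists_factors e P hgT
      have hsim : ∀ x x' y y', f₁ ((A : Matrix _ _ F) *ᵥ x) ((A : Matrix _ _ F) *ᵥ x') *
          f₂ ((B : Matrix _ _ F) *ᵥ y) ((B : Matrix _ _ F) *ᵥ y') = f₁ x x' * f₂ y y' := by
        intro x x' y y'
        have h1 := omegaGL_polar hgΩ (tau e P (pt x y)) (tau e P (pt x' y'))
        rw [hAB, hAB, hform, hform] at h1
        exact mul_left_cancel₀ hc h1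
      set μ := f₂ ((B : Matrix _ _ F) *ᵥ y₁) ((B : Matrix _ _ F) *ᵥ y₁) with hμ
      have hμ0 : μ ≠ 0 := by
        intro h0
        have := hsim v₁ v₁ y₁ y₁
        rw [← hμ, h0, mul_zero, hv₁, hy₁, mul_one] at this
        exact hd this.symm
      have hlam := sim_one hq f₁ hf₁ A μ⁻¹ (by
        intro x x'
        have := hsim x x' y₁ y₁
        rw [← hμ, hy₁, mul_one] at this
        rw [← this]
        field_simp)
      have hiso : ∀ x x', f₁ ((A : Matrix _ _ F) *ᵥ x) ((A : Matrix _ _ F) *ᵥ x') = f₁ x x' := by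
        intro x x'
        have := hsim x x' y₁ y₁
        rw [← hμ, hy₁, mul_one] at this
        have hμ1 : μ = 1 := by
          have : μ⁻¹⁻¹ = (1 : F)⁻¹ := by rw [hlam]
          simpa using this
        rw [hμ1, mul_one] at this
        exact this
      refine ⟨(A : Matrix _ _ F) *ᵥ v, (B : Matrix _ _ F) *ᵥ y, ?_, hAB v y⟩
      rw [hiso, hv]
    · intro heq
      obtain ⟨g, hgΩ, g1, g2, gw⟩ := neg_plane h2 s₁ s₂ ν hν0 q1 q2 p12
      -- g preserves S
      have hmaps : ∀ y, (g : Matrix ι ι F) *ᵥ tau e P (pt v₁ y) ∈ S := by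
        intro y
        set α := f₂ y₁ y with hα
        set β := f₂ y₂ y with hβ
        obtain ⟨y', hy'⟩ : ∃ y', y' = y - α • y₁ - β • y₂ := ⟨_, rfl⟩
        have hyd : y = α • y₁ + β • y₂ + y' := by rw [hy']; abel
        have o1 : f₂ y₁ y' = 0 := by
          rw [hy', b2, map_sub, map_sub, map_smul, map_smul, ← b2, ← b2, ← b2, hy₁, hy₁₂, ← hα]
          simp
        have o2 : f₂ y₂ y' = 0 := by
          rw [hy', b2, map_sub, map_sub, map_smul, map_smul, ← b2, ← b2, ← b2, hy₂, hy₂₁, ← hβ]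
          simp
        have hdec : tau e P (pt v₁ y) = α • s₁ + β • s₂ + tau e P (pt v₁ y') := by
          conv_lhs => rw [hyd]
          rw [pt_add_right, pt_add_right, pt_smul_right, pt_smul_right, tau_add, tau_add,
            tau_smul, tau_smul]
        have hfix : (g : Matrix ι ι F) *ᵥ tau e P (pt v₁ y') = tau e P (pt v₁ y') := by
          apply gw
          · rw [hs₁, hform, o1]; ring
          · rw [hs₂, hform, o2]; ring
        refine ⟨v₁, -(α • y₁) - β • y₂ + y', hv₁, ?_⟩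
        rw [hdec, Matrix.mulVec_add, Matrix.mulVec_add, Matrix.mulVec_smul, Matrix.mulVec_smul,
          g1, g2, hfix, pt_add_right, pt_sub_right', pt_neg_right, pt_smul_right, pt_smul_right,
          tau_add, tau_sub', tau_neg, tau_smul, tau_smul]
        simp only [smul_neg]
        abel
      have hgK : g ∈ Cfsg.stabilizing (Cfsg.glToMat ι F) S ⊓ Cfsg.Geo.omegaGL ⇑Q := by
        refine Subgroup.mem_inf.2 ⟨?_, hgΩ⟩
        apply mem_stabilizing_of_mapsTo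
        rintro s ⟨v, y, hv, rfl⟩
        rcases hrig v₁ v hv₁ hv with rfl | rfl | h
        · exact hmaps y
        · have : pt (-v₁) y = pt v₁ (-y) := by rw [pt_neg_left, pt_neg_right]
          rw [this]
          exact hmaps (-y)
        · rw [gw]
          · exact ⟨v, y, hv, rfl⟩
          · rw [hs₁, hform, h]; ring
          · rw [hs₂, hform, h]; ring
      rw [← heq] at hgK
      obtain ⟨A, B, hAB⟩ := exists_factors e P (Subgroup.mem_inf.1 hgK).1
      -- four evaluations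
      have t1 : pt ((A : Matrix _ _ F) *ᵥ v₁) ((B : Matrix _ _ F) *ᵥ y₁) = pt (-v₁) y₁ := by
        apply tau_injective e P
        rw [← hAB, ← hs₁, g1, pt_neg_left, tau_neg]
      have t2 : pt ((A : Matrix _ _ F) *ᵥ v₁) ((B : Matrix _ _ F) *ᵥ y₃) = pt v₁ y₃ := by
        apply tau_injective e P
        rw [← hAB]
        apply gw
        · rw [hs₁, hform, hy₁₃]; ring
        · rw [hs₂, hform, hy₂₃]; ring
      have t3 : pt ((A : Matrix _ _ F) *ᵥ v₂) ((B : Matrix _ _ F) *ᵥ y₁) = pt v₂ y₁ := by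
        apply tau_injective e P
        rw [← hAB]
        apply gw
        · rw [hs₁, hform, hv₁₂]; ring
        · rw [hs₂, hform, hv₁₂]; ring
      have t4 : pt ((A : Matrix _ _ F) *ᵥ v₂) ((B : Matrix _ _ F) *ᵥ y₃) = pt v₂ y₃ := by
        apply tau_injective e P
        rw [← hAB]
        apply gw
        · rw [hs₁, hform, hv₁₂]; ring
        · rw [hs₂, hform, hv₁₂]; ring
      obtain ⟨μ₁, hμ₁, a1, a2⟩ := pt_eq (neg_ne_zero.2 hv₁0) hy₁0 t1
      obtain ⟨μ₂, hμ₂, b1', b2'⟩ := pt_eq hv₁0 hy₃0 t2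
      obtain ⟨μ₃, hμ₃, c1, c2⟩ := pt_eq hv₂0 hy₁0 t3
      obtain ⟨μ₄, hμ₄, d1, d2⟩ := pt_eq hv₂0 hy₃0 t4
      have e1 : μ₂ = -μ₁ := by
        apply smul_eq_smul_cancel hv₁0
        rw [← b1', a1, smul_neg, neg_smul]
      have e2 : μ₁⁻¹ = μ₃⁻¹ := by
        apply smul_eq_smul_cancel hy₁0
        rw [← a2, c2]
      have e3 : μ₃ = μ₄ := by
        apply smul_eq_smul_cancel hv₂0
        rw [← c1, d1]
      have e4 : μ₂⁻¹ = μ₄⁻¹ := by
        apply smul_eq_smul_cancel hy₃0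
        rw [← b2', d2]
      have e2' : μ₁ = μ₃ := inv_injective e2
      have e4' : μ₂ = μ₄ := inv_injective e4
      have : (2 : F) * μ₁ = 0 := by
        have : μ₁ = -μ₁ := by rw [← e1, e4', ← e3, ← e2']
        linear_combination this
      rcases mul_eq_zero.1 this with h | h
      · exact h2 h
      · exact hμ₁ h
  · apply lt_of_le_of_ne inf_le_right
    intro heq
    obtain ⟨g, hgΩ, g1, g2, -, -⟩ := three_cycle h2 s₁ s₂ s₃ ν hν0 q1 q2 q3 p12 p13 p23
    rw [← heq] at hgΩ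
    have hgS := (Subgroup.mem_inf.1 hgΩ).1
    have hin : tau e P (pt v₁ (y₁ + y₂)) ∈ S := ⟨v₁, y₁ + y₂, hv₁, rfl⟩
    have hout := (hgS _).1 hin
    have hout' : (g : Matrix ι ι F) *ᵥ tau e P (pt v₁ (y₁ + y₂)) ∈ S := hout
    rw [pt_add_right, tau_add, Matrix.mulVec_add, ← hs₁, ← hs₂, g1, g2, hs₃, hs₁, ← tau_add,
      ← pt_add_left] at hout'
    obtain ⟨v, y, hv, hvy⟩ := hout'
    have hexp : f₁ (v₂ + v₁) (v₂ + v₁) = 2 * d := by
      rw [hf₁.bilinear.add_left, hf₁.bilinear.add_right, hf₁.bilinear.add_right, hv₁, hv₂,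
        hv₁₂, hv₂₁]
      ring
    have hne : v₂ + v₁ ≠ 0 := by
      intro h0
      have : f₁ (v₂ + v₁) (v₂ + v₁) = 0 := by rw [h0, b1, map_zero]
      rw [hexp] at this
      exact mul_ne_zero h2 hd this
    obtain ⟨μ, hμ, m1, -⟩ := pt_eq hne hy₁0 (tau_injective e P hvy).symm
    rw [m1, hf₁.bilinear.smul_left, hf₁.bilinear.smul_right, hexp] at hv
    have hμμ : μ * μ = 1 := mul_self_eq_one_of_card (le_of_eq hq) hμ
    have : d = 0 := by linear_combination hv - (2 * d) * hμμ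
    exact hd this

end Cfsg.Agent.H9Tens
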