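import Mathlib
import Cfsg.Prelude
import Cfsg.Agent.Lib.Helper9.Tens4
import Cfsg.Agent.Lib.Helper9.SpMax1

set_option autoImplicit false

namespace Cfsg.Agent.H9Tens

open Matrix Cfsg.Agent.H9Orth Cfsg.Agent.H9SpMax Cfsg.Agent.Lib.Helper1.SpBasic
open scoped Kronecker

variable {F : Type*} [Field F]

/-- the symplectic transvection as an element of `spGL` -/
theorem exists_sp_transvection {m : ℕ} (u : Fin m ⊕ Fin m → F) :
    ∃ g : Matrix.GeneralLinearGroup (Fin m ⊕ Fin m) F, g ∈ Cfsg.spGL m F ∧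
      ∀ w, (g : Matrix _ _ F) *ᵥ w = w + Cfsg.sympForm m F w u • u := by
  refine ⟨toGL m F (T u 1), ?_, ?_⟩
  · rw [← toGL_range]
    exact ⟨_, rfl⟩
  · intro w
    rw [toGL_coe, T_mulVec, one_mul]

/-- `Sp_{n₁}(3) ⊗ O₃(3)` is not maximal in `Sp_{2m}(3)`. -/
theorem sp_tensor3_not_max [Fintype F] (hq : Fintype.card F = 3) {m n₁ : ℕ} (hn : 0 < n₁)
    (e : (Fin m ⊕ Fin m) ≃ Fin n₁ × Fin 3) (P : Matrix.GeneralLinearGroup (Fin m ⊕ Fin m) F)
    (f₁ : (Fin n₁ → F) → (Fin n₁ → F) → F) (f₂ : (Fin 3 → F) → (Fin 3 → F) → F)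
    (hf₁ : Cfsg.Geo.IsSymplecticForm f₁) (hf₂ : Cfsg.Geo.IsSymmetricForm f₂)
    (hT : Cfsg.Geo.IsTensorFormStructure id (Cfsg.sympForm m F) f₁ f₂ e P) :
    ∃ K : Subgroup (Matrix.GeneralLinearGroup (Fin m ⊕ Fin m) F),
      Cfsg.Geo.tensorProductSubgroup n₁ 3 e P ⊓ Cfsg.spGL m F < K ∧ K < Cfsg.spGL m F := by
  have h2 := two_ne_zero_of_card hq
  have h3 := char_three hq
  obtain ⟨c, hc, hform⟩ := tensor_form_pt (Cfsg.sympForm m F) f₁ f₂ hf₁.bilinear hf₂.bilinear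
    e P hT
  obtain ⟨d, hd, ⟨v₁, v₂, hv₁, hv₂, hv₁₂⟩, hrig⟩ := f1_frame hq f₂ hf₂
  set B₁ := toBilin f₁ hf₁.bilinear with hB₁
  set B₂ := toBilin f₂ hf₂.bilinear with hB₂
  have b1 : ∀ x y, f₁ x y = B₁ x y := fun x y => rfl
  have b2 : ∀ x y, f₂ x y = B₂ x y := fun x y => rfl
  have hv₂₁ : f₂ v₂ v₁ = 0 := by rw [hf₂.symm]; exact hv₁₂
  have hv₁0 : v₁ ≠ 0 := by
    rintro rfl
    rw [b2, map_zero] at hv₁
    exact hd hv₁.symm
  have hv₂0 : v₂ ≠ 0 := by
    rintro rfl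
    rw [b2, map_zero] at hv₂
    exact hd hv₂.symm
  -- vectors in the first factor
  obtain ⟨x₁, hx₁0⟩ : ∃ x₁ : Fin n₁ → F, x₁ ≠ 0 := by
    refine ⟨Pi.single ⟨0, hn⟩ 1, ?_⟩
    intro h
    have := congrFun h ⟨0, hn⟩
    simp at this
  obtain ⟨⟨x₀, hx₀₁⟩, -⟩ := hf₁.nondegenerate x₁ hx₁0
  have hx₀0 : x₀ ≠ 0 := by
    rintro rfl
    rw [b1, map_zero] at hx₀₁
    exact hx₀₁ rfl
  set S : Set (Fin m ⊕ Fin m → F) := {s | ∃ x v, f₂ v v = d ∧ s = tau e P (pt x v)} with hS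
  refine ⟨Cfsg.stabilizing (Cfsg.glToMat _ F) S ⊓ Cfsg.spGL m F, ?_, ?_⟩
  · apply lt_of_le_of_ne
    · intro g hg
      obtain ⟨hgT, hgΩ⟩ := Subgroup.mem_inf.1 hg
      refine Subgroup.mem_inf.2 ⟨?_, hgΩ⟩
      apply mem_stabilizing_of_mapsTo
      rintro s ⟨x, v, hv, rfl⟩
      obtain ⟨A, B, hAB⟩ := exists_factors e P hgT
      have hsim : ∀ x x' y y', f₁ ((A : Matrix _ _ F) *ᵥ x) ((A : Matrix _ _ F) *ᵥ x') *
          f₂ ((B : Matrix _ _ F) *ᵥ y) ((B : Matrix _ _ F) *ᵥ y') = f₁ x x' * f₂ y y' := by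
        intro x x' y y'
        have h1 : Cfsg.sympForm m F ((g : Matrix _ _ F) *ᵥ tau e P (pt x y))
            ((g : Matrix _ _ F) *ᵥ tau e P (pt x' y')) =
            Cfsg.sympForm m F (tau e P (pt x y)) (tau e P (pt x' y')) := hgΩ _ _
        rw [hAB, hAB, hform, hform] at h1
        exact mul_left_cancel₀ hc h1
      set μ := f₁ ((A : Matrix _ _ F) *ᵥ x₀) ((A : Matrix _ _ F) *ᵥ x₁) with hμ
      have hμ0 : μ ≠ 0 := by
        intro h0
        have := hsim x₀ x₁ v₁ v₁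
        rw [← hμ, h0, zero_mul, hv₁] at this
        exact mul_ne_zero hx₀₁ hd this.symm
      have hlam := sim_one hq f₂ hf₂ B (f₁ x₀ x₁ / μ) (by
        intro y y'
        have := hsim x₀ x₁ y y'
        rw [← hμ] at this
        field_simp
        linear_combination this)
      have hμ1 : μ = f₁ x₀ x₁ := by
        field_simp at hlam
        exact hlam.symm
      have hiso : ∀ y y', f₂ ((B : Matrix _ _ F) *ᵥ y) ((B : Matrix _ _ F) *ᵥ y') = f₂ y y' := by
        intro y y'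
        have := hsim x₀ x₁ y y'
        rw [← hμ, hμ1] at this
        exact mul_left_cancel₀ hx₀₁ this
      refine ⟨(A : Matrix _ _ F) *ᵥ x, (B : Matrix _ _ F) *ᵥ v, ?_, hAB x v⟩
      rw [hiso, hv]
    · intro heq
      obtain ⟨g, hgΩ, hg⟩ := exists_sp_transvection (tau e P (pt x₁ v₁))
      have hmaps : ∀ x, (g : Matrix _ _ F) *ᵥ tau e P (pt x v₁) =
          tau e P (pt (x + (c * (f₁ x x₁ * d)) • x₁) v₁) := by
        intro x
        rw [hg, hform, hv₁, pt_add_left, pt_smul_left, tau_add, tau_smul]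
      have hfix : ∀ x v, f₂ v₁ v = 0 → (g : Matrix _ _ F) *ᵥ tau e P (pt x v) =
          tau e P (pt x v) := by
        intro x v hv
        rw [hg, hform, hf₂.symm, hv]
        simp
      have hgK : g ∈ Cfsg.stabilizing (Cfsg.glToMat _ F) S ⊓ Cfsg.spGL m F := by
        refine Subgroup.mem_inf.2 ⟨?_, hgΩ⟩
        apply mem_stabilizing_of_mapsTo
        rintro s ⟨x, v, hv, rfl⟩
        rcases hrig v₁ v hv₁ hv with rfl | rfl | h
        · show (g : Matrix (Fin m ⊕ Fin m) (Fin m ⊕ Fin m) F) *ᵥ _ ∈ S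
          rw [hmaps]
          exact ⟨_, _, hv₁, rfl⟩
        · have : pt x (-v₁) = pt (-x) v₁ := by rw [pt_neg_left, pt_neg_right]
          show (g : Matrix (Fin m ⊕ Fin m) (Fin m ⊕ Fin m) F) *ᵥ _ ∈ S
          rw [this, hmaps]
          exact ⟨_, _, hv₁, rfl⟩
        · show (g : Matrix (Fin m ⊕ Fin m) (Fin m ⊕ Fin m) F) *ᵥ _ ∈ S
          rw [hfix x v h]
          exact ⟨x, v, hv, rfl⟩
      rw [← heq] at hgK
      obtain ⟨A, B, hAB⟩ := exists_factors e P (Subgroup.mem_inf.1 hgK).1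
      set κ := c * (f₁ x₀ x₁ * d) with hκ
      have hκ0 : κ ≠ 0 := mul_ne_zero hc (mul_ne_zero hx₀₁ hd)
      have hne : x₀ + κ • x₁ ≠ 0 := by
        intro h0
        have : f₁ (x₀ + κ • x₁) x₁ = 0 := by rw [h0, b1, map_zero]; rfl
        rw [hf₁.bilinear.add_left, hf₁.bilinear.smul_left, hf₁.alternating, mul_zero,
          add_zero] at this
        exact hx₀₁ this
      have t1 : pt ((A : Matrix _ _ F) *ᵥ x₀) ((B : Matrix _ _ F) *ᵥ v₂) = pt x₀ v₂ := by
        apply tau_injective e P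
        rw [← hAB]
        exact hfix x₀ v₂ hv₁₂
      have t2 : pt ((A : Matrix _ _ F) *ᵥ x₀) ((B : Matrix _ _ F) *ᵥ v₁) =
          pt (x₀ + κ • x₁) v₁ := by
        apply tau_injective e P
        rw [← hAB]
        exact hmaps x₀
      obtain ⟨μ₁, hμ₁, a1, -⟩ := pt_eq hx₀0 hv₂0 t1
      obtain ⟨μ₂, hμ₂, a2, -⟩ := pt_eq hne hv₁0 t2
      have h5 : f₁ ((A : Matrix _ _ F) *ᵥ x₀) x₀ = 0 := by
        rw [a1, hf₁.bilinear.smul_left, hf₁.alternating, mul_zero]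
      rw [a2, hf₁.bilinear.smul_left, hf₁.bilinear.add_left, hf₁.bilinear.smul_left,
        hf₁.alternating, zero_add, hf₁.skew x₁ x₀] at h5
      have : μ₂ * (κ * f₁ x₀ x₁) ≠ 0 := mul_ne_zero hμ₂ (mul_ne_zero hκ0 hx₀₁)
      apply this
      linear_combination -h5
  · apply lt_of_le_of_ne inf_le_right
    intro heq
    obtain ⟨g, hgΩ, hg⟩ := exists_sp_transvection (tau e P (pt x₁ (v₁ + v₂)))
    rw [← heq] at hgΩ
    have hgS := (Subgroup.mem_inf.1 hgΩ).1
    have hin : tau e P (pt x₀ v₁) ∈ S := ⟨x₀, v₁, hv₁, rfl⟩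
    have hout : (g : Matrix _ _ F) *ᵥ tau e P (pt x₀ v₁) ∈ S := (hgS _).1 hin
    set κ := c * (f₁ x₀ x₁ * d) with hκ
    have hκ0 : κ ≠ 0 := mul_ne_zero hc (mul_ne_zero hx₀₁ hd)
    have hval : (g : Matrix _ _ F) *ᵥ tau e P (pt x₀ v₁) =
        tau e P (pt x₀ v₁) + κ • tau e P (pt x₁ (v₁ + v₂)) := by
      rw [hg, hform, hf₂.bilinear.add_right, hv₁, hv₁₂, add_zero]
    rw [hval] at hout
    obtain ⟨x', v', -, hxv⟩ := hout
    -- contract with `z ⊗ v₁` and `z ⊗ v₂`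
    have c1 : ∀ z, d * f₁ z (x₀ + κ • x₁) = f₂ v₁ v' * f₁ z x' := by
      intro z
      have h1 := congrArg (fun w => Cfsg.sympForm m F (tau e P (pt z v₁)) w) hxv
      have hadd : ∀ a b, Cfsg.sympForm m F (tau e P (pt z v₁)) (a + b) =
          Cfsg.sympForm m F (tau e P (pt z v₁)) a + Cfsg.sympForm m F (tau e P (pt z v₁)) b := by
        intro a b
        unfold Cfsg.sympForm
        rw [Matrix.mulVec_add, dotProduct_add]
      have hsm : ∀ (k : F) a, Cfsg.sympForm m F (tau e P (pt z v₁)) (k • a) =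
          k * Cfsg.sympForm m F (tau e P (pt z v₁)) a := by
        intro k a
        unfold Cfsg.sympForm
        rw [Matrix.mulVec_smul, dotProduct_smul, smul_eq_mul]
      rw [hadd, hsm, hform, hform, hform, hf₂.bilinear.add_right, hv₁, hv₁₂, add_zero] at h1
      rw [hf₁.bilinear.add_right, hf₁.bilinear.smul_right]
      apply mul_left_cancel₀ hc
      linear_combination h1
    have c2 : ∀ z, d * f₁ z (κ • x₁) = f₂ v₂ v' * f₁ z x' := by
      intro z
      have h1 := congrArg (fun w => Cfsg.sympForm m F (tau e P (pt z v₂)) w) hxv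
      have hadd : ∀ a b, Cfsg.sympForm m F (tau e P (pt z v₂)) (a + b) =
          Cfsg.sympForm m F (tau e P (pt z v₂)) a + Cfsg.sympForm m F (tau e P (pt z v₂)) b := by
        intro a b
        unfold Cfsg.sympForm
        rw [Matrix.mulVec_add, dotProduct_add]
      have hsm : ∀ (k : F) a, Cfsg.sympForm m F (tau e P (pt z v₂)) (k • a) =
          k * Cfsg.sympForm m F (tau e P (pt z v₂)) a := by
        intro k a
        unfold Cfsg.sympForm
        rw [Matrix.mulVec_smul, dotProduct_smul, smul_eq_mul]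
      rw [hadd, hsm, hform, hform, hform, hf₂.bilinear.add_right, hv₂, hv₂₁, zero_add] at h1
      rw [hf₁.bilinear.smul_right]
      apply mul_left_cancel₀ hc
      linear_combination h1
    -- now `f₁ (κ • x₁) (x₀ + κ • x₁) ≠ 0` but both are multiples of `x'`
    have e1 := c1 (κ • x₁)
    have e2 := c2 x'
    rw [hf₁.alternating, mul_zero] at e2
    have e3 : f₁ (κ • x₁) x' = -f₁ x' (κ • x₁) := hf₁.skew _ _
    have e4 : f₁ x' (κ • x₁) = 0 := by
      rcases mul_eq_zero.1 e2 with h | h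
      · exact absurd h hd
      · exact h
    rw [e3, e4, neg_zero, mul_zero, hf₁.bilinear.smul_left, hf₁.bilinear.add_right,
      hf₁.bilinear.smul_right, hf₁.alternating, mul_zero, add_zero, hf₁.skew x₁ x₀] at e1
    have : d * (κ * f₁ x₀ x₁) ≠ 0 := mul_ne_zero hd (mul_ne_zero hκ0 hx₀₁)
    apply this
    linear_combination -e1

end Cfsg.Agent.H9Tens
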