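import Mathlib
import Cfsg.Prelude
import Cfsg.Agent.Lib.Helper9.Tens2

set_option autoImplicit false

/-! Sesquilinear (Frobenius `x ↦ x ^ 2`, characteristic two) version of the tensor form
evaluation on pure tensors. -/

namespace Cfsg.Agent.H9Tens

open Matrix
open scoped Kronecker

variable {F : Type*} [Field F]

theorem sq_sum_of_two {κ : Type} (h2 : (1 : F) + 1 = 0) (s : Finset κ) (t : κ → F) :
    (∑ b ∈ s, t b) ^ 2 = ∑ b ∈ s, t b ^ 2 := by
  classical
  induction s using Finset.induction_on with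
  | empty => simp
  | insert a s ha ih =>
    rw [Finset.sum_insert ha, Finset.sum_insert ha, ← ih]
    linear_combination (t a * ∑ b ∈ s, t b) * h2

/-- a unitary form (for `x ↦ x ^ 2`, characteristic two) is the form of its Gram matrix -/
theorem form_eq_formOfGram_sq {κ : Type} [Fintype κ] [DecidableEq κ] (h2 : (1 : F) + 1 = 0)
    (f : (κ → F) → (κ → F) → F) (hf : Cfsg.Geo.IsUnitaryFormPow 2 f) (x y : κ → F) :
    f x y = Cfsg.Geo.formOfGram (fun a : F => a ^ 2) (Cfsg.Geo.gramMatrix f) x y := by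
  unfold Cfsg.Geo.formOfGram Cfsg.Geo.gramMatrix
  have hsumL : ∀ (s : Finset κ) (c : κ → F) (v : κ → κ → F) (w : κ → F),
      f (∑ a ∈ s, c a • v a) w = ∑ a ∈ s, c a * f (v a) w := by
    intro s c v w
    induction s using Finset.induction_on with
    | empty =>
      simp only [Finset.sum_empty]
      have := hf.smul_left 0 0 w
      simpa using this
    | insert a s ha ih =>
      rw [Finset.sum_insert ha, Finset.sum_insert ha, hf.add_left, hf.smul_left, ih]
  have hx : x = ∑ a, x a • (Pi.single a (1 : F) : κ → F) := by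
    funext i
    simp [Finset.sum_apply, Pi.single_apply]
  have hy : y = ∑ b, y b • (Pi.single b (1 : F) : κ → F) := by
    funext i
    simp [Finset.sum_apply, Pi.single_apply]
  conv_lhs => rw [hx, hsumL]
  apply Finset.sum_congr rfl
  intro a _
  rw [hf.herm (Pi.single a 1) y]
  conv_lhs => rw [hy, hsumL, sq_sum_of_two h2, Finset.mul_sum]
  apply Finset.sum_congr rfl
  intro b _
  rw [hf.herm (Pi.single a 1) (Pi.single b 1)]
  ring

/-- the sesquilinear form of a Kronecker product of Gram matrices on pure tensors -/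
theorem formOfGram_kronecker_pt_sq {n₁ n₂ : ℕ} (G₁ : Matrix (Fin n₁) (Fin n₁) F)
    (G₂ : Matrix (Fin n₂) (Fin n₂) F) (x x' : Fin n₁ → F) (y y' : Fin n₂ → F) :
    Cfsg.Geo.formOfGram (fun a : F => a ^ 2) (G₁ ⊗ₖ G₂) (pt x y) (pt x' y') =
      Cfsg.Geo.formOfGram (fun a : F => a ^ 2) G₁ x x' *
        Cfsg.Geo.formOfGram (fun a : F => a ^ 2) G₂ y y' := by
  unfold Cfsg.Geo.formOfGram pt
  simp only [Matrix.kroneckerMap_apply, Fintype.sum_prod_type]
  rw [Finset.sum_mul_sum]
  refine Finset.sum_congr rfl (fun a _ => Finset.sum_congr rfl (fun b _ => ?_))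
  rw [Finset.sum_mul_sum]
  refine Finset.sum_congr rfl (fun a' _ => Finset.sum_congr rfl (fun b' _ => ?_))
  ring

variable {ι : Type} [Fintype ι] [DecidableEq ι]

/-- the unitary tensor form structure evaluated on images of pure tensors -/
theorem tensor_form_pt_sq {n₁ n₂ : ℕ} (h2 : (1 : F) + 1 = 0) (f : (ι → F) → (ι → F) → F)
    (f₁ : (Fin n₁ → F) → (Fin n₁ → F) → F) (f₂ : (Fin n₂ → F) → (Fin n₂ → F) → F)
    (hf₁ : Cfsg.Geo.IsUnitaryFormPow 2 f₁) (hf₂ : Cfsg.Geo.IsUnitaryFormPow 2 f₂)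
    (e : ι ≃ Fin n₁ × Fin n₂) (P : Matrix.GeneralLinearGroup ι F)
    (hT : Cfsg.Geo.IsTensorFormStructure (fun a : F => a ^ 2) f f₁ f₂ e P) :
    ∃ c : F, c ≠ 0 ∧ ∀ (x x' : Fin n₁ → F) (y y' : Fin n₂ → F),
      f (tau e P (pt x y)) (tau e P (pt x' y')) = c * (f₁ x x' * f₂ y y') := by
  obtain ⟨c, hc, h⟩ := hT
  refine ⟨c, hc, fun x x' y y' => ?_⟩
  unfold tau
  rw [h, formOfGram_kronecker_pt_sq, ← form_eq_formOfGram_sq h2 f₁ hf₁,
    ← form_eq_formOfGram_sq h2 f₂ hf₂]

end Cfsg.Agent.H9Tens
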