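import Mathlib
import Cfsg.Prelude
import Cfsg.Agent.Lib.Helper9.Tens6
import Cfsg.Agent.Lib.Helper9.SUDec2
import Cfsg.Agent.Lib.Helper9.OrthNM4

set_option autoImplicit false

/-! `GU₂(2) ⊗ GU_{n₂}(2)` is not maximal in `SU_{2n₂}(2)`. -/

namespace Cfsg.Agent.H9Tens

open Module Cfsg.Agent.Lib.Helper2 Cfsg.Agent.Lib.Helper2.UT Cfsg.Agent.Lib.Helper2.IsomDecomp
  Cfsg.Agent.Lib.Helper2.HermDecomp Cfsg.Agent.Lib.Helper2.HermFrames
  Cfsg.Agent.Lib.Helper5.PSLCoset Cfsg.Agent.Lib.Helper2.GUIsom Cfsg.Agent.H9SUMax Matrix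
  Cfsg.Agent.H9Orth

variable {F : Type*} [Field F]

/-- a unitary form given as a function, as `IsHerm` -/
theorem isHerm_of_pow {κ : Type} [Fintype κ] [DecidableEq κ] {σ : F ≃+* F}
    (hσq : ∀ a : F, σ a = a ^ 2) (f : (κ → F) → (κ → F) → F)
    (hf : Cfsg.Geo.IsUnitaryFormPow 2 f) : IsHerm σ f where
  add_left := hf.add_left
  smul_left := hf.smul_left
  symm := fun v w => by rw [hσq]; exact hf.herm w v

variable [Fintype F]

/-- the unitary transvection as an element of `SU_n(2)` -/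
theorem exists_su_transvection (hF : Fintype.card F = 4) {n : ℕ} (u : Fin n → F)
    (hu : Cfsg.hermForm n F 2 u u = 0) :
    ∃ g : Matrix.GeneralLinearGroup (Fin n) F,
      g ∈ Cfsg.GU n F 2 ⊓ Cfsg.Geo.specialLinear (Fin n) F ∧
      ∀ w, (g : Matrix (Fin n) (Fin n) F) *ᵥ w = w + Cfsg.hermForm n F 2 w u • u := by
  have hF' : Fintype.card F = 2 ^ 2 := by rw [hF]; norm_num
  obtain ⟨σ, hσ, hσq⟩ := exists_sigma hF'
  have hσ2 := WittHerm.sigma_sigma hσ
  have h := isHerm_hermForm (F := F) n 2 σ hσ2 hσq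
  have h2 := two_eq_zero_of_card hF
  have hneg : (-1 : F) = 1 := by linear_combination -h2
  have hc1 : σ (1 : F) = -1 := by rw [map_one, hneg]
  refine ⟨(glLin n F).symm (tv h u 1 hu), Subgroup.mem_inf.2 ⟨?_, ?_⟩, ?_⟩
  · rw [mem_GU_iff, MulEquiv.apply_symm_apply]
    exact tv_mem_isom h u 1 hu hc1
  · rw [mem_specialLinear_iff, MulEquiv.apply_symm_apply]
    exact det_tv h u 1 hu
  · intro w
    rw [← glLin_apply, MulEquiv.apply_symm_apply, tv_apply, one_mul]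

/-- vectors needed in the two factors -/
theorem unitary_vectors (hF : Fintype.card F = 4) {n₂ : ℕ} (hn : 2 ≤ n₂)
    (f₁ : (Fin 2 → F) → (Fin 2 → F) → F) (f₂ : (Fin n₂ → F) → (Fin n₂ → F) → F)
    (hf₁ : Cfsg.Geo.IsUnitaryFormPow 2 f₁) (hf₂ : Cfsg.Geo.IsUnitaryFormPow 2 f₂) :
    (∃ a a' : Fin 2 → F, f₁ a a = 1 ∧ f₁ a' a' = 1 ∧ f₁ a a' = 0 ∧ f₁ a' a = 0 ∧
      ∀ v, f₁ v v ≠ 0 → (∃ l : F, v = l • a) ∨ (∃ l : F, v = l • a')) ∧
    (∃ y₀ y₁ : Fin n₂ → F, f₂ y₁ y₁ = 0 ∧ f₂ y₀ y₁ ≠ 0) := by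
  have hF' : Fintype.card F = 2 ^ 2 := by rw [hF]; norm_num
  obtain ⟨σ, hσ, hσq⟩ := exists_sigma hF'
  have h1 := isHerm_of_pow (σ := σ) hσq f₁ hf₁
  have h2' := isHerm_of_pow (σ := σ) hσq f₂ hf₂
  have h2 := two_eq_zero_of_card hF
  constructor
  · obtain ⟨a, a', -, -, haa, ha'a', haa', hstr⟩ := plane_structure hF hσ hσq h1 ⊤
      (by
        intro u _ hu
        by_contra hu0
        obtain ⟨-, ⟨x, hx⟩⟩ := hf₁.nondegenerate u hu0
        exact hx (hu x trivial))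
      (by rw [finrank_top, Module.finrank_fintype_fun_eq_card, Fintype.card_fin])
    refine ⟨a, a', haa, ha'a', haa', ?_, fun v hv => hstr v trivial hv⟩
    rw [h1.symm a a', haa', map_zero]
  · obtain ⟨b, hb⟩ := exists_onb (V := Fin n₂ → F) (H := f₂) hσ h2'
      (by
        intro u hu
        by_contra hu0
        obtain ⟨-, ⟨x, hx⟩⟩ := hf₂.nondegenerate u hu0
        exact hx (hu x))
      (by rw [Module.finrank_fintype_fun_eq_card, Fintype.card_fin])
    have i01 : (⟨0, by omega⟩ : Fin n₂) ≠ ⟨1, by omega⟩ := by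
      intro h; have := congrArg Fin.val h; simp at this
    have h00 : f₂ (b ⟨0, by omega⟩) (b ⟨0, by omega⟩) = 1 := by simpa using hb ⟨0, by omega⟩ ⟨0, by omega⟩
    have h11 : f₂ (b ⟨1, by omega⟩) (b ⟨1, by omega⟩) = 1 := by simpa using hb ⟨1, by omega⟩ ⟨1, by omega⟩
    have h01 : f₂ (b ⟨0, by omega⟩) (b ⟨1, by omega⟩) = 0 := by
      have := hb ⟨0, by omega⟩ ⟨1, by omega⟩
      rwa [if_neg i01] at this
    have h10 : f₂ (b ⟨1, by omega⟩) (b ⟨0, by omega⟩) = 0 := by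
      have := hb ⟨1, by omega⟩ ⟨0, by omega⟩
      rwa [if_neg i01.symm] at this
    refine ⟨b ⟨0, by omega⟩, b ⟨0, by omega⟩ + b ⟨1, by omega⟩, ?_, ?_⟩
    · rw [h2'.add_left, h2'.add_right, h2'.add_right, h00, h01, h10, h11]
      linear_combination h2
    · rw [h2'.add_right, h00, h01, add_zero]
      exact one_ne_zero

variable {n : ℕ}

/-- `GU₂(2) ⊗ GU_{n₂}(2)` is not maximal in `SU_n(2)`. -/
theorem su_tensor2_not_max (hF : Fintype.card F = 4) {n₂ : ℕ} (hn : 2 ≤ n₂)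
    (e : Fin n ≃ Fin 2 × Fin n₂) (P : Matrix.GeneralLinearGroup (Fin n) F)
    (f₁ : (Fin 2 → F) → (Fin 2 → F) → F) (f₂ : (Fin n₂ → F) → (Fin n₂ → F) → F)
    (hf₁ : Cfsg.Geo.IsUnitaryFormPow 2 f₁) (hf₂ : Cfsg.Geo.IsUnitaryFormPow 2 f₂)
    (hT : Cfsg.Geo.IsTensorFormStructure (fun x : F => x ^ 2) (Cfsg.hermForm n F 2) f₁ f₂ e P) :
    ∃ K : Subgroup (Matrix.GeneralLinearGroup (Fin n) F),
      Cfsg.Geo.tensorProductSubgroup 2 n₂ e P ⊓
        (Cfsg.GU n F 2 ⊓ Cfsg.Geo.specialLinear (Fin n) F) < K ∧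
      K < (Cfsg.GU n F 2 ⊓ Cfsg.Geo.specialLinear (Fin n) F) := by
  have h2 := two_eq_zero_of_card hF
  have hF' : Fintype.card F = 2 ^ 2 := by rw [hF]; norm_num
  obtain ⟨σ, hσ, hσq⟩ := exists_sigma hF'
  have hσ2 := WittHerm.sigma_sigma hσ
  have h := isHerm_hermForm (F := F) n 2 σ hσ2 hσq
  have h1 := isHerm_of_pow (σ := σ) hσq f₁ hf₁
  have h2' := isHerm_of_pow (σ := σ) hσq f₂ hf₂
  obtain ⟨c, hc, hform⟩ := tensor_form_pt_sq h2 (Cfsg.hermForm n F 2) f₁ f₂ hf₁ hf₂ e P hT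
  obtain ⟨⟨a, a', haa, ha'a', haa', ha'a, hstr⟩, ⟨y₀, y₁, hy₁, hy₀₁⟩⟩ :=
    unitary_vectors hF hn f₁ f₂ hf₁ hf₂
  have hy₁0 : y₁ ≠ 0 := by
    rintro rfl
    apply hy₀₁
    rw [h2'.symm 0 y₀]
    have : f₂ 0 y₀ = 0 := by
      have := hf₂.smul_left 0 0 y₀
      simpa using this
    rw [this, map_zero]
  have hy₀0 : y₀ ≠ 0 := by
    rintro rfl
    apply hy₀₁
    have := hf₂.smul_left 0 0 y₁
    simpa using this
  have ha0 : a ≠ 0 := by
    rintro rfl
    have : f₁ 0 0 = 0 := by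
      have := hf₁.smul_left 0 0 0
      simpa using this
    rw [this] at haa
    exact zero_ne_one haa
  have ha'0 : a' ≠ 0 := by
    rintro rfl
    have : f₁ 0 0 = 0 := by
      have := hf₁.smul_left 0 0 0
      simpa using this
    rw [this] at ha'a'
    exact zero_ne_one ha'a'
  have hy₁₀ : f₂ y₁ y₀ ≠ 0 := by
    rw [h2'.symm y₀ y₁]
    intro h0
    apply hy₀₁
    have := congrArg σ h0
    rwa [hσ2, map_zero] at this
  set S : Set (Fin n → F) := {s | ∃ v y, f₁ v v ≠ 0 ∧ s = tau e P (pt v y)} with hS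
  refine ⟨Cfsg.stabilizing (Cfsg.glToMat _ F) S ⊓
    (Cfsg.GU n F 2 ⊓ Cfsg.Geo.specialLinear (Fin n) F), ?_, ?_⟩
  · apply lt_of_le_of_ne
    · intro g hg
      obtain ⟨hgT, hgΩ⟩ := Subgroup.mem_inf.1 hg
      refine Subgroup.mem_inf.2 ⟨?_, hgΩ⟩
      apply mem_stabilizing_of_mapsTo
      rintro s ⟨v, y, hv, rfl⟩
      obtain ⟨A, B, hAB⟩ := exists_factors e P hgT
      have hsim : ∀ x x' y y', f₁ ((A : Matrix _ _ F) *ᵥ x) ((A : Matrix _ _ F) *ᵥ x') *
          f₂ ((B : Matrix _ _ F) *ᵥ y) ((B : Matrix _ _ F) *ᵥ y') = f₁ x x' * f₂ y y' := by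
        intro x x' y y'
        have h1 : Cfsg.hermForm n F 2 ((g : Matrix _ _ F) *ᵥ tau e P (pt x y))
            ((g : Matrix _ _ F) *ᵥ tau e P (pt x' y')) =
            Cfsg.hermForm n F 2 (tau e P (pt x y)) (tau e P (pt x' y')) := hgΩ.1 _ _
        rw [hAB, hAB, hform, hform] at h1
        exact mul_left_cancel₀ hc h1
      refine ⟨(A : Matrix _ _ F) *ᵥ v, (B : Matrix _ _ F) *ᵥ y, ?_, hAB v y⟩
      intro h0
      have := hsim v v y₀ y₁
      rw [h0, zero_mul] at this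
      exact mul_ne_zero hv hy₀₁ this.symm
    · intro heq
      have hu : Cfsg.hermForm n F 2 (tau e P (pt a y₁)) (tau e P (pt a y₁)) = 0 := by
        rw [hform, hy₁]; ring
      obtain ⟨g, hgΩ, hg⟩ := exists_su_transvection hF (tau e P (pt a y₁)) hu
      have hmaps : ∀ y, (g : Matrix _ _ F) *ᵥ tau e P (pt a y) =
          tau e P (pt a (y + (c * (1 * f₂ y y₁)) • y₁)) := by
        intro y
        rw [hg, hform, haa, pt_add_right, pt_smul_right, tau_add, tau_smul]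
      have hfix : ∀ y, (g : Matrix _ _ F) *ᵥ tau e P (pt a' y) = tau e P (pt a' y) := by
        intro y
        rw [hg, hform, ha'a]
        simp
      have hgK : g ∈ Cfsg.stabilizing (Cfsg.glToMat _ F) S ⊓
          (Cfsg.GU n F 2 ⊓ Cfsg.Geo.specialLinear (Fin n) F) := by
        refine Subgroup.mem_inf.2 ⟨?_, hgΩ⟩
        apply mem_stabilizing_of_mapsTo
        rintro s ⟨v, y, hv, rfl⟩
        rcases hstr v hv with ⟨l, rfl⟩ | ⟨l, rfl⟩
        · have : pt (l • a) y = pt a (l • y) := by rw [pt_smul_left, pt_smul_right]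
          show (g : Matrix (Fin n) (Fin n) F) *ᵥ _ ∈ S
          rw [this, hmaps]
          exact ⟨_, _, by rw [haa]; exact one_ne_zero, rfl⟩
        · have : pt (l • a') y = pt a' (l • y) := by rw [pt_smul_left, pt_smul_right]
          show (g : Matrix (Fin n) (Fin n) F) *ᵥ _ ∈ S
          rw [this, hfix]
          exact ⟨_, _, by rw [ha'a']; exact one_ne_zero, rfl⟩
      rw [← heq] at hgK
      obtain ⟨A, B, hAB⟩ := exists_factors e P (Subgroup.mem_inf.1 hgK).1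
      set κ := c * (1 * f₂ y₀ y₁) with hκ
      have hκ0 : κ ≠ 0 := mul_ne_zero hc (mul_ne_zero one_ne_zero hy₀₁)
      have hne : y₀ + κ • y₁ ≠ 0 := by
        intro h0
        have : f₂ (y₀ + κ • y₁) y₁ = 0 := by
          rw [h0]
          have := hf₂.smul_left 0 0 y₁
          simpa using this
        rw [hf₂.add_left, hf₂.smul_left, hy₁, mul_zero, add_zero] at this
        exact hy₀₁ this
      have t1 : pt ((A : Matrix _ _ F) *ᵥ a') ((B : Matrix _ _ F) *ᵥ y₀) = pt a' y₀ := by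
        apply tau_injective e P
        rw [← hAB]
        exact hfix y₀
      have t2 : pt ((A : Matrix _ _ F) *ᵥ a) ((B : Matrix _ _ F) *ᵥ y₀) =
          pt a (y₀ + κ • y₁) := by
        apply tau_injective e P
        rw [← hAB]
        exact hmaps y₀
      obtain ⟨μ₁, hμ₁, -, a1⟩ := pt_eq ha'0 hy₀0 t1
      obtain ⟨μ₂, hμ₂, -, a2⟩ := pt_eq ha0 hne t2
      have h5 : f₂ ((B : Matrix _ _ F) *ᵥ y₀) y₁ = μ₁⁻¹ * f₂ y₀ y₁ := by
        rw [a1, hf₂.smul_left]
      have h6 : f₂ ((B : Matrix _ _ F) *ᵥ y₀) y₁ = μ₂⁻¹ * f₂ y₀ y₁ := by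
        rw [a2, hf₂.smul_left, hf₂.add_left, hf₂.smul_left, hy₁, mul_zero, add_zero]
      have h7 : μ₁⁻¹ = μ₂⁻¹ := by
        apply mul_right_cancel₀ hy₀₁
        rw [← h5, h6]
      rw [h7] at a1
      have h8 : μ₂⁻¹ • y₀ = μ₂⁻¹ • (y₀ + κ • y₁) := by rw [← a1, a2]
      have h9 : y₀ = y₀ + κ • y₁ := by
        have := congrArg (fun z => μ₂ • z) h8
        simpa [smul_smul, hμ₂] using this
      have h10 : κ • y₁ = 0 := by
        have := congrArg (fun z => z - y₀) h9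
        simpa using this.symm
      rcases smul_eq_zero.1 h10 with h | h
      · exact hκ0 h
      · exact hy₁0 h
  · apply lt_of_le_of_ne inf_le_right
    intro heq
    have hu : Cfsg.hermForm n F 2 (tau e P (pt (a + a') y₁)) (tau e P (pt (a + a') y₁)) = 0 := by
      rw [hform, hy₁]; ring
    obtain ⟨g, hgΩ, hg⟩ := exists_su_transvection hF (tau e P (pt (a + a') y₁)) hu
    rw [← heq] at hgΩ
    have hgS := (Subgroup.mem_inf.1 hgΩ).1
    have hin : tau e P (pt a y₀) ∈ S := ⟨a, y₀, by rw [haa]; exact one_ne_zero, rfl⟩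
    have hout : (g : Matrix (Fin n) (Fin n) F) *ᵥ tau e P (pt a y₀) ∈ S := (hgS _).1 hin
    set κ := c * f₂ y₀ y₁ with hκ
    have hκ0 : κ ≠ 0 := mul_ne_zero hc hy₀₁
    have hval : (g : Matrix (Fin n) (Fin n) F) *ᵥ tau e P (pt a y₀) =
        tau e P (pt a y₀) + κ • tau e P (pt (a + a') y₁) := by
      rw [hg, hform, h1.add_right, haa, haa', add_zero, one_mul]
    rw [hval] at hout
    obtain ⟨v', y', -, hxv⟩ := hout
    -- contract with `a ⊗ z` and `a' ⊗ z` on the right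
    have c1 : ∀ z, f₂ y₀ z + κ * f₂ y₁ z = f₁ v' a * f₂ y' z := by
      intro z
      have e1 := congrArg (fun w => Cfsg.hermForm n F 2 w (tau e P (pt a z))) hxv
      rw [h.add_left, h.smul_left, hform, hform, hform, h1.add_left, haa, ha'a, add_zero] at e1
      apply mul_left_cancel₀ hc
      linear_combination e1
    have c2 : ∀ z, κ * f₂ y₁ z = f₁ v' a' * f₂ y' z := by
      intro z
      have e1 := congrArg (fun w => Cfsg.hermForm n F 2 w (tau e P (pt a' z))) hxv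
      rw [h.add_left, h.smul_left, hform, hform, hform, h1.add_left, haa', ha'a', zero_add] at e1
      apply mul_left_cancel₀ hc
      linear_combination e1
    have e1 := c1 y₁
    have e2 := c2 y₁
    rw [hy₁, mul_zero] at e2
    rw [hy₁, mul_zero, add_zero] at e1
    have e3 : f₂ y' y₁ ≠ 0 := by
      intro h0
      rw [h0, mul_zero] at e1
      exact hy₀₁ e1
    have e4 : f₁ v' a' = 0 := by
      rcases mul_eq_zero.1 e2.symm with h | h
      · exact h
      · exact absurd h e3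
    have e5 := c2 y₀
    rw [e4, zero_mul] at e5
    exact mul_ne_zero hκ0 hy₁₀ e5

end Cfsg.Agent.H9Tens
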