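import Mathlib
import Cfsg.Agent.Lib.Helper9.TensF2b

set_option autoImplicit false

/-!
# The tensor product stabilizer `GL₂(2) ⊗ GL_m(2)` is not maximal: witnesses
-/

namespace Cfsg.Agent.H9TF2

open Matrix
open scoped Kronecker

variable {F : Type*} [Field F] [Fintype F] {m : ℕ}

theorem add_self_eq_zero' (hq : Fintype.card F = 2) {ι : Type} (M : Matrix ι ι F) : M + M = 0 := by
  have h2 := two_eq_zero hq
  ext i j
  rw [Matrix.add_apply, Matrix.zero_apply]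
  calc M i j + M i j = (1 + 1) * M i j := by ring
    _ = 0 := by rw [h2, zero_mul]

theorem W_apply_01 : (W : Matrix (Fin 2) (Fin 2) F) 0 1 = 1 := rfl
theorem W_apply_10 : (W : Matrix (Fin 2) (Fin 2) F) 1 0 = 1 := rfl
theorem W_apply_00 : (W : Matrix (Fin 2) (Fin 2) F) 0 0 = 0 := rfl

theorem WW_apply_00 (hq : Fintype.card F = 2) :
    (W * W : Matrix (Fin 2) (Fin 2) F) 0 0 = 1 := by
  rw [W_sq hq]; rfl

theorem single_sq_zero {ι : Type} [DecidableEq ι] [Fintype ι] (i j : ι) (h : i ≠ j) :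
    Matrix.single i j (1 : F) * Matrix.single i j (1 : F) = 0 := by
  ext a b
  rw [Matrix.mul_apply, Matrix.zero_apply]
  apply Finset.sum_eq_zero
  intro k _
  rw [Matrix.single_apply, Matrix.single_apply]
  by_cases h1 : i = a ∧ j = k
  · have : ¬ (i = k ∧ j = b) := by
      rintro ⟨h2, _⟩
      exact h (h2.trans h1.2.symm)
    rw [if_neg this, mul_zero]
  · rw [if_neg h1, zero_mul]

/-- the `𝔽₄`-transvection `1 + W ⊗ E` -/
def X0 (hq : Fintype.card F = 2) (i₀ i₁ : Fin m) (h : i₀ ≠ i₁) : GL (Fin 2 × Fin m) F :=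
  ⟨1 + (W : Matrix (Fin 2) (Fin 2) F) ⊗ₖ (Matrix.single i₀ i₁ (1 : F)),
    1 + (W : Matrix (Fin 2) (Fin 2) F) ⊗ₖ (Matrix.single i₀ i₁ (1 : F)),
    by
      have hE : (Matrix.single i₀ i₁ (1 : F)) * (Matrix.single i₀ i₁ (1 : F)) = 0 :=
        single_sq_zero i₀ i₁ h
      rw [add_mul, mul_add, mul_add, one_mul, mul_one, one_mul, ← Matrix.mul_kronecker_mul, hE,
        Matrix.kronecker_zero, add_zero, add_assoc, add_self_eq_zero' hq, add_zero],
    by
      have hE : (Matrix.single i₀ i₁ (1 : F)) * (Matrix.single i₀ i₁ (1 : F)) = 0 :=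
        single_sq_zero i₀ i₁ h
      rw [add_mul, mul_add, mul_add, one_mul, mul_one, one_mul, ← Matrix.mul_kronecker_mul, hE,
        Matrix.kronecker_zero, add_zero, add_assoc, add_self_eq_zero' hq, add_zero]⟩

theorem X0_coe (hq : Fintype.card F = 2) (i₀ i₁ : Fin m) (h : i₀ ≠ i₁) :
    ((X0 hq i₀ i₁ h : GL (Fin 2 × Fin m) F) : Matrix (Fin 2 × Fin m) (Fin 2 × Fin m) F) =
      1 + (W : Matrix (Fin 2) (Fin 2) F) ⊗ₖ (Matrix.single i₀ i₁ (1 : F)) := rfl

theorem X0_comm (hq : Fintype.card F = 2) (i₀ i₁ : Fin m) (h : i₀ ≠ i₁) :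
    X0 hq i₀ i₁ h * J0 hq m = J0 hq m * X0 hq i₀ i₁ h := by
  apply Units.ext
  rw [Units.val_mul, Units.val_mul, X0_coe, J0_coe, add_mul, mul_add, one_mul, mul_one,
    ← Matrix.mul_kronecker_mul, ← Matrix.mul_kronecker_mul, mul_one, one_mul]

theorem X0_mem_K0 (hq : Fintype.card F = 2) (i₀ i₁ : Fin m) (h : i₀ ≠ i₁) :
    X0 hq i₀ i₁ h ∈ K0 hq m := by
  have hc := X0_comm hq i₀ i₁ h
  apply mem_K0_of_conj
  · rw [hc, mul_assoc, mul_inv_cancel, mul_one]
    exact Subgroup.mem_zpowers _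
  · have : (X0 hq i₀ i₁ h)⁻¹ * J0 hq m * X0 hq i₀ i₁ h = J0 hq m := by
      rw [mul_assoc, ← hc, ← mul_assoc, inv_mul_cancel, one_mul]
    rw [this]
    exact Subgroup.mem_zpowers _

theorem X0_not_mem_kron (hq : Fintype.card F = 2) (i₀ i₁ : Fin m) (h : i₀ ≠ i₁) :
    X0 hq i₀ i₁ h ∉ Cfsg.Geo.kroneckerSubgroup 2 m F := by
  rintro ⟨a, b, hab⟩
  rw [X0_coe] at hab
  have e1 := congrFun (congrFun hab (0, i₀)) (0, i₀)
  have e2 := congrFun (congrFun hab (0, i₀)) (1, i₀)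
  have e3 := congrFun (congrFun hab (0, i₀)) (1, i₁)
  rw [Matrix.add_apply, Matrix.kroneckerMap_apply, Matrix.kroneckerMap_apply] at e1 e2 e3
  have hE00 : (Matrix.single i₀ i₁ (1 : F)) i₀ i₀ = 0 := by
    rw [Matrix.single_apply]; simp [h.symm]
  have hE01 : (Matrix.single i₀ i₁ (1 : F)) i₀ i₁ = 1 := by
    rw [Matrix.single_apply]; simp
  rw [hE00, mul_zero, add_zero] at e1 e2
  rw [hE01, mul_one, W_apply_01] at e3
  have h1 : ((1 : Matrix (Fin 2 × Fin m) (Fin 2 × Fin m) F) (0, i₀) (0, i₀)) = 1 :=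
    Matrix.one_apply_eq _
  have h2 : ((1 : Matrix (Fin 2 × Fin m) (Fin 2 × Fin m) F) (0, i₀) (1, i₀)) = 0 :=
    Matrix.one_apply_ne (by simp)
  have h3 : ((1 : Matrix (Fin 2 × Fin m) (Fin 2 × Fin m) F) (0, i₀) (1, i₁)) = 0 :=
    Matrix.one_apply_ne (by simp)
  rw [h1] at e1
  rw [h2] at e2
  rw [h3, zero_add] at e3
  have hb : (b : Matrix (Fin m) (Fin m) F) i₀ i₀ ≠ 0 := by
    intro hb0
    rw [hb0, mul_zero] at e1
    exact one_ne_zero e1
  have ha : (a : Matrix (Fin 2) (Fin 2) F) 0 1 = 0 := by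
    rcases mul_eq_zero.mp e2.symm with h' | h'
    · exact h'
    · exact absurd h' hb
  rw [ha, zero_mul] at e3
  exact one_ne_zero e3

/-- an `𝔽₂`-transvection -/
def Y0 (hq : Fintype.card F = 2) (i₀ : Fin m) : GL (Fin 2 × Fin m) F :=
  ⟨1 + Matrix.single ((0 : Fin 2), i₀) ((1 : Fin 2), i₀) (1 : F),
    1 + Matrix.single ((0 : Fin 2), i₀) ((1 : Fin 2), i₀) (1 : F),
    by
      have hE : Matrix.single ((0 : Fin 2), i₀) ((1 : Fin 2), i₀) (1 : F) *
          Matrix.single ((0 : Fin 2), i₀) ((1 : Fin 2), i₀) (1 : F) = 0 :=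
        single_sq_zero _ _ (by simp)
      rw [add_mul, mul_add, mul_add, one_mul, mul_one, one_mul, hE, add_zero, add_assoc,
        add_self_eq_zero' hq, add_zero],
    by
      have hE : Matrix.single ((0 : Fin 2), i₀) ((1 : Fin 2), i₀) (1 : F) *
          Matrix.single ((0 : Fin 2), i₀) ((1 : Fin 2), i₀) (1 : F) = 0 :=
        single_sq_zero _ _ (by simp)
      rw [add_mul, mul_add, mul_add, one_mul, mul_one, one_mul, hE, add_zero, add_assoc,
        add_self_eq_zero' hq, add_zero]⟩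

theorem Y0_coe (hq : Fintype.card F = 2) (i₀ : Fin m) :
    ((Y0 hq i₀ : GL (Fin 2 × Fin m) F) : Matrix (Fin 2 × Fin m) (Fin 2 × Fin m) F) =
      1 + Matrix.single ((0 : Fin 2), i₀) ((1 : Fin 2), i₀) (1 : F) := rfl

theorem Y0_not_mem_K0 (hq : Fintype.card F = 2) (i₀ i₁ : Fin m) (h : i₀ ≠ i₁) :
    Y0 hq i₀ ∉ K0 hq m := by
  intro hY
  unfold K0 at hY
  rw [Subgroup.mem_normalizer_iff] at hY
  have h1 := (hY (J0 hq m)).mp (Subgroup.mem_zpowers _)
  obtain ⟨E, hE⟩ : ∃ E : Matrix (Fin 2 × Fin m) (Fin 2 × Fin m) F,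
      E = Matrix.single ((0 : Fin 2), i₀) ((1 : Fin 2), i₀) (1 : F) := ⟨_, rfl⟩
  -- the three cases
  have key : ∀ Z : GL (Fin 2 × Fin m) F, Y0 hq i₀ * J0 hq m * (Y0 hq i₀)⁻¹ = Z →
      (W : Matrix (Fin 2) (Fin 2) F) ⊗ₖ (1 : Matrix (Fin m) (Fin m) F) +
        E * ((W : Matrix (Fin 2) (Fin 2) F) ⊗ₖ (1 : Matrix (Fin m) (Fin m) F)) =
      (Z : Matrix (Fin 2 × Fin m) (Fin 2 × Fin m) F) +
        (Z : Matrix (Fin 2 × Fin m) (Fin 2 × Fin m) F) * E := by
    intro Z hZ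
    have h2 : Y0 hq i₀ * J0 hq m = Z * Y0 hq i₀ := by
      rw [← hZ, inv_mul_cancel_right]
    have h3 := congrArg (fun g : GL (Fin 2 × Fin m) F =>
      (g : Matrix (Fin 2 × Fin m) (Fin 2 × Fin m) F)) h2
    simp only [Units.val_mul, Y0_coe, J0_coe] at h3
    rw [add_mul, one_mul, mul_add, mul_one, ← hE] at h3
    exact h3
  rcases mem_zpowers_J0 hq _ h1 with hZ | hZ | hZ
  · have e := key _ hZ
    have e1 := congrFun (congrFun e (0, i₁)) (1, i₁)
    rw [Units.val_one, one_mul, Matrix.add_apply, Matrix.add_apply, Matrix.kroneckerMap_apply,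
      W_apply_01, Matrix.one_apply_eq, mul_one, hE,
      Matrix.single_mul_apply_of_ne _ _ _ _ _ (by simp [h.symm]),
      Matrix.one_apply_ne (by simp), Matrix.single_apply] at e1
    simp at e1
    exact h e1
  · have e := key _ hZ
    have e1 := congrFun (congrFun e (0, i₀)) (0, i₀)
    rw [J0_coe, Matrix.add_apply, Matrix.add_apply, hE, Matrix.single_mul_apply_same,
      Matrix.mul_single_apply_of_ne _ _ _ _ _ (by simp), Matrix.kroneckerMap_apply,
      Matrix.kroneckerMap_apply, W_apply_10, W_apply_00, Matrix.one_apply_eq] at e1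
    simp at e1
  · have e := key _ hZ
    have e1 := congrFun (congrFun e (0, i₁)) (0, i₁)
    rw [J0_sq_coe, Matrix.add_apply, Matrix.add_apply, hE,
      Matrix.single_mul_apply_of_ne _ _ _ _ _ (by simp [h.symm]),
      Matrix.mul_single_apply_of_ne _ _ _ _ _ (by simp), Matrix.kroneckerMap_apply,
      Matrix.kroneckerMap_apply, W_apply_00, WW_apply_00 hq, Matrix.one_apply_eq] at e1
    simp at e1

end Cfsg.Agent.H9TF2
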