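import Mathlib
import Cfsg.Agent.Lib.Helper9.TensK1
import Cfsg.Agent.Lib.Helper9.GSpInv4

set_option autoImplicit false
open scoped MatrixGroups Kronecker

/-! Elements with scalar square as Kronecker products with a two-dimensional factor. -/

namespace Cfsg.Agent.Lib.Helper9.H9TK

open Module Matrix
open Cfsg.Agent.H9SemiInv
open Cfsg.Agent.Lib.Helper9.H9Elus
open Cfsg.Agent.Lib.Helper9.H9GSpInv

section split
universe u
variable {F : Type u} [Field F] {V : Type u} [AddCommGroup V] [Module F V] [FiniteDimensional F V]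

theorem injective_of_sq_eq (c : F) (hc : c ≠ 0) (t : V →ₗ[F] V) (ht : t ^ 2 = c • 1) :
    Function.Injective t := by
  rw [← LinearMap.ker_eq_bot, LinearMap.ker_eq_bot']
  intro v hv
  have := congrArg (fun g : V →ₗ[F] V => g v) ht
  simp only [pow_two, Module.End.mul_apply, hv, map_zero, LinearMap.smul_apply,
    Module.End.one_apply] at this
  exact (smul_eq_zero.mp this.symm).resolve_left hc

/-- Both eigenspaces even-dimensional: a Kronecker product `1 ⊗ h`. -/
theorem isKron_of_sq_eq (d : F) (t : V →ₗ[F] V) (hd : d ≠ 0) (h2 : (2 : F) ≠ 0)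
    (ht : t ^ 2 = (d ^ 2) • 1) (k₁ k₂ : ℕ)
    (hp : finrank F (LinearMap.ker (t - d • 1)) = 2 * k₁)
    (hm : finrank F (LinearMap.ker (t - (-d) • 1)) = 2 * k₂) : IsKron 2 (k₁ + k₂) t := by
  have hc := isCompl_eigen d t hd h2 ht
  have h1 : IsRep 2 (d • (1 : (Fin k₁ → F) →ₗ[F] (Fin k₁ → F)))
      (t.restrict (inv_ker_sub t d)) := by
    rw [restrict_ker_sub]
    exact isRep_smul hp d
  have h3 : IsRep 2 ((-d) • (1 : (Fin k₂ → F) →ₗ[F] (Fin k₂ → F)))
      (t.restrict (inv_ker_sub t (-d))) := by
    rw [restrict_ker_sub]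
    exact isRep_smul hm (-d)
  have h4 := IsRep.of_isCompl _ _ hc (inv_ker_sub t d) (inv_ker_sub t (-d)) h1 h3
  apply isKron_of_isRep h4
  · rw [Module.finrank_prod, Module.finrank_fin_fun, Module.finrank_fin_fun]
  · exact h4.injective (by norm_num) (injective_of_sq_eq (d ^ 2) (pow_ne_zero 2 hd) t ht)

end split

section irred
universe u
variable {F : Type u} [Field F]

/-- The companion matrix of `X ^ 2 - z`. -/
def compMat (z : F) : Matrix (Fin 2) (Fin 2) F := !![0, z; 1, 0]

/-- On a plane, an element with non-square scalar square is the companion matrix. -/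
theorem exists_plane_equiv {W : Type u} [AddCommGroup W] [Module F W] [FiniteDimensional F W]
    (z : F) (hz : ∀ b : F, b ^ 2 ≠ z) (s : W →ₗ[F] W) (hs : s ^ 2 = z • 1)
    (hW : finrank F W = 2) :
    ∃ φ : W ≃ₗ[F] (Fin 2 → F), ∀ w, φ (s w) = Matrix.toLin' (compMat z) (φ w) := by
  haveI : Nontrivial W := Module.finrank_pos_iff.mp (by rw [hW]; norm_num)
  obtain ⟨v, hv⟩ := exists_ne (0 : W)
  have hss : ∀ w, s (s w) = z • w := by
    intro w
    have := congrArg (fun g : W →ₗ[F] W => g w) hs
    simpa [pow_two, Module.End.mul_apply] using this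
  have hli : LinearIndependent F ![v, s v] := by
    rw [LinearIndependent.pair_iff]
    intro α β h
    have h1 : (α ^ 2 - β ^ 2 * z) • v = 0 := by
      have e : (α ^ 2 - β ^ 2 * z) • v = α • (α • v + β • s v) - β • s (α • v + β • s v) := by
        simp only [map_add, map_smul, hss]
        module
      rw [e, h]
      simp
    have h3 : α ^ 2 - β ^ 2 * z = 0 := (smul_eq_zero.mp h1).resolve_right hv
    have hβ : β = 0 := by
      by_contra hβ
      apply hz (α / β)
      field_simp
      linear_combination h3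
    subst hβ
    refine ⟨?_, rfl⟩
    rw [zero_smul, add_zero] at h
    exact (smul_eq_zero.mp h).resolve_right hv
  let bas : Basis (Fin 2) F W := basisOfLinearIndependentOfCardEqFinrank hli (by rw [hW]; rfl)
  have hb0 : bas 0 = v := by
    simp [bas]
  have hb1 : bas 1 = s v := by
    simp [bas]
  refine ⟨bas.equivFun, ?_⟩
  have key : (bas.equivFun : W →ₗ[F] (Fin 2 → F)) ∘ₗ s =
      Matrix.toLin' (compMat z) ∘ₗ (bas.equivFun : W →ₗ[F] (Fin 2 → F)) := by
    apply bas.ext
    intro i
    fin_cases i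
    · simp only [Fin.zero_eta, LinearMap.comp_apply, LinearEquiv.coe_coe, hb0]
      rw [← hb1, ← hb0, Matrix.toLin'_apply]
      funext j
      rw [Basis.equivFun_self]
      fin_cases j <;>
        simp [compMat, Matrix.mulVec, dotProduct, Fin.sum_univ_two, Basis.equivFun_self]
    · simp only [Fin.mk_one, LinearMap.comp_apply, LinearEquiv.coe_coe, hb1, hss]
      rw [← hb1, ← hb0, map_smul, Matrix.toLin'_apply]
      funext j
      rw [Pi.smul_apply, Basis.equivFun_self]
      fin_cases j <;>
        simp [compMat, Matrix.mulVec, dotProduct, Fin.sum_univ_two, Basis.equivFun_self]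
  intro w
  exact congrArg (fun g : W →ₗ[F] (Fin 2 → F) => g w) key

theorem isRep_irred_aux (z : F) (hz : ∀ b : F, b ^ 2 ≠ z) :
    ∀ (b : ℕ) (V : Type u) [AddCommGroup V] [Module F V] [FiniteDimensional F V]
      (t : V →ₗ[F] V), t ^ 2 = z • 1 → finrank F V = 2 * b →
        IsRep b (Matrix.toLin' (compMat z)) t := by
  intro b
  induction b with
  | zero =>
    intro V _ _ _ t ht hV
    haveI : Subsingleton V := Module.finrank_zero_iff.mp (by simpa using hV)
    exact isRep_zero _ _
  | succ b ih =>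
    intro V _ _ _ t ht hV
    have hpos : 0 < finrank F V := by omega
    haveI : Nontrivial V := Module.finrank_pos_iff.mp hpos
    obtain ⟨Z, -, hZ, hZ2⟩ := hmin_of_pow_eq_smul 2 Nat.prime_two z hz t ht ⊤
      (fun x _ => Submodule.mem_top) top_ne_bot
    have hss := isSemisimple_of_pow_eq_smul 2 Nat.prime_two z hz t ht
    obtain ⟨C, hCmem, hZC⟩ :=
      (Module.End.isSemisimple_iff.mp hss) Z ((inv_iff_mem t Z).mp hZ)
    have hC : Inv t C := (inv_iff_mem t C).mpr hCmem
    have hfr := Submodule.finrank_add_eq_of_isCompl hZC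
    have hCk : finrank F C = 2 * b := by omega
    obtain ⟨φ, hφ⟩ := exists_plane_equiv z hz (t.restrict hZ)
      (pow_restrict_eq_smul 2 z t ht Z hZ) hZ2
    exact IsRep.cons_of_isCompl Z C hZC hZ hC φ hφ
      (ih C (t.restrict hC) (pow_restrict_eq_smul 2 z t ht C hC) hCk)

theorem compMat_injective (z : F) (hz0 : z ≠ 0) :
    Function.Injective (Matrix.toLin' (compMat z)) := by
  rw [← LinearMap.ker_eq_bot, LinearMap.ker_eq_bot']
  intro w hw
  rw [Matrix.toLin'_apply] at hw
  have h0 := congrFun hw 0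
  have h1 := congrFun hw 1
  simp [compMat, Matrix.mulVec, dotProduct, Fin.sum_univ_two] at h0 h1
  funext j
  fin_cases j
  · exact h1
  · exact h0.resolve_left hz0

/-- Non-square scalar square: a Kronecker product `C ⊗ 1`. -/
theorem isKron_of_irred {V : Type u} [AddCommGroup V] [Module F V] [FiniteDimensional F V]
    (z : F) (hz : ∀ b : F, b ^ 2 ≠ z) (hz0 : z ≠ 0) (t : V →ₗ[F] V) (ht : t ^ 2 = z • 1)
    (b : ℕ) (hV : finrank F V = 2 * b) : IsKron 2 b t := by
  have h := isRep_irred_aux z hz b V t ht hV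
  exact (isKron_of_isRep h (by simp) (compMat_injective z hz0)).swap

end irred

end Cfsg.Agent.Lib.Helper9.H9TK
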