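import Mathlib
import Cfsg.Agent.Lib.Helper9.TensK4
import Cfsg.Agent.Lib.Helper9.GSpInv5

set_option autoImplicit false
open scoped MatrixGroups Kronecker

/-! Models: elements of prime order with a large eigenspace. -/

namespace Cfsg.Agent.Lib.Helper9.H9TK

open Module Matrix
open Cfsg.Agent.H9SemiInv
open Cfsg.Agent.Lib.Helper9.H9Elus
open Cfsg.Agent.Lib.Helper9.H9GSpInv

section coords
variable {F : Type*} [Field F] {n : ℕ}

/-- A map killing every vector supported off `S` has kernel of codimension at most `|S|`. -/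
theorem le_finrank_ker_add_card (T : (Fin n → F) →ₗ[F] (Fin n → F)) (S : Finset (Fin n))
    (h : ∀ v : Fin n → F, (∀ k ∈ S, v k = 0) → T v = 0) :
    n ≤ finrank F (LinearMap.ker T) + S.card := by
  set π : (Fin n → F) →ₗ[F] (S → F) := LinearMap.funLeft F F (Subtype.val : S → Fin n) with hπ
  have h1 : LinearMap.ker π ≤ LinearMap.ker T := by
    intro v hv
    rw [LinearMap.mem_ker] at hv ⊢
    apply h
    intro k hk
    exact congrFun hv ⟨k, hk⟩
  have h2 := LinearMap.finrank_range_add_finrank_ker π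
  rw [Module.finrank_fin_fun] at h2
  have h3 : finrank F (LinearMap.range π) ≤ S.card := by
    have := Submodule.finrank_le (LinearMap.range π)
    rwa [Module.finrank_fintype_fun_eq_card, Fintype.card_coe] at this
  have h4 := Submodule.finrank_mono h1
  omega

/-! ### transvections -/

theorem transvection_pow (i₀ i₁ : Fin n) (h01 : i₀ ≠ i₁) (c : F) (k : ℕ) :
    (Matrix.transvection i₀ i₁ c) ^ k = Matrix.transvection i₀ i₁ (k • c) := by
  induction k with
  | zero => simp
  | succ k ih =>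
    rw [pow_succ, ih, Matrix.transvection_mul_transvection_same i₀ i₁ h01, succ_nsmul]

theorem transvection_pow_char (p : ℕ) [CharP F p] (i₀ i₁ : Fin n) (h01 : i₀ ≠ i₁) :
    (Matrix.transvection i₀ i₁ (1 : F)) ^ p = 1 := by
  rw [transvection_pow i₀ i₁ h01, nsmul_eq_mul, mul_one, CharP.cast_eq_zero,
    Matrix.transvection_zero]

theorem transvection_ne_smul (i₀ i₁ : Fin n) (h01 : i₀ ≠ i₁) (z : F) :
    Matrix.transvection i₀ i₁ (1 : F) ≠ z • (1 : Matrix (Fin n) (Fin n) F) := by
  intro h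
  have := congrFun (congrFun h i₀) i₁
  simp [Matrix.transvection, Matrix.one_apply_ne h01] at this

theorem transvection_fixed (i₀ i₁ : Fin n) :
    n ≤ finrank F (LinearMap.ker (Matrix.toLin' (Matrix.transvection i₀ i₁ (1 : F)) -
      (1 : F) • (1 : (Fin n → F) →ₗ[F] (Fin n → F)))) + 1 := by
  have := le_finrank_ker_add_card (Matrix.toLin' (Matrix.transvection i₀ i₁ (1 : F)) -
      (1 : F) • (1 : (Fin n → F) →ₗ[F] (Fin n → F))) {i₁} (by
    intro v hv
    have hv1 : v i₁ = 0 := hv i₁ (Finset.mem_singleton_self _)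
    rw [LinearMap.sub_apply, Matrix.toLin'_apply, Matrix.transvection, Matrix.add_mulVec,
      Matrix.one_mulVec, one_smul, Module.End.one_apply, add_sub_cancel_left]
    funext k
    simp only [Matrix.mulVec, dotProduct, Matrix.single_apply, Pi.zero_apply]
    apply Finset.sum_eq_zero
    intro j _
    by_cases hj : i₀ = k ∧ i₁ = j
    · rw [if_pos hj, ← hj.2, hv1, mul_zero]
    · rw [if_neg hj, zero_mul])
  simpa using this

/-! ### diagonal elements with two non-trivial entries -/

/-- The diagonal entries `α` at `i₀`, `β` at `i₁`, and `1` elsewhere. -/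
def dvec (α β : F) (i₀ i₁ : Fin n) : Fin n → F :=
  fun k => (if k = i₀ then α else 1) * (if k = i₁ then β else 1)

theorem dvec_left (α β : F) (i₀ i₁ : Fin n) (h01 : i₀ ≠ i₁) : dvec α β i₀ i₁ i₀ = α := by
  simp [dvec, h01]

theorem dvec_right (α β : F) (i₀ i₁ : Fin n) (h01 : i₀ ≠ i₁) : dvec α β i₀ i₁ i₁ = β := by
  simp [dvec, h01.symm]

theorem dvec_other (α β : F) (i₀ i₁ k : Fin n) (h0 : k ≠ i₀) (h1 : k ≠ i₁) :
    dvec α β i₀ i₁ k = 1 := by
  simp [dvec, h0, h1]

theorem det_diagonal_dvec (α β : F) (i₀ i₁ : Fin n) :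
    (Matrix.diagonal (dvec α β i₀ i₁)).det = α * β := by
  rw [Matrix.det_diagonal]
  unfold dvec
  rw [Finset.prod_mul_distrib]
  simp

theorem diagonal_dvec_pow (α β : F) (i₀ i₁ : Fin n) (r : ℕ) (hα : α ^ r = 1) (hβ : β ^ r = 1) :
    (Matrix.diagonal (dvec α β i₀ i₁)) ^ r = 1 := by
  rw [Matrix.diagonal_pow, ← Matrix.diagonal_one]
  congr 1
  funext k
  simp only [Pi.pow_apply, dvec, mul_pow, Pi.one_apply]
  split_ifs <;> simp [hα, hβ]

theorem diagonal_dvec_ne_smul (α β : F) (hα : α ≠ 1) (i₀ i₁ i₂ : Fin n) (h01 : i₀ ≠ i₁)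
    (h02 : i₀ ≠ i₂) (h12 : i₁ ≠ i₂) (z : F) :
    Matrix.diagonal (dvec α β i₀ i₁) ≠ z • (1 : Matrix (Fin n) (Fin n) F) := by
  intro h
  have h0 := congrFun (congrFun h i₀) i₀
  have h2 := congrFun (congrFun h i₂) i₂
  rw [Matrix.diagonal_apply_eq, Matrix.smul_apply, Matrix.one_apply_eq, smul_eq_mul, mul_one]
    at h0 h2
  rw [dvec_left α β i₀ i₁ h01] at h0
  rw [dvec_other α β i₀ i₁ i₂ h02.symm h12.symm] at h2
  exact hα (h0.trans h2.symm)

theorem diagonal_dvec_fixed (α β : F) (i₀ i₁ : Fin n) :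
    n ≤ finrank F (LinearMap.ker (Matrix.toLin' (Matrix.diagonal (dvec α β i₀ i₁)) -
      (1 : F) • (1 : (Fin n → F) →ₗ[F] (Fin n → F)))) + 2 := by
  have := le_finrank_ker_add_card (Matrix.toLin' (Matrix.diagonal (dvec α β i₀ i₁)) -
      (1 : F) • (1 : (Fin n → F) →ₗ[F] (Fin n → F))) {i₀, i₁} (by
    intro v hv
    have hv0 : v i₀ = 0 := hv i₀ (by simp)
    have hv1 : v i₁ = 0 := hv i₁ (by simp)
    rw [LinearMap.sub_apply, Matrix.toLin'_apply, one_smul, Module.End.one_apply]
    funext k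
    rw [Pi.sub_apply, Matrix.mulVec_diagonal, Pi.zero_apply]
    by_cases h0 : k = i₀
    · rw [h0, hv0]; ring
    · by_cases h1 : k = i₁
      · rw [h1, hv1]; ring
      · rw [dvec_other α β i₀ i₁ k h0 h1]; ring)
  have hc : ({i₀, i₁} : Finset (Fin n)).card ≤ 2 := Finset.card_le_two
  omega

/-- The `α`-eigenspace is a line. -/
theorem diagonal_dvec_eigen (α β : F) (hα : α ≠ 1) (hαβ : β ≠ α) (i₀ i₁ : Fin n) (h01 : i₀ ≠ i₁) :
    finrank F (LinearMap.ker (Matrix.toLin' (Matrix.diagonal (dvec α β i₀ i₁)) -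
      α • (1 : (Fin n → F) →ₗ[F] (Fin n → F)))) = 1 := by
  have hker : LinearMap.ker (Matrix.toLin' (Matrix.diagonal (dvec α β i₀ i₁)) -
      α • (1 : (Fin n → F) →ₗ[F] (Fin n → F))) = Submodule.span F {Pi.single i₀ (1 : F)} := by
    apply le_antisymm
    · intro v hv
      rw [LinearMap.mem_ker, LinearMap.sub_apply, Matrix.toLin'_apply, LinearMap.smul_apply,
        Module.End.one_apply] at hv
      rw [Submodule.mem_span_singleton]
      refine ⟨v i₀, ?_⟩
      funext k
      have hk := congrFun hv k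
      rw [Pi.sub_apply, Matrix.mulVec_diagonal, Pi.smul_apply, smul_eq_mul, Pi.zero_apply,
        ← sub_mul] at hk
      rw [Pi.smul_apply, smul_eq_mul]
      by_cases h0 : k = i₀
      · rw [h0]; simp
      · rw [Pi.single_eq_of_ne h0, mul_zero]
        rcases mul_eq_zero.mp hk with h | h
        · exfalso
          by_cases h1 : k = i₁
          · rw [h1, dvec_right α β i₀ i₁ h01, sub_eq_zero] at h
            exact hαβ h
          · rw [dvec_other α β i₀ i₁ k h0 h1, sub_eq_zero] at h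
            exact hα h.symm
        · exact h.symm
    · rw [Submodule.span_singleton_le_iff_mem, LinearMap.mem_ker, LinearMap.sub_apply,
        Matrix.toLin'_apply, LinearMap.smul_apply, Module.End.one_apply]
      funext k
      rw [Pi.sub_apply, Matrix.mulVec_diagonal, Pi.smul_apply, smul_eq_mul, Pi.zero_apply]
      by_cases h0 : k = i₀
      · rw [h0, dvec_left α β i₀ i₁ h01]; ring
      · rw [Pi.single_eq_of_ne h0]; ring
  rw [hker]
  apply finrank_span_singleton
  intro h
  have := congrFun h i₀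
  simp at this

/-! ### scalar multiples of a reflection -/

theorem pseudoRefl_fixed (d : F) (i₀ : Fin n) :
    n ≤ finrank F (LinearMap.ker (Matrix.toLin' (pseudoRefl d i₀) -
      d • (1 : (Fin n → F) →ₗ[F] (Fin n → F)))) + 1 := by
  have := le_finrank_ker_add_card (Matrix.toLin' (pseudoRefl d i₀) -
      d • (1 : (Fin n → F) →ₗ[F] (Fin n → F))) {i₀} (by
    intro v hv
    have hv0 : v i₀ = 0 := hv i₀ (Finset.mem_singleton_self _)
    rw [LinearMap.sub_apply, Matrix.toLin'_apply, pseudoRefl_mulVec, negCoord_of_eq_zero i₀ v hv0,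
      LinearMap.smul_apply, Module.End.one_apply, sub_self])
  simpa using this

end coords

section single
open Polynomial
variable {F : Type*} [Field F] [Fintype F] {p : ℕ} [Fact p.Prime] [CharP F p]

/-- An element of order `r` of `SL_n(F)` with a single non-trivial irreducible block. -/
theorem model_single (r : ℕ) [Fact r.Prime] (hrp : r ≠ p) (n : ℕ)
    (hi : 2 ≤ orderOf ((Fintype.card F : ℕ) : ZMod r))
    (hin : orderOf ((Fintype.card F : ℕ) : ZMod r) ≤ n) :
    ∃ x : Matrix.SpecialLinearGroup (Fin n) F,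
      ((x ^ r : Matrix.SpecialLinearGroup (Fin n) F) : Matrix (Fin n) (Fin n) F) = 1 ∧
      (∀ c' : F, (x : Matrix (Fin n) (Fin n) F) ≠ c' • 1) ∧
      n ≤ finrank F (LinearMap.ker (Matrix.toLin' (x : Matrix (Fin n) (Fin n) F) -
        (1 : F) • (1 : (Fin n → F) →ₗ[F] (Fin n → F)))) +
          orderOf ((Fintype.card F : ℕ) : ZMod r) := by
  classical
  have hr : r.Prime := Fact.out
  set i := orderOf ((Fintype.card F : ℕ) : ZMod r) with hidef
  have hnu : ¬ IsUnit (cyclotomic r F) := by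
    intro hu
    have := natDegree_eq_zero_of_isUnit hu
    rw [natDegree_cyclotomic, Nat.totient_prime hr] at this
    have := hr.two_le
    omega
  obtain ⟨g, hg, hgd⟩ := WfDvdMonoid.exists_irreducible_factor hnu (cyclotomic_ne_zero r F)
  have hgdeg : g.natDegree = i := natDegree_of_dvd_cyclotomic r hrp g hg hgd
  haveI : Fact (Irreducible g) := ⟨hg⟩
  have hg0 : g ≠ 0 := hg.ne_zero
  haveI : FiniteDimensional F (AdjoinRoot g) := (AdjoinRoot.powerBasis hg0).finite
  have hK : finrank F (AdjoinRoot g) = i := by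
    rw [(AdjoinRoot.powerBasis hg0).finrank, AdjoinRoot.powerBasis_dim, hgdeg]
  have hV₀ : finrank F ((Fin (n - i) → F) × AdjoinRoot g) = n := by
    rw [Module.finrank_prod, Module.finrank_fin_fun, hK]
    omega
  have hroot : (AdjoinRoot.root g) ^ r = 1 := by
    have hdvd : g ∣ X ^ r - 1 := by
      rw [← cyclotomic_prime_mul_X_sub_one F r]
      exact Dvd.dvd.mul_right hgd _
    obtain ⟨s, hs⟩ := hdvd
    have h := congrArg (eval₂ (AdjoinRoot.of g) (AdjoinRoot.root g)) hs
    rw [eval₂_mul, AdjoinRoot.eval₂_root, zero_mul, eval₂_sub, eval₂_pow, eval₂_X, eval₂_one,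
      sub_eq_zero] at h
    exact h
  have hrootF : ∀ c' : F, AdjoinRoot.root g ≠ algebraMap F (AdjoinRoot g) c' := by
    intro c' h
    have h1 : AdjoinRoot.mk g X = AdjoinRoot.mk g (C c') := by
      rw [AdjoinRoot.mk_X, AdjoinRoot.mk_C, h, AdjoinRoot.algebraMap_eq]
    rw [AdjoinRoot.mk_eq_mk] at h1
    have h2 := natDegree_le_of_dvd h1 (X_sub_C_ne_zero c')
    rw [natDegree_X_sub_C, hgdeg] at h2
    omega
  let L : AdjoinRoot g →ₗ[F] AdjoinRoot g :=
    Algebra.lsmul F F (AdjoinRoot g) (AdjoinRoot.root g)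
  have hL : L ^ r = 1 := by
    show (Algebra.lsmul F F (AdjoinRoot g) (AdjoinRoot.root g)) ^ r = 1
    rw [← map_pow, hroot, map_one]
  let y₀ : ((Fin (n - i) → F) × AdjoinRoot g) →ₗ[F] ((Fin (n - i) → F) × AdjoinRoot g) :=
    LinearMap.prodMap (1 : (Fin (n - i) → F) →ₗ[F] (Fin (n - i) → F)) L
  have hy₀ : y₀ ^ r = 1 := by
    show (LinearMap.prodMap (1 : (Fin (n - i) → F) →ₗ[F] (Fin (n - i) → F)) L) ^ r = 1
    rw [prodMap_pow', one_pow, hL, LinearMap.prodMap_one]
  have hy₀app : ∀ v, y₀ v = (v.1, AdjoinRoot.root g • v.2) := fun v => rfl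
  have hnd : ¬ r ∣ Fintype.card F - 1 := by
    intro h
    have := (orderOf_eq_one_iff_dvd r (Fintype.card F) Fintype.card_pos).mpr h
    omega
  have hdet₀ : LinearMap.det y₀ = 1 := by
    have h1 : (LinearMap.det y₀) ^ r = 1 := by
      rw [← map_pow, hy₀, map_one]
    have h0 : LinearMap.det y₀ ≠ 0 := by
      intro h
      rw [h, zero_pow hr.ne_zero] at h1
      exact zero_ne_one h1
    have h2 := FiniteField.pow_card_sub_one_eq_one _ h0
    have hcop : Nat.Coprime r (Fintype.card F - 1) := (Nat.Prime.coprime_iff_not_dvd hr).mpr hnd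
    exact (pow_eq_one_iff_of_coprime hcop).mp ⟨h1, h2⟩
  obtain ⟨x, e, hint⟩ := exists_SL_of_det_eq_one n hV₀ y₀ hdet₀
  refine ⟨x, ?_, ?_, ?_⟩
  · rw [Matrix.SpecialLinearGroup.coe_pow]
    have := matrix_eq_smul_of_intertwine _ e (y₀ ^ r) (intertwine_pow _ e y₀ hint r) 1
      (by rw [hy₀, one_smul])
    rw [this, one_smul]
  · intro c' hx
    have h1 := smul_of_matrix_eq_smul _ e y₀ hint c' hx
    have h2 := congrArg (fun f => f ((0 : Fin (n - i) → F), (1 : AdjoinRoot g))) h1
    simp only [hy₀app, LinearMap.smul_apply, Module.End.one_apply] at h2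
    have h3 := congrArg Prod.snd h2
    simp only [Prod.smul_snd, smul_eq_mul, mul_one] at h3
    apply hrootF c'
    rw [h3, Algebra.algebraMap_eq_smul_one]
  · -- the fixed space contains the image of the first factor
    let ψ : (Fin (n - i) → F) →ₗ[F] (Fin n → F) :=
      (e : ((Fin (n - i) → F) × AdjoinRoot g) →ₗ[F] (Fin n → F)) ∘ₗ
        LinearMap.inl F (Fin (n - i) → F) (AdjoinRoot g)
    have hψ : Function.Injective ψ := e.injective.comp LinearMap.inl_injective
    have hle : LinearMap.range ψ ≤ LinearMap.ker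
        (Matrix.toLin' (x : Matrix (Fin n) (Fin n) F) -
          (1 : F) • (1 : (Fin n → F) →ₗ[F] (Fin n → F))) := by
      rintro _ ⟨v, rfl⟩
      rw [LinearMap.mem_ker, LinearMap.sub_apply, one_smul, Module.End.one_apply, sub_eq_zero]
      show Matrix.toLin' (x : Matrix (Fin n) (Fin n) F) (e (v, 0)) = e (v, 0)
      rw [hint, hy₀app, smul_zero]
    have h1 := Submodule.finrank_mono hle
    rw [LinearMap.finrank_range_of_inj hψ, Module.finrank_fin_fun] at h1
    omega

end single

end Cfsg.Agent.Lib.Helper9.H9TK
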