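import Mathlib
import Cfsg.Agent.Lib.Helper9.TensK5
import Cfsg.Agent.Lib.Helper9.TensK2
import Cfsg.Agent.Lib.Helper9.TensK3

set_option autoImplicit false
open scoped MatrixGroups Kronecker

/-! Arithmetic for the tensor row, and the derangement lemmas in matrix form. -/

namespace Cfsg.Agent.Lib.Helper9.H9TK

open Module Matrix
open Cfsg.Agent.H9SemiInv
open Cfsg.Agent.Lib.Helper9.H9Elus
open Cfsg.Agent.Lib.Helper9.H9GSpInv

section arith
variable {F : Type*} [Field F] [Fintype F] {p : ℕ} [Fact p.Prime] [CharP F p]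

/-- A prime `r ≠ p` dividing `|GL_n(q)|` has `ord_r(q) ≤ n`. -/
theorem order_le_of_dvd_card_GL (r : ℕ) [Fact r.Prime] (hrp : r ≠ p) (n : ℕ)
    (hd : r ∣ Nat.card (GL (Fin n) F)) : orderOf ((Fintype.card F : ℕ) : ZMod r) ≤ n := by
  have hr : r.Prime := Fact.out
  have hp : p.Prime := Fact.out
  rw [Matrix.card_GL_field] at hd
  obtain ⟨j, -, hj⟩ := (Prime.dvd_finset_prod_iff (Nat.Prime.prime hr) _).mp hd
  have hjn : (j : ℕ) < n := j.2
  have hq1 : 1 ≤ Fintype.card F := Fintype.card_pos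
  have e1 : Fintype.card F ^ n - Fintype.card F ^ (j : ℕ) =
      Fintype.card F ^ (j : ℕ) * (Fintype.card F ^ (n - j) - 1) := by
    rw [Nat.mul_sub, mul_one, ← pow_add]
    congr 2
    omega
  rw [e1] at hj
  rcases (Nat.Prime.dvd_mul hr).mp hj with h | h
  · exfalso
    have h1 := hr.dvd_of_dvd_pow h
    obtain ⟨f, -, hf⟩ := FiniteField.card F p
    rw [hf] at h1
    have h2 := hr.dvd_of_dvd_pow h1
    exact hrp ((Nat.prime_dvd_prime_iff_eq hr hp).mp h2)
  · have h1 := (orderOf_dvd_iff_dvd r (Fintype.card F) hq1 (n - j)).mpr h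
    have := Nat.le_of_dvd (by omega) h1
    omega

end arith

end Cfsg.Agent.Lib.Helper9.H9TK
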