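import Mathlib
import Cfsg.Prelude.Def_CaseTheorems
import Cfsg.Agent.Lib.Helper8.TetDefs
import Cfsg.Agent.Lib.Helper5.TetBasic
import Cfsg.Agent.S2929

/-!
# S2928 swarm, package P7 = TetSylow: an aligned family of tetrads from the Sylow hypothesis.
Paper proof: notes/S2928_paper_helper8.md, section P7.
-/

set_option autoImplicit false

namespace Cfsg.Agent.Lib.Helper8.Tet

open Equiv Equiv.Perm Subgroup

namespace Syl

/-- the `k`-th point of the `i`-th standard block of four points. -/
def pt (n : ℕ) (i : Fin (n / 4)) (k : ℕ) (hk : k < 4) : Fin n :=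
  ⟨4 * i.val + k, by have := i.2; omega⟩

theorem pt_ne (n : ℕ) (i : Fin (n / 4)) {k l : ℕ} (hk : k < 4) (hl : l < 4) (hkl : k ≠ l) :
    pt n i k hk ≠ pt n i l hl := by
  intro h
  have := congrArg Fin.val h
  simp only [pt] at this
  omega

/-- the `i`-th standard block. -/
def block (n : ℕ) (i : Fin (n / 4)) : Finset (Fin n) :=
  {pt n i 0 (by norm_num), pt n i 1 (by norm_num), pt n i 2 (by norm_num), pt n i 3 (by norm_num)}

theorem mem_block (n : ℕ) (i : Fin (n / 4)) (x : Fin n) : x ∈ block n i ↔ x.val / 4 = i.val := by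
  simp only [block, pt, Finset.mem_insert, Finset.mem_singleton, Fin.ext_iff]
  omega

def d1 (n : ℕ) (i : Fin (n / 4)) : Perm (Fin n) :=
  swap (pt n i 0 (by norm_num)) (pt n i 1 (by norm_num)) *
    swap (pt n i 2 (by norm_num)) (pt n i 3 (by norm_num))

def d2 (n : ℕ) (i : Fin (n / 4)) : Perm (Fin n) :=
  swap (pt n i 0 (by norm_num)) (pt n i 2 (by norm_num)) *
    swap (pt n i 1 (by norm_num)) (pt n i 3 (by norm_num))

def d3 (n : ℕ) (i : Fin (n / 4)) : Perm (Fin n) :=
  swap (pt n i 0 (by norm_num)) (pt n i 3 (by norm_num)) *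
    swap (pt n i 1 (by norm_num)) (pt n i 2 (by norm_num))

/-- `a` is one of the three double transpositions of the `i`-th block. -/
def IsK (n : ℕ) (i : Fin (n / 4)) (a : Perm (Fin n)) : Prop :=
  a = d1 n i ∨ a = d2 n i ∨ a = d3 n i

theorem dt_sq {α : Type*} [DecidableEq α] {a b c d : α} (hac : a ≠ c) (had : a ≠ d)
    (hbc : b ≠ c) (hbd : b ≠ d) : (swap a b * swap c d) ^ 2 = 1 := by
  have hdis : Perm.Disjoint (swap a b) (swap c d) := by
    intro x
    by_cases hx : x = a ∨ x = b
    · right
      rcases hx with rfl | rfl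
      · exact swap_apply_of_ne_of_ne hac had
      · exact swap_apply_of_ne_of_ne hbc hbd
    · left
      push Not at hx
      exact swap_apply_of_ne_of_ne hx.1 hx.2
  rw [hdis.commute.mul_pow, pow_two, pow_two, swap_mul_self, swap_mul_self, one_mul]

theorem dt_fix {α : Type*} [DecidableEq α] {a b c d x : α} (ha : x ≠ a) (hb : x ≠ b)
    (hc : x ≠ c) (hd : x ≠ d) : (swap a b * swap c d) x = x := by
  rw [Perm.mul_apply, swap_apply_of_ne_of_ne hc hd, swap_apply_of_ne_of_ne ha hb]

theorem dt_sign {α : Type*} [DecidableEq α] [Fintype α] {a b c d : α} (hab : a ≠ b)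
    (hcd : c ≠ d) : Perm.sign (swap a b * swap c d) = 1 := by
  rw [Perm.sign_mul, Perm.sign_swap hab, Perm.sign_swap hcd]
  rfl

theorem isK_sq (n : ℕ) (i : Fin (n / 4)) {a : Perm (Fin n)} (ha : IsK n i a) : a ^ 2 = 1 := by
  rcases ha with rfl | rfl | rfl
  · exact dt_sq (pt_ne n i _ _ (by norm_num)) (pt_ne n i _ _ (by norm_num))
      (pt_ne n i _ _ (by norm_num)) (pt_ne n i _ _ (by norm_num))
  · exact dt_sq (pt_ne n i _ _ (by norm_num)) (pt_ne n i _ _ (by norm_num))
      (pt_ne n i _ _ (by norm_num)) (pt_ne n i _ _ (by norm_num))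
  · exact dt_sq (pt_ne n i _ _ (by norm_num)) (pt_ne n i _ _ (by norm_num))
      (pt_ne n i _ _ (by norm_num)) (pt_ne n i _ _ (by norm_num))

theorem isK_mem_alt (n : ℕ) (i : Fin (n / 4)) {a : Perm (Fin n)} (ha : IsK n i a) :
    a ∈ alternatingGroup (Fin n) := by
  rw [Perm.mem_alternatingGroup]
  rcases ha with rfl | rfl | rfl
  · exact dt_sign (pt_ne n i _ _ (by norm_num)) (pt_ne n i _ _ (by norm_num))
  · exact dt_sign (pt_ne n i _ _ (by norm_num)) (pt_ne n i _ _ (by norm_num))
  · exact dt_sign (pt_ne n i _ _ (by norm_num)) (pt_ne n i _ _ (by norm_num))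

theorem isK_fix (n : ℕ) (i : Fin (n / 4)) {a : Perm (Fin n)} (ha : IsK n i a) (x : Fin n)
    (hx : x ∉ block n i) : a x = x := by
  simp only [block, Finset.mem_insert, Finset.mem_singleton, not_or] at hx
  obtain ⟨h0, h1, h2, h3⟩ := hx
  rcases ha with rfl | rfl | rfl
  · exact dt_fix h0 h1 h2 h3
  · exact dt_fix h0 h2 h1 h3
  · exact dt_fix h0 h3 h1 h2

theorem isK_commute_ne (n : ℕ) (i j : Fin (n / 4)) (hij : i ≠ j) {a b : Perm (Fin n)}
    (ha : IsK n i a) (hb : IsK n j b) : Commute a b := by
  apply Perm.Disjoint.commute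
  intro x
  by_cases hx : x ∈ block n i
  · right
    apply isK_fix n j hb
    rw [mem_block] at hx ⊢
    intro h
    exact hij (Fin.ext (hx.symm.trans h))
  · left
    exact isK_fix n i ha x hx

theorem isK_commute_same (n : ℕ) (i : Fin (n / 4)) {a b : Perm (Fin n)}
    (ha : IsK n i a) (hb : IsK n i b) : Commute a b := by
  obtain ⟨h12, h13, h23⟩ := dt_commute (pt_ne n i (k := 0) (l := 1) (by norm_num) (by norm_num)
      (by norm_num)) (pt_ne n i (k := 0) (l := 2) (by norm_num) (by norm_num) (by norm_num))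
    (pt_ne n i (k := 0) (l := 3) (by norm_num) (by norm_num) (by norm_num))
    (pt_ne n i (k := 1) (l := 2) (by norm_num) (by norm_num) (by norm_num))
    (pt_ne n i (k := 1) (l := 3) (by norm_num) (by norm_num) (by norm_num))
    (pt_ne n i (k := 2) (l := 3) (by norm_num) (by norm_num) (by norm_num))
  rcases ha with rfl | rfl | rfl <;> rcases hb with rfl | rfl | rfl
  · exact Commute.refl _
  · exact h12
  · exact h13
  · exact h12.symm
  · exact Commute.refl _
  · exact h23
  · exact h13.symm
  · exact h23.symm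
  · exact Commute.refl _

end Syl

open Syl

theorem exists_aligned (n : ℕ) (H : Subgroup (Perm (Fin n)))
    (P : Sylow 2 ↥(alternatingGroup (Fin n)))
    (hP : (P : Subgroup ↥(alternatingGroup (Fin n))).map (alternatingGroup (Fin n)).subtype ≤ H) :
    ∃ 𝒜 : Finset (Finset (Fin n)), (∀ Q ∈ 𝒜, IsTet H Q) ∧
      (∀ Q ∈ 𝒜, ∀ Q' ∈ 𝒜, Q ≠ Q' → Disjoint Q Q') ∧ 𝒜.card = n / 4 ∧
      (Finset.univ \ 𝒜.biUnion id).card ≤ 3 := by
  classical
  have : Fact (Nat.Prime 2) := ⟨Nat.prime_two⟩
  let S : Set ↥(alternatingGroup (Fin n)) := {s | ∃ i, IsK n i s.1}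
  have hQ : IsPGroup 2 (closure S) := by
    apply Cfsg.Agent.S2929.isPGroup_closure_of_comm
    · rintro x ⟨i, hx⟩ y ⟨j, hy⟩
      have hc : Commute x.1 y.1 := by
        by_cases hij : i = j
        · subst hij; exact isK_commute_same n i hx hy
        · exact isK_commute_ne n i j hij hx hy
      exact Subtype.ext hc
    · rintro x ⟨i, hx⟩
      apply Subtype.ext
      rw [Subgroup.coe_pow, Subgroup.coe_one]
      exact isK_sq n i hx
  obtain ⟨Q, hQ'⟩ := hQ.exists_le_sylow
  obtain ⟨g, hg⟩ := MulAction.exists_smul_eq (↥(alternatingGroup (Fin n))) Q P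
  have hmem : ∀ i a, IsK n i a → g.1 * a * g.1⁻¹ ∈ H := by
    intro i a ha
    have haA : a ∈ alternatingGroup (Fin n) := isK_mem_alt n i ha
    have h1 : g * ⟨a, haA⟩ * g⁻¹ ∈ (P : Subgroup ↥(alternatingGroup (Fin n))) := by
      rw [← hg, Sylow.coe_subgroup_smul, Subgroup.mem_pointwise_smul_iff_inv_smul_mem,
        MulAut.smul_def, MulAut.conj_inv_apply]
      apply hQ'
      have : g⁻¹ * (g * ⟨a, haA⟩ * g⁻¹) * g = ⟨a, haA⟩ := by group
      rw [this]
      exact subset_closure ⟨i, ha⟩
    have h2 := hP (Subgroup.mem_map_of_mem _ h1)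
    simpa using h2
  set G : Perm (Fin n) := g.1 with hG
  let H' : Subgroup (Perm (Fin n)) := H.comap (MulAut.conj G).toMonoidHom
  have hH' : ∀ x, x ∈ H' ↔ G * x * G⁻¹ ∈ H := by
    intro x
    simp [H', Subgroup.mem_comap, MulAut.conj_apply]
  have htet : ∀ i, IsTet H ((block n i).image G) := by
    intro i
    have h1 : IsTet H' (block n i) := by
      apply IsTet.mk' (pt_ne n i (k := 0) (l := 1) (by norm_num) (by norm_num) (by norm_num))
        (pt_ne n i (k := 0) (l := 2) (by norm_num) (by norm_num) (by norm_num))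
        (pt_ne n i (k := 0) (l := 3) (by norm_num) (by norm_num) (by norm_num))
        (pt_ne n i (k := 1) (l := 2) (by norm_num) (by norm_num) (by norm_num))
        (pt_ne n i (k := 1) (l := 3) (by norm_num) (by norm_num) (by norm_num))
        (pt_ne n i (k := 2) (l := 3) (by norm_num) (by norm_num) (by norm_num))
      · rw [hH']; exact hmem i _ (Or.inl rfl)
      · rw [hH']; exact hmem i _ (Or.inr (Or.inl rfl))
      · rw [hH']; exact hmem i _ (Or.inr (Or.inr rfl))
    exact h1.conj G (fun x hx => (hH' x).mp hx)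
  have hbinj : Function.Injective (fun i : Fin (n / 4) => (block n i).image G) := by
    intro i j hij
    have h1 : block n i = block n j := Finset.image_injective G.injective hij
    have h2 : pt n i 0 (by norm_num) ∈ block n j := by
      rw [← h1, mem_block]
      simp only [pt]
      omega
    rw [mem_block] at h2
    simp only [pt] at h2
    apply Fin.ext
    omega
  refine ⟨Finset.univ.image (fun i : Fin (n / 4) => (block n i).image G), ?_, ?_, ?_, ?_⟩
  · intro T hT
    obtain ⟨i, _, rfl⟩ := Finset.mem_image.mp hT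
    exact htet i
  · intro T hT T' hT' hne
    obtain ⟨i, _, rfl⟩ := Finset.mem_image.mp hT
    obtain ⟨j, _, rfl⟩ := Finset.mem_image.mp hT'
    rw [Finset.disjoint_image G.injective, Finset.disjoint_left]
    intro x hxi hxj
    rw [mem_block] at hxi hxj
    have : i = j := Fin.ext (hxi.symm.trans hxj)
    exact hne (by rw [this])
  · rw [Finset.card_image_of_injective _ hbinj, Finset.card_univ, Fintype.card_fin]
  · set U := (Finset.univ.image (fun i : Fin (n / 4) => (block n i).image G)).biUnion id with hU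
    have hsub : (Finset.univ : Finset (Fin (4 * (n / 4)))).image
        (fun k => G (Fin.castLE (by omega) k)) ⊆ U := by
      intro y hy
      obtain ⟨k, _, rfl⟩ := Finset.mem_image.mp hy
      rw [hU, Finset.mem_biUnion]
      have hk : k.val / 4 < n / 4 := by have := k.2; omega
      refine ⟨(block n ⟨k.val / 4, hk⟩).image G, Finset.mem_image_of_mem _ (Finset.mem_univ _), ?_⟩
      simp only [id]
      apply Finset.mem_image_of_mem
      rw [mem_block]
      simp
    have hcard : 4 * (n / 4) ≤ U.card := by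
      have h1 := Finset.card_le_card hsub
      rw [Finset.card_image_of_injective, Finset.card_univ, Fintype.card_fin] at h1
      · exact h1
      · intro k l hkl
        have := G.injective hkl
        exact Fin.castLE_injective _ this
    have h2 : (Finset.univ \ U).card = n - U.card := by
      rw [Finset.card_sdiff_of_subset (Finset.subset_univ _), Finset.card_univ, Fintype.card_fin]
    rw [h2]
    omega

end Cfsg.Agent.Lib.Helper8.Tet
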