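import Mathlib

set_option autoImplicit false

namespace Cfsg.Agent.Lib.Helper9

open scoped BigOperators

section Trace

variable {G M : Type*} [Group G] [CommGroup M] (ρ : G →* MulAut M) (P : Subgroup G)

/-- the fixed points of a subgroup -/
def fixedSub : Subgroup M where
  carrier := {v | ∀ g ∈ P, ρ g v = v}
  one_mem' := fun g _ => map_one _
  mul_mem' := fun {a b} ha hb g hg => by rw [map_mul, ha g hg, hb g hg]
  inv_mem' := fun {a} ha g hg => by rw [map_inv, ha g hg]

theorem mem_fixedSub_iff (v : M) : v ∈ fixedSub ρ P ↔ ∀ g ∈ P, ρ g v = v := Iff.rfl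

variable [Fintype (G ⧸ P)]

/-- the trace (norm) map relative to a subgroup -/
noncomputable def traceHom : M →* M :=
  ∏ q : G ⧸ P, (ρ (Quotient.out q)).toMonoidHom

theorem traceHom_apply (v : M) :
    traceHom ρ P v = ∏ q : G ⧸ P, ρ (Quotient.out q) v := by
  unfold traceHom
  rw [MonoidHom.finset_prod_apply]
  rfl

omit [Fintype (G ⧸ P)] in
theorem out_smul_eq (g : G) (q : G ⧸ P) :
    ∃ h ∈ P, g * Quotient.out q = Quotient.out (g • q) * h := by
  have h1 : ((g * Quotient.out q : G) : G ⧸ P) = g • q := by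
    conv_rhs => rw [← QuotientGroup.out_eq' q]
    rfl
  have h2 : ((Quotient.out (g • q) : G) : G ⧸ P) = g • q := QuotientGroup.out_eq' _
  have h3 : ((Quotient.out (g • q) : G) : G ⧸ P) = ((g * Quotient.out q : G) : G ⧸ P) := by
    rw [h1, h2]
  rw [QuotientGroup.eq] at h3
  exact ⟨_, h3, by group⟩

theorem traceHom_fixed {v : M} (hv : v ∈ fixedSub ρ P) (g : G) :
    ρ g (traceHom ρ P v) = traceHom ρ P v := by
  rw [traceHom_apply, map_prod]
  have h1 : ∀ q : G ⧸ P, ρ g (ρ (Quotient.out q) v) = ρ (Quotient.out (g • q)) v := by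
    intro q
    obtain ⟨h, hh, heq⟩ := out_smul_eq P g q
    rw [← MulAut.mul_apply, ← map_mul, heq, map_mul, MulAut.mul_apply, hv h hh]
  rw [Finset.prod_congr rfl (fun q _ => h1 q)]
  exact Fintype.prod_equiv (MulAction.toPerm g : Equiv.Perm (G ⧸ P)) _ _ (fun q => rfl)

theorem traceHom_of_fixed {v : M} (hv : v ∈ fixedSub ρ ⊤) : traceHom ρ P v = v ^ P.index := by
  rw [traceHom_apply]
  have h1 : ∀ q : G ⧸ P, ρ (Quotient.out q) v = v := fun q => hv _ (Subgroup.mem_top _)
  rw [Finset.prod_congr rfl (fun q _ => h1 q), Finset.prod_const, Finset.card_univ, Subgroup.index,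
    Nat.card_eq_fintype_card]

end Trace

/-- **Trace argument.** If `P ≤ G` has index prime to `p` and the `P`-fixed points form a `p`-group, then the
`G`-fixed points are a direct factor of the `P`-fixed points. -/
theorem exists_fixed_complement {G M : Type*} [Group G] [Finite G] [CommGroup M] (ρ : G →* MulAut M)
    (P : Subgroup G) (p : ℕ) [Fact p.Prime] (hp : ¬ p ∣ P.index)
    (hM : ∀ v ∈ fixedSub ρ P, ∃ k : ℕ, v ^ p ^ k = 1) :
    ∃ K : Subgroup M, K ≤ fixedSub ρ P ∧ fixedSub ρ ⊤ ⊓ K = ⊥ ∧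
      ∀ v ∈ fixedSub ρ P, ∃ u ∈ fixedSub ρ ⊤, ∃ k ∈ K, v = u * k := by
  letI : Fintype (G ⧸ P) := Fintype.ofFinite _
  have hcop : ∀ k : ℕ, Nat.Coprime P.index (p ^ k) := fun k =>
    Nat.Coprime.pow_right k ((Nat.Prime.coprime_iff_not_dvd Fact.out).mpr hp).symm
  have htop_le : fixedSub ρ ⊤ ≤ fixedSub ρ P := fun v hv g _ => hv g (Subgroup.mem_top _)
  refine ⟨fixedSub ρ P ⊓ (traceHom ρ P).ker, inf_le_left, ?_, ?_⟩
  · rw [eq_bot_iff]
    rintro v ⟨hv1, hv2, hv3⟩
    rw [Subgroup.mem_bot]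
    have h1 : v ^ P.index = 1 := by
      rw [← traceHom_of_fixed ρ P hv1]
      exact hv3
    obtain ⟨k, hk⟩ := hM v hv2
    have h2 := pow_gcd_eq_one.mpr ⟨h1, hk⟩
    rw [Nat.Coprime.gcd_eq_one (hcop k), pow_one] at h2
    exact h2
  · intro v hv
    have hw : traceHom ρ P v ∈ fixedSub ρ ⊤ := fun g _ => traceHom_fixed ρ P hv g
    obtain ⟨k, hk⟩ := hM _ (htop_le hw)
    -- an inverse of the index modulo `p ^ k`
    obtain ⟨m', hm'⟩ : ∃ m' : ℕ, (traceHom ρ P v) ^ (P.index * m') = traceHom ρ P v := by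
      have h3 := hcop k
      by_cases hk1 : p ^ k = 1
      · refine ⟨0, ?_⟩
        rw [hk1, pow_one] at hk
        rw [hk, one_pow]
      · have hgt : 1 < p ^ k := by
          have : 0 < p ^ k := pow_pos (Nat.Prime.pos Fact.out) k
          omega
        obtain ⟨m', -, hm'⟩ := Nat.exists_mul_mod_eq_one_of_coprime h3 hgt
        refine ⟨m', ?_⟩
        have h6 : P.index * m' = p ^ k * (P.index * m' / p ^ k) + 1 := by
          have := Nat.div_add_mod (P.index * m') (p ^ k)
          omega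
        rw [h6, pow_add, pow_mul, hk, one_pow, one_mul, pow_one]
    set w := traceHom ρ P v with hwdef
    have hu : w ^ m' ∈ fixedSub ρ ⊤ := Subgroup.pow_mem _ hw m'
    refine ⟨w ^ m', hu, (w ^ m')⁻¹ * v, ⟨?_, ?_⟩, by group⟩
    · exact Subgroup.mul_mem _ (Subgroup.inv_mem _ (htop_le hu)) hv
    · apply MonoidHom.mem_ker.mpr
      rw [map_mul, map_inv, traceHom_of_fixed ρ P hu, ← pow_mul, mul_comm m', hm']
      exact inv_mul_cancel _

end Cfsg.Agent.Lib.Helper9
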