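import Mathlib
import Cfsg.Agent.Lib.Helper9.Trace1
import Cfsg.Agent.Lib.Helper9.Grun1
import Cfsg.Agent.Lib.Helper9.FusionNormal6
import Cfsg.Agent.Lib.Helper9.KNorm3
import Cfsg.Agent.S5145

set_option autoImplicit false
open Cfsg Cfsg.FusionSystem
open scoped IsMulCommutative

namespace Cfsg.Agent.Lib.Helper9

/-- the restriction of automorphisms to the centre, as a homomorphism -/
def centerRes (Q : Type*) [Group Q] : MulAut Q →* MulAut (Subgroup.center Q) where
  toFun α := Subgroup.centerCongr α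
  map_one' := by ext; rfl
  map_mul' α β := by ext; rfl

theorem centerRes_apply (Q : Type*) [Group Q] (α : MulAut Q) (v : Subgroup.center Q) :
    ((centerRes Q α v : Subgroup.center Q) : Q) = α v := rfl

variable {Ω : Type*} [Group Ω] {S : Subgroup Ω}

/-- the action of `Aut_F(Q)` on `Z(Q)` -/
def autCenterRep (F : FusionSystem S) (Q : Subgroup Ω) : ↥(F.autGroup Q) →* MulAut (Subgroup.center Q) :=
  (centerRes Q).comp (F.autGroup Q).subtype

theorem autCenterRep_apply (F : FusionSystem S) (Q : Subgroup Ω) (α : F.autGroup Q) (v : Subgroup.center Q) :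
    (((autCenterRep F Q α v : Subgroup.center Q) : Q) : Ω) = (((α : MulAut Q) (v : Q) : Q) : Ω) := rfl

/-- the inclusion of `Z(Q)` into the ambient group -/
def centerIncl (Q : Subgroup Ω) : Subgroup.center Q →* Ω := Q.subtype.comp (Subgroup.center Q).subtype

theorem centerIncl_injective (Q : Subgroup Ω) : Function.Injective (centerIncl Q) := by
  intro a b h
  exact Subtype.ext (Subtype.ext h)

/-- `Z(S)`, when contained in a subgroup `Q` normal in `S`, is the image of the `Aut_S(Q)`-fixed points of `Z(Q)`. -/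
theorem center_eq_map_fixedSub (F : FusionSystem S) {Q : Subgroup Ω} (hQS : Q ≤ S)
    (hSN : S ≤ Subgroup.normalizer (Q : Set Ω)) (hZ : S ⊓ Subgroup.centralizer (S : Set Ω) ≤ Q) :
    S ⊓ Subgroup.centralizer (S : Set Ω) =
      (fixedSub (M := Subgroup.center Q) (autCenterRep F Q)
        ((autInducedBy S Q).subgroupOf (F.autGroup Q))).map (centerIncl Q) := by
  ext x
  constructor
  · intro hx
    have hxQ : x ∈ Q := hZ hx
    have hxC := Subgroup.mem_centralizer_iff.mp hx.2
    have hc : (⟨x, hxQ⟩ : Q) ∈ Subgroup.center Q := by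
      rw [Subgroup.mem_center_iff]
      intro q
      apply Subtype.ext
      exact hxC q (hQS q.2)
    refine ⟨⟨⟨x, hxQ⟩, hc⟩, ?_, rfl⟩
    intro α hα
    rw [Subgroup.mem_subgroupOf, mem_autInducedBy_iff] at hα
    obtain ⟨g, hg, Hg⟩ := hα
    apply Subtype.ext
    apply Subtype.ext
    rw [autCenterRep_apply, Hg]
    show g * x * g⁻¹ = x
    rw [hxC g hg]
    group
  · rintro ⟨v, hv, rfl⟩
    have hvS : ((v : Q) : Ω) ∈ S := hQS (v : Q).2
    refine ⟨hvS, ?_⟩
    apply Subgroup.mem_centralizer_iff.mpr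
    intro s hs
    have hsN := hSN hs
    have hmem : conjAut Q s hsN ∈ autInducedBy S Q :=
      (mem_autInducedBy_iff S Q _).mpr ⟨s, hs, fun y => rfl⟩
    have hmemA : conjAut Q s hsN ∈ F.autGroup Q := autInducedBy_le_autGroup F hQS hmem
    have h1 := hv ⟨conjAut Q s hsN, hmemA⟩ (by rw [Subgroup.mem_subgroupOf]; exact hmem)
    have h2 : s * ((v : Q) : Ω) * s⁻¹ = ((v : Q) : Ω) := by
      have := congrArg (fun w : Subgroup.center Q => ((w : Q) : Ω)) h1
      exact this
    show s * ((v : Q) : Ω) = ((v : Q) : Ω) * s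
    calc s * ((v : Q) : Ω) = (s * ((v : Q) : Ω) * s⁻¹) * s := by group
      _ = ((v : Q) : Ω) * s := by rw [h2]

end Cfsg.Agent.Lib.Helper9
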