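import Mathlib
import Cfsg.Agent.Lib.Helper9.Trace2
import Cfsg.Agent.Lib.Helper9.FusionAut2
import Cfsg.Agent.S5084
import Cfsg.Agent.S5144

set_option autoImplicit false
open Cfsg Cfsg.FusionSystem
open scoped IsMulCommutative

namespace Cfsg.Agent.Lib.Helper9

variable {Ω : Type*} [Group Ω] {S : Subgroup Ω}

/-- If `Z(S)` lies in a subgroup `Q` normal in the system, the centre of the system is the image of the
`Aut_F(Q)`-fixed points of `Z(Q)`. -/
theorem fcenter_eq_map_fixedSub [Finite S] (p : ℕ) [Fact p.Prime] (hS : IsPGroup p S)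
    (F : FusionSystem S) (hF : F.IsSaturated p) {Q : Subgroup Ω} (hQ : F.IsNormal Q)
    (hZ : S ⊓ Subgroup.centralizer (S : Set Ω) ≤ Q) :
    F.center = (fixedSub (M := Subgroup.center Q) (autCenterRep F Q) ⊤).map (centerIncl Q) := by
  have hQS : Q ≤ S := hQ.1
  have hZc : F.IsCentral F.center := Cfsg.Agent.S5144.result F
  apply le_antisymm
  · intro x hx
    have hxZ : x ∈ S ⊓ Subgroup.centralizer (S : Set Ω) := by
      refine ⟨hZc.1 hx, ?_⟩
      apply Subgroup.mem_centralizer_iff.mpr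
      intro s hs
      exact ((isCentral_comm F hZc hx hs).eq).symm
    have hxQ : x ∈ Q := hZ hxZ
    have hxC := Subgroup.mem_centralizer_iff.mp hxZ.2
    have hc : (⟨x, hxQ⟩ : Q) ∈ Subgroup.center Q := by
      rw [Subgroup.mem_center_iff]
      intro q
      apply Subtype.ext
      exact hxC q (hQS q.2)
    refine ⟨⟨⟨x, hxQ⟩, hc⟩, ?_, rfl⟩
    intro α _
    have hαF : Q.subtype.comp (α : MulAut Q).toMonoidHom ∈ F.Hom Q := (mem_autGroup_iff F hQS _).mp α.2
    have h1 := isCentral_fixes F hZc hαF ⟨x, hxQ⟩ hx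
    apply Subtype.ext
    apply Subtype.ext
    rw [autCenterRep_apply]
    exact h1
  · have hcen : F.IsCentral ((fixedSub (M := Subgroup.center Q) (autCenterRep F Q) ⊤).map (centerIncl Q)) := by
      rw [Cfsg.Agent.S5084.result p hS F hF]
      refine ⟨?_, ?_⟩
      · rintro _ ⟨v, -, rfl⟩
        exact hQS (v : Q).2
      · rintro _ ⟨v, hv, rfl⟩ y ⟨φ, hφ, rfl⟩
        obtain ⟨ψ, hψ, hψφ, hψQ⟩ := hQ.2 _ φ hφ
        have hres := fs_restrict_mem F hψ (le_sup_right : Q ≤ Subgroup.zpowers (centerIncl Q v) ⊔ Q)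
        have hval : ∀ y : Q, (ψ.comp (Subgroup.inclusion le_sup_right)) y ∈ Q := by
          intro y
          exact (le_of_eq hψQ) ⟨Subgroup.inclusion le_sup_right y, y.2, rfl⟩
        obtain ⟨α, hα, Hα⟩ := fs_hom_to_aut F hres hval
        have h1 := hv ⟨α, hα⟩ (Subgroup.mem_top _)
        have h2 : ((α (v : Q) : Q) : Ω) = ((v : Q) : Ω) := by
          have := congrArg (fun w : Subgroup.center Q => ((w : Q) : Ω)) h1
          exact this
        rw [Hα] at h2
        rw [← hψφ]
        exact h2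
    exact le_sSup hcen

end Cfsg.Agent.Lib.Helper9
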