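import Mathlib
import Cfsg.Agent.Lib.Helper9.SUMax1
import Cfsg.Agent.Lib.Helper9.OrthMax2
import Cfsg.Agent.Lib.Helper9.SLOrth4

set_option autoImplicit false

/-!
An orthogonal rational structure on a Hermitian space: a quadratic space `(Fin n → K, Q)` over the
fixed field together with a semilinear embedding `j` such that the Hermitian form restricts to the
polar form of `Q`.  Basic facts.
-/

namespace Cfsg.Agent.H9UOrth

open Module Cfsg.Agent.Lib.Helper2 Cfsg.Agent.Lib.Helper2.UT Cfsg.Agent.Lib.Helper2.IsomDecomp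
  Cfsg.Agent.Lib.Helper2.HermDecomp Cfsg.Agent.Lib.Helper5.PSLCoset Cfsg.Agent.H9SUMax

universe u v w

variable {F : Type v} [Field F] {σ : F ≃+* F} {V : Type u} [AddCommGroup V] [Module F V]
  {H : V → V → F} {K : Type w} [Field K] {φ : K →+* F} {n : ℕ}
  {Q : QuadraticForm K (Fin n → K)} {j : (Fin n → K) →+ V} {θ : F}

/-- an orthogonal rational structure -/
structure OData (σ : F ≃+* F) (H : V → V → F) (φ : K →+* F) (Q : QuadraticForm K (Fin n → K))
    (j : (Fin n → K) →+ V) (θ : F) : Prop where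
  sq : ∀ a : F, σ (σ a) = a
  fix : ∀ a : F, σ a = a → ∃ k, φ k = a
  fixφ : ∀ k, σ (φ k) = φ k
  j_smul : ∀ (k : K) (u : Fin n → K), j (k • u) = φ k • j u
  form : ∀ u v, H (j u) (j v) = φ (QuadraticMap.polar (⇑Q) u v)
  decomp : ∀ x : V, ∃ u v, x = j u + θ • j v
  hθ : σ θ = -θ
  hθ0 : θ ≠ 0
  nd : (QuadraticMap.polarBilin Q).Nondegenerate
  h2 : (2 : K) ≠ 0

namespace OData

variable (R : OData σ H φ Q j θ) (h : IsHerm σ H)
include R

theorem two_ne : (2 : F) ≠ 0 := by
  have h1 : φ 2 ≠ 0 := (map_ne_zero φ).2 R.h2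
  rwa [map_ofNat] at h1

theorem form_symm (u v : Fin n → K) : H (j u) (j v) = H (j v) (j u) := by
  rw [R.form, R.form, QuadraticMap.polar_comm]

theorem form_self (u : Fin n → K) : H (j u) (j u) = 2 * φ (Q u) := by
  rw [R.form, QuadraticMap.polar_self, nsmul_eq_mul, map_mul]
  congr 1
  exact map_ofNat φ 2


include h in
theorem H_left (a b y : Fin n → K) :
    H (j a + θ • j b) (j y) =
      φ (QuadraticMap.polar (⇑Q) a y) + θ * φ (QuadraticMap.polar (⇑Q) b y) := by
  rw [h.add_left, h.smul_left, R.form, R.form]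

include h in
theorem H_right (a b y : Fin n → K) :
    H (j y) (j a + θ • j b) =
      φ (QuadraticMap.polar (⇑Q) y a) - θ * φ (QuadraticMap.polar (⇑Q) y b) := by
  rw [h.add_right, h.smul_right, R.form, R.form, R.hθ]
  ring

theorem indep_one_theta {k l : K} (hkl : φ k + θ * φ l = 0) : k = 0 ∧ l = 0 := by
  have h1 := congrArg σ hkl
  rw [map_add, map_mul, R.fixφ, R.fixφ, R.hθ, map_zero] at h1
  have h2 : (2 : F) * φ k = 0 := by linear_combination hkl + h1
  have h3 : φ k = 0 := by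
    rcases mul_eq_zero.1 h2 with h0 | h0
    · exact absurd h0 R.two_ne
    · exact h0
  have h4 : θ * φ l = 0 := by rw [h3, zero_add] at hkl; exact hkl
  have h5 : φ l = 0 := by
    rcases mul_eq_zero.1 h4 with h0 | h0
    · exact absurd h0 R.hθ0
    · exact h0
  exact ⟨(map_eq_zero φ).1 h3, (map_eq_zero φ).1 h5⟩

theorem indep_one_theta' {k l k' l' : K} (hkl : φ k + θ * φ l = φ k' + θ * φ l') :
    k = k' ∧ l = l' := by
  have h1 : φ (k - k') + θ * φ (l - l') = 0 := by
    rw [map_sub, map_sub]; linear_combination hkl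
  obtain ⟨h2, h3⟩ := R.indep_one_theta h1
  exact ⟨sub_eq_zero.1 h2, sub_eq_zero.1 h3⟩

include h in
theorem uniq {a b : Fin n → K} (hab : j a + θ • j b = 0) : a = 0 ∧ b = 0 := by
  have key : ∀ y, QuadraticMap.polar (⇑Q) a y = 0 ∧ QuadraticMap.polar (⇑Q) b y = 0 := by
    intro y
    have h1 := R.H_left h a b y
    rw [hab, h.zero_left] at h1
    exact R.indep_one_theta h1.symm
  exact ⟨R.nd.1 a (fun y => (key y).1), R.nd.1 b (fun y => (key y).2)⟩

include h in
theorem uniq' {a b c d : Fin n → K} (hab : j a + θ • j b = j c + θ • j d) : a = c ∧ b = d := by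
  have h1 : j (a - c) + θ • j (b - d) = 0 := by
    rw [map_sub, map_sub, smul_sub]
    have : j a - j c + (θ • j b - θ • j d) = (j a + θ • j b) - (j c + θ • j d) := by abel
    rw [this, hab, sub_self]
  obtain ⟨h2, h3⟩ := R.uniq h h1
  exact ⟨sub_eq_zero.1 h2, sub_eq_zero.1 h3⟩

include h in
theorem j_inj {a b : Fin n → K} (hab : j a = j b) : a = b := by
  have h1 : j a + θ • j 0 = j b + θ • j 0 := by rw [hab]
  exact (R.uniq' h h1).1

include h in
theorem j_ne_zero {a : Fin n → K} (ha : a ≠ 0) : j a ≠ 0 := by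
  intro h0
  apply ha
  apply R.j_inj h
  rw [h0, map_zero]

theorem field_decomp (l : F) : ∃ a b : K, l = φ a + θ * φ b := by
  have h2 := R.two_ne
  have hθ0 := R.hθ0
  obtain ⟨a, ha⟩ := R.fix ((l + σ l) / 2) (by
    rw [map_div₀, map_add, R.sq, map_ofNat]; ring)
  obtain ⟨b, hb⟩ := R.fix ((l - σ l) / (2 * θ)) (by
    rw [map_div₀, map_sub, R.sq, map_mul, map_ofNat, R.hθ]
    field_simp
    ring)
  refine ⟨a, b, ?_⟩
  rw [ha, hb]
  field_simp
  ring

theorem trace_zero {c : F} (hc : σ c = -c) : ∃ k : K, c = θ * φ k := by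
  have hθ0 := R.hθ0
  obtain ⟨k, hk⟩ := R.fix (c / θ) (by
    rw [map_div₀, hc, R.hθ]
    field_simp)
  refine ⟨k, ?_⟩
  rw [hk]
  field_simp

theorem sigma_theta_mul (k : K) : σ (θ * φ k) = -(θ * φ k) := by
  rw [map_mul, R.hθ, R.fixφ]
  ring

theorem exists_eps : ∃ ε : K, φ ε = θ * θ ∧ ε ≠ 0 := by
  obtain ⟨ε, hε⟩ := R.fix (θ * θ) (by rw [map_mul, R.hθ]; ring)
  refine ⟨ε, hε, ?_⟩
  intro h0
  rw [h0, map_zero] at hε
  exact mul_ne_zero R.hθ0 R.hθ0 hε.symm

include h in
theorem norm_eq (a b : Fin n → K) :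
    H (j a + θ • j b) (j a + θ • j b) = 2 * (φ (Q a) - θ * θ * φ (Q b)) := by
  rw [h.add_left, h.add_right, h.add_right, h.smul_left, h.smul_left, h.smul_right,
    h.smul_right, R.form_self, R.form_self, R.form_symm b a, R.hθ]
  ring

include h in
theorem j_smul_F (l : F) (v : Fin n → K) :
    ∃ a b : K, l • j v = j (a • v) + θ • j (b • v) := by
  obtain ⟨a, b, hab⟩ := R.field_decomp l
  refine ⟨a, b, ?_⟩
  rw [R.j_smul, R.j_smul, hab, add_smul, mul_smul]

end OData

end Cfsg.Agent.H9UOrth
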