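import Mathlib
import Cfsg.Agent.Lib.Helper9.UOrth1

set_option autoImplicit false

/-!
Orthogonal rational structures: linear independence is preserved by `j`; a pigeonhole lemma.
-/

namespace Cfsg.Agent.H9UOrth

open Module Cfsg.Agent.Lib.Helper2 Cfsg.Agent.Lib.Helper2.UT Cfsg.Agent.Lib.Helper2.IsomDecomp
  Cfsg.Agent.Lib.Helper2.HermDecomp Cfsg.Agent.Lib.Helper5.PSLCoset Cfsg.Agent.H9SUMax

universe u v w

variable {F : Type v} [Field F] {σ : F ≃+* F} {V : Type u} [AddCommGroup V] [Module F V]
  {H : V → V → F} {K : Type w} [Field K] {φ : K →+* F} {n : ℕ}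
  {Q : QuadraticForm K (Fin n → K)} {j : (Fin n → K) →+ V} {θ : F}

namespace OData

variable (R : OData σ H φ Q j θ) (h : IsHerm σ H)
include R h

theorem linIndep_j {ι : Type*} [Fintype ι] {v : ι → (Fin n → K)} (hv : LinearIndependent K v) :
    LinearIndependent F (fun i => j (v i)) := by
  rw [Fintype.linearIndependent_iff]
  intro g hg
  choose a b hab using fun i => R.field_decomp (g i)
  have h1 : ∑ i, g i • j (v i) = j (∑ i, a i • v i) + θ • j (∑ i, b i • v i) := by
    rw [map_sum, map_sum, Finset.smul_sum, ← Finset.sum_add_distrib]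
    apply Finset.sum_congr rfl
    intro i _
    rw [R.j_smul, R.j_smul, hab i, add_smul, mul_smul]
  rw [h1] at hg
  obtain ⟨h2, h3⟩ := R.uniq h hg
  have h4 := Fintype.linearIndependent_iff.1 hv a h2
  have h5 := Fintype.linearIndependent_iff.1 hv b h3
  intro i
  rw [hab i, h4 i, h5 i, map_zero, mul_zero, add_zero]

/-- two `K`-independent rational vectors are `F`-independent -/
theorem indep2 {x z : Fin n → K} (hxz : ∀ s t : K, s • x + t • z = 0 → s = 0 ∧ t = 0)
    {μ ν : F} (hμν : μ • j x + ν • j z = 0) : μ = 0 ∧ ν = 0 := by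
  obtain ⟨a, b, hab⟩ := R.field_decomp μ
  obtain ⟨c, d, hcd⟩ := R.field_decomp ν
  have h1 : μ • j x + ν • j z = j (a • x + c • z) + θ • j (b • x + d • z) := by
    rw [map_add, map_add, R.j_smul, R.j_smul, R.j_smul, R.j_smul, hab, hcd]
    module
  rw [h1] at hμν
  obtain ⟨h2, h3⟩ := R.uniq h hμν
  obtain ⟨ha, hc⟩ := hxz a c h2
  obtain ⟨hb, hd⟩ := hxz b d h3
  rw [hab, hcd, ha, hb, hc, hd, map_zero, mul_zero, add_zero]
  exact ⟨rfl, rfl⟩

/-- a `K`-subspace of large dimension is not mapped into an `F`-subspace of small dimension -/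
theorem exists_not_mem [FiniteDimensional F V] (X : Submodule K (Fin n → K)) (S : Submodule F V)
    (hXS : finrank F S < finrank K X) : ∃ x ∈ X, j x ∉ S := by
  classical
  by_contra hcon
  push Not at hcon
  obtain ⟨b⟩ : Nonempty (Basis (Fin (finrank K X)) K X) := ⟨Module.finBasis K X⟩
  have hv : LinearIndependent K (fun i => (b i : Fin n → K)) :=
    b.linearIndependent.map' X.subtype (Submodule.ker_subtype X)
  have hjv := R.linIndep_j h hv
  have hmem : ∀ i, j (b i : Fin n → K) ∈ S := fun i => hcon _ (b i).2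
  have h2 := finrank_span_eq_card hjv
  have h3 : Submodule.span F (Set.range fun i => j (b i : Fin n → K)) ≤ S := by
    rw [Submodule.span_le]
    rintro _ ⟨i, rfl⟩
    exact hmem i
  have h4 := Submodule.finrank_mono h3
  rw [Fintype.card_fin] at h2
  omega

end OData

end Cfsg.Agent.H9UOrth
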