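import Mathlib
import Cfsg.Agent.Lib.Helper9.SUMax1

set_option autoImplicit false

/-!
Commutator identities for unitary Eichler (Siegel) transformations.
-/

namespace Cfsg.Agent.H9UOrth

open Module Cfsg.Agent.Lib.Helper2 Cfsg.Agent.Lib.Helper2.UT Cfsg.Agent.Lib.Helper2.IsomDecomp
  Cfsg.Agent.Lib.Helper2.HermDecomp Cfsg.Agent.Lib.Helper5.PSLCoset Cfsg.Agent.H9SUMax

universe u v

variable {F : Type v} [Field F] {σ : F ≃+* F} {V : Type u} [AddCommGroup V] [Module F V]
  {H : V → V → F}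

theorem mul_inv_apply (g : V ≃ₗ[F] V) (x : V) : g (g⁻¹ x) = x := by
  rw [← LinearEquiv.mul_apply, mul_inv_cancel]
  rfl

theorem inv_mul_apply (g : V ≃ₗ[F] V) (x : V) : g⁻¹ (g x) = x := by
  rw [← LinearEquiv.mul_apply, inv_mul_cancel]
  rfl

theorem isom_inv_left {g : V ≃ₗ[F] V} (hg : g ∈ isom H) (x z : V) :
    H (g⁻¹ x) z = H x (g z) := by
  rw [← hg (g⁻¹ x) z, mul_inv_apply]

theorem isom_inv_right {g : V ≃ₗ[F] V} (hg : g ∈ isom H) (x z : V) :
    H z (g⁻¹ x) = H (g z) x := by
  rw [← hg z (g⁻¹ x), mul_inv_apply]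

/-- conjugating an Eichler transformation by an isometry -/
theorem eich_conj (h : IsHerm σ H) {g : V ≃ₗ[F] V} (hg : g ∈ isom H) (w y : V) (r : F)
    (hwy : H w y = 0) (hyw : H y w = 0) (hww : H w w = 0) (hr : r + σ r = H y y)
    (hwy' : H (g w) (g y) = 0) (hyw' : H (g y) (g w) = 0) (hww' : H (g w) (g w) = 0) :
    g * eich h w y r hwy hyw hww * g⁻¹ = eich h (g w) (g y) r hwy' hyw' hww' := by
  apply LinearEquiv.ext
  intro x
  rw [LinearEquiv.mul_apply, LinearEquiv.mul_apply, eich_apply h w y r hwy hyw hww hr,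
    eich_apply h (g w) (g y) r hwy' hyw' hww' (by rw [hg, hr]), map_sub, map_add, map_smul,
    map_smul, mul_inv_apply, isom_inv_left hg, isom_inv_left hg]

/-- two Eichler transformations with the same isotropic vector commute up to a transvection -/
theorem eich_comm_same (h : IsHerm σ H) (w y y' : V) (r r' : F)
    (hwy : H w y = 0) (hyw : H y w = 0) (hwy' : H w y' = 0) (hy'w : H y' w = 0)
    (hww : H w w = 0) (hr : r + σ r = H y y) (hr' : r' + σ r' = H y' y') :
    eich h w y r hwy hyw hww * eich h w y' r' hwy' hy'w hww =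
      tv h w (H y y' - H y' y) hww *
        (eich h w y' r' hwy' hy'w hww * eich h w y r hwy hyw hww) := by
  apply LinearEquiv.ext
  intro x
  rw [LinearEquiv.mul_apply, LinearEquiv.mul_apply, LinearEquiv.mul_apply, tv_apply,
    eich_apply h w y' r' hwy' hy'w hww hr', eich_apply h w y r hwy hyw hww hr,
    eich_apply h w y r hwy hyw hww hr, eich_apply h w y' r' hwy' hy'w hww hr']
  simp only [h.add_left, h.sub_left, h.smul_left, hwy, hyw, hwy', hy'w, hww, mul_zero, add_zero,
    sub_zero]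
  module

/-- two Eichler transformations with orthogonal isotropic vectors commute up to a long root
element -/
theorem eich_comm_perp (h : IsHerm σ H) (hσ2 : ∀ a : F, σ (σ a) = a) (w w' y y' : V) (r r' : F)
    (hww : H w w = 0) (hw'w' : H w' w' = 0) (hww' : H w w' = 0) (hw'w : H w' w = 0)
    (hwy : H w y = 0) (hyw : H y w = 0) (hwy' : H w y' = 0) (hy'w : H y' w = 0)
    (hw'y : H w' y = 0) (hyw' : H y w' = 0) (hw'y' : H w' y' = 0) (hy'w' : H y' w' = 0)
    (hr : r + σ r = H y y) (hr' : r' + σ r' = H y' y')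
    (h1 : H w (σ (H y' y) • w') = 0) (h2 : H (σ (H y' y) • w') w = 0) :
    eich h w y r hwy hyw hww * eich h w' y' r' hw'y' hy'w' hw'w' =
      eich h w (σ (H y' y) • w') 0 h1 h2 hww *
        (eich h w' y' r' hw'y' hy'w' hw'w' * eich h w y r hwy hyw hww) := by
  have hr0 : (0 : F) + σ 0 = H (σ (H y' y) • w') (σ (H y' y) • w') := by
    rw [h.smul_left, h.smul_right, hw'w', mul_zero, mul_zero, map_zero, add_zero]
  apply LinearEquiv.ext
  intro x
  rw [LinearEquiv.mul_apply, LinearEquiv.mul_apply, LinearEquiv.mul_apply,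
    eich_apply h w (σ (H y' y) • w') 0 h1 h2 hww hr0,
    eich_apply h w' y' r' hw'y' hy'w' hw'w' hr', eich_apply h w y r hwy hyw hww hr,
    eich_apply h w y r hwy hyw hww hr, eich_apply h w' y' r' hw'y' hy'w' hw'w' hr']
  simp only [h.add_left, h.sub_left, h.smul_left, h.smul_right, hσ2, hwy, hyw, hwy', hy'w, hww,
    hw'w', hww', hw'w, hw'y, hyw', hw'y', hy'w', mul_zero, add_zero, sub_zero, zero_mul]
  rw [h.symm y' y]
  module

end Cfsg.Agent.H9UOrth
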