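import Mathlib
import Cfsg.Agent.Lib.Helper9.OrthMax2
import Cfsg.Agent.Lib.Helper9.SLOrth4

set_option autoImplicit false

/-!
Geometry of a quadratic space `(Fin n → K, Q)` of large dimension: singular vectors in general
position, the Eichler formula.
-/

namespace Cfsg.Agent.H9UOrth

open Module QuadraticMap Cfsg.Agent.H9Orth Cfsg.Agent.H9SLOrth

variable {K : Type*} [Field K] {n : ℕ} {Q : QuadraticForm K (Fin n → K)}

theorem finrank_span_pair_le (u v : Fin n → K) :
    finrank K ↥(Submodule.span K {u, v}) ≤ 2 := by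
  classical
  have h := finrank_span_le_card (R := K) ({u, v} : Set (Fin n → K))
  have h2 : ({u, v} : Set (Fin n → K)).toFinset.card ≤ 2 := by
    have : ({u, v} : Set (Fin n → K)).toFinset = {u, v} := by ext; simp
    rw [this]
    exact Finset.card_le_two
  exact h.trans h2

/-- a singular vector not orthogonal to two given nonzero vectors -/
theorem exists_sing_both_ne [Finite K] (hQ : (polarBilin Q).Nondegenerate) (hn : 9 ≤ n)
    {a b : Fin n → K} (ha : a ≠ 0) (hb : b ≠ 0) :
    ∃ w, Q w = 0 ∧ polar (⇑Q) a w ≠ 0 ∧ polar (⇑Q) b w ≠ 0 := by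
  obtain ⟨s, hsa, hsb⟩ := exists_both_ne_polar hQ a b ha hb
  obtain ⟨p, p', hp, hp', hpp', hX⟩ := exists_hyp_perp hQ (Submodule.span K {s, a, b}) (by
    have := finrank_span_triple_le s a b
    rw [Fintype.card_fin]; omega)
  have hs := hX s (Submodule.subset_span (by simp))
  have ha' := hX a (Submodule.subset_span (by simp))
  have hb' := hX b (Submodule.subset_span (by simp))
  refine ⟨s + p - Q s • p', sing_corr hp hp' hpp' hs.1 hs.2, ?_, ?_⟩
  · rw [polar_sub_right, polar_add_right, polar_smul_right, ha'.1, ha'.2, smul_zero, add_zero,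
      sub_zero, polar_comm]
    exact hsa
  · rw [polar_sub_right, polar_add_right, polar_smul_right, hb'.1, hb'.2, smul_zero, add_zero,
      sub_zero, polar_comm]
    exact hsb

/-- a singular vector orthogonal to `a` but not to `b ∉ ⟨a⟩` -/
theorem exists_sing_perp_ne [Finite K] (hQ : (polarBilin Q).Nondegenerate) (hn : 9 ≤ n)
    {a b : Fin n → K} (hb : b ∉ Submodule.span K {a}) :
    ∃ w, Q w = 0 ∧ polar (⇑Q) a w = 0 ∧ polar (⇑Q) b w ≠ 0 := by
  obtain ⟨s, hsa, hsb⟩ := exists_perp_sub_not_perp hQ (Submodule.span K {a}) b hb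
  have hsa' := hsa a (Submodule.subset_span (by simp))
  obtain ⟨p, p', hp, hp', hpp', hX⟩ := exists_hyp_perp hQ (Submodule.span K {s, a, b}) (by
    have := finrank_span_triple_le s a b
    rw [Fintype.card_fin]; omega)
  have hs := hX s (Submodule.subset_span (by simp))
  have ha' := hX a (Submodule.subset_span (by simp))
  have hb' := hX b (Submodule.subset_span (by simp))
  refine ⟨s + p - Q s • p', sing_corr hp hp' hpp' hs.1 hs.2, ?_, ?_⟩
  · rw [polar_sub_right, polar_add_right, polar_smul_right, ha'.1, ha'.2, smul_zero, add_zero,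
      sub_zero]
    exact hsa'
  · rw [polar_sub_right, polar_add_right, polar_smul_right, hb'.1, hb'.2, smul_zero, add_zero,
      sub_zero]
    exact hsb

/-- a member of a hyperbolic pair is independent of any nonzero vector orthogonal to the other
member -/
theorem indep_of_hyp {x p p' : Fin n → K} (hx : x ≠ 0) (hxp' : polar (⇑Q) x p' = 0)
    (hpp' : polar (⇑Q) p p' = 1) : ∀ s t : K, s • x + t • p = 0 → s = 0 ∧ t = 0 := by
  intro s t hst
  have h1 : polar (⇑Q) (s • x + t • p) p' = 0 := by rw [hst, polar_zero_left]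
  rw [polar_add_left, polar_smul_left, polar_smul_left, hxp', hpp', smul_zero, zero_add,
    smul_eq_mul, mul_one] at h1
  subst h1
  rw [zero_smul, add_zero] at hst
  exact ⟨(smul_eq_zero.1 hst).resolve_right hx, rfl⟩

theorem hyp_ne_zero {p p' : Fin n → K} (hpp' : polar (⇑Q) p p' = 1) : p ≠ 0 := by
  intro h0
  rw [h0, polar_zero_left] at hpp'
  exact zero_ne_one hpp'

/-- the Eichler formula -/
def ef (Q : QuadraticForm K (Fin n → K)) (w y x : Fin n → K) : Fin n → K :=
  x + polar (⇑Q) x w • y - (polar (⇑Q) x y + Q y * polar (⇑Q) x w) • w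

/-- an Eichler map based at `z` moving `w` to `u` -/
theorem ef_map {z w u : Fin n → K} (hw : Q w = 0) (hu : Q u = 0) {m : K}
    (hm : m ≠ 0) (hwz : polar (⇑Q) w z = m) (huz : polar (⇑Q) u z = m) :
    polar (⇑Q) z (m⁻¹ • (u - w)) = 0 ∧ ef Q z (m⁻¹ • (u - w)) w = u := by
  constructor
  · rw [polar_smul_right, polar_sub_right, polar_comm (⇑Q) z u, polar_comm (⇑Q) z w, hwz, huz,
      sub_self, smul_zero]
  · unfold ef
    have e1 : Q (m⁻¹ • (u - w)) = -(m⁻¹ * m⁻¹ * polar (⇑Q) u w) := by
      have : m⁻¹ • (u - w) = m⁻¹ • u + (-m⁻¹) • w := by module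
      rw [this, Cfsg.Agent.Lib.Helper5.map_lin2, hw, hu]
      ring
    have e2 : polar (⇑Q) w (m⁻¹ • (u - w)) = m⁻¹ * polar (⇑Q) u w := by
      rw [polar_smul_right, polar_sub_right, polar_self, hw, smul_zero, sub_zero, smul_eq_mul,
        polar_comm]
    rw [e1, e2, hwz]
    have e3 : m⁻¹ * polar (⇑Q) u w + -(m⁻¹ * m⁻¹ * polar (⇑Q) u w) * m = 0 := by
      field_simp
      ring
    rw [e3, zero_smul, sub_zero, smul_smul, mul_inv_cancel₀ hm, one_smul]
    abel

end Cfsg.Agent.H9UOrth
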