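import Mathlib
import Cfsg.Agent.Lib.Helper9.UOrth2
import Cfsg.Agent.Lib.Helper9.UOrth3
import Cfsg.Agent.Lib.Helper9.UOrth4

set_option autoImplicit false

/-!
Rational Eichler transformations; once one rational singular vector is a transvection direction
of `M`, every isotropic vector is.
-/

namespace Cfsg.Agent.H9UOrth

open Module QuadraticMap Cfsg.Agent.Lib.Helper2 Cfsg.Agent.Lib.Helper2.UT
  Cfsg.Agent.Lib.Helper2.IsomDecomp
  Cfsg.Agent.Lib.Helper2.HermDecomp Cfsg.Agent.Lib.Helper5.PSLCoset Cfsg.Agent.H9SUMax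

universe u v w

variable {F : Type v} [Field F] {σ : F ≃+* F} {V : Type u} [AddCommGroup V] [Module F V]
  {H : V → V → F} {K : Type w} [Field K] {φ : K →+* F} {n : ℕ}
  {Q : QuadraticForm K (Fin n → K)} {j : (Fin n → K) →+ V} {θ : F}

namespace OData

variable (R : OData σ H φ Q j θ) (h : IsHerm σ H)

/-- the rational Eichler transformation -/
noncomputable def reich (w y : Fin n → K) (hw : Q w = 0) (hwy : polar (⇑Q) w y = 0) :
    V ≃ₗ[F] V :=
  eich h (j w) (j y) (φ (Q y)) (by rw [R.form, hwy, map_zero])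
    (by rw [R.form, polar_comm, hwy, map_zero]) (by rw [R.form_self, hw, map_zero, mul_zero])

include R in
theorem reich_hr (y : Fin n → K) : φ (Q y) + σ (φ (Q y)) = H (j y) (j y) := by
  rw [R.fixφ, R.form_self]
  ring

theorem reich_apply_j (w y : Fin n → K) (hw : Q w = 0) (hwy : polar (⇑Q) w y = 0)
    (x : Fin n → K) : R.reich h w y hw hwy (j x) = j (ef Q w y x) := by
  unfold reich ef
  rw [eich_apply h (j w) (j y) (φ (Q y)) _ _ _ (R.reich_hr y), R.form, R.form, map_sub, map_add,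
    R.j_smul, R.j_smul, map_add, map_mul]

theorem reich_mem_isom (w y : Fin n → K) (hw : Q w = 0) (hwy : polar (⇑Q) w y = 0) :
    R.reich h w y hw hwy ∈ isom H :=
  eich_mem_isom h _ _ _ _ _ _ (R.reich_hr y)

theorem det_reich (w y : Fin n → K) (hw : Q w = 0) (hwy : polar (⇑Q) w y = 0) :
    LinearEquiv.det (R.reich h w y hw hwy) = 1 :=
  det_eich h _ _ _ _ _ _

variable (M : Subgroup (V ≃ₗ[F] V))

theorem reich_mem (hM : ∀ g, g ∈ isom H → LinearEquiv.det g = 1 → (∀ u, ∃ v, g (j u) = j v) →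
    g ∈ M) (w y : Fin n → K) (hw : Q w = 0) (hwy : polar (⇑Q) w y = 0) :
    R.reich h w y hw hwy ∈ M :=
  hM _ (R.reich_mem_isom h w y hw hwy) (R.det_reich h w y hw hwy)
    (fun u => ⟨_, R.reich_apply_j h w y hw hwy u⟩)

include R in
/-- one rational singular direction gives all of them -/
theorem sing_all [Finite K] (hn : 9 ≤ n)
    (hM : ∀ g, g ∈ isom H → LinearEquiv.det g = 1 → (∀ u, ∃ v, g (j u) = j v) → g ∈ M)
    {w : Fin n → K} (hw : Q w = 0) (hw0 : w ≠ 0) (hwd : j w ∈ dirSet h M)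
    (u : Fin n → K) (hu : Q u = 0) : j u ∈ dirSet h M := by
  by_cases hu0 : u = 0
  · rw [hu0, map_zero]
    exact zero_mem_dirSet h M
  obtain ⟨z, hz, hwz, huz⟩ := exists_sing_both_ne R.nd hn hw0 hu0
  obtain ⟨m, hm⟩ : ∃ m, m = polar (⇑Q) w z := ⟨_, rfl⟩
  have hm0 : m ≠ 0 := by rw [hm]; exact hwz
  obtain ⟨k, hk⟩ : ∃ k, k = m / polar (⇑Q) u z := ⟨_, rfl⟩
  have hk0 : k ≠ 0 := by rw [hk]; exact div_ne_zero hm0 huz
  have hu' : Q (k • u) = 0 := by rw [QuadraticMap.map_smul, hu, smul_zero]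
  have hu'z : polar (⇑Q) (k • u) z = m := by
    rw [polar_smul_left, smul_eq_mul, hk, div_mul_cancel₀ _ huz]
  obtain ⟨hzy, hmap⟩ := ef_map hw hu' hm0 hm.symm hu'z
  have h1 := dirSet_map h M (R.reich_mem h M hM z _ hz hzy) (R.reich_mem_isom h z _ hz hzy) hwd
  rw [R.reich_apply_j, hmap, R.j_smul] at h1
  have h2 := dirSet_smul R.sq h M (φ k)⁻¹ h1
  rwa [smul_smul, inv_mul_cancel₀ ((map_ne_zero φ).2 hk0), one_smul] at h2

include R in
/-- hyperbolic case -/
theorem dir_hyp (hMG : M ≤ isom H) (hsing : ∀ u, Q u = 0 → j u ∈ dirSet h M)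
    {a b : Fin n → K} (ha : Q a = 0) (hb : Q b = 0) (hab : polar (⇑Q) a b ≠ 0) :
    j a + θ • j b ∈ dirSet h M := by
  have h1 := dirSet_tv h M hMG (hsing b hb) (hsing a ha) (θ * φ (polar (⇑Q) a b)⁻¹)
    (R.sigma_theta_mul _)
  have e : θ * φ (polar (⇑Q) a b)⁻¹ * H (j a) (j b) = θ := by
    rw [R.form, mul_assoc, ← map_mul, inv_mul_cancel₀ hab, map_one, mul_one]
  rwa [e] at h1

include R in
/-- both components singular -/
theorem dir_sing [Finite K] (hn : 9 ≤ n) (hMG : M ≤ isom H)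
    (hsing : ∀ u, Q u = 0 → j u ∈ dirSet h M)
    {a b : Fin n → K} (ha : Q a = 0) (hb : Q b = 0) : j a + θ • j b ∈ dirSet h M := by
  by_cases hab : polar (⇑Q) a b = 0
  swap
  · exact R.dir_hyp h M hMG hsing ha hb hab
  by_cases hb' : b ∈ Submodule.span K {a}
  · obtain ⟨k, rfl⟩ := Submodule.mem_span_singleton.1 hb'
    have e : j a + θ • j (k • a) = (1 + θ * φ k) • j a := by
      rw [R.j_smul]; module
    rw [e]
    exact dirSet_smul R.sq h M _ (hsing a ha)
  obtain ⟨w₂, hw₂, haw₂, hbw₂⟩ := exists_sing_perp_ne R.nd hn hb'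
  obtain ⟨ε, hε, hε0⟩ := R.exists_eps
  apply dirSet_of_tv h M hMG (hsing w₂ hw₂) (θ * φ 1) (R.sigma_theta_mul 1)
  obtain ⟨k, hk⟩ : ∃ k, k = ε * polar (⇑Q) b w₂ := ⟨_, rfl⟩
  have hk0 : k ≠ 0 := by rw [hk]; exact mul_ne_zero hε0 hbw₂
  have e : j a + θ • j b + (θ * φ 1 * H (j a + θ • j b) (j w₂)) • j w₂ =
      j (a + k • w₂) + θ • j b := by
    rw [R.H_left h, haw₂, map_zero, zero_add, map_one, mul_one, map_add, R.j_smul, hk, map_mul, hε]
    module
  rw [e]
  apply R.dir_hyp h M hMG hsing _ hb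
  · rw [polar_add_left, hab, zero_add, polar_smul_left, smul_eq_mul, polar_comm]
    exact mul_ne_zero hk0 hbw₂
  · have : a + k • w₂ = (1 : K) • a + k • w₂ := by rw [one_smul]
    rw [this, Cfsg.Agent.Lib.Helper5.map_lin2, ha, hw₂, haw₂]
    ring

include R in
/-- every isotropic vector is a direction -/
theorem dir_all [Finite K] (hn : 9 ≤ n) (hMG : M ≤ isom H)
    (hsing : ∀ u, Q u = 0 → j u ∈ dirSet h M) (x : V) (hx : H x x = 0) : x ∈ dirSet h M := by
  obtain ⟨a, b, rfl⟩ := R.decomp x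
  obtain ⟨ε, hε, hε0⟩ := R.exists_eps
  rw [R.norm_eq h] at hx
  have hQ : Q a = ε * Q b := by
    have h1 : φ (Q a) - θ * θ * φ (Q b) = 0 := by
      rcases mul_eq_zero.1 hx with h0 | h0
      · exact absurd h0 R.two_ne
      · exact h0
    apply φ.injective
    rw [map_mul, hε]
    linear_combination h1
  by_cases hb : Q b = 0
  · exact R.dir_sing h M hn hMG hsing (by rw [hQ, hb, mul_zero]) hb
  have hb0 : b ≠ 0 := by
    intro h0; apply hb; rw [h0, map_zero]
  have ha0 : a ≠ 0 := by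
    intro h0
    rw [h0, map_zero] at hQ
    exact mul_ne_zero hε0 hb hQ.symm
  obtain ⟨w, hw, haw, hbw⟩ := exists_sing_both_ne R.nd hn ha0 hb0
  obtain ⟨c₀, hc₀⟩ : ∃ c₀, c₀ = -Q b / (polar (⇑Q) a w * polar (⇑Q) b w) := ⟨_, rfl⟩
  apply dirSet_of_tv h M hMG (hsing w hw) (θ * φ c₀) (R.sigma_theta_mul c₀)
  have e : j a + θ • j b + (θ * φ c₀ * H (j a + θ • j b) (j w)) • j w =
      j (a + (ε * c₀ * polar (⇑Q) b w) • w) + θ • j (b + (c₀ * polar (⇑Q) a w) • w) := by
    rw [R.H_left h, map_add, map_add, R.j_smul, R.j_smul, map_mul, map_mul, map_mul, hε]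
    module
  rw [e]
  apply R.dir_sing h M hn hMG hsing
  · have : a + (ε * c₀ * polar (⇑Q) b w) • w = (1 : K) • a + (ε * c₀ * polar (⇑Q) b w) • w := by
      rw [one_smul]
    rw [this, Cfsg.Agent.Lib.Helper5.map_lin2, hw, hQ, hc₀]
    field_simp
    ring
  · have : b + (c₀ * polar (⇑Q) a w) • w = (1 : K) • b + (c₀ * polar (⇑Q) a w) • w := by
      rw [one_smul]
    rw [this, Cfsg.Agent.Lib.Helper5.map_lin2, hw, hc₀]
    field_simp
    ring

end OData

end Cfsg.Agent.H9UOrth
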