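import Mathlib
import Cfsg.Agent.Lib.Helper9.UOrth5

set_option autoImplicit false

/-!
The key step: an element of `M` moving a rational singular vector off the rational points yields a
unitary transvection with rational direction in `M`.
-/

namespace Cfsg.Agent.H9UOrth

open Module QuadraticMap Cfsg.Agent.Lib.Helper2 Cfsg.Agent.Lib.Helper2.UT
  Cfsg.Agent.Lib.Helper2.IsomDecomp Cfsg.Agent.H9Orth Cfsg.Agent.H9SLOrth
  Cfsg.Agent.Lib.Helper2.HermDecomp Cfsg.Agent.Lib.Helper5.PSLCoset Cfsg.Agent.H9SUMax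

universe u v w

variable {F : Type v} [Field F] {σ : F ≃+* F} {V : Type u} [AddCommGroup V] [Module F V]
  {H : V → V → F} {K : Type w} [Field K] {φ : K →+* F} {n : ℕ}
  {Q : QuadraticForm K (Fin n → K)} {j : (Fin n → K) →+ V} {θ : F}

namespace OData

variable (R : OData σ H φ Q j θ) (h : IsHerm σ H)

include R in
theorem j_mem_span {s : Set (Fin n → K)} {x : Fin n → K} (hx : x ∈ Submodule.span K s) :
    j x ∈ Submodule.span F (j '' s) := by
  induction hx using Submodule.span_induction with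
  | mem x hx => exact Submodule.subset_span (Set.mem_image_of_mem j hx)
  | zero => rw [map_zero]; exact Submodule.zero_mem _
  | add x y _ _ hx hy => rw [map_add]; exact Submodule.add_mem _ hx hy
  | smul a x _ hx => rw [R.j_smul]; exact Submodule.smul_mem _ _ hx

include R in
theorem j_mem_span3 {u₁ u₂ u₃ x : Fin n → K} (hx : x ∈ Submodule.span K {u₁, u₂, u₃}) :
    j x ∈ Submodule.span F {j u₁, j u₂, j u₃} := by
  have h1 := R.j_mem_span hx
  rwa [Set.image_insert_eq, Set.image_insert_eq, Set.image_singleton] at h1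

/-- prescribing the products with two independent vectors, orthogonally to a hyperbolic vector -/
theorem exists_prescribed (hQ : (polarBilin Q).Nondegenerate) {p p' a' b' : Fin n → K}
    (hpp' : polar (⇑Q) p p' = 1) (hap' : polar (⇑Q) a' p' = 0) (hbp' : polar (⇑Q) b' p' = 0)
    (hind : ∀ s t : K, s • a' + t • b' = 0 → s = 0 ∧ t = 0) (t₁ t₂ : K) :
    ∃ y, polar (⇑Q) p y = 0 ∧ polar (⇑Q) a' y = t₁ ∧ polar (⇑Q) b' y = t₂ := by
  have ha' : a' ∉ Submodule.span K {p, b'} := by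
    intro hmem
    obtain ⟨r, s, hrs⟩ := Submodule.mem_span_pair.1 hmem
    have h1 : polar (⇑Q) (r • p + s • b') p' = 0 := by rw [hrs, hap']
    rw [polar_add_left, polar_smul_left, polar_smul_left, hpp', hbp', smul_zero, add_zero,
      smul_eq_mul, mul_one] at h1
    rw [h1, zero_smul, zero_add] at hrs
    have h2 := hind 1 (-s) (by rw [← hrs]; module)
    exact one_ne_zero h2.1
  have hb' : b' ∉ Submodule.span K {p, a'} := by
    intro hmem
    obtain ⟨r, s, hrs⟩ := Submodule.mem_span_pair.1 hmem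
    have h1 : polar (⇑Q) (r • p + s • a') p' = 0 := by rw [hrs, hbp']
    rw [polar_add_left, polar_smul_left, polar_smul_left, hpp', hap', smul_zero, add_zero,
      smul_eq_mul, mul_one] at h1
    rw [h1, zero_smul, zero_add] at hrs
    have h2 := hind (-s) 1 (by rw [← hrs]; module)
    exact one_ne_zero h2.2
  obtain ⟨ya, hya, hya'⟩ := exists_perp_sub_not_perp hQ _ a' ha'
  obtain ⟨yb, hyb, hyb'⟩ := exists_perp_sub_not_perp hQ _ b' hb'
  have h1 := hya p (Submodule.subset_span (by simp))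
  have h2 := hya b' (Submodule.subset_span (by simp))
  have h3 := hyb p (Submodule.subset_span (by simp))
  have h4 := hyb a' (Submodule.subset_span (by simp))
  refine ⟨(t₁ / polar (⇑Q) a' ya) • ya + (t₂ / polar (⇑Q) b' yb) • yb, ?_, ?_, ?_⟩
  · rw [polar_add_right, polar_smul_right, polar_smul_right, h1, h3, smul_zero, smul_zero,
      add_zero]
  · rw [polar_add_right, polar_smul_right, polar_smul_right, h4, smul_zero, add_zero,
      smul_eq_mul, div_mul_cancel₀ _ hya']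
  · rw [polar_add_right, polar_smul_right, polar_smul_right, h2, smul_zero, zero_add,
      smul_eq_mul, div_mul_cancel₀ _ hyb']

include R h in
/-- a pair of rational vectors, orthogonal to prescribed triples, whose images under `g₀` and the
identity are not orthogonal -/
theorem exists_y_pair [FiniteDimensional F V] (hn : 7 ≤ n) (g₀ : V ≃ₗ[F] V)
    (p a' b' w₁ a₁ b₁ : Fin n → K) :
    ∃ y₁ y, (∀ x ∈ Submodule.span K {w₁, a₁, b₁}, polar (⇑Q) x y₁ = 0) ∧
      (∀ x ∈ Submodule.span K {p, a', b'}, polar (⇑Q) x y = 0) ∧ H (g₀ (j y₁)) (j y) ≠ 0 := by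
  classical
  have hdim : finrank K (Fin n → K) = n := Module.finrank_fin_fun K
  have h3 := finrank_span_triple_le w₁ a₁ b₁
  have hS3 : finrank F ↥(Submodule.span F {j p, j a', j b'}) ≤ 3 := by
    have h := finrank_span_le_card (R := F) ({j p, j a', j b'} : Set V)
    have h2 : ({j p, j a', j b'} : Set V).toFinset.card ≤ 3 := by
      have : ({j p, j a', j b'} : Set V).toFinset = {j p, j a', j b'} := by ext; simp
      rw [this]
      exact Finset.card_le_three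
    exact h.trans h2
  obtain ⟨y₁, hy₁Y, hy₁S⟩ := R.exists_not_mem h
    (LinearMap.BilinForm.orthogonal (polarBilin Q) (Submodule.span K {w₁, a₁, b₁}))
    ((Submodule.span F {j p, j a', j b'}).map ((g₀⁻¹ : V ≃ₗ[F] V) : V →ₗ[F] V)) (by
      rw [LinearEquiv.finrank_map_eq, LinearMap.BilinForm.finrank_orthogonal R.nd, hdim]
      omega)
  have hy₁S' : g₀ (j y₁) ∉ Submodule.span F {j p, j a', j b'} := by
    intro hmem
    exact hy₁S ⟨g₀ (j y₁), hmem, inv_mul_apply g₀ (j y₁)⟩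
  obtain ⟨c, d, hcd⟩ := R.decomp (g₀ (j y₁))
  have hcd' : c ∉ Submodule.span K {p, a', b'} ∨ d ∉ Submodule.span K {p, a', b'} := by
    by_contra hcon
    push Not at hcon
    apply hy₁S'
    rw [hcd]
    exact Submodule.add_mem _ (R.j_mem_span3 hcon.1) (Submodule.smul_mem _ _ (R.j_mem_span3 hcon.2))
  refine ⟨y₁, ?_⟩
  have hy₁ : ∀ x ∈ Submodule.span K {w₁, a₁, b₁}, polar (⇑Q) x y₁ = 0 := by
    intro x hx
    exact (LinearMap.BilinForm.mem_orthogonal_iff.1 hy₁Y) x hx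
  rcases hcd' with hc | hd
  · obtain ⟨y, hy, hcy⟩ := exists_perp_sub_not_perp R.nd _ c hc
    refine ⟨y, hy₁, hy, ?_⟩
    rw [hcd, R.H_left h]
    intro h0
    exact hcy (R.indep_one_theta h0).1
  · obtain ⟨y, hy, hdy⟩ := exists_perp_sub_not_perp R.nd _ d hd
    refine ⟨y, hy₁, hy, ?_⟩
    rw [hcd, R.H_left h]
    intro h0
    exact hdy (R.indep_one_theta h0).2

include R in
/-- **Key step**: a rational singular transvection direction of `M` -/
theorem stepA [Finite K] [FiniteDimensional F V] (hn : 13 ≤ n) (M : Subgroup (V ≃ₗ[F] V))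
    (hMG : M ≤ isom H)
    (hM : ∀ g, g ∈ isom H → LinearEquiv.det g = 1 → (∀ u, ∃ v, g (j u) = j v) → g ∈ M)
    {g₀ : V ≃ₗ[F] V} (hg₀ : g₀ ∈ M) {w₁ a' b' : Fin n → K} (hw₁ : Q w₁ = 0)
    (hgw : g₀ (j w₁) = j a' + θ • j b')
    (hind : ∀ s t : K, s • a' + t • b' = 0 → s = 0 ∧ t = 0) :
    ∃ w, Q w = 0 ∧ w ≠ 0 ∧ j w ∈ dirSet h M := by
  classical
  have hg₀i := hMG hg₀
  obtain ⟨p, p', hp, hp', hpp', hX⟩ := exists_hyp_perp R.nd (Submodule.span K {a', b'}) (by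
    have := finrank_span_pair_le a' b'
    rw [Fintype.card_fin]; omega)
  have hpa := hX a' (Submodule.subset_span (by simp))
  have hpb := hX b' (Submodule.subset_span (by simp))
  refine ⟨p, hp, hyp_ne_zero hpp', ?_⟩
  obtain ⟨a₁, b₁, hab₁⟩ := R.decomp (g₀⁻¹ (j p))
  obtain ⟨y₁, y, hy₁, hy, hs⟩ := R.exists_y_pair h (by omega) g₀ p a' b' w₁ a₁ b₁
  have hw₁y₁ : polar (⇑Q) w₁ y₁ = 0 := hy₁ w₁ (Submodule.subset_span (by simp))
  have ha₁y₁ : polar (⇑Q) a₁ y₁ = 0 := hy₁ a₁ (Submodule.subset_span (by simp))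
  have hb₁y₁ : polar (⇑Q) b₁ y₁ = 0 := hy₁ b₁ (Submodule.subset_span (by simp))
  have hpy : polar (⇑Q) p y = 0 := hy p (Submodule.subset_span (by simp))
  have ha'y : polar (⇑Q) a' y = 0 := hy a' (Submodule.subset_span (by simp))
  have hb'y : polar (⇑Q) b' y = 0 := hy b' (Submodule.subset_span (by simp))
  -- Hermitian orthogonality facts
  have hpp : H (j p) (j p) = 0 := by rw [R.form_self, hp, map_zero, mul_zero]
  have hw'w' : H (g₀ (j w₁)) (g₀ (j w₁)) = 0 := by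
    rw [hg₀i, R.form_self, hw₁, map_zero, mul_zero]
  have hpw' : H (j p) (g₀ (j w₁)) = 0 := by
    rw [hgw, R.H_right h, polar_comm, hpa.1, polar_comm (⇑Q) p b', hpb.1, map_zero, mul_zero,
      sub_zero]
  have hw'p : H (g₀ (j w₁)) (j p) = 0 := by
    rw [hgw, R.H_left h, hpa.1, hpb.1, map_zero, mul_zero, add_zero]
  have hp_y : H (j p) (j y) = 0 := by rw [R.form, hpy, map_zero]
  have hy_p : H (j y) (j p) = 0 := by rw [R.form_symm, hp_y]
  have hp_y' : H (j p) (g₀ (j y₁)) = 0 := by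
    rw [← isom_inv_left hg₀i, hab₁, R.H_left h, ha₁y₁, hb₁y₁, map_zero, mul_zero, add_zero]
  have hy'_p : H (g₀ (j y₁)) (j p) = 0 := by rw [h.symm (j p) (g₀ (j y₁)), hp_y', map_zero]
  have hw'_y : H (g₀ (j w₁)) (j y) = 0 := by
    rw [hgw, R.H_left h, ha'y, hb'y, map_zero, mul_zero, add_zero]
  have hy_w' : H (j y) (g₀ (j w₁)) = 0 := by rw [h.symm (g₀ (j w₁)) (j y), hw'_y, map_zero]
  have hw'_y' : H (g₀ (j w₁)) (g₀ (j y₁)) = 0 := by rw [hg₀i, R.form, hw₁y₁, map_zero]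
  have hy'_w' : H (g₀ (j y₁)) (g₀ (j w₁)) = 0 := by
    rw [h.symm (g₀ (j w₁)) (g₀ (j y₁)), hw'_y', map_zero]
  have hr : φ (Q y) + σ (φ (Q y)) = H (j y) (j y) := R.reich_hr y
  have hr' : φ (Q y₁) + σ (φ (Q y₁)) = H (g₀ (j y₁)) (g₀ (j y₁)) := by
    rw [hg₀i]; exact R.reich_hr y₁
  -- the group elements
  have hE : eich h (j p) (j y) (φ (Q y)) hp_y hy_p hpp ∈ M := R.reich_mem h M hM p y hp hpy
  have hE' : eich h (g₀ (j w₁)) (g₀ (j y₁)) (φ (Q y₁)) hw'_y' hy'_w' hw'w' ∈ M := by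
    have hE₁ := R.reich_mem h M hM w₁ y₁ hw₁ hw₁y₁
    have hconj := eich_conj h hg₀i (j w₁) (j y₁) (φ (Q y₁)) (by rw [R.form, hw₁y₁, map_zero])
      (by rw [R.form, polar_comm, hw₁y₁, map_zero]) (by rw [R.form_self, hw₁, map_zero, mul_zero])
      (R.reich_hr y₁) hw'_y' hy'_w' hw'w'
    rw [← hconj]
    exact M.mul_mem (M.mul_mem hg₀ hE₁) (M.inv_mem hg₀)
  have hD1 : H (j p) (σ (H (g₀ (j y₁)) (j y)) • g₀ (j w₁)) = 0 := by
    rw [h.smul_right, hpw', mul_zero]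
  have hD2 : H (σ (H (g₀ (j y₁)) (j y)) • g₀ (j w₁)) (j p) = 0 := by
    rw [h.smul_left, hw'p, mul_zero]
  have hcomm := eich_comm_perp h R.sq (j p) (g₀ (j w₁)) (j y) (g₀ (j y₁)) (φ (Q y)) (φ (Q y₁))
    hpp hw'w' hpw' hw'p hp_y hy_p hp_y' hy'_p hw'_y hy_w' hw'_y' hy'_w' hr hr' hD1 hD2
  have hD : eich h (j p) (σ (H (g₀ (j y₁)) (j y)) • g₀ (j w₁)) 0 hD1 hD2 hpp ∈ M := by
    have e : eich h (j p) (σ (H (g₀ (j y₁)) (j y)) • g₀ (j w₁)) 0 hD1 hD2 hpp =
        eich h (j p) (j y) (φ (Q y)) hp_y hy_p hpp *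
          eich h (g₀ (j w₁)) (g₀ (j y₁)) (φ (Q y₁)) hw'_y' hy'_w' hw'w' *
        (eich h (g₀ (j w₁)) (g₀ (j y₁)) (φ (Q y₁)) hw'_y' hy'_w' hw'w' *
          eich h (j p) (j y) (φ (Q y)) hp_y hy_p hpp)⁻¹ := by
      rw [hcomm, mul_inv_cancel_right]
    rw [e]
    exact M.mul_mem (M.mul_mem hE hE') (M.inv_mem (M.mul_mem hE' hE))
  have hr0 : (0 : F) + σ 0 = H (σ (H (g₀ (j y₁)) (j y)) • g₀ (j w₁))
      (σ (H (g₀ (j y₁)) (j y)) • g₀ (j w₁)) := by
    rw [h.smul_left, h.smul_right, hw'w', mul_zero, mul_zero, map_zero, add_zero]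
  -- all the transvections
  refine ⟨hpp, fun c hc => ?_⟩
  obtain ⟨t₁, t₂, ht⟩ := R.field_decomp (σ (c / (2 * H (g₀ (j y₁)) (j y))))
  obtain ⟨y'', hpy'', hay'', hby''⟩ := OData.exists_prescribed R.nd hpp' hpa.2 hpb.2 hind t₁ t₂
  have hp_y'' : H (j p) (j y'') = 0 := by rw [R.form, hpy'', map_zero]
  have hy''_p : H (j y'') (j p) = 0 := by rw [R.form_symm, hp_y'']
  have hE'' : eich h (j p) (j y'') (φ (Q y'')) hp_y'' hy''_p hpp ∈ M :=
    R.reich_mem h M hM p y'' hp hpy''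
  have hcomm2 := eich_comm_same h (j p) (j y'') (σ (H (g₀ (j y₁)) (j y)) • g₀ (j w₁))
    (φ (Q y'')) 0 hp_y'' hy''_p hD1 hD2 hpp (R.reich_hr y'') hr0
  have hc' : H (j y'') (σ (H (g₀ (j y₁)) (j y)) • g₀ (j w₁)) -
      H (σ (H (g₀ (j y₁)) (j y)) • g₀ (j w₁)) (j y'') = c := by
    have ht' : H (g₀ (j w₁)) (j y'') = σ (c / (2 * H (g₀ (j y₁)) (j y))) := by
      rw [hgw, R.H_left h, hay'', hby'', ht]
    rw [h.smul_right, h.smul_left, R.sq, h.symm (g₀ (j w₁)) (j y''), ht', R.sq, map_div₀, map_mul,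
      hc, map_ofNat]
    obtain ⟨s, hs_def⟩ : ∃ s, s = H (g₀ (j y₁)) (j y) := ⟨_, rfl⟩
    rw [← hs_def] at hs ⊢
    have h2 := R.two_ne
    have hσs : σ s ≠ 0 := (map_ne_zero σ).2 hs
    field_simp
    ring
  rw [hc'] at hcomm2
  have e : tv h (j p) c hpp = eich h (j p) (j y'') (φ (Q y'')) hp_y'' hy''_p hpp *
      eich h (j p) (σ (H (g₀ (j y₁)) (j y)) • g₀ (j w₁)) 0 hD1 hD2 hpp *
      (eich h (j p) (σ (H (g₀ (j y₁)) (j y)) • g₀ (j w₁)) 0 hD1 hD2 hpp *
        eich h (j p) (j y'') (φ (Q y'')) hp_y'' hy''_p hpp)⁻¹ := by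
    rw [hcomm2, mul_inv_cancel_right]
  rw [e]
  exact M.mul_mem (M.mul_mem hE'' hD) (M.inv_mem (M.mul_mem hD hE''))

end OData

end Cfsg.Agent.H9UOrth
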