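import Mathlib
import Cfsg.Agent.Lib.Helper9.UOrth6

set_option autoImplicit false

/-!
Orthogonal rational structures: a map sending rational singular vectors to multiples of rational
vectors preserves the structure up to a scalar; an isometry not doing so; the overgroup theorem.
-/

namespace Cfsg.Agent.H9UOrth

open Module QuadraticMap Cfsg.Agent.Lib.Helper2 Cfsg.Agent.Lib.Helper2.UT
  Cfsg.Agent.Lib.Helper2.IsomDecomp Cfsg.Agent.H9Orth Cfsg.Agent.H9SLOrth
  Cfsg.Agent.Lib.Helper2.HermDecomp Cfsg.Agent.Lib.Helper5.PSLCoset Cfsg.Agent.H9SUMax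

universe u v w

variable {F : Type v} [Field F] {σ : F ≃+* F} {V : Type u} [AddCommGroup V] [Module F V]
  {H : V → V → F} {K : Type w} [Field K] {φ : K →+* F} {n : ℕ}
  {Q : QuadraticForm K (Fin n → K)} {j : (Fin n → K) →+ V} {θ : F}

namespace OData

variable (R : OData σ H φ Q j θ) (h : IsHerm σ H)

include R h in
/-- the pair lemma -/
theorem pair_lemma (g₀ : V ≃ₗ[F] V)
    (hall : ∀ w₁, Q w₁ = 0 → ∃ (l : F) (v : Fin n → K), g₀ (j w₁) = l • j v)
    {c : F} (hc0 : c ≠ 0) {x z : Fin n → K} (hx : Q x = 0) (hz : Q z = 0)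
    (hxz : polar (⇑Q) x z = 0) (hind : ∀ s t : K, s • x + t • z = 0 → s = 0 ∧ t = 0)
    (hSx : ∃ v, g₀ (j x) = c • j v) : ∃ v, g₀ (j z) = c • j v := by
  obtain ⟨v, hv⟩ := hSx
  obtain ⟨l, v', hv'⟩ := hall z hz
  have hxz0 : Q (x + z) = 0 := by rw [QuadraticMap.map_add (⇑Q), hx, hz, hxz]; ring
  obtain ⟨lam, v'', hv''⟩ := hall (x + z) hxz0
  have hsum : c • j v + l • j v' = lam • j v'' := by
    rw [← hv, ← hv', ← hv'', map_add, map_add]
  have hz0 : z ≠ 0 := by
    intro h0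
    have := hind 0 1 (by rw [h0, smul_zero, zero_smul, add_zero])
    exact one_ne_zero this.2
  have hxz1 : x + z ≠ 0 := by
    intro h0
    have := hind 1 1 (by rw [one_smul, one_smul, h0])
    exact one_ne_zero this.1
  have hl0 : l ≠ 0 := by
    intro h0
    rw [h0, zero_smul] at hv'
    have : j z = 0 := by
      have := congrArg (g₀⁻¹ : V ≃ₗ[F] V) hv'
      rwa [inv_mul_apply, map_zero] at this
    exact R.j_ne_zero h hz0 this
  have hlam0 : lam ≠ 0 := by
    intro h0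
    rw [h0, zero_smul] at hv''
    have : j (x + z) = 0 := by
      have := congrArg (g₀⁻¹ : V ≃ₗ[F] V) hv''
      rwa [inv_mul_apply, map_zero] at this
    exact R.j_ne_zero h hxz1 this
  -- `j v`, `j v'` are independent
  have hvv' : ∀ μ ν : F, μ • j v + ν • j v' = 0 → μ = 0 ∧ ν = 0 := by
    intro μ ν hμν
    have h1 : g₀ ((μ / c) • j x + (ν / l) • j z) = 0 := by
      rw [map_add, map_smul, map_smul, hv, hv', smul_smul, smul_smul, div_mul_cancel₀ _ hc0,
        div_mul_cancel₀ _ hl0, hμν]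
    have h2 : (μ / c) • j x + (ν / l) • j z = 0 := by
      have := congrArg (g₀⁻¹ : V ≃ₗ[F] V) h1
      rwa [inv_mul_apply, map_zero] at this
    obtain ⟨h3, h4⟩ := R.indep2 h hind h2
    rw [div_eq_zero_iff] at h3 h4
    exact ⟨h3.resolve_right hc0, h4.resolve_right hl0⟩
  obtain ⟨α₁, α₂, hα⟩ := R.field_decomp (c / lam)
  obtain ⟨β₁, β₂, hβ⟩ := R.field_decomp (l / lam)
  have h5 : j v'' + θ • j 0 = j (α₁ • v + β₁ • v') + θ • j (α₂ • v + β₂ • v') := by
    have e1 : j v'' = (c / lam) • j v + (l / lam) • j v' := by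
      have : lam • j v'' = lam • ((c / lam) • j v + (l / lam) • j v') := by
        rw [← hsum, smul_add, smul_smul, smul_smul, mul_div_cancel₀ _ hlam0,
          mul_div_cancel₀ _ hlam0]
      exact smul_right_injective V hlam0 this
    rw [map_zero, smul_zero, add_zero, e1, hα, hβ, map_add, map_add, R.j_smul, R.j_smul, R.j_smul,
      R.j_smul]
    module
  obtain ⟨-, h6⟩ := R.uniq' h h5
  have h7 : φ α₂ • j v + φ β₂ • j v' = 0 := by
    rw [← R.j_smul, ← R.j_smul, ← map_add, ← h6, map_zero]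
  obtain ⟨h8, h9⟩ := hvv' _ _ h7
  rw [h8, mul_zero, add_zero] at hα
  rw [h9, mul_zero, add_zero] at hβ
  have hα0 : φ α₁ ≠ 0 := by rw [← hα]; exact div_ne_zero hc0 hlam0
  have hα0' : α₁ ≠ 0 := (map_ne_zero φ).1 hα0
  refine ⟨(β₁ / α₁) • v', ?_⟩
  rw [hv', R.j_smul, smul_smul, map_div₀, ← hα, ← hβ]
  congr 1
  field_simp

include R h in
/-- a linear automorphism mapping rational singular vectors to multiples of rational vectors
preserves the rational structure up to a scalar -/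
theorem proj_to_lin [Finite K] (hn : 9 ≤ n) (g₀ : V ≃ₗ[F] V)
    (hall : ∀ w₁, Q w₁ = 0 → ∃ (l : F) (v : Fin n → K), g₀ (j w₁) = l • j v) :
    ∃ c : F, c ≠ 0 ∧ ∀ u, ∃ v, g₀ (j u) = c • j v := by
  classical
  obtain ⟨p₀, p₀', hp₀, hp₀', hpp₀, -⟩ := exists_hyp_perp R.nd (⊥ : Submodule K (Fin n → K)) (by
    rw [finrank_bot, Fintype.card_fin]; omega)
  have hp₀0 : p₀ ≠ 0 := hyp_ne_zero hpp₀
  obtain ⟨c, v₀, hcv⟩ := hall p₀ hp₀
  have hc0 : c ≠ 0 := by
    intro h0
    rw [h0, zero_smul] at hcv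
    have : j p₀ = 0 := by
      have := congrArg (g₀⁻¹ : V ≃ₗ[F] V) hcv
      rwa [inv_mul_apply, map_zero] at this
    exact R.j_ne_zero h hp₀0 this
  refine ⟨c, hc0, ?_⟩
  have hS_add : ∀ u u', (∃ v, g₀ (j u) = c • j v) → (∃ v, g₀ (j u') = c • j v) →
      ∃ v, g₀ (j (u + u')) = c • j v := by
    rintro u u' ⟨v, hv⟩ ⟨v', hv'⟩
    exact ⟨v + v', by rw [map_add, map_add, hv, hv', map_add, smul_add]⟩
  have hS_smul : ∀ (k : K) u, (∃ v, g₀ (j u) = c • j v) → ∃ v, g₀ (j (k • u)) = c • j v := by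
    rintro k u ⟨v, hv⟩
    exact ⟨k • v, by rw [R.j_smul, map_smul, hv, R.j_smul, smul_comm]⟩
  have hsing : ∀ z, Q z = 0 → ∃ v, g₀ (j z) = c • j v := by
    intro z hz
    by_cases hz0 : z = 0
    · exact ⟨0, by rw [hz0, map_zero, map_zero, smul_zero]⟩
    obtain ⟨p, p', hp, hp', hpp', hX⟩ := exists_hyp_perp R.nd (Submodule.span K {p₀, z}) (by
      have := finrank_span_pair_le p₀ z
      rw [Fintype.card_fin]; omega)
    have h1 := hX p₀ (Submodule.subset_span (by simp))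
    have h2 := hX z (Submodule.subset_span (by simp))
    have hSp := R.pair_lemma h g₀ hall hc0 hp₀ hp h1.1 (indep_of_hyp hp₀0 h1.2 hpp') ⟨v₀, hcv⟩
    apply R.pair_lemma h g₀ hall hc0 hp hz (by rw [polar_comm]; exact h2.1) _ hSp
    intro s t hst
    have := indep_of_hyp hz0 h2.2 hpp' t s (by rw [add_comm]; exact hst)
    exact ⟨this.2, this.1⟩
  intro u
  obtain ⟨p, p', hp, hp', hpp', hX⟩ := exists_hyp_perp R.nd (Submodule.span K {u, u}) (by
    have := finrank_span_pair_le u u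
    rw [Fintype.card_fin]; omega)
  have h1 := hX u (Submodule.subset_span (by simp))
  have e : u = (u + p - Q u • p') + ((-1 : K) • p + Q u • p') := by module
  rw [e]
  apply hS_add
  · exact hsing _ (sing_corr hp hp' hpp' h1.1 h1.2)
  · apply hS_add
    · exact hS_smul _ _ (hsing p hp)
    · exact hS_smul _ _ (hsing p' hp')

include R h in
/-- an isometry of determinant one not preserving the rational structure -/
theorem exists_not_pres [Finite F] [Finite K] [FiniteDimensional F V] (hσ : orderOf σ = 2)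
    (hnd : ∀ v, (∀ w, H v w = 0) → v = 0) (hdim : 3 ≤ finrank F V) (hn : 9 ≤ n) :
    ∃ g, g ∈ isom H ∧ LinearEquiv.det g = 1 ∧
      ¬ ∃ c : F, c ≠ 0 ∧ ∀ u, ∃ v, g (j u) = c • j v := by
  classical
  obtain ⟨p₁, p₁', hp₁, hp₁', hpp₁, -⟩ := exists_hyp_perp R.nd (⊥ : Submodule K (Fin n → K)) (by
    rw [finrank_bot, Fintype.card_fin]; omega)
  obtain ⟨p₂, p₂', hp₂, hp₂', hpp₂, hX⟩ := exists_hyp_perp R.nd (Submodule.span K {p₁, p₁'}) (by
    have := finrank_span_pair_le p₁ p₁'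
    rw [Fintype.card_fin]; omega)
  have h1 := hX p₁ (Submodule.subset_span (by simp))
  have hp₁0 : p₁ ≠ 0 := hyp_ne_zero hpp₁
  have hind := indep_of_hyp hp₁0 h1.2 hpp₂
  have ha : H (j p₁) (j p₁) = 0 := by rw [R.form_self, hp₁, map_zero, mul_zero]
  have hb : H (j p₁ + θ • j p₂) (j p₁ + θ • j p₂) = 0 := by
    rw [R.norm_eq h, hp₁, hp₂, map_zero]; ring
  have ha0 : j p₁ ≠ 0 := R.j_ne_zero h hp₁0
  have hb0 : j p₁ + θ • j p₂ ≠ 0 := by
    intro h0
    exact hp₁0 (R.uniq h h0).1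
  obtain ⟨t, ht, hta⟩ := exists_T_map_iso hσ h hnd hdim ha hb ha0 hb0
  refine ⟨t, T_le_isom h ht, det_of_mem_T h ht, ?_⟩
  rintro ⟨c, hc0, hc⟩
  obtain ⟨v, hv⟩ := hc p₁
  obtain ⟨α, β, hαβ⟩ := R.j_smul_F h c v
  rw [hta, hαβ] at hv
  obtain ⟨h2, h3⟩ := R.uniq' h hv
  have h4 := hind β (-α) (by rw [h2, h3]; module)
  rw [neg_eq_zero] at h4
  apply hp₁0
  rw [h2, h4.2, zero_smul]

include R h in
/-- **Overgroups**: a subgroup of the isometry group containing the structure-preserving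
isometries of determinant one and an element not preserving the structure contains all isometries
of determinant one. -/
theorem main [Finite F] [Finite K] [FiniteDimensional F V] (hσ : orderOf σ = 2)
    (hnd : ∀ v, (∀ w, H v w = 0) → v = 0) (hdim : 4 ≤ finrank F V) (hn : 13 ≤ n)
    (M : Subgroup (V ≃ₗ[F] V)) (hMG : M ≤ isom H)
    (hM : ∀ g, g ∈ isom H → LinearEquiv.det g = 1 →
      (∃ c : F, c ≠ 0 ∧ ∀ u, ∃ v, g (j u) = c • j v) → g ∈ M)
    {g₀ : V ≃ₗ[F] V} (hg₀ : g₀ ∈ M) (hg₀P : ¬ ∃ c : F, c ≠ 0 ∧ ∀ u, ∃ v, g₀ (j u) = c • j v)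
    {g : V ≃ₗ[F] V} (hg : g ∈ isom H) (hdet : LinearEquiv.det g = 1) : g ∈ M := by
  have hM' : ∀ g, g ∈ isom H → LinearEquiv.det g = 1 → (∀ u, ∃ v, g (j u) = j v) → g ∈ M := by
    intro g hg hdet hpres
    apply hM g hg hdet
    refine ⟨1, one_ne_zero, fun u => ?_⟩
    obtain ⟨v, hv⟩ := hpres u
    exact ⟨v, by rw [hv, one_smul]⟩
  obtain ⟨w₁, hw₁, hgw₁⟩ : ∃ w₁, Q w₁ = 0 ∧ ∀ (l : F) (v : Fin n → K), g₀ (j w₁) ≠ l • j v := by
    by_contra hcon
    push Not at hcon
    exact hg₀P (R.proj_to_lin h (by omega) g₀ hcon)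
  obtain ⟨a', b', hab'⟩ := R.decomp (g₀ (j w₁))
  have hind : ∀ s t : K, s • a' + t • b' = 0 → s = 0 ∧ t = 0 := by
    intro s t hst
    by_cases ht : t = 0
    · rw [ht, zero_smul, add_zero] at hst
      by_cases hs : s = 0
      · exact ⟨hs, ht⟩
      · exfalso
        have ha' : a' = 0 := (smul_eq_zero.1 hst).resolve_left hs
        apply hgw₁ θ b'
        rw [hab', ha', map_zero, zero_add]
    · exfalso
      have hb' : b' = (-(s / t)) • a' := by
        have h1 : t • b' = (-s) • a' := by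
          rw [neg_smul]; exact eq_neg_of_add_eq_zero_right hst
        have h2 : b' = t⁻¹ • ((-s) • a') := by
          rw [← h1, smul_smul, inv_mul_cancel₀ ht, one_smul]
        rw [h2, smul_smul]
        congr 1
        field_simp
      apply hgw₁ (1 + θ * φ (-(s / t))) a'
      rw [hab', hb', R.j_smul]
      module
  obtain ⟨w, hw, hw0, hwd⟩ := R.stepA h hn M hMG hM' hg₀ hw₁ hab' hind
  have hsing := R.sing_all h M (by omega) hM' hw hw0 hwd
  exact le_of_dirSet hσ h hnd hdim M (R.dir_all h M (by omega) hMG hsing) hg hdet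

end OData

end Cfsg.Agent.H9UOrth
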