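import Mathlib
import Cfsg.Prelude
import Cfsg.Agent.Lib.Helper9.USub4

set_option autoImplicit false

/-!
The symplectic subfield subgroup of `SU_n(q)` is maximal.
-/

namespace Cfsg.Agent.H9USub

open Module Matrix Cfsg.Agent.Lib.Helper2 Cfsg.Agent.Lib.Helper2.UT
  Cfsg.Agent.Lib.Helper2.IsomDecomp Cfsg.Agent.Lib.Helper2.HermDecomp
  Cfsg.Agent.Lib.Helper2.HermFrames
  Cfsg.Agent.Lib.Helper5.PSLCoset Cfsg.Agent.Lib.Helper2.GUIsom Cfsg.Agent.H9SUMax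

variable {F : Type*} [Field F] {n : ℕ}

theorem field_decomp' {σ : F ≃+* F} (hσ2 : ∀ a : F, σ (σ a) = a) {θ : F} (hθ : σ θ ≠ θ) (l : F) :
    ∃ a b : F, σ a = a ∧ σ b = b ∧ l = a + θ * b := by
  have hθ' : θ - σ θ ≠ 0 := sub_ne_zero.2 (Ne.symm hθ)
  have hθ'' : σ θ - θ ≠ 0 := sub_ne_zero.2 hθ
  refine ⟨l - θ * ((l - σ l) / (θ - σ θ)), (l - σ l) / (θ - σ θ), ?_, ?_, by ring⟩
  · rw [map_sub, map_mul, map_div₀, map_sub, map_sub, hσ2, hσ2]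
    field_simp
    ring
  · rw [map_div₀, map_sub, map_sub, hσ2, hσ2]
    field_simp
    ring

theorem ratStr_herm [Fintype F] {q : ℕ} (hq1 : 1 < q) (F₀ : Subfield F)
    (hq : Nat.card F₀ = q) (σ : F ≃+* F) (hσq : ∀ a : F, σ a = a ^ q)
    (hσ2 : ∀ a : F, σ (σ a) = a) (ζ : F) (hζ0 : ζ ≠ 0) (hζ : ζ + ζ ^ q = 0)
    (P : GL (Fin n) F)
    (hP : Cfsg.Geo.IsFormRationalStructure (Cfsg.hermForm n F q) F₀ ζ P)
    (halt : ∀ u : Fin n → F, (∀ i, u i ∈ F₀) →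
      Cfsg.hermForm n F q ((P : Matrix (Fin n) (Fin n) F) *ᵥ u)
        ((P : Matrix (Fin n) (Fin n) F) *ᵥ u) = 0)
    (θ : F) (hθ : θ ∉ F₀) : RatStr σ (Cfsg.hermForm n F q) ζ θ (ratSub F₀ P) := by
  have hfix : ∀ a : F, σ a = a → a ∈ F₀ := by
    intro a ha
    rw [hσq] at ha
    exact mem_of_pow_eq F₀ hq hq1 ha
  have hθσ : σ θ ≠ θ := fun h0 => hθ (hfix θ h0)
  refine ⟨?_, ?_, ?_, ?_, ?_, hζ0, hθσ⟩
  · intro a ha x hx
    exact smul_mem_ratSub F₀ P (hfix a ha) hx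
  · intro x
    obtain ⟨y, hy⟩ : ∃ y, y = ((P⁻¹ : GL (Fin n) F) : Matrix (Fin n) (Fin n) F) *ᵥ x := ⟨_, rfl⟩
    choose a b ha hb hab using fun i => field_decomp' hσ2 hθσ (y i)
    refine ⟨_, ⟨a, fun i => hfix _ (ha i), rfl⟩, _, ⟨b, fun i => hfix _ (hb i), rfl⟩, ?_⟩
    rw [← Matrix.mulVec_smul, ← Matrix.mulVec_add]
    have e : a + θ • b = y := by
      funext i
      rw [Pi.add_apply, Pi.smul_apply, smul_eq_mul, ← hab i]
    rw [e, hy, Cfsg.Agent.H9SLMax.mulVec_inv_mulVec]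
  · rintro _ ⟨u, hu, rfl⟩ _ ⟨v, hv, rfl⟩
    rw [hσq]
    exact pow_eq_of_mem F₀ hq (hP u v hu hv)
  · rintro _ ⟨u, hu, rfl⟩
    exact halt u hu
  · rw [hσq]
    exact eq_neg_of_add_eq_zero_right hζ

/-- **The symplectic subfield subgroup of `SU_n(q)` is maximal.** -/
theorem subfield_symp_maximal [Fintype F] (n q : ℕ) (hF : Fintype.card F = q ^ 2)
    (hn : 13 ≤ n) (F₀ : Subfield F) (hcard : Fintype.card F = Nat.card F₀ ^ 2) (ζ : F)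
    (hζ0 : ζ ≠ 0) (hζ : ζ + ζ ^ q = 0) (P : GL (Fin n) F)
    (hP : Cfsg.Geo.IsFormRationalStructure (Cfsg.hermForm n F q) F₀ ζ P)
    (halt : ∀ u : Fin n → F, (∀ i, u i ∈ F₀) →
      Cfsg.hermForm n F q ((P : Matrix (Fin n) (Fin n) F) *ᵥ u)
        ((P : Matrix (Fin n) (Fin n) F) *ᵥ u) = 0) :
    Cfsg.Geo.IsMaximalIn (Cfsg.GU n F q ⊓ Cfsg.Geo.specialLinear (Fin n) F)
      (Cfsg.Geo.subfieldSubgroup F₀ P ⊓ (Cfsg.GU n F q ⊓ Cfsg.Geo.specialLinear (Fin n) F)) := by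
  classical
  obtain ⟨σ, hσ, hσq⟩ := exists_sigma hF
  have hσ2 := WittHerm.sigma_sigma hσ
  have hq2 : 2 ≤ q := Cfsg.Agent.Lib.Helper1.HermCount.two_le_q hF
  have h := isHerm_hermForm (F := F) n q σ hσ2 hσq
  have hnd : ∀ v : Fin n → F, (∀ w, Cfsg.hermForm n F q v w = 0) → v = 0 :=
    fun v hv => hermForm_nondeg n q (by omega) v hv
  have hdim : finrank F (Fin n → F) = n := Module.finrank_fin_fun F
  have hq : Nat.card F₀ = q := by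
    have h1 : Nat.card F₀ ^ 2 = q ^ 2 := by rw [← hcard, hF]
    exact Nat.pow_left_injective (by norm_num) h1
  -- an element outside the subfield
  obtain ⟨θ, hθ⟩ : ∃ θ : F, θ ∉ F₀ := by
    by_contra hcon
    push Not at hcon
    have htop : F₀ = ⊤ := by
      rw [eq_top_iff]; intro x _; exact hcon x
    have h1 : Nat.card F₀ = Fintype.card F := by
      rw [htop, Nat.card_eq_fintype_card]
      exact Fintype.card_congr Subfield.topEquiv.toEquiv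
    rw [hq, hF] at h1
    nlinarith
  have R := ratStr_herm (by omega) F₀ hq σ hσq hσ2 ζ hζ0 hζ P hP halt θ hθ
  obtain ⟨a₀, ha₀, ha₀0, -⟩ := R.exists_rank_two h hσ2 hnd (by rw [hdim]; omega)
  apply isMaximalIn_of (Cfsg.Geo.subfieldSubgroup F₀ P)
    (fun g => ∃ c : F, c ≠ 0 ∧ ∀ x ∈ ratSub F₀ P, ∃ w ∈ ratSub F₀ P, g x = c • w)
    (fun g => mem_subfieldSubgroup_iff F₀ P g)
  · obtain ⟨g, hg, hdet, a, ha, hga⟩ := R.exists_not_pres h hσ2 hnd hσ (by rw [hdim]; omega)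
    refine ⟨g, hg, hdet, ?_⟩
    rintro ⟨c, -, hc⟩
    obtain ⟨w, hw, hgw⟩ := hc a ha
    exact hga c w hw hgw
  · intro M' hM'G hPM g₀ hg₀ hg₀P g hg hdet
    obtain ⟨x₀, hx₀, hgx⟩ : ∃ x₀ ∈ ratSub F₀ P, ∀ l : F, ∀ w ∈ ratSub F₀ P, g₀ x₀ ≠ l • w := by
      by_contra hcon
      push Not at hcon
      exact hg₀P (R.proj_to_lin h hσ2 hnd g₀ hcon ha₀ ha₀0)
    exact R.sub_main h hσ2 hnd hσ (by rw [hdim]; omega) M' hM'G
      (fun g hg hd hpres => hPM g hg hd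
        ⟨1, one_ne_zero, fun x hx => ⟨g x, hpres x hx, (one_smul _ _).symm⟩⟩)
      hg₀ hx₀ hgx hg hdet

end Cfsg.Agent.H9USub
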