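import Mathlib
import Cfsg.Prelude
import Cfsg.Agent.Lib.Helper9.UOrth7
import Cfsg.Agent.Lib.Helper9.USub5

set_option autoImplicit false

/-!
The orthogonal subfield subgroup of `SU_n(q)`, `q` odd, is maximal.
-/

namespace Cfsg.Agent.H9UOrth

open Module Matrix QuadraticMap Cfsg.Agent.Lib.Helper2 Cfsg.Agent.Lib.Helper2.UT
  Cfsg.Agent.Lib.Helper2.IsomDecomp Cfsg.Agent.Lib.Helper2.HermDecomp
  Cfsg.Agent.Lib.Helper2.HermFrames
  Cfsg.Agent.Lib.Helper5.PSLCoset Cfsg.Agent.Lib.Helper2.GUIsom Cfsg.Agent.H9SUMax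
  Cfsg.Agent.H9USub

variable {F : Type*} [Field F] {n : ℕ}

/-- the coordinate embedding of the rational points -/
def jMap (F₀ : Subfield F) (P : GL (Fin n) F) : (Fin n → F₀) →+ (Fin n → F) where
  toFun u := (P : Matrix (Fin n) (Fin n) F) *ᵥ (fun i => (u i : F))
  map_zero' := by
    have : (fun i => (((0 : Fin n → F₀) i : F₀) : F)) = 0 := by
      funext i; rfl
    rw [this, Matrix.mulVec_zero]
  map_add' u v := by
    have : (fun i => (((u + v) i : F₀) : F)) = (fun i => (u i : F)) + (fun i => (v i : F)) := by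
      funext i; rfl
    rw [this, Matrix.mulVec_add]

theorem jMap_apply (F₀ : Subfield F) (P : GL (Fin n) F) (u : Fin n → F₀) :
    jMap F₀ P u = (P : Matrix (Fin n) (Fin n) F) *ᵥ (fun i => (u i : F)) := rfl

theorem jMap_smul (F₀ : Subfield F) (P : GL (Fin n) F) (k : F₀) (u : Fin n → F₀) :
    jMap F₀ P (k • u) = (k : F) • jMap F₀ P u := by
  rw [jMap_apply, jMap_apply, ← Matrix.mulVec_smul]
  congr 1

theorem mem_ratSub_iff (F₀ : Subfield F) (P : GL (Fin n) F) (x : Fin n → F) :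
    x ∈ ratSub F₀ P ↔ ∃ u : Fin n → F₀, x = jMap F₀ P u := by
  constructor
  · rintro ⟨u, hu, rfl⟩
    exact ⟨fun i => ⟨u i, hu i⟩, rfl⟩
  · rintro ⟨u, rfl⟩
    exact ⟨fun i => (u i : F), fun i => (u i).2, rfl⟩

theorem jMap_inj (F₀ : Subfield F) (P : GL (Fin n) F) {u : Fin n → F₀} (hu : jMap F₀ P u = 0) :
    u = 0 := by
  rw [jMap_apply] at hu
  have h1 := congrArg (fun x => ((P⁻¹ : GL (Fin n) F) : Matrix (Fin n) (Fin n) F) *ᵥ x) hu
  simp only [Cfsg.Agent.H9SLMax.inv_mulVec_mulVec, Matrix.mulVec_zero] at h1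
  funext i
  have h2 := congrFun h1 i
  exact Subtype.ext h2

theorem exists_odata [Fintype F] {q : ℕ} (hq1 : 1 < q) (h2 : (2 : F) ≠ 0) (F₀ : Subfield F)
    (hq : Nat.card F₀ = q) (σ : F ≃+* F) (hσ : orderOf σ = 2) (hσq : ∀ a : F, σ a = a ^ q)
    (hσ2 : ∀ a : F, σ (σ a) = a)
    (hnd : ∀ v : Fin n → F, (∀ w, Cfsg.hermForm n F q v w = 0) → v = 0)
    (P : GL (Fin n) F)
    (hP : Cfsg.Geo.IsFormRationalStructure (Cfsg.hermForm n F q) F₀ 1 P) :
    ∃ (Q : QuadraticForm F₀ (Fin n → F₀)) (θ : F),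
      OData σ (Cfsg.hermForm n F q) F₀.subtype Q (jMap F₀ P) θ := by
  have h := isHerm_hermForm (F := F) n q σ hσ2 hσq
  have hfix : ∀ a : F, σ a = a → a ∈ F₀ := by
    intro a ha
    rw [hσq] at ha
    exact mem_of_pow_eq F₀ hq hq1 ha
  have hfixφ : ∀ a : F, a ∈ F₀ → σ a = a := by
    intro a ha
    rw [hσq]
    exact pow_eq_of_mem F₀ hq ha
  obtain ⟨θ, hθ0, hθ⟩ := exists_skew hσ
  have hθσ : σ θ ≠ θ := by
    intro h0
    rw [hθ] at h0
    have : (2 : F) * θ = 0 := by linear_combination -h0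
    rcases mul_eq_zero.1 this with h1 | h1
    · exact h2 h1
    · exact hθ0 h1
  have hval : ∀ u v : Fin n → F₀,
      Cfsg.hermForm n F q (jMap F₀ P u) (jMap F₀ P v) ∈ F₀ := by
    intro u v
    have := hP (fun i => (u i : F)) (fun i => (v i : F)) (fun i => (u i).2) (fun i => (v i).2)
    rwa [one_mul] at this
  have hsymm : ∀ u v : Fin n → F₀, Cfsg.hermForm n F q (jMap F₀ P u) (jMap F₀ P v) =
      Cfsg.hermForm n F q (jMap F₀ P v) (jMap F₀ P u) := by
    intro u v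
    rw [h.symm (jMap F₀ P v) (jMap F₀ P u), hfixφ _ (hval v u)]
  -- the bilinear form
  obtain ⟨B, hB⟩ : ∃ B : LinearMap.BilinForm F₀ (Fin n → F₀), ∀ u v,
      ((B u v : F₀) : F) = Cfsg.hermForm n F q (jMap F₀ P u) (jMap F₀ P v) := by
    refine ⟨LinearMap.mk₂ F₀ (fun u v =>
      (⟨Cfsg.hermForm n F q (jMap F₀ P u) (jMap F₀ P v), hval u v⟩ : F₀)) ?_ ?_ ?_ ?_,
      fun u v => rfl⟩
    · intro u u' v
      apply Subtype.ext
      show Cfsg.hermForm n F q (jMap F₀ P (u + u')) (jMap F₀ P v) = _ + _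
      rw [map_add, h.add_left]
    · intro k u v
      apply Subtype.ext
      show Cfsg.hermForm n F q (jMap F₀ P (k • u)) (jMap F₀ P v) = (k : F) * _
      rw [jMap_smul, h.smul_left]
    · intro u v v'
      apply Subtype.ext
      show Cfsg.hermForm n F q (jMap F₀ P u) (jMap F₀ P (v + v')) = _ + _
      rw [map_add, h.add_right]
    · intro k u v
      apply Subtype.ext
      show Cfsg.hermForm n F q (jMap F₀ P u) (jMap F₀ P (k • v)) = (k : F) * _
      rw [jMap_smul, h.smul_right, hfixφ _ k.2]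
  have h2' : (2 : F₀) ≠ 0 := by
    intro h0
    apply h2
    have h1 := congrArg F₀.subtype h0
    rwa [map_ofNat, map_zero] at h1
  have hBsymm : ∀ u v, B u v = B v u := by
    intro u v
    apply Subtype.ext
    rw [hB, hB, hsymm]
  obtain ⟨Q, hQ⟩ : ∃ Q : QuadraticForm F₀ (Fin n → F₀), Q =
      LinearMap.BilinMap.toQuadraticMap ((2 : F₀)⁻¹ • B) := ⟨_, rfl⟩
  have hpolar : ∀ u v, polar (⇑Q) u v = B u v := by
    intro u v
    rw [hQ, LinearMap.BilinMap.polar_toQuadraticMap, LinearMap.smul_apply, LinearMap.smul_apply,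
      LinearMap.smul_apply, LinearMap.smul_apply, hBsymm v u, smul_eq_mul]
    field_simp
    ring
  -- decomposition
  have hdecomp : ∀ x : Fin n → F, ∃ u v, x = jMap F₀ P u + θ • jMap F₀ P v := by
    intro x
    obtain ⟨y, hy⟩ : ∃ y, y = ((P⁻¹ : GL (Fin n) F) : Matrix (Fin n) (Fin n) F) *ᵥ x := ⟨_, rfl⟩
    choose a b ha hb hab using fun i => field_decomp' hσ2 hθσ (y i)
    refine ⟨fun i => ⟨a i, hfix _ (ha i)⟩, fun i => ⟨b i, hfix _ (hb i)⟩, ?_⟩
    rw [jMap_apply, jMap_apply, ← Matrix.mulVec_smul, ← Matrix.mulVec_add]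
    have e : (fun i => a i) + θ • (fun i => b i) = y := by
      funext i
      rw [Pi.add_apply, Pi.smul_apply, smul_eq_mul, ← hab i]
    show x = (P : Matrix (Fin n) (Fin n) F) *ᵥ ((fun i => a i) + θ • (fun i => b i))
    rw [e, hy, Cfsg.Agent.H9SLMax.mulVec_inv_mulVec]
  have hform : ∀ u v, Cfsg.hermForm n F q (jMap F₀ P u) (jMap F₀ P v) =
      F₀.subtype (polar (⇑Q) u v) := by
    intro u v
    rw [hpolar, ← hB]
    rfl
  refine ⟨Q, θ, ⟨hσ2, fun a ha => ⟨⟨a, hfix a ha⟩, rfl⟩, fun k => hfixφ _ k.2,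
    jMap_smul F₀ P, hform, hdecomp, hθ, hθ0, ?_, h2'⟩⟩
  -- nondegeneracy
  have hleft : ∀ x, (∀ y, polar (⇑Q) x y = 0) → x = 0 := by
    intro x hx
    apply jMap_inj F₀ P
    apply hnd
    intro z
    obtain ⟨u, v, rfl⟩ := hdecomp z
    rw [h.add_right, h.smul_right, hform, hform, hx u, hx v, map_zero, mul_zero, add_zero]
  constructor
  · intro x hx
    exact hleft x hx
  · intro x hx
    apply hleft x
    intro y
    rw [polar_comm]
    exact hx y


/-- **The orthogonal subfield subgroup of `SU_n(q)`, `q` odd, is maximal.** -/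
theorem subfield_orth_maximal [Fintype F] (n q : ℕ) (hF : Fintype.card F = q ^ 2)
    (hn : 13 ≤ n) (hodd : Odd q) (F₀ : Subfield F) (hcard : Fintype.card F = Nat.card F₀ ^ 2)
    (P : GL (Fin n) F)
    (hP : Cfsg.Geo.IsFormRationalStructure (Cfsg.hermForm n F q) F₀ 1 P) :
    Cfsg.Geo.IsMaximalIn (Cfsg.GU n F q ⊓ Cfsg.Geo.specialLinear (Fin n) F)
      (Cfsg.Geo.subfieldSubgroup F₀ P ⊓ (Cfsg.GU n F q ⊓ Cfsg.Geo.specialLinear (Fin n) F)) := by
  classical
  obtain ⟨σ, hσ, hσq⟩ := exists_sigma hF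
  have hσ2 := WittHerm.sigma_sigma hσ
  have hq2 : 2 ≤ q := Cfsg.Agent.Lib.Helper1.HermCount.two_le_q hF
  have h := isHerm_hermForm (F := F) n q σ hσ2 hσq
  have hnd : ∀ v : Fin n → F, (∀ w, Cfsg.hermForm n F q v w = 0) → v = 0 :=
    fun v hv => hermForm_nondeg n q (by omega) v hv
  have hdim : finrank F (Fin n → F) = n := Module.finrank_fin_fun F
  have hq : Nat.card F₀ = q := by
    have h1 : Nat.card F₀ ^ 2 = q ^ 2 := by rw [← hcard, hF]
    exact Nat.pow_left_injective (by norm_num) h1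
  have h2 : (2 : F) ≠ 0 := by
    intro h0
    have hchar : ringChar F = 2 := by
      have h3 : ((2 : ℕ) : F) = 0 := by exact_mod_cast h0
      have h4 := (ringChar.spec F 2).1 h3
      have h5 : ringChar F ≠ 1 := by
        intro h1
        haveI := ringChar.of_eq h1
        exact CharP.ringChar_ne_one h1
      exact (Nat.dvd_prime Nat.prime_two).1 h4 |>.resolve_left h5
    have heven : Even (Fintype.card F) := by
      have := FiniteField.even_card_of_char_two hchar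
      rw [Nat.even_iff]
      exact this
    rw [hF] at heven
    exact (Nat.not_even_iff_odd.2 (Odd.pow hodd)) heven
  obtain ⟨Q, θ, R⟩ := exists_odata (by omega) h2 F₀ hq σ hσ hσq hσ2 hnd P hP
  have hPr : ∀ g : (Fin n → F) ≃ₗ[F] (Fin n → F),
      (∃ c : F, c ≠ 0 ∧ ∀ x ∈ ratSub F₀ P, ∃ w ∈ ratSub F₀ P, g x = c • w) ↔
      (∃ c : F, c ≠ 0 ∧ ∀ u, ∃ v, g (jMap F₀ P u) = c • jMap F₀ P v) := by
    intro g
    constructor
    · rintro ⟨c, hc0, hc⟩
      refine ⟨c, hc0, fun u => ?_⟩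
      obtain ⟨w, hw, hgw⟩ := hc _ ((mem_ratSub_iff F₀ P _).2 ⟨u, rfl⟩)
      obtain ⟨v, rfl⟩ := (mem_ratSub_iff F₀ P _).1 hw
      exact ⟨v, hgw⟩
    · rintro ⟨c, hc0, hc⟩
      refine ⟨c, hc0, ?_⟩
      intro x hx
      obtain ⟨u, rfl⟩ := (mem_ratSub_iff F₀ P _).1 hx
      obtain ⟨v, hv⟩ := hc u
      exact ⟨_, (mem_ratSub_iff F₀ P _).2 ⟨v, rfl⟩, hv⟩
  apply isMaximalIn_of (Cfsg.Geo.subfieldSubgroup F₀ P)
    (fun g => ∃ c : F, c ≠ 0 ∧ ∀ x ∈ ratSub F₀ P, ∃ w ∈ ratSub F₀ P, g x = c • w)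
    (fun g => mem_subfieldSubgroup_iff F₀ P g)
  · obtain ⟨g, hg, hdet, hnot⟩ := R.exists_not_pres h hσ hnd (by rw [hdim]; omega) (by omega)
    exact ⟨g, hg, hdet, fun hP' => hnot ((hPr g).1 hP')⟩
  · intro M' hM'G hPM g₀ hg₀ hg₀P g hg hdet
    exact R.main h hσ hnd (by rw [hdim]; omega) hn M' hM'G
      (fun g hg hd hp => hPM g hg hd ((hPr g).2 hp)) hg₀ (fun hp => hg₀P ((hPr g₀).2 hp)) hg hdet

end Cfsg.Agent.H9UOrth
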