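import Mathlib
import Cfsg.Agent.Lib.Helper9.SUMax3

set_option autoImplicit false
set_option maxHeartbeats 800000

/-! Pairs of complementary totally isotropic subspaces of a unitary space: basic facts. -/

namespace Cfsg.Agent.H9SUMax

open Module Cfsg.Agent.Lib.Helper2 Cfsg.Agent.Lib.Helper2.UT Cfsg.Agent.Lib.Helper2.IsomDecomp
  Cfsg.Agent.Lib.Helper2.HermDecomp Cfsg.Agent.Lib.Helper2.HermFrames
  Cfsg.Agent.Lib.Helper5.PSLCoset

universe u v

variable {F : Type v} [Field F] {σ : F ≃+* F} {V : Type u} [AddCommGroup V] [Module F V]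
  {H : V → V → F}

/-- a pair of complementary totally isotropic subspaces of dimension `k` -/
structure UPair (H : V → V → F) (A B : Submodule F V) (k : ℕ) : Prop where
  tiA : ∀ a ∈ A, ∀ a' ∈ A, H a a' = 0
  tiB : ∀ b ∈ B, ∀ b' ∈ B, H b b' = 0
  sum : ∀ x : V, ∃ a ∈ A, ∃ b ∈ B, x = a + b
  finA : finrank F A = k
  finB : finrank F B = k
  finV : finrank F V = 2 * k

namespace UPair

variable {A B : Submodule F V} {k : ℕ}

theorem symm (hp : UPair H A B k) : UPair H B A k where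
  tiA := hp.tiB
  tiB := hp.tiA
  sum := fun x => by
    obtain ⟨a, ha, b, hb, rfl⟩ := hp.sum x
    exact ⟨b, hb, a, ha, add_comm a b⟩
  finA := hp.finB
  finB := hp.finA
  finV := hp.finV

theorem pairing (hp : UPair H A B k) (h : IsHerm σ H) (hnd : ∀ v, (∀ w, H v w = 0) → v = 0)
    {a : V} (ha : a ∈ A) (h0 : ∀ b ∈ B, H a b = 0) : a = 0 := by
  apply hnd
  intro x
  obtain ⟨a', ha', b, hb, rfl⟩ := hp.sum x
  rw [h.add_right, hp.tiA a ha a' ha', h0 b hb, add_zero]

theorem disj (hp : UPair H A B k) (h : IsHerm σ H) (hnd : ∀ v, (∀ w, H v w = 0) → v = 0)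
    {x : V} (hA : x ∈ A) (hB : x ∈ B) : x = 0 :=
  hp.pairing h hnd hA (fun b hb => hp.tiB x hB b hb)

theorem inf_eq_bot (hp : UPair H A B k) (h : IsHerm σ H)
    (hnd : ∀ v, (∀ w, H v w = 0) → v = 0) : A ⊓ B = ⊥ := by
  rw [eq_bot_iff]
  intro x hx
  exact hp.disj h hnd hx.1 hx.2

theorem le_perp_left (hp : UPair H A B k) (h : IsHerm σ H) : A ≤ orthoCompl h A := by
  intro a ha a' ha'
  exact hp.tiA a' ha' a ha

end UPair

theorem orthoCompl_sup (h : IsHerm σ H) (X Y : Submodule F V) :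
    orthoCompl h (X ⊔ Y) = orthoCompl h X ⊓ orthoCompl h Y := by
  ext u
  simp only [mem_orthoCompl, Submodule.mem_inf]
  constructor
  · intro hu
    exact ⟨fun w hw => hu w (Submodule.mem_sup_left hw),
      fun w hw => hu w (Submodule.mem_sup_right hw)⟩
  · rintro ⟨h1, h2⟩ w hw
    obtain ⟨x, hx, y, hy, rfl⟩ := Submodule.mem_sup.1 hw
    rw [h.add_left, h1 x hx, h2 y hy, add_zero]

namespace UPair

variable {A B : Submodule F V} {k : ℕ} [Finite F] [FiniteDimensional F V]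

theorem perp_left (hp : UPair H A B k) (hσ : orderOf σ = 2) (h : IsHerm σ H)
    (hnd : ∀ v, (∀ w, H v w = 0) → v = 0) : orthoCompl h A = A := by
  symm
  apply Submodule.eq_of_le_of_finrank_eq (hp.le_perp_left h)
  have h1 := finrank_orthoCompl hσ h hnd A
  rw [hp.finA, hp.finV] at h1
  rw [hp.finA]
  omega

/-- dimension of `A ∩ Y^⊥` -/
theorem finrank_inf_perp (hp : UPair H A B k) (hσ : orderOf σ = 2) (h : IsHerm σ H)
    (hnd : ∀ v, (∀ w, H v w = 0) → v = 0) (Y : Submodule F V) :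
    finrank F ↥(A ⊓ orthoCompl h Y) + finrank F Y = k + finrank F ↥(A ⊓ Y) := by
  have h1 : A ⊓ orthoCompl h Y = orthoCompl h (A ⊔ Y) := by
    rw [orthoCompl_sup, hp.perp_left hσ h hnd]
  rw [h1]
  have h0 := finrank_orthoCompl hσ h hnd (A ⊔ Y)
  have h2 := Submodule.finrank_sup_add_finrank_inf_eq A Y
  have h3 : finrank F ↥(A ⊔ Y) ≤ finrank F V := Submodule.finrank_le _
  rw [hp.finA] at h2
  rw [hp.finV] at h0 h3
  omega

/-- separation: a vector of `B` orthogonal to `X ≤ A` but not to `v ∈ A ∖ X` -/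
theorem sep (hp : UPair H A B k) (hσ : orderOf σ = 2) (h : IsHerm σ H)
    (hnd : ∀ v, (∀ w, H v w = 0) → v = 0) (X : Submodule F V) (hX : X ≤ A)
    {v : V} (hvA : v ∈ A) (hv : v ∉ X) :
    ∃ b ∈ B, (∀ x ∈ X, H x b = 0) ∧ H v b ≠ 0 := by
  by_contra hcon
  push Not at hcon
  obtain ⟨X', hX'⟩ : ∃ X', X' = X ⊔ Submodule.span F {v} := ⟨_, rfl⟩
  have hX'A : X' ≤ A := by
    rw [hX']
    apply sup_le hX
    rw [Submodule.span_le]
    rintro _ rfl
    exact hvA
  have f1 := hp.symm.finrank_inf_perp hσ h hnd X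
  have f2 := hp.symm.finrank_inf_perp hσ h hnd X'
  have hBX : B ⊓ X = ⊥ := by
    rw [eq_bot_iff, ← hp.inf_eq_bot h hnd, inf_comm A B]
    exact inf_le_inf_left B hX
  have hBX' : B ⊓ X' = ⊥ := by
    rw [eq_bot_iff, ← hp.inf_eq_bot h hnd, inf_comm A B]
    exact inf_le_inf_left B hX'A
  rw [hBX, finrank_bot] at f1
  rw [hBX', finrank_bot] at f2
  have hv0 : v ≠ 0 := by
    rintro rfl
    exact hv X.zero_mem
  have hdim : finrank F X' = finrank F X + 1 := by
    have h2 := Submodule.finrank_sup_add_finrank_inf_eq X (Submodule.span F {v})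
    have h3 : X ⊓ Submodule.span F {v} = ⊥ := by
      rw [← disjoint_iff, Submodule.disjoint_span_singleton' hv0]
      exact hv
    rw [h3, finrank_bot, finrank_span_singleton hv0, ← hX'] at h2
    omega
  have hle : B ⊓ orthoCompl h X ≤ B ⊓ orthoCompl h X' := by
    intro b hb
    refine ⟨hb.1, ?_⟩
    have hbX : ∀ x ∈ X, H x b = 0 := hb.2
    have hvb := hcon b hb.1 hbX
    intro y hy
    rw [hX'] at hy
    obtain ⟨x, hx, z, hz, rfl⟩ := Submodule.mem_sup.1 hy
    obtain ⟨c, rfl⟩ := Submodule.mem_span_singleton.1 hz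
    rw [h.add_left, h.smul_left, hbX x hx, hvb, mul_zero, add_zero]
  have := Submodule.finrank_mono hle
  omega

/-- a vector of `A` orthogonal to a small subspace of `B` and outside a smaller subspace -/
theorem exists_in_perp (hp : UPair H A B k) (hσ : orderOf σ = 2) (h : IsHerm σ H)
    (hnd : ∀ v, (∀ w, H v w = 0) → v = 0) (S : Submodule F V) (hS : S ≤ B)
    (L : Submodule F V) (hL : finrank F L + finrank F S < k) :
    ∃ a ∈ A, (∀ s ∈ S, H s a = 0) ∧ a ∉ L := by
  by_contra hcon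
  push Not at hcon
  have f1 := hp.finrank_inf_perp hσ h hnd S
  have hAS : A ⊓ S = ⊥ := by
    rw [eq_bot_iff, ← hp.inf_eq_bot h hnd]
    exact inf_le_inf_left A hS
  rw [hAS, finrank_bot] at f1
  have hle : A ⊓ orthoCompl h S ≤ L := by
    intro a ha
    exact hcon a ha.1 ha.2
  have := Submodule.finrank_mono hle
  omega

end UPair

end Cfsg.Agent.H9SUMax
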