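import Mathlib
import Cfsg.Agent.Lib.Helper9.UPair1

set_option autoImplicit false
set_option maxHeartbeats 800000

/-! Eichler-type maps of a unitary space, described by their formula. -/

namespace Cfsg.Agent.H9SUMax

open Module Cfsg.Agent.Lib.Helper2 Cfsg.Agent.Lib.Helper2.UT Cfsg.Agent.Lib.Helper2.IsomDecomp
  Cfsg.Agent.Lib.Helper2.HermDecomp Cfsg.Agent.Lib.Helper2.HermFrames
  Cfsg.Agent.Lib.Helper5.PSLCoset

universe u v

variable {F : Type v} [Field F] {σ : F ≃+* F} {V : Type u} [AddCommGroup V] [Module F V]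
  {H : V → V → F}

/-- the formula of an Eichler-type map -/
def EF (H : V → V → F) (u v : V) (r : F) (x : V) : V :=
  x + H x u • v - (H x v + r * H x u) • u

/-- `M` contains an element acting by the formula `EF H u v r` -/
def InM (H : V → V → F) (M : Subgroup (V ≃ₗ[F] V)) (u v : V) (r : F) : Prop :=
  ∃ g ∈ M, ∀ x, g x = EF H u v r x

theorem EF_comp (h : IsHerm σ H) {u v v' : V} (r r' : F) (huu : H u u = 0) (hv'u : H v' u = 0)
    (huv : H u v = 0) (x : V) :
    EF H u v r (EF H u v' r' x) = EF H u (v + v') (r + r' + H v' v) x := by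
  unfold EF
  simp only [h.add_left, h.sub_left, h.smul_left, h.add_right, huu, hv'u, huv, mul_zero,
    add_zero, sub_zero]
  module

theorem apply_mul_inv (g₁ g₂ : V ≃ₗ[F] V) (φ : V → V) (hφ : ∀ x, g₁ x = φ (g₂ x)) (y : V) :
    (g₁ * g₂⁻¹) y = φ y := by
  rw [LinearEquiv.mul_apply, hφ]
  have : g₂ (g₂⁻¹ y) = y := by
    rw [← LinearEquiv.mul_apply, mul_inv_cancel]
    rfl
  rw [this]

theorem InM_congr {M : Subgroup (V ≃ₗ[F] V)} {u v u' v' : V} {r r' : F}
    (hM : InM H M u v r) (hE : ∀ x, EF H u v r x = EF H u' v' r' x) : InM H M u' v' r' := by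
  obtain ⟨g, hg, hgx⟩ := hM
  exact ⟨g, hg, fun x => (hgx x).trans (hE x)⟩

theorem InM_mul (h : IsHerm σ H) {M : Subgroup (V ≃ₗ[F] V)} {u v v' : V} {r r' : F}
    (huu : H u u = 0) (hv'u : H v' u = 0) (huv : H u v = 0)
    (hM : InM H M u v r) (hM' : InM H M u v' r') : InM H M u (v + v') (r + r' + H v' v) := by
  obtain ⟨g, hg, hgx⟩ := hM
  obtain ⟨g', hg', hgx'⟩ := hM'
  refine ⟨g * g', M.mul_mem hg hg', fun x => ?_⟩
  rw [LinearEquiv.mul_apply, hgx, hgx', EF_comp h r r' huu hv'u huv]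

/-- dividing on the right -/
theorem InM_div (h : IsHerm σ H) {M : Subgroup (V ≃ₗ[F] V)} {u v v' : V} {r r' : F}
    (huu : H u u = 0) (hv'u : H v' u = 0) (huv : H u v = 0)
    (hM : InM H M u (v + v') (r + r' + H v' v)) (hM' : InM H M u v' r') : InM H M u v r := by
  obtain ⟨g, hg, hgx⟩ := hM
  obtain ⟨g', hg', hgx'⟩ := hM'
  refine ⟨g * g'⁻¹, M.mul_mem hg (M.inv_mem hg'), fun y => ?_⟩
  apply apply_mul_inv g g' (EF H u v r)
  intro x
  rw [hgx, hgx', EF_comp h r r' huu hv'u huv]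

theorem InM_conj {M : Subgroup (V ≃ₗ[F] V)} {u v : V} {r : F} {γ : V ≃ₗ[F] V} (hγM : γ ∈ M)
    (hγ : γ ∈ isom H) (hM : InM H M u v r) : InM H M (γ u) (γ v) r := by
  obtain ⟨g, hg, hgx⟩ := hM
  refine ⟨γ * g * γ⁻¹, M.mul_mem (M.mul_mem hγM hg) (M.inv_mem hγM), fun x => ?_⟩
  have h1 : γ (γ⁻¹ x) = x := by
    rw [← LinearEquiv.mul_apply, mul_inv_cancel]
    rfl
  have h2 : ∀ y, H (γ⁻¹ x) y = H x (γ y) := by
    intro y
    rw [← hγ (γ⁻¹ x) y, h1]
  rw [LinearEquiv.mul_apply, LinearEquiv.mul_apply, hgx]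
  unfold EF
  rw [map_sub, map_add, map_smul, map_smul, h1, h2, h2]

/-- transvections in terms of the formula -/
theorem InM_tv (h : IsHerm σ H) {M : Subgroup (V ≃ₗ[F] V)} {u : V} (hu : H u u = 0) (c : F)
    (hM : InM H M u 0 (-c)) : tv h u c hu ∈ M := by
  obtain ⟨g, hg, hgx⟩ := hM
  have : tv h u c hu = g := by
    apply LinearEquiv.ext
    intro x
    rw [tv_apply, hgx]
    unfold EF
    rw [h.zero_right]
    module
  rw [this]
  exact hg

/-- commutators -/
theorem InM_comm (h : IsHerm σ H) {M : Subgroup (V ≃ₗ[F] V)} {u v v' : V} {r r' : F}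
    (huu : H u u = 0) (huv : H u v = 0) (hvu : H v u = 0) (huv' : H u v' = 0) (hv'u : H v' u = 0)
    (hM : InM H M u v r) (hM' : InM H M u v' r') : InM H M u 0 (H v' v - H v v') := by
  have h1 := InM_mul h huu hv'u huv hM hM'
  have h2 := InM_mul h huu hvu huv' hM' hM
  have hvv'u : H (v' + v) u = 0 := by rw [h.add_left, hv'u, hvu, add_zero]
  apply InM_div h (v' := v' + v) (r' := r' + r + H v v') huu hvv'u (h.zero_right u) _ h2
  apply InM_congr h1
  intro x
  rw [h.zero_right, zero_add, add_comm v v']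
  congr 1
  ring

/-- interchanging the two isotropic vectors -/
theorem EF_swap (h : IsHerm σ H) (hσ2 : ∀ a : F, σ (σ a) = a) (z a : V) (t : F) (x : V) :
    EF H z (t • a) 0 x = EF H a ((-σ t) • z) 0 x := by
  unfold EF
  rw [h.smul_right, h.smul_right, map_neg, hσ2]
  module

theorem EF_neg (h : IsHerm σ H) (a b : V) (x : V) :
    EF H a (-b) 0 x = EF H b a 0 x := by
  unfold EF
  rw [h.symm (-b) x, h.neg_left, map_neg, ← h.symm]
  module

variable [Finite F]

/-- every skew element is of the form `s - σ s` -/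
theorem exists_sub_sigma (hσ : orderOf σ = 2) (c : F) (hc : σ c = -c) : ∃ s : F, s - σ s = c := by
  obtain ⟨θ, hθ⟩ := WittHerm.exists_trace hσ (1 : F) (map_one σ)
  refine ⟨θ * c, ?_⟩
  rw [map_mul, hc]
  linear_combination c * hθ

end Cfsg.Agent.H9SUMax
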