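import Mathlib
import Cfsg.Agent.Lib.Helper9.UPair2

set_option autoImplicit false
set_option maxHeartbeats 800000

/-! Overgroups of the stabiliser of a pair of complementary totally isotropic subspaces of a
unitary space: producing a transvection direction. -/

namespace Cfsg.Agent.H9SUMax

open Module Cfsg.Agent.Lib.Helper2 Cfsg.Agent.Lib.Helper2.UT Cfsg.Agent.Lib.Helper2.IsomDecomp
  Cfsg.Agent.Lib.Helper2.HermDecomp Cfsg.Agent.Lib.Helper2.HermFrames
  Cfsg.Agent.Lib.Helper5.PSLCoset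

universe u v

variable {F : Type v} [Field F] {σ : F ≃+* F} {V : Type u} [AddCommGroup V] [Module F V]
  {H : V → V → F}

/-- `M` contains the elements `E_{a,b}` with `a ∈ A`, `b ∈ B` -/
def HasUPairElts (H : V → V → F) (M : Subgroup (V ≃ₗ[F] V)) (A B : Submodule F V) : Prop :=
  ∀ a b : V, a ∈ A → b ∈ B → H a b = 0 → InM H M a b 0

theorem HasUPairElts.symm (h : IsHerm σ H) {M : Subgroup (V ≃ₗ[F] V)} {A B : Submodule F V}
    (hH : HasUPairElts H M A B) : HasUPairElts H M B A := by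
  intro b a hb ha hba
  have h1 : H a (-b) = 0 := by rw [h.symm (-b) a, h.neg_left, hba, neg_zero, map_zero]
  apply InM_congr (hH a (-b) ha (B.neg_mem hb) h1)
  intro x
  exact EF_neg h a b x

theorem ufinrank_span_singleton_le (w : V) : finrank F ↥(Submodule.span F {w}) ≤ 1 := by
  have := finrank_span_le_card (R := F) ({w} : Set V)
  simpa using this

theorem ufinrank_span_pair_le (x y : V) : finrank F ↥(Submodule.span F {x, y}) ≤ 2 := by
  classical
  have h : finrank F ↥(Submodule.span F ((({x, y} : Finset V) : Set V))) ≤ 2 :=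
    (finrank_span_finset_le_card ({x, y} : Finset V)).trans Finset.card_le_two
  have e : ((({x, y} : Finset V) : Set V)) = {x, y} := by
    ext; simp
  rw [e] at h
  exact h

theorem ufinrank_span_triple_le (x y z : V) :
    finrank F ↥(Submodule.span F ({x, y, z} : Set V)) ≤ 3 := by
  classical
  have h : finrank F ↥(Submodule.span F ((({x, y, z} : Finset V) : Set V))) ≤ 3 :=
    (finrank_span_finset_le_card ({x, y, z} : Finset V)).trans Finset.card_le_three
  have e : ((({x, y, z} : Finset V) : Set V)) = {x, y, z} := by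
    ext; simp
  rw [e] at h
  exact h

namespace UPair

variable {A B : Submodule F V} {k : ℕ} [Finite F] [FiniteDimensional F V]

/-- **Dichotomy**: elements `E_{a, t z}` with the `A`-component of `z` off `⟨a⟩` give the
transvections at `a`. -/
theorem dir_of_extra (hp : UPair H A B k) (hσ : orderOf σ = 2) (h : IsHerm σ H)
    (hnd : ∀ v, (∀ w, H v w = 0) → v = 0)
    {M : Subgroup (V ≃ₗ[F] V)} (hH : HasUPairElts H M A B)
    {a z₁ z₂ : V} (ha : a ∈ A) (hz₁ : z₁ ∈ A) (hz₂ : z₂ ∈ B)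
    (haz : H a z₂ = 0) (hne : z₁ ∉ Submodule.span F {a})
    (hall : ∀ t : F, ∃ ρ : F, InM H M a (t • (z₁ + z₂)) ρ) : a ∈ dirSet h M := by
  have hXA : Submodule.span F {a} ≤ A := by
    rw [Submodule.span_le]
    rintro _ rfl
    exact ha
  obtain ⟨b, hb, hbX, hbz⟩ := hp.sep hσ h hnd _ hXA hz₁ hne
  have hab : H a b = 0 := hbX a (Submodule.subset_span rfl)
  have hba : H b a = 0 := eq_zero_of_symm h hab
  have haa : H a a = 0 := hp.tiA a ha a ha
  have haz' : H a (z₁ + z₂) = 0 := by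
    rw [h.add_right, hp.tiA a ha z₁ hz₁, haz, add_zero]
  have hzb : H (z₁ + z₂) b = H z₁ b := by
    rw [h.add_left, hp.tiB z₂ hz₂ b hb, add_zero]
  refine mem_dirSet_of h M haa ?_
  intro c hc
  obtain ⟨s, hs⟩ := exists_sub_sigma hσ c hc
  obtain ⟨t, ht⟩ : ∃ t : F, t = s / H z₁ b := ⟨_, rfl⟩
  obtain ⟨ρ, hρ⟩ := hall t
  have hatz : H a (t • (z₁ + z₂)) = 0 := by rw [h.smul_right, haz', mul_zero]
  have h1 := InM_comm h haa hatz (eq_zero_of_symm h hatz) hab hba hρ (hH a b ha hb hab)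
  apply InM_tv h haa c
  apply InM_congr h1
  intro x
  have e1 : H (t • (z₁ + z₂)) b = s := by
    rw [h.smul_left, hzb, ht, div_mul_cancel₀ _ hbz]
  have e2 : H b (t • (z₁ + z₂)) = σ s := by
    rw [h.symm (t • (z₁ + z₂)) b, e1]
  rw [e1, e2]
  congr 1
  rw [← hs]
  ring

/-- the key step -/
theorem step (hp : UPair H A B k) (hk : 5 ≤ k) (hσ : orderOf σ = 2) (h : IsHerm σ H)
    (hnd : ∀ v, (∀ w, H v w = 0) → v = 0)
    {M : Subgroup (V ≃ₗ[F] V)} (hMG : M ≤ isom H) (hH : HasUPairElts H M A B)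
    {z z₁ z₂ r r₁ r₂ : V} (hz₁ : z₁ ∈ A) (hz₂ : z₂ ∈ B)
    (hr₁ : r₁ ∈ A) (hr₂ : r₂ ∈ B) (hzdec : z = z₁ + z₂) (hrdec : r = r₁ + r₂) (hz₁0 : z₁ ≠ 0)
    (hzr : H z r = 0) (hzz : H z z = 0) (hr : ∀ t : F, InM H M z (t • r) 0)
    (hne : r₁ ∉ Submodule.span F {z₁}) : ∃ a ∈ A, a ≠ 0 ∧ a ∈ dirSet h M := by
  have hσ2 := WittHerm.sigma_sigma hσ
  have hXA : Submodule.span F {z₁} ≤ A := by
    rw [Submodule.span_le]
    rintro _ rfl
    exact hz₁
  obtain ⟨b, hb, hbX, hbr⟩ := hp.sep hσ h hnd _ hXA hr₁ hne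
  have hz₁b : H z₁ b = 0 := hbX z₁ (Submodule.subset_span rfl)
  have hSB : Submodule.span F ({r₂, z₂, b} : Set V) ≤ B := by
    rw [Submodule.span_le]
    rintro x hx
    rcases hx with rfl | rfl | rfl
    · exact hr₂
    · exact hz₂
    · exact hb
  obtain ⟨a, ha, haS, haL⟩ := hp.exists_in_perp hσ h hnd _ hSB (Submodule.span F {z₁}) (by
    have h1 := ufinrank_span_triple_le (F := F) r₂ z₂ b
    have h2 := ufinrank_span_singleton_le (F := F) z₁
    omega)
  have hr₂a : H r₂ a = 0 := haS r₂ (Submodule.subset_span (by simp))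
  have hz₂a : H z₂ a = 0 := haS z₂ (Submodule.subset_span (by simp))
  have hba : H b a = 0 := haS b (Submodule.subset_span (by simp))
  have hab : H a b = 0 := eq_zero_of_symm h hba
  have ha0 : a ≠ 0 := by
    rintro rfl
    exact haL (Submodule.zero_mem _)
  obtain ⟨p, hpM, hpx⟩ := hH a b ha hb hab
  have hza : H z a = 0 := by
    rw [hzdec, h.add_left, hp.tiA z₁ hz₁ a ha, hz₂a, add_zero]
  have haz : H a z = 0 := eq_zero_of_symm h hza
  have hzb : H z b = 0 := by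
    rw [hzdec, h.add_left, hz₁b, hp.tiB z₂ hz₂ b hb, add_zero]
  have hra : H r a = 0 := by
    rw [hrdec, h.add_left, hp.tiA r₁ hr₁ a ha, hr₂a, add_zero]
  have hrb : H r b = H r₁ b := by
    rw [hrdec, h.add_left, hp.tiB r₂ hr₂ b hb, add_zero]
  have hrz : H r z = 0 := eq_zero_of_symm h hzr
  have hpz : p z = z := by
    rw [hpx]
    unfold EF
    rw [hza, hzb]
    simp
  obtain ⟨β, hβ⟩ : ∃ β : F, β = H r₁ b := ⟨_, rfl⟩
  have hβ0 : β ≠ 0 := by rw [hβ]; exact hbr
  have hpr : ∀ t : F, p (t • r) = (-(t * β)) • a + t • r := by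
    intro t
    rw [hpx]
    unfold EF
    rw [h.smul_left, h.smul_left, hra, hrb, ← hβ]
    module
  -- `E_{z, -tβ a} ∈ M`
  have h1 : ∀ t : F, InM H M z ((-(t * β)) • a) 0 := by
    intro t
    have hc := InM_conj hpM (hMG hpM) (hr t)
    rw [hpz, hpr] at hc
    have hv'u : H (t • r) z = 0 := by rw [h.smul_left, hrz, mul_zero]
    have huv : H z ((-(t * β)) • a) = 0 := by rw [h.smul_right, hza, mul_zero]
    apply InM_div h (v' := t • r) (r' := 0) hzz hv'u huv _ (hr t)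
    apply InM_congr hc
    intro x
    have e : H (t • r) ((-(t * β)) • a) = 0 := by
      rw [h.smul_left, h.smul_right, hra, mul_zero, mul_zero]
    rw [e, add_zero, add_zero]
  have h7 : ∀ t : F, ∃ ρ : F, InM H M a (t • (z₁ + z₂)) ρ := by
    intro t
    refine ⟨0, ?_⟩
    obtain ⟨t', ht'⟩ : ∃ t' : F, t' = σ t / β := ⟨_, rfl⟩
    have h8 := h1 t'
    apply InM_congr h8
    intro x
    rw [EF_swap h hσ2, ← hzdec]
    congr 2
    rw [map_neg, neg_neg, ht', div_mul_cancel₀ _ hβ0, hσ2]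
  refine ⟨a, ha, ha0, ?_⟩
  apply hp.dir_of_extra hσ h hnd hH ha hz₁ hz₂ (eq_zero_of_symm h hz₂a) _ h7
  intro hmem
  obtain ⟨c, hc⟩ := Submodule.mem_span_singleton.1 hmem
  have hc0 : c ≠ 0 := by
    rintro rfl
    rw [zero_smul] at hc
    exact hz₁0 hc.symm
  apply haL
  have : a = c⁻¹ • z₁ := by rw [← hc, smul_smul, inv_mul_cancel₀ hc0, one_smul]
  rw [this]
  exact Submodule.smul_mem _ _ (Submodule.subset_span rfl)

/-- **Existence of a transvection direction** in `A ∪ B` for a group containing the pair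
elements and an element moving a point of `A` off `A ∪ B`. -/
theorem exists_dir (hp : UPair H A B k) (hk : 5 ≤ k) (hσ : orderOf σ = 2) (h : IsHerm σ H)
    (hnd : ∀ v, (∀ w, H v w = 0) → v = 0)
    {M : Subgroup (V ≃ₗ[F] V)} (hMG : M ≤ isom H) (hH : HasUPairElts H M A B)
    (γ : V ≃ₗ[F] V) (hγM : γ ∈ M) {w z₁ z₂ : V}
    (hwA : w ∈ A) (hz₁ : z₁ ∈ A) (hz₂ : z₂ ∈ B) (hz₁0 : z₁ ≠ 0) (hz₂0 : z₂ ≠ 0)
    (hγw : γ w = z₁ + z₂) :
    (∃ a ∈ A, a ≠ 0 ∧ a ∈ dirSet h M) ∨ (∃ b ∈ B, b ≠ 0 ∧ b ∈ dirSet h M) := by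
  obtain ⟨z, hzdec⟩ : ∃ z, z = z₁ + z₂ := ⟨_, rfl⟩
  rw [← hzdec] at hγw
  have hγ : γ ∈ isom H := hMG hγM
  have hR : ∀ b ∈ B, H w b = 0 → ∀ t : F, InM H M z (t • γ b) 0 := by
    intro b hb hwb t
    have hc := InM_conj hγM hγ (hH w (t • b) hwA (B.smul_mem t hb)
      (by rw [h.smul_right, hwb, mul_zero]))
    rw [hγw, map_smul] at hc
    exact hc
  -- a root vector off the plane `⟨z₁, z₂⟩`
  obtain ⟨b₀, hb₀B, hwb₀, hrP⟩ : ∃ b₀ ∈ B, H w b₀ = 0 ∧
      γ b₀ ∉ Submodule.span F {z₁, z₂} := by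
    by_contra hcon
    push Not at hcon
    have f1 := hp.symm.finrank_inf_perp hσ h hnd (Submodule.span F {w})
    have hsp := ufinrank_span_singleton_le (F := F) w
    have hle : (B ⊓ orthoCompl h (Submodule.span F {w})).map (γ : V →ₗ[F] V) ≤
        Submodule.span F {z₁, z₂} := by
      rintro _ ⟨b, hb, rfl⟩
      apply hcon b hb.1
      exact hb.2 w (Submodule.subset_span rfl)
    have h1 := Submodule.finrank_mono hle
    have h3 : finrank F ↥((B ⊓ orthoCompl h (Submodule.span F {w})).map (γ : V →ₗ[F] V)) =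
        finrank F ↥(B ⊓ orthoCompl h (Submodule.span F {w})) :=
      LinearEquiv.finrank_map_eq γ _
    have h4 := ufinrank_span_pair_le (F := F) z₁ z₂
    omega
  obtain ⟨r, hrdef⟩ : ∃ r, r = γ b₀ := ⟨_, rfl⟩
  rw [← hrdef] at hrP
  have hr : ∀ t : F, InM H M z (t • r) 0 := fun t => by rw [hrdef]; exact hR b₀ hb₀B hwb₀ t
  have hzr : H z r = 0 := by
    rw [← hγw, hrdef, hγ]; exact hwb₀
  have hzz : H z z = 0 := by
    rw [← hγw, hγ]; exact hp.tiA w hwA w hwA
  obtain ⟨r₁, hr₁, r₂, hr₂, hrdec⟩ := hp.sum r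
  by_cases hcase : r₁ ∈ Submodule.span F {z₁}
  · right
    have hne : r₂ ∉ Submodule.span F {z₂} := by
      intro hmem
      apply hrP
      rw [hrdec]
      obtain ⟨c, hc⟩ := Submodule.mem_span_singleton.1 hcase
      obtain ⟨d, hd⟩ := Submodule.mem_span_singleton.1 hmem
      rw [← hc, ← hd]
      exact Submodule.add_mem _
        (Submodule.smul_mem _ _ (Submodule.subset_span (by simp)))
        (Submodule.smul_mem _ _ (Submodule.subset_span (by simp)))
    exact hp.symm.step hk hσ h hnd hMG (hH.symm h) hz₂ hz₁ hr₂ hr₁ (hzdec.trans (add_comm _ _))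
      (hrdec.trans (add_comm _ _)) hz₂0 hzr hzz hr hne
  · left
    exact hp.step hk hσ h hnd hMG hH hz₁ hz₂ hr₁ hr₂ hzdec hrdec hz₁0 hzr hzz hr hcase

end UPair

end Cfsg.Agent.H9SUMax
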