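import Mathlib
import Cfsg.Agent.Lib.Helper9.UPair3
import Cfsg.Agent.Lib.Helper9.ProdFam

set_option autoImplicit false
set_option maxHeartbeats 800000

/-! Pairs of complementary totally isotropic subspaces of a unitary space: spreading the
transvection directions, and an element interchanging the two subspaces. -/

namespace Cfsg.Agent.H9SUMax

open Module Cfsg.Agent.Lib.Helper2 Cfsg.Agent.Lib.Helper2.UT Cfsg.Agent.Lib.Helper2.IsomDecomp
  Cfsg.Agent.Lib.Helper2.HermDecomp Cfsg.Agent.Lib.Helper2.HermFrames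
  Cfsg.Agent.Lib.Helper5.PSLCoset Cfsg.Agent.H9Prod

universe u v

variable {F : Type v} [Field F] {σ : F ≃+* F} {V : Type u} [AddCommGroup V] [Module F V]
  {H : V → V → F}

namespace UPair

variable {A B : Submodule F V} {k : ℕ} [Finite F] [FiniteDimensional F V]

/-- if one point of `A` is a transvection direction, all are -/
theorem all_dir (hp : UPair H A B k) (hσ : orderOf σ = 2) (h : IsHerm σ H)
    (hnd : ∀ v, (∀ w, H v w = 0) → v = 0)
    {M : Subgroup (V ≃ₗ[F] V)} (hMG : M ≤ isom H) (hH : HasUPairElts H M A B)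
    {a₀ : V} (ha₀ : a₀ ∈ A) (ha₀0 : a₀ ≠ 0)
    (hd : a₀ ∈ dirSet h M) : ∀ a ∈ A, a ∈ dirSet h M := by
  have hσ2 := WittHerm.sigma_sigma hσ
  intro a ha
  by_cases haa : a ∈ Submodule.span F {a₀}
  · obtain ⟨c, rfl⟩ := Submodule.mem_span_singleton.1 haa
    exact dirSet_smul hσ2 h M c hd
  · have ha0 : a ≠ 0 := by
      rintro rfl
      exact haa (Submodule.zero_mem _)
    have haa' : a₀ ∉ Submodule.span F {a} := by
      intro hmem
      obtain ⟨c, hc⟩ := Submodule.mem_span_singleton.1 hmem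
      have hc0 : c ≠ 0 := by
        rintro rfl
        rw [zero_smul] at hc
        exact ha₀0 hc.symm
      apply haa
      have : a = c⁻¹ • a₀ := by rw [← hc, smul_smul, inv_mul_cancel₀ hc0, one_smul]
      rw [this]
      exact Submodule.smul_mem _ _ (Submodule.subset_span rfl)
    have hX₀ : Submodule.span F {a₀} ≤ A := by
      rw [Submodule.span_le]; rintro _ rfl; exact ha₀
    have hX : Submodule.span F {a} ≤ A := by
      rw [Submodule.span_le]; rintro _ rfl; exact ha
    obtain ⟨b₁, hb₁, hb₁X, hb₁a⟩ := hp.sep hσ h hnd _ hX₀ ha haa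
    obtain ⟨b₂, hb₂, hb₂X, hb₂a⟩ := hp.sep hσ h hnd _ hX ha₀ haa'
    have h1 : H a₀ b₁ = 0 := hb₁X a₀ (Submodule.subset_span rfl)
    have h2 : H a b₂ = 0 := hb₂X a (Submodule.subset_span rfl)
    obtain ⟨b, hbdef⟩ : ∃ b, b = (σ (H a b₁))⁻¹ • b₁ + (σ (H a₀ b₂))⁻¹ • b₂ := ⟨_, rfl⟩
    have hbB : b ∈ B := by
      rw [hbdef]; exact B.add_mem (B.smul_mem _ hb₁) (B.smul_mem _ hb₂)
    have hab : H a b = 1 := by
      rw [hbdef, h.add_right, h.smul_right, h.smul_right, h2, mul_zero, add_zero, map_inv₀, hσ2,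
        inv_mul_cancel₀ hb₁a]
    have ha₀b : H a₀ b = 1 := by
      rw [hbdef, h.add_right, h.smul_right, h.smul_right, h1, mul_zero, zero_add, map_inv₀, hσ2,
        inv_mul_cancel₀ hb₂a]
    have hdb : H (a₀ - a) b = 0 := by
      rw [h.sub_left, hab, ha₀b, sub_self]
    obtain ⟨p, hpM, hpx⟩ := hH (a₀ - a) b (A.sub_mem ha₀ ha) hbB hdb
    have h3 := dirSet_map h M hpM (hMG hpM) hd
    have e : p a₀ = a := by
      rw [hpx]
      unfold EF
      rw [ha₀b, hp.tiA a₀ ha₀ (a₀ - a) (A.sub_mem ha₀ ha)]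
      module
    rw [e] at h3
    exact h3

/-- **an element of the group generated by the transvections interchanging `A` and `B`** -/
theorem exists_swap (hp : UPair H A B k) (hσ : orderOf σ = 2) (h : IsHerm σ H)
    (hnd : ∀ v, (∀ w, H v w = 0) → v = 0) :
    ∃ s ∈ T h, (∀ a ∈ A, s a ∈ B) ∧ (∀ b ∈ B, s b ∈ A) := by
  classical
  have hσ2 := WittHerm.sigma_sigma hσ
  have e : Basis (Fin k) F ↥A := Module.finBasisOfFinrankEq F ↥A hp.finA
  obtain ⟨E, hE⟩ : ∃ E : Fin k → V, ∀ i, E i = ((e i : ↥A) : V) := ⟨_, fun _ => rfl⟩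
  have hEA : ∀ i, E i ∈ A := fun i => by rw [hE]; exact (e i).2
  have hEli : LinearIndependent F E := by
    have h1 := e.linearIndependent.map' A.subtype (Submodule.ker_subtype A)
    have h2 : (A.subtype ∘ fun i => e i) = E := by
      funext i
      rw [hE]
      rfl
    rw [h2] at h1
    exact h1
  -- the dual vectors
  have hex : ∀ j : Fin k, ∃ b ∈ B, (∀ i, i ≠ j → H (E i) b = 0) ∧ H (E j) b ≠ 0 := by
    intro j
    have hX : Submodule.span F (E '' {i | i ≠ j}) ≤ A := by
      rw [Submodule.span_le]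
      rintro _ ⟨i, _, rfl⟩
      exact hEA i
    have hnot : E j ∉ Submodule.span F (E '' {i | i ≠ j}) := by
      apply hEli.notMem_span_image
      simp
    obtain ⟨b, hb, hbX, hbj⟩ := hp.sep hσ h hnd _ hX (hEA j) hnot
    exact ⟨b, hb, fun i hi => hbX _ (Submodule.subset_span ⟨i, hi, rfl⟩), hbj⟩
  choose b' hb'B hb'0 hb'1 using hex
  obtain ⟨f, hf⟩ : ∃ f : Fin k → V, ∀ j, f j = (σ (H (E j) (b' j)))⁻¹ • b' j :=
    ⟨_, fun _ => rfl⟩
  have hfB : ∀ j, f j ∈ B := fun j => by rw [hf]; exact B.smul_mem _ (hb'B j)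
  have hEf : ∀ i j, H (E i) (f j) = if i = j then 1 else 0 := by
    intro i j
    rw [hf, h.smul_right, map_inv₀, hσ2]
    by_cases hij : i = j
    · subst hij
      rw [if_pos rfl, inv_mul_cancel₀ (hb'1 i)]
    · rw [if_neg hij, hb'0 j i hij, mul_zero]
  have hfE : ∀ i j, H (f j) (E i) = if i = j then 1 else 0 := by
    intro i j
    rw [h.symm (E i) (f j), hEf]
    split_ifs <;> simp
  have hEE : ∀ i j, H (E i) (E j) = 0 := fun i j => hp.tiA _ (hEA i) _ (hEA j)
  have hff : ∀ i j, H (f i) (f j) = 0 := fun i j => hp.tiB _ (hfB i) _ (hfB j)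
  obtain ⟨μ, hμ0, hμ⟩ := exists_skew (F := F) hσ
  obtain ⟨ν, hν⟩ : ∃ ν : F, ν = -μ⁻¹ := ⟨_, rfl⟩
  have hνσ : σ ν = -ν := by rw [hν, map_neg, map_inv₀, hμ, inv_neg]
  have hμν : μ * ν = -1 := by rw [hν, mul_neg, mul_inv_cancel₀ hμ0]
  have hν0 : ν ≠ 0 := by rw [hν]; exact neg_ne_zero.2 (inv_ne_zero hμ0)
  obtain ⟨g, hg⟩ : ∃ g : Fin k → V, ∀ j, g j = ν • f j := ⟨_, fun _ => rfl⟩
  obtain ⟨r, hr⟩ : ∃ r : Fin k → (V ≃ₗ[F] V),
      ∀ i, r i = tv h (E i) μ (hEE i i) * (tv h (f i) ν (hff i i) * tv h (E i) μ (hEE i i)) :=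
    ⟨_, fun _ => rfl⟩
  have hrT : ∀ i, r i ∈ T h := by
    intro i
    rw [hr]
    exact (T h).mul_mem (tv_mem_T h _ _ _ hμ)
      ((T h).mul_mem (tv_mem_T h _ _ _ hνσ) (tv_mem_T h _ _ _ hμ))
  have hrE : ∀ i j, r i (E j) = if i = j then g j else E j := by
    intro i j
    rw [hr, LinearEquiv.mul_apply, LinearEquiv.mul_apply]
    have h1 : tv h (E i) μ (hEE i i) (E j) = E j := by
      rw [tv_apply, hEE, mul_zero, zero_smul, add_zero]
    rw [h1]
    by_cases hij : i = j
    · subst hij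
      rw [if_pos rfl]
      have h2 : tv h (f i) ν (hff i i) (E i) = E i + ν • f i := by
        rw [tv_apply, hEf, if_pos rfl, mul_one]
      rw [h2, tv_apply, h.add_left, h.smul_left, hEE, hfE, if_pos rfl, hg]
      have e1 : μ * (0 + ν * 1) = -1 := by rw [zero_add, mul_one, hμν]
      rw [e1]
      module
    · rw [if_neg hij]
      have h2 : tv h (f i) ν (hff i i) (E j) = E j := by
        rw [tv_apply, hEf, if_neg (fun h' => hij h'.symm), mul_zero, zero_smul, add_zero]
      rw [h2, h1]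
  have hrg : ∀ i j, r i (g j) = if i = j then - E j else g j := by
    intro i j
    rw [hr, LinearEquiv.mul_apply, LinearEquiv.mul_apply, hg]
    by_cases hij : i = j
    · subst hij
      rw [if_pos rfl]
      have h1 : tv h (E i) μ (hEE i i) (ν • f i) = ν • f i + (-1 : F) • E i := by
        rw [tv_apply, h.smul_left, hfE, if_pos rfl, mul_one, hμν]
      rw [h1]
      have h2 : tv h (f i) ν (hff i i) (ν • f i + (-1 : F) • E i) = - E i := by
        rw [tv_apply, h.add_left, h.smul_left, h.smul_left, hff, hEf, if_pos rfl]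
        module
      rw [h2, tv_apply, h.neg_left, hEE, neg_zero, mul_zero, zero_smul, add_zero]
    · rw [if_neg hij]
      have h1 : tv h (E i) μ (hEE i i) (ν • f j) = ν • f j := by
        rw [tv_apply, h.smul_left, hfE, if_neg hij, mul_zero, mul_zero, zero_smul, add_zero]
      have h2 : tv h (f i) ν (hff i i) (ν • f j) = ν • f j := by
        rw [tv_apply, h.smul_left, hff, mul_zero, mul_zero, zero_smul, add_zero]
      rw [h1, h2, h1]
  have hrE' : ∀ i j, i ≠ j → r i (- E j) = - E j := by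
    intro i j hij
    rw [map_neg, hrE, if_neg hij]
  obtain ⟨s, hs⟩ : ∃ s, s = prodFam r k := ⟨_, rfl⟩
  have hsT : s ∈ T h := by
    rw [hs]
    exact prodFam_mem r (fun x => x ∈ T h) (T h).one_mem (fun _ _ ha hb => (T h).mul_mem ha hb)
      hrT k le_rfl
  have hact := prodFam_act (fun (x : V ≃ₗ[F] V) (y : V) => x y)
    (fun _ _ _ => rfl) (fun _ => rfl) r E g (fun j => - E j) hrE hrg hrE'
  rw [← hs] at hact
  have hsE : ∀ i, s (E i) = g i := fun i => (hact i).1
  have hsg : ∀ i, s (g i) = - E i := fun i => (hact i).2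
  have hsf : ∀ i, s (f i) = ν⁻¹ • (- E i) := by
    intro i
    rw [← hsg, hg, map_smul, smul_smul, inv_mul_cancel₀ hν0, one_smul]
  refine ⟨s, hsT, ?_, ?_⟩
  · intro a ha
    have h1 : a = ∑ i, (e.repr ⟨a, ha⟩ i) • E i := by
      have h2 := e.sum_repr ⟨a, ha⟩
      have h3 := congrArg (fun x : ↥A => (x : V)) h2
      simp only [Submodule.coe_sum, Submodule.coe_smul] at h3
      refine h3.symm.trans ?_
      apply Finset.sum_congr rfl
      intro i _
      rw [hE]
    rw [h1, map_sum]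
    apply B.sum_mem
    intro i _
    rw [map_smul, hsE, hg]
    exact B.smul_mem _ (B.smul_mem _ (hfB i))
  · intro b hb
    have h1 : b = ∑ j, σ (H (E j) b) • f j := by
      have hmem : ∑ j, σ (H (E j) b) • f j ∈ B :=
        B.sum_mem (fun j _ => B.smul_mem _ (hfB j))
      have h2 : b - ∑ j, σ (H (E j) b) • f j = 0 := by
        apply hp.symm.pairing h hnd (B.sub_mem hb hmem)
        intro a ha
        apply eq_zero_of_symm h
        apply eq_zero_of_basis h A e _ _ a ha
        intro i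
        rw [← hE, h.sub_right, sum_right h]
        simp only [hσ2, hEf, mul_ite, mul_one, mul_zero]
        rw [Finset.sum_ite_eq Finset.univ i]
        simp
      exact sub_eq_zero.1 h2
    rw [h1, map_sum]
    apply A.sum_mem
    intro j _
    rw [map_smul, hsf]
    exact A.smul_mem _ (A.smul_mem _ (A.neg_mem (hEA j)))

end UPair

end Cfsg.Agent.H9SUMax
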