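import Mathlib
import Cfsg.Agent.Lib.Helper9.UPair4

set_option autoImplicit false
set_option maxHeartbeats 800000

/-! The stabiliser of a pair of complementary totally isotropic subspaces is maximal in
`SU_{2k}(q)`: assembly. -/

namespace Cfsg.Agent.H9SUMax

open Module Cfsg.Agent.Lib.Helper2 Cfsg.Agent.Lib.Helper2.UT Cfsg.Agent.Lib.Helper2.IsomDecomp
  Cfsg.Agent.Lib.Helper2.HermDecomp Cfsg.Agent.Lib.Helper2.HermFrames
  Cfsg.Agent.Lib.Helper5.PSLCoset

universe u v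

variable {F : Type v} [Field F] {σ : F ≃+* F} {V : Type u} [AddCommGroup V] [Module F V]
  {H : V → V → F}

/-- a subspace contained in the union of two subspaces lies in one of them -/
theorem usub_le_or_le (X A B : Submodule F V) (h : ∀ x ∈ X, x ∈ A ∨ x ∈ B) :
    X ≤ A ∨ X ≤ B := by
  by_contra hcon
  push Not at hcon
  obtain ⟨hA, hB⟩ := hcon
  rw [SetLike.not_le_iff_exists] at hA hB
  obtain ⟨x, hx, hxA⟩ := hA
  obtain ⟨y, hy, hyB⟩ := hB
  have hxB : x ∈ B := (h x hx).resolve_left hxA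
  have hyA : y ∈ A := (h y hy).resolve_right hyB
  rcases h (x + y) (X.add_mem hx hy) with h1 | h1
  · apply hxA
    have := A.sub_mem h1 hyA
    rwa [add_sub_cancel_right] at this
  · apply hyB
    have := B.sub_mem h1 hxB
    rwa [add_sub_cancel_left] at this

/-- mapping a subspace into a subspace of the same dimension -/
theorem umap_eq_of_mapsTo [FiniteDimensional F V] (W W' : Submodule F V)
    (hfin : finrank F W = finrank F W') (g : V ≃ₗ[F] V) (h : ∀ v ∈ W, g v ∈ W') :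
    W.map (g : V →ₗ[F] V) = W' := by
  apply Submodule.eq_of_le_of_finrank_eq
  · rintro _ ⟨v, hv, rfl⟩
    exact h v hv
  · rw [← hfin]
    exact LinearEquiv.finrank_map_eq g W

namespace UPair

variable {A B : Submodule F V} {k : ℕ} [Finite F] [FiniteDimensional F V]

theorem upair_main (hp : UPair H A B k) (hk : 5 ≤ k) (hσ : orderOf σ = 2) (h : IsHerm σ H)
    (hnd : ∀ v, (∀ w, H v w = 0) → v = 0)
    (M : Subgroup (V ≃ₗ[F] V)) (hMG : M ≤ isom H)
    (hHM : ∀ g, g ∈ isom H → LinearEquiv.det g = 1 →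
      (((∀ a ∈ A, g a ∈ A) ∧ (∀ b ∈ B, g b ∈ B)) ∨
        ((∀ a ∈ A, g a ∈ B) ∧ (∀ b ∈ B, g b ∈ A))) → g ∈ M)
    {g₀ : V ≃ₗ[F] V} (hg₀ : g₀ ∈ M)
    (hmove : ¬ (((∀ a ∈ A, g₀ a ∈ A) ∧ (∀ b ∈ B, g₀ b ∈ B)) ∨
        ((∀ a ∈ A, g₀ a ∈ B) ∧ (∀ b ∈ B, g₀ b ∈ A))))
    {g : V ≃ₗ[F] V} (hg : g ∈ isom H) (hdet : LinearEquiv.det g = 1) : g ∈ M := by
  classical
  have hσ2 := WittHerm.sigma_sigma hσ
  have hA0 : A ≠ ⊥ := by
    intro h0
    have := hp.finA
    rw [h0, finrank_bot] at this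
    omega
  have hB0 : B ≠ ⊥ := by
    intro h0
    have := hp.finB
    rw [h0, finrank_bot] at this
    omega
  -- the pair elements
  have hH : HasUPairElts H M A B := by
    intro a b ha hb hab
    have hba : H b a = 0 := eq_zero_of_symm h hab
    have haa : H a a = 0 := hp.tiA a ha a ha
    have hr : (0 : F) + σ 0 = H b b := by rw [map_zero, add_zero, hp.tiB b hb b hb]
    refine ⟨eich h a b 0 hab hba haa, ?_, fun x => eich_apply h a b 0 hab hba haa hr x⟩
    apply hHM _ (eich_mem_isom h a b 0 hab hba haa hr) (det_eich h a b 0 hab hba haa)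
    left
    constructor
    · intro x hx
      rw [eich_apply h a b 0 hab hba haa hr, hp.tiA x hx a ha, zero_smul, add_zero]
      exact A.sub_mem hx (A.smul_mem _ ha)
    · intro x hx
      rw [eich_apply h a b 0 hab hba haa hr, hp.tiB x hx b hb, zero_mul, add_zero, zero_smul,
        sub_zero]
      exact B.add_mem hx (B.smul_mem _ hb)
  have hHs := hH.symm h
  have hginv : ∀ y, g₀ (g₀⁻¹ y) = y := by
    intro y
    rw [← LinearEquiv.mul_apply, mul_inv_cancel]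
    rfl
  -- a point of `A ∪ B` moved off `A ∪ B`
  have hmove' : (∃ w ∈ A, g₀ w ∉ A ∧ g₀ w ∉ B) ∨ (∃ w ∈ B, g₀ w ∉ A ∧ g₀ w ∉ B) := by
    by_contra hcon
    push Not at hcon
    obtain ⟨hcA, hcB⟩ := hcon
    apply hmove
    have hA' : A.map (g₀ : V →ₗ[F] V) ≤ A ∨ A.map (g₀ : V →ₗ[F] V) ≤ B := by
      apply usub_le_or_le
      rintro _ ⟨a, ha, rfl⟩
      by_cases h1 : g₀ a ∈ A
      · left; exact h1
      · right; exact hcA a ha h1
    have hB' : B.map (g₀ : V →ₗ[F] V) ≤ A ∨ B.map (g₀ : V →ₗ[F] V) ≤ B := by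
      apply usub_le_or_le
      rintro _ ⟨b, hb, rfl⟩
      by_cases h1 : g₀ b ∈ A
      · left; exact h1
      · right; exact hcB b hb h1
    rcases hA' with h1 | h1 <;> rcases hB' with h2 | h2
    · exfalso
      obtain ⟨b, hbB, hb0⟩ := Submodule.exists_mem_ne_zero_of_ne_bot hB0
      obtain ⟨a', ha', b', hb', hdec⟩ := hp.sum (g₀⁻¹ b)
      have h3 : b = g₀ a' + g₀ b' := by
        rw [← map_add, ← hdec, hginv]
      have h4 : b ∈ A := by
        rw [h3]
        exact A.add_mem (h1 ⟨a', ha', rfl⟩) (h2 ⟨b', hb', rfl⟩)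
      exact hb0 (hp.disj h hnd h4 hbB)
    · left
      exact ⟨fun a ha => h1 ⟨a, ha, rfl⟩, fun b hb => h2 ⟨b, hb, rfl⟩⟩
    · right
      exact ⟨fun a ha => h1 ⟨a, ha, rfl⟩, fun b hb => h2 ⟨b, hb, rfl⟩⟩
    · exfalso
      obtain ⟨a, haA, ha0⟩ := Submodule.exists_mem_ne_zero_of_ne_bot hA0
      obtain ⟨a', ha', b', hb', hdec⟩ := hp.sum (g₀⁻¹ a)
      have h3 : a = g₀ a' + g₀ b' := by
        rw [← map_add, ← hdec, hginv]
      have h4 : a ∈ B := by
        rw [h3]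
        exact B.add_mem (h1 ⟨a', ha', rfl⟩) (h2 ⟨b', hb', rfl⟩)
      exact ha0 (hp.disj h hnd haA h4)
  -- a transvection direction
  have hdir : (∃ y ∈ A, y ≠ 0 ∧ y ∈ dirSet h M) ∨ (∃ y ∈ B, y ≠ 0 ∧ y ∈ dirSet h M) := by
    rcases hmove' with ⟨w, hwA, hγwA, hγwB⟩ | ⟨w, hwB, hγwA, hγwB⟩
    · obtain ⟨z₁, hz₁, z₂, hz₂, hdec⟩ := hp.sum (g₀ w)
      have hz₁0 : z₁ ≠ 0 := by
        rintro rfl
        rw [zero_add] at hdec
        exact hγwB (hdec ▸ hz₂)
      have hz₂0 : z₂ ≠ 0 := by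
        rintro rfl
        rw [add_zero] at hdec
        exact hγwA (hdec ▸ hz₁)
      exact hp.exists_dir hk hσ h hnd hMG hH g₀ hg₀ hwA hz₁ hz₂ hz₁0 hz₂0 hdec
    · obtain ⟨z₁, hz₁, z₂, hz₂, hdec⟩ := hp.sum (g₀ w)
      have hz₁0 : z₁ ≠ 0 := by
        rintro rfl
        rw [zero_add] at hdec
        exact hγwB (hdec ▸ hz₂)
      have hz₂0 : z₂ ≠ 0 := by
        rintro rfl
        rw [add_zero] at hdec
        exact hγwA (hdec ▸ hz₁)
      exact (hp.symm.exists_dir hk hσ h hnd hMG hHs g₀ hg₀ hwB hz₂ hz₁ hz₂0 hz₁0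
        (hdec.trans (add_comm _ _))).symm
  -- the swap
  obtain ⟨s, hsT, hsA, hsB⟩ := hp.exists_swap hσ h hnd
  have hsi : s ∈ isom H := T_le_isom h hsT
  have hsM : s ∈ M := hHM s hsi (det_of_mem_T h hsT) (Or.inr ⟨hsA, hsB⟩)
  have hs0 : ∀ y, y ≠ 0 → s y ≠ 0 := by
    intro y hy0 h0
    apply hy0
    have := s.injective (h0.trans (map_zero s).symm)
    exact this
  -- all points of `A` and of `B` are directions
  have hboth : (∀ a ∈ A, a ∈ dirSet h M) ∧ (∀ b ∈ B, b ∈ dirSet h M) := by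
    rcases hdir with ⟨y, hy, hy0, hfy⟩ | ⟨y, hy, hy0, hfy⟩
    · exact ⟨hp.all_dir hσ h hnd hMG hH hy hy0 hfy,
        hp.symm.all_dir hσ h hnd hMG hHs (hsA y hy) (hs0 y hy0) (dirSet_map h M hsM hsi hfy)⟩
    · exact ⟨hp.all_dir hσ h hnd hMG hH (hsB y hy) (hs0 y hy0) (dirSet_map h M hsM hsi hfy),
        hp.symm.all_dir hσ h hnd hMG hHs hy hy0 hfy⟩
  obtain ⟨hallA, hallB⟩ := hboth
  obtain ⟨μ, hμ0, hμ⟩ := exists_skew (F := F) hσ
  have hμi : σ μ⁻¹ = -μ⁻¹ := by rw [map_inv₀, hμ, inv_neg]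
  apply le_of_dirSet hσ h hnd (by rw [hp.finV]; omega) M _ hg hdet
  intro x hxx
  obtain ⟨a, ha, b, hb, rfl⟩ := hp.sum x
  by_cases ha0 : a = 0
  · rw [ha0, zero_add]
    exact hallB b hb
  · by_cases hab : H a b = 0
    · obtain ⟨b'', hb''B, hab''⟩ : ∃ b'' ∈ B, H a b'' ≠ 0 := by
        by_contra hcon
        push Not at hcon
        exact ha0 (hp.pairing h hnd ha hcon)
      obtain ⟨b', hb'def⟩ : ∃ b', b' = σ (μ / H a b'') • b'' := ⟨_, rfl⟩
      have hb'B : b' ∈ B := by rw [hb'def]; exact B.smul_mem _ hb''B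
      have hab' : H a b' = μ := by
        rw [hb'def, h.smul_right, hσ2, div_mul_cancel₀ _ hab'']
      have h1 : a + b' ∈ dirSet h M := by
        have := dirSet_tv h M hMG (hallB b' hb'B) (hallA a ha) μ⁻¹ hμi
        rwa [hab', inv_mul_cancel₀ hμ0, one_smul] at this
      have h2 : H (a + b') (b - b') = -μ := by
        rw [h.add_left, h.sub_right, h.sub_right, hab, hab', hp.tiB b' hb'B b hb,
          hp.tiB b' hb'B b' hb'B]
        ring
      have h3 := dirSet_tv h M hMG (hallB _ (B.sub_mem hb hb'B)) h1 (-μ⁻¹)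
        (by rw [map_neg, hμi])
      rw [h2] at h3
      have e : a + b' + (-μ⁻¹ * -μ) • (b - b') = a + b := by
        have : -μ⁻¹ * -μ = 1 := by rw [neg_mul_neg, inv_mul_cancel₀ hμ0]
        rw [this, one_smul]
        abel
      rw [e] at h3
      exact h3
    · have hsk : σ (H a b) = -(H a b) := by
        have h1 : H (a + b) (a + b) = H a b + σ (H a b) := by
          rw [h.add_left, h.add_right, h.add_right, hp.tiA a ha a ha, hp.tiB b hb b hb,
            h.symm a b]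
          ring
        rw [hxx] at h1
        linear_combination -h1
      have hski : σ (H a b)⁻¹ = -(H a b)⁻¹ := by rw [map_inv₀, hsk, inv_neg]
      have := dirSet_tv h M hMG (hallB b hb) (hallA a ha) (H a b)⁻¹ hski
      rwa [inv_mul_cancel₀ hab, one_smul] at this

end UPair

end Cfsg.Agent.H9SUMax
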