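import Mathlib
import Cfsg.Agent.Lib.Helper9.UPair5

set_option autoImplicit false
set_option maxHeartbeats 800000

/-! The stabiliser of a pair of complementary totally isotropic subspaces is maximal in
`SU_{2k}(q)`: the matrix statement. -/

namespace Cfsg.Agent.H9SUMax

open Module Cfsg.Agent.Lib.Helper2 Cfsg.Agent.Lib.Helper2.UT Cfsg.Agent.Lib.Helper2.IsomDecomp
  Cfsg.Agent.Lib.Helper2.HermDecomp Cfsg.Agent.Lib.Helper2.HermFrames
  Cfsg.Agent.Lib.Helper5.PSLCoset Cfsg.Agent.Lib.Helper2.GUIsom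

theorem su_pair_stab_maximal {F : Type*} [Field F] [Fintype F] (n q : ℕ)
    (hF : Fintype.card F = q ^ 2) (k : ℕ) (hk5 : 5 ≤ k) (hk : 2 * k = n)
    (D : Fin 2 → Submodule F (Fin n → F)) (hD : Cfsg.Geo.IsMDecomposition k D)
    (hts : ∀ i, Cfsg.Geo.IsTotallySingularFor (Cfsg.hermForm n F q) (D i)) :
    Cfsg.Geo.IsMaximalIn (Cfsg.GU n F q ⊓ Cfsg.Geo.specialLinear (Fin n) F)
      (Cfsg.Geo.decompositionStabilizer D ⊓
        (Cfsg.GU n F q ⊓ Cfsg.Geo.specialLinear (Fin n) F)) := by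
  classical
  obtain ⟨σ, hσ, hσq⟩ := exists_sigma hF
  have hσ2 := WittHerm.sigma_sigma hσ
  have hq2 : 2 ≤ q := Cfsg.Agent.Lib.Helper1.HermCount.two_le_q hF
  have h := isHerm_hermForm (F := F) n q σ hσ2 hσq
  have hnd : ∀ v : Fin n → F, (∀ w, Cfsg.hermForm n F q v w = 0) → v = 0 :=
    fun v hv => hermForm_nondeg n q (by omega) v hv
  have hdim : finrank F (Fin n → F) = n := Module.finrank_fin_fun F
  have hcoe : ∀ g : GL (Fin n) F,
      ((glLin n F g : (Fin n → F) ≃ₗ[F] (Fin n → F)) : (Fin n → F) →ₗ[F] (Fin n → F)) =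
      Matrix.toLin' (g : Matrix (Fin n) (Fin n) F) := by
    intro g
    apply LinearMap.ext
    intro x
    rw [Matrix.toLin'_apply]
    rfl
  obtain ⟨A, hA⟩ : ∃ A, A = D 0 := ⟨_, rfl⟩
  obtain ⟨B, hB⟩ : ∃ B, B = D 1 := ⟨_, rfl⟩
  have hsup : A ⊔ B = ⊤ := by
    rw [hA, hB, ← hD.iSup_eq_top]
    apply le_antisymm
    · exact sup_le (le_iSup D 0) (le_iSup D 1)
    · apply iSup_le
      intro i
      fin_cases i
      · exact le_sup_left
      · exact le_sup_right
  have hAk : finrank F A = k := by rw [hA]; exact hD.finrank_eq 0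
  have hBk : finrank F B = k := by rw [hB]; exact hD.finrank_eq 1
  have hp : UPair (Cfsg.hermForm n F q) A B k :=
    { tiA := by rw [hA]; exact hts 0
      tiB := by rw [hB]; exact hts 1
      sum := fun x => by
        have hx : x ∈ A ⊔ B := by rw [hsup]; trivial
        obtain ⟨a, ha, b, hb, rfl⟩ := Submodule.mem_sup.1 hx
        exact ⟨a, ha, b, hb, rfl⟩
      finA := hAk
      finB := hBk
      finV := by rw [hdim, hk] }
  have hA0 : A ≠ ⊥ := by
    intro h0
    rw [h0, finrank_bot] at hAk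
    omega
  have hAB : A ≠ B := by
    intro heq
    have := hp.inf_eq_bot h hnd
    rw [← heq, inf_idem] at this
    exact hA0 this
  -- membership in the decomposition stabiliser
  have hPof : ∀ g : (Fin n → F) ≃ₗ[F] (Fin n → F),
      (((∀ a ∈ A, g a ∈ A) ∧ (∀ b ∈ B, g b ∈ B)) ∨
        ((∀ a ∈ A, g a ∈ B) ∧ (∀ b ∈ B, g b ∈ A))) →
      ∃ π : Equiv.Perm (Fin 2), ∀ i,
        (D i).map (g : (Fin n → F) →ₗ[F] (Fin n → F)) = D (π i) := by
    intro g hg
    rcases hg with ⟨hgA, hgB⟩ | ⟨hgA, hgB⟩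
    · refine ⟨1, fun i => ?_⟩
      fin_cases i
      · show (D 0).map _ = D 0
        rw [← hA]
        exact umap_eq_of_mapsTo A A rfl g hgA
      · show (D 1).map _ = D 1
        rw [← hB]
        exact umap_eq_of_mapsTo B B rfl g hgB
    · refine ⟨Equiv.swap 0 1, fun i => ?_⟩
      fin_cases i
      · show (D 0).map _ = D (Equiv.swap 0 1 0)
        rw [Equiv.swap_apply_left, ← hA, ← hB]
        exact umap_eq_of_mapsTo A B (hAk.trans hBk.symm) g hgA
      · show (D 1).map _ = D (Equiv.swap 0 1 1)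
        rw [Equiv.swap_apply_right, ← hA, ← hB]
        exact umap_eq_of_mapsTo B A (hBk.trans hAk.symm) g hgB
  apply isMaximalIn_of (Cfsg.Geo.decompositionStabilizer D)
    (fun g => ∃ π : Equiv.Perm (Fin 2), ∀ i,
      (D i).map (g : (Fin n → F) →ₗ[F] (Fin n → F)) = D (π i))
  · intro g
    constructor
    · rintro ⟨π, hπ⟩
      refine ⟨π, fun i => ?_⟩
      rw [hcoe]
      exact hπ i
    · rintro ⟨π, hπ⟩
      refine ⟨π, fun i => ?_⟩
      rw [← hcoe]
      exact hπ i
  · -- an element of `SU` not in the stabiliser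
    obtain ⟨a, haA, ha0⟩ := Submodule.exists_mem_ne_zero_of_ne_bot hA0
    obtain ⟨b, hbB, hab⟩ : ∃ b ∈ B, Cfsg.hermForm n F q a b ≠ 0 := by
      by_contra hcon
      push Not at hcon
      exact ha0 (hp.pairing h hnd haA hcon)
    obtain ⟨μ, hμ0, hμ⟩ := exists_skew (F := F) hσ
    have haa : Cfsg.hermForm n F q a a = 0 := hp.tiA a haA a haA
    refine ⟨tv h a μ haa, tv_mem_isom h a μ haa hμ, det_tv h a μ haa, ?_⟩
    rintro ⟨π, hπ⟩
    have hfix : ∀ x ∈ A, tv h a μ haa x = x := by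
      intro x hx
      rw [tv_apply, hp.tiA x hx a haA, mul_zero, zero_smul, add_zero]
    have h0 : D (π 0) = D 0 := by
      rw [← hπ 0, ← hA]
      apply le_antisymm
      · rintro _ ⟨x, hx, rfl⟩
        show tv h a μ haa x ∈ A
        rw [hfix x hx]
        exact hx
      · intro x hx
        exact ⟨x, hx, hfix x hx⟩
    have hπ0 : π 0 = 0 := by
      by_contra hne
      have : π 0 = 1 := by
        have : ∀ j : Fin 2, j ≠ 0 → j = 1 := by decide
        exact this _ hne
      rw [this, ← hA, ← hB] at h0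
      exact hAB h0.symm
    have hπ1 : π 1 = 1 := by
      by_contra hne
      have h1 : π 1 = 0 := by
        have : ∀ j : Fin 2, j ≠ 1 → j = 0 := by decide
        exact this _ hne
      have := π.injective (h1.trans hπ0.symm)
      exact absurd this (by decide)
    have hEb : tv h a μ haa b ∈ B := by
      have h1 := hπ 1
      rw [hπ1, ← hB] at h1
      have hmem : tv h a μ haa b ∈
          B.map ((tv h a μ haa : (Fin n → F) ≃ₗ[F] (Fin n → F)) :
            (Fin n → F) →ₗ[F] (Fin n → F)) := ⟨b, hbB, rfl⟩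
      rw [h1] at hmem
      exact hmem
    rw [tv_apply] at hEb
    have hba : Cfsg.hermForm n F q b a ≠ 0 := by
      intro h0
      exact hab (eq_zero_of_symm h h0)
    have h3 : (μ * Cfsg.hermForm n F q b a) • a ∈ B := by
      have := B.sub_mem hEb hbB
      rwa [add_sub_cancel_left] at this
    have h4 : a ∈ B := by
      have := B.smul_mem (μ * Cfsg.hermForm n F q b a)⁻¹ h3
      rwa [smul_smul, inv_mul_cancel₀ (mul_ne_zero hμ0 hba), one_smul] at this
    exact ha0 (hp.disj h hnd haA h4)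
  · intro M' hM'G hPM g₀ hg₀ hg₀P g hg hdet
    exact hp.upair_main hk5 hσ h hnd M' hM'G
      (fun g hg hdet hgP => hPM g hg hdet (hPof g hgP)) hg₀
      (fun hcon => hg₀P (hPof g₀ hcon)) hg hdet

end Cfsg.Agent.H9SUMax
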