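import Mathlib
import Cfsg.Agent.Lib.Helper4.VLBasic
import Cfsg.Agent.Lib.Helper9.VLTools

set_option autoImplicit false

/-! S3777 (Vaughan-Lee), Step 1 (Theorem T): if `(G, M) ∈ Hyp_b` and `G' ≠ M'` then
`|G'| ≤ p^(b(b+1)/2)`, given the statement `P` for all smaller groups. -/

namespace Cfsg.Agent.Lib.Helper9.VL

open Subgroup Cfsg.Agent.Lib.Helper4.VL
open scoped commutatorElement

universe u

section general

variable {G : Type*} [Group G]

/-- `Z*`: the preimage of the centre of `G ⧸ N`. -/
def centMod (N : Subgroup G) [N.Normal] : Subgroup G :=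
  (center (G ⧸ N)).comap (QuotientGroup.mk' N)

instance centMod_normal (N : Subgroup G) [N.Normal] : (centMod N).Normal := by
  unfold centMod
  infer_instance

theorem mem_centMod_iff (N : Subgroup G) [N.Normal] (g : G) :
    g ∈ centMod N ↔ ∀ y : G, ⁅y, g⁆ ∈ N := by
  unfold centMod
  rw [Subgroup.mem_comap, Subgroup.mem_center_iff]
  constructor
  · intro h y
    have h1 := h (QuotientGroup.mk' N y)
    rw [← (QuotientGroup.eq_one_iff (N := N) ⁅y, g⁆)]
    have h2 : ((⁅y, g⁆ : G) : G ⧸ N) =
        ⁅(QuotientGroup.mk' N y), (QuotientGroup.mk' N g)⁆ := by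
      simp [commutatorElement_def]
    rw [h2, commutatorElement_eq_one_iff_mul_comm]
    exact h1
  · intro h q
    obtain ⟨y, rfl⟩ := QuotientGroup.mk'_surjective N q
    have h1 := h y
    rw [← (QuotientGroup.eq_one_iff (N := N) ⁅y, g⁆)] at h1
    have h2 : ((⁅y, g⁆ : G) : G ⧸ N) =
        ⁅(QuotientGroup.mk' N y), (QuotientGroup.mk' N g)⁆ := by
      simp [commutatorElement_def]
    rw [h2, commutatorElement_eq_one_iff_mul_comm] at h1
    exact h1

/-- if `G = Z* ⟨x⟩` then `G ⧸ N` is abelian. -/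
theorem commutator_le_of_centMod_sup_zpowers (N : Subgroup G) [N.Normal] (x : G)
    (h : centMod N ⊔ zpowers x = ⊤) : commutator G ≤ N := by
  -- `x` commutes with everything modulo `N`
  have hx : x ∈ centMod N := by
    rw [mem_centMod_iff]
    intro y
    rw [← mem_comap_centralizer_mk N x y]
    have hle : centMod N ⊔ zpowers x ≤
        (centralizer {(QuotientGroup.mk' N x)}).comap (QuotientGroup.mk' N) := by
      apply sup_le
      · intro g hg
        rw [mem_comap_centralizer_mk]
        exact (mem_centMod_iff N g).mp hg x |> fun h1 => by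
          -- ⁅x, g⁆ ∈ N ⇒ ⁅g, x⁆ ∈ N
          have h2 : ⁅g, x⁆ = ⁅x, g⁆⁻¹ := (commutatorElement_inv x g).symm
          rw [h2]
          exact N.inv_mem h1
      · rw [zpowers_le, mem_comap_centralizer_mk]
        rw [commutatorElement_self]
        exact N.one_mem
    rw [h] at hle
    exact hle (mem_top y)
  have htop : centMod N = ⊤ := by
    rw [← h]
    apply le_antisymm le_sup_left
    apply sup_le le_rfl
    rw [zpowers_le]
    exact hx
  rw [commutator_def, Subgroup.commutator_le]
  intro a _ b _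
  have hb : b ∈ centMod N := by rw [htop]; exact mem_top b
  exact (mem_centMod_iff N b).mp hb a

end general

section finite

variable {p : ℕ} {G : Type u} [Group G]

/-- there is a second maximal subgroup over `Z*` when `G ⧸ N` is not abelian -/
theorem exists_index_p_ne [hp : Fact p.Prime] [Finite G] (hG : IsPGroup p G)
    (N : Subgroup G) [N.Normal] (hN : ¬ commutator G ≤ N) (M : Subgroup G) (hMi : M.index = p) :
    ∃ H : Subgroup G, centMod N ≤ H ∧ H.Normal ∧ H.index = p ∧ H ≠ M := by
  by_contra hcon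
  push Not at hcon
  have hMtop : M ≠ ⊤ := by
    intro h
    rw [h, index_top] at hMi
    exact hp.out.one_lt.ne hMi
  obtain ⟨x, hx⟩ : ∃ x : G, x ∉ M := by
    by_contra h
    push Not at h
    exact hMtop (eq_top_iff.mpr fun y _ => h y)
  by_cases hK : centMod N ⊔ zpowers x = ⊤
  · exact hN (commutator_le_of_centMod_sup_zpowers N x hK)
  · obtain ⟨H, hKH, hHn, hHi⟩ := exists_normal_index_p_of_ne_top hG hK
    have hHM : H = M := hcon H (le_sup_left.trans hKH) hHn hHi
    apply hx
    rw [← hHM]
    exact hKH (le_sup_right (a := centMod N) (mem_zpowers x))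

/-- for `u ∈ H \ M` the centralizer of `u` lies in `H` (where `H ≥ Z*`, `N = M'`) -/
theorem centralizer_le_of_centMod_le [hp : Fact p.Prime] [Finite G]
    (M : Subgroup G) [hMn : M.Normal] (hMi : M.index = p) (H : Subgroup G)
    (hZH : centMod ⁅M, M⁆ ≤ H) (u : G) (huH : u ∈ H) (huM : u ∉ M) :
    centralizer ({u} : Set G) ≤ H := by
  intro c hc
  have htop : M ⊔ zpowers u = ⊤ := sup_zpowers_eq_top_of_index_prime M hMi u huM
  have hc' : c ∈ ((M ⊔ zpowers u : Subgroup G) : Set G) := by
    rw [htop]; exact mem_top c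
  rw [Subgroup.normal_mul] at hc'
  obtain ⟨m, hm, z, hz, rfl⟩ := hc'
  have hzH : z ∈ H := (zpowers_le.mpr huH) hz
  apply H.mul_mem _ hzH
  apply hZH
  -- `m` commutes with `u`
  have hzu : u * z = z * u := by
    obtain ⟨k, rfl⟩ := mem_zpowers_iff.mp hz
    exact (Commute.zpow_right (Commute.refl u) k).eq
  have hcu : u * (m * z) = (m * z) * u :=
    (mem_centralizer_iff.mp hc) u (Set.mem_singleton u)
  have hmu : u * m = m * u := by
    have h1 : u * m * z = m * u * z := by
      calc u * m * z = u * (m * z) := mul_assoc _ _ _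
        _ = m * z * u := hcu
        _ = m * (z * u) := mul_assoc _ _ _
        _ = m * (u * z) := by rw [hzu]
        _ = m * u * z := (mul_assoc _ _ _).symm
    exact mul_right_cancel h1
  rw [mem_centMod_iff]
  intro y
  rw [← mem_comap_centralizer_mk ⁅M, M⁆ m y]
  have hle : M ⊔ zpowers u ≤
      (centralizer {(QuotientGroup.mk' ⁅M, M⁆ m)}).comap (QuotientGroup.mk' ⁅M, M⁆) := by
    apply sup_le
    · intro a ha
      rw [mem_comap_centralizer_mk]
      exact Subgroup.commutator_mem_commutator ha hm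
    · rw [zpowers_le, mem_comap_centralizer_mk]
      have : ⁅u, m⁆ = 1 := by
        rw [commutatorElement_eq_one_iff_mul_comm]; exact hmu
      rw [this]
      exact Subgroup.one_mem _
  rw [htop] at hle
  exact hle (mem_top y)

/-- two distinct subgroups of index `p` do not cover the group -/
theorem exists_not_mem_not_mem [hp : Fact p.Prime] [Finite G] (H M : Subgroup G)
    (hHi : H.index = p) (hMi : M.index = p) (hHM : H ≠ M) :
    (∃ h : G, h ∈ H ∧ h ∉ M) ∧ ∃ y : G, y ∉ H ∧ y ∉ M := by
  have key : ∀ A B : Subgroup G, A.index = p → B.index = p → A ≠ B → ∃ a : G, a ∈ A ∧ a ∉ B := by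
    intro A B hA hB hAB
    by_contra hcon
    push Not at hcon
    have hle : A ≤ B := fun a ha => hcon a ha
    have h1 := Subgroup.relIndex_mul_index hle
    rw [hA, hB] at h1
    have h2 : A.relIndex B = 1 := by
      have : A.relIndex B * p = 1 * p := by rw [h1, one_mul]
      exact Nat.eq_of_mul_eq_mul_right hp.out.pos this
    exact hAB (le_antisymm hle (Subgroup.relIndex_eq_one.mp h2))
  obtain ⟨h, hhH, hhM⟩ := key H M hHi hMi hHM
  obtain ⟨m, hmM, hmH⟩ := key M H hMi hHi (Ne.symm hHM)
  refine ⟨⟨h, hhH, hhM⟩, h * m, ?_, ?_⟩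
  · intro hy
    exact hmH ((Subgroup.mul_mem_cancel_left H hhH).mp hy)
  · intro hy
    exact hhM ((Subgroup.mul_mem_cancel_right M hmM).mp hy)

theorem tri_step1 (b : ℕ) : (b + 1) * (b + 1 + 1) / 2 = b * (b + 1) / 2 + (b + 1) := by
  have h1 : (b + 1) * (b + 1 + 1) = b * (b + 1) + 2 * (b + 1) := by ring
  rw [h1, Nat.add_mul_div_left _ _ (by norm_num : 0 < 2)]

/-- Step 1 (Theorem T). -/
theorem card_commutator_le_of_commutator_ne [hp : Fact p.Prime] [Finite G] (hG : IsPGroup p G)
    (IH : ∀ (H : Type u) [Group H] [Finite H], IsPGroup p H → Nat.card H < Nat.card G →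
      PStatement p H)
    (M : Subgroup G) (b : ℕ) (hM : Hyp p b M) (hne : ⁅M, M⁆ ≠ commutator G) :
    Nat.card (commutator G) ≤ p ^ (b * (b + 1) / 2) := by
  obtain ⟨hMn, hMi, hMb⟩ := hM
  have hp1 : 1 < p := hp.out.one_lt
  have hN : ¬ commutator G ≤ ⁅M, M⁆ := by
    intro h
    apply hne
    apply le_antisymm _ h
    rw [commutator_def]
    exact Subgroup.commutator_mono le_top le_top
  obtain ⟨H, hZH, hHn, hHi, hHM⟩ := exists_index_p_ne hG ⁅M, M⁆ hN M hMi
  obtain ⟨⟨h0, hh0H, hh0M⟩, y, hyH, hyM⟩ := exists_not_mem_not_mem H M hHi hMi hHM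
  -- the centralizer index in `H`
  have hidx : ∀ u : H, (u : G) ∉ M →
      (centralizer ({u} : Set H)).index * p ≤ p ^ b := by
    intro u hu
    have h1 := centralizer_le_of_centMod_le M hMi H hZH (u : G) u.2 hu
    have h2 := index_centralizer_subgroup_mul H u h1
    rw [hHi] at h2
    rw [h2]
    exact hMb (u : G) hu
  -- `b ≥ 1`
  obtain ⟨b', rfl⟩ : ∃ b' : ℕ, b = b' + 1 := by
    rcases b with _ | b'
    · exfalso
      have h1 := hidx ⟨h0, hh0H⟩ hh0M
      rw [pow_zero] at h1
      have h2 : 0 < (centralizer ({(⟨h0, hh0H⟩ : H)} : Set H)).index :=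
        Nat.pos_of_ne_zero Subgroup.index_ne_zero_of_finite
      nlinarith
    · exact ⟨b', rfl⟩
  -- `Hyp` for `H`
  have hHnM : ¬ H ≤ M := fun hle => hh0M (hle hh0H)
  have hsup : M ⊔ H = ⊤ := by
    have h1 := sup_zpowers_eq_top_of_index_prime M hMi h0 hh0M
    apply le_antisymm le_top
    rw [← h1]
    exact sup_le_sup_left (zpowers_le.mpr hh0H) M
  have hrel : M.relIndex H = p := by
    rw [← Subgroup.relIndex_sup_left, hsup, Subgroup.relIndex_top_right, hMi]
  have hHyp : Hyp p b' (M.subgroupOf H) := by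
    refine ⟨hMn.subgroupOf H, hrel, ?_⟩
    intro u hu
    have hu' : (u : G) ∉ M := fun h => hu (Subgroup.mem_subgroupOf.mpr h)
    have h1 := hidx u hu'
    rw [pow_succ] at h1
    exact Nat.le_of_mul_le_mul_right h1 hp.out.pos
  have hcardH : Nat.card H < Nat.card G := by
    have h1 := Subgroup.card_mul_index H
    rw [hHi] at h1
    have h2 : 0 < Nat.card H := Nat.card_pos
    nlinarith
  have hPH := IH H (hG.to_subgroup H) hcardH (M.subgroupOf H) b' hHyp
  have hL2 := card_commutator_le_mul_index H hHi y hyH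
  calc Nat.card (commutator G)
      ≤ Nat.card (commutator H) * (centralizer ({y} : Set G)).index := hL2
    _ ≤ p ^ (b' * (b' + 1) / 2) * p ^ (b' + 1) := Nat.mul_le_mul hPH (hMb y hyM)
    _ = p ^ ((b' + 1) * (b' + 1 + 1) / 2) := by
      rw [← pow_add, tri_step1]

end finite

end Cfsg.Agent.Lib.Helper9.VL
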