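import Mathlib
import Cfsg.Prelude.Def_FusionSystem
import Cfsg.Agent.Lib.Helper9.SylowAux
import Cfsg.Agent.S5076
import Cfsg.Agent.S5084
import Cfsg.Agent.S5144

set_option autoImplicit false

/-!
# Weakly closed elements of a Sylow subgroup and the centre of the fusion system of the group
-/

namespace Cfsg.Agent.H9WC

open Cfsg Cfsg.FusionSystem Cfsg.Agent.Lib.Helper9

variable {G : Type*} [Group G] [Finite G] {p : ℕ} [Fact p.Prime]

/-- If `x ∈ S` is its only conjugate in `S`, the same holds for every power of `x`. -/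
theorem weak_zpowers (S : Sylow p G) {x : G} (hxS : x ∈ (S : Subgroup G))
    (hx : ∀ g : G, g * x * g⁻¹ ∈ (S : Subgroup G) → g * x * g⁻¹ = x) {z : G} (hz : z ∈ Subgroup.zpowers x)
    (g : G) (hg : g * z * g⁻¹ ∈ (S : Subgroup G)) : g * z * g⁻¹ = z := by
  -- `x` is central in `S`
  have hxc : ∀ s ∈ (S : Subgroup G), s * x = x * s := by
    intro s hs
    have h1 := hx s ((S : Subgroup G).mul_mem ((S : Subgroup G).mul_mem hs hxS) ((S : Subgroup G).inv_mem hs))
    calc s * x = (s * x * s⁻¹) * s := by group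
      _ = x * s := by rw [h1]
  -- elements commuting with `x` commute with `z`
  have hcz : ∀ c : G, c * x = x * c → c * z = z * c := by
    intro c hc
    obtain ⟨k, rfl⟩ := Subgroup.mem_zpowers_iff.mp hz
    exact (Commute.zpow_right (show Commute c x from hc) k).eq
  have hzS : z ∈ (S : Subgroup G) := (Subgroup.zpowers_le.mpr hxS) hz
  -- the centralizer of `z`
  obtain ⟨K, hKdef⟩ : ∃ K : Subgroup G, K = Subgroup.centralizer ({z} : Set G) := ⟨_, rfl⟩
  have hmemK : ∀ c : G, c ∈ K ↔ c * z = z * c := by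
    intro c
    rw [hKdef, Subgroup.mem_centralizer_iff]
    constructor
    · intro h
      exact (h z rfl).symm
    · intro h y hy
      rw [Set.mem_singleton_iff] at hy
      rw [hy]
      exact h.symm
  have hSK : (S : Subgroup G) ≤ K := fun s hs => (hmemK s).mpr (hcz s (hxc s hs))
  -- `g⁻¹ x g` lies in `K`
  have hyK : g⁻¹ * x * g ∈ K := by
    rw [hmemK]
    have h1 := hxc _ hg
    -- x * (g z g⁻¹) = (g z g⁻¹) * x
    calc g⁻¹ * x * g * z = g⁻¹ * (x * (g * z * g⁻¹)) * g := by group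
      _ = g⁻¹ * ((g * z * g⁻¹) * x) * g := by rw [h1]
      _ = z * (g⁻¹ * x * g) := by group
  have hRp : IsPGroup p (Subgroup.zpowers (g⁻¹ * x * g)) := by
    have h1 : Subgroup.zpowers (g⁻¹ * x * g) = (Subgroup.zpowers x).map (MulAut.conj g⁻¹).toMonoidHom := by
      rw [MonoidHom.map_zpowers]
      congr 1
      simp [MulAut.conj_apply]
    rw [h1]
    exact (S.2.to_le (Subgroup.zpowers_le.mpr hxS)).map _
  obtain ⟨k, hkK, hk⟩ := exists_conj_mem_sylow_of_le S K hSK _ hRp (Subgroup.zpowers_le.mpr hyK)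
  have h1 := hk _ (Subgroup.mem_zpowers _)
  have e1 : k * (g⁻¹ * x * g) * k⁻¹ = (k * g⁻¹) * x * (k * g⁻¹)⁻¹ := by group
  rw [e1] at h1
  have h2 := hx _ h1
  have h3 : (k * g⁻¹) * x = x * (k * g⁻¹) := by
    calc (k * g⁻¹) * x = ((k * g⁻¹) * x * (k * g⁻¹)⁻¹) * (k * g⁻¹) := by group
      _ = x * (k * g⁻¹) := by rw [h2]
  have h4 := hcz _ h3
  have h5 := (hmemK k).mp hkK
  -- g⁻¹ commutes with z
  have h6 : g⁻¹ * z = z * g⁻¹ := by
    calc g⁻¹ * z = k⁻¹ * ((k * g⁻¹) * z) := by group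
      _ = k⁻¹ * (z * (k * g⁻¹)) := by rw [h4]
      _ = (k⁻¹ * (k * z)) * g⁻¹ := by rw [h5]; group
      _ = z * g⁻¹ := by group
  calc g * z * g⁻¹ = g * (z * g⁻¹) := by group
    _ = g * (g⁻¹ * z) := by rw [h6]
    _ = z := by group

/-- The centre of the fusion system of `G` on the Sylow subgroup `S` consists of the elements of `S` which are their
only conjugate in `S`. -/
theorem mem_center_groupFusionSystem_iff (S : Sylow p G) (x : G) :
    x ∈ (Cfsg.groupFusionSystem (S : Subgroup G)).center ↔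
      (x ∈ (S : Subgroup G) ∧ ∀ g : G, g * x * g⁻¹ ∈ (S : Subgroup G) → g * x * g⁻¹ = x) := by
  have hS : IsPGroup p (S : Subgroup G) := S.2
  have hF := Cfsg.Agent.S5076.result p S
  have hchar := Cfsg.Agent.S5084.result p hS (Cfsg.groupFusionSystem (S : Subgroup G)) hF
  constructor
  · intro hx
    have h1 := Cfsg.Agent.S5144.result (Cfsg.groupFusionSystem (S : Subgroup G))
    obtain ⟨hle, hfix⟩ := (hchar _).mp h1
    refine ⟨hle hx, fun g hg => ?_⟩
    apply hfix x hx
    -- conjugation by `g` on `zpowers x`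
    have hxS := hle hx
    refine ⟨(MulAut.conj g).toMonoidHom.comp (Subgroup.zpowers x).subtype, ?_, rfl⟩
    refine ⟨Subgroup.zpowers_le.mpr hxS, ?_, g, fun y => rfl⟩
    rintro ⟨y, hy⟩
    obtain ⟨k, rfl⟩ := Subgroup.mem_zpowers_iff.mp hy
    show g * x ^ k * g⁻¹ ∈ (S : Subgroup G)
    have e : g * x ^ k * g⁻¹ = (g * x * g⁻¹) ^ k := by
      rw [conj_zpow]
    rw [e]
    exact (S : Subgroup G).zpow_mem hg k
  · rintro ⟨hxS, hx⟩
    have hcen : (Cfsg.groupFusionSystem (S : Subgroup G)).IsCentral (Subgroup.zpowers x) := by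
      rw [hchar]
      refine ⟨Subgroup.zpowers_le.mpr hxS, ?_⟩
      rintro z hz y ⟨φ, ⟨-, hφS, g, hg⟩, rfl⟩
      rw [hg]
      apply weak_zpowers S hxS hx hz g
      have := hφS ⟨z, Subgroup.mem_zpowers z⟩
      rw [hg] at this
      exact this
    have hle : Subgroup.zpowers x ≤ (Cfsg.groupFusionSystem (S : Subgroup G)).center := le_sSup hcen
    exact hle (Subgroup.mem_zpowers x)

end Cfsg.Agent.H9WC
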