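import Mathlib
import Cfsg.Prelude.Def_Local
import Cfsg.Prelude.Def_Solvable
import Cfsg.Agent.Lib.Helper9.PCore
import Cfsg.Agent.Lib.Helper6.PPrimeCore
import Cfsg.Agent.S4218

set_option autoImplicit false

/-!
# The centre of a Sylow `p`-subgroup of a `p`-solvable group lies in `O_{p',p}(G)`
-/

namespace Cfsg.Agent.H9WC

open Cfsg Cfsg.Agent.Lib.Helper9

variable {G : Type*} [Group G] [Finite G] {p : ℕ} [Fact p.Prime]

theorem center_sylow_le_pPrimePCore (hG : Cfsg.IsPSolvable p G) (S : Sylow p G) :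
    ((S : Subgroup G) ⊓ Subgroup.centralizer ((S : Subgroup G) : Set G)) ≤ Cfsg.pPrimePCore p G := by
  intro x hx
  have hxc := Subgroup.mem_centralizer_iff.mp hx.2
  haveI hN₀n : (Cfsg.pPrimeCore p G).Normal := (Cfsg.Agent.Lib.Helper6.pPrimeCore_mem_set p).1
  have hN₀P₁ : Cfsg.pPrimeCore p G ≤ Cfsg.pPrimePCore p G := by
    intro n hn
    show QuotientGroup.mk' (Cfsg.pPrimeCore p G) n ∈ Cfsg.pCore p (G ⧸ Cfsg.pPrimeCore p G)
    have : QuotientGroup.mk' (Cfsg.pPrimeCore p G) n = 1 := (QuotientGroup.eq_one_iff n).mpr hn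
    rw [this]
    exact Subgroup.one_mem _
  apply (Cfsg.Agent.S4218.result hG x).mp
  intro y hy
  -- write `y = s * n` with `s ∈ S`, `n ∈ O_{p'}(G)`
  have hy' : QuotientGroup.mk' (Cfsg.pPrimeCore p G) y ∈ Cfsg.pCore p (G ⧸ Cfsg.pPrimeCore p G) := hy
  have hsurj : Function.Surjective (QuotientGroup.mk' (Cfsg.pPrimeCore p G)) := QuotientGroup.mk'_surjective _
  have h1 := pCore_le_sylow (S.mapSurjective hsurj) hy'
  rw [Sylow.coe_mapSurjective] at h1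
  obtain ⟨s, hs, hsy⟩ := h1
  have hn : s⁻¹ * y ∈ Cfsg.pPrimeCore p G := by
    rw [← QuotientGroup.eq_one_iff, ← QuotientGroup.mk'_apply, map_mul, map_inv, hsy, inv_mul_cancel]
  obtain ⟨n, hndef⟩ : ∃ n : G, n = s⁻¹ * y := ⟨_, rfl⟩
  rw [← hndef] at hn
  have hys : y = s * n := by rw [hndef]; group
  have hxs : s * x = x * s := hxc s hs
  have hw : x * y * x⁻¹ * y⁻¹ ∈ Cfsg.pPrimeCore p G := by
    have e : x * y * x⁻¹ * y⁻¹ = s * ((x * n * x⁻¹) * n⁻¹) * s⁻¹ := by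
      rw [hys]
      calc x * (s * n) * x⁻¹ * (s * n)⁻¹ = (x * s) * n * x⁻¹ * n⁻¹ * s⁻¹ := by group
        _ = (s * x) * n * x⁻¹ * n⁻¹ * s⁻¹ := by rw [hxs]
        _ = s * ((x * n * x⁻¹) * n⁻¹) * s⁻¹ := by group
    rw [e]
    apply hN₀n.conj_mem
    exact Subgroup.mul_mem _ (hN₀n.conj_mem n hn x) (Subgroup.inv_mem _ hn)
  refine ⟨⟨_, hN₀P₁ hw⟩, ?_, rfl⟩
  show QuotientGroup.mk' ((Cfsg.pPrimeCore p G).subgroupOf (Cfsg.pPrimePCore p G)) ⟨_, hN₀P₁ hw⟩ ∈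
    frattini (↥(Cfsg.pPrimePCore p G) ⧸ (Cfsg.pPrimeCore p G).subgroupOf (Cfsg.pPrimePCore p G))
  have h2 : QuotientGroup.mk' ((Cfsg.pPrimeCore p G).subgroupOf (Cfsg.pPrimePCore p G))
      ⟨x * y * x⁻¹ * y⁻¹, hN₀P₁ hw⟩ = 1 := by
    rw [QuotientGroup.mk'_apply, QuotientGroup.eq_one_iff, Subgroup.mem_subgroupOf]
    exact hw
  rw [h2]
  exact Subgroup.one_mem _

end Cfsg.Agent.H9WC
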