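import Cfsg.Agent.Lib.Helper9.XspLA

/-!
Counting lemmas for S5877 (case of an element of order `r` acting unipotently on the extraspecial group).
-/

namespace Cfsg.Agent.Lib.Helper9.Xsp

open Module

variable {F : Type*} [Field F] {V : Type*} [AddCommGroup V] [Module F V] [FiniteDimensional F V]

/-- B1a: `u` commutes with `y`. -/
theorem count_commuting (g y u : End F V) (hg : Function.Injective g) (hu : Function.Injective u)
    (r : ℕ) (hr : r.Prime) (ζ : F) (hζ : IsPrimitiveRoot ζ r) (hy : y ^ r = 1)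
    (hyg : ∀ v, y (g v) = g (y v)) (huy : ∀ v, u (y v) = y (u v))
    (hug : ∀ v, u (g v) = g (u (y v)))
    (B : ℕ) (hB : ∀ i, finrank F ↥(End.eigenspace y (ζ ^ i)) ≤ B) (c : F) :
    r * finrank F ↥(End.eigenspace g c) ≤ (r - 1) * B + r * B := by
  classical
  have hζ0 : ζ ≠ 0 := hζ.ne_zero hr.ne_zero
  have hWinv : ∀ v ∈ End.eigenspace g c, y v ∈ End.eigenspace g c := by
    intro v hv
    rw [End.mem_eigenspace_iff] at hv ⊢
    rw [← hyg, hv, map_smul]
  have h1 := le_sum_inf_eigen y r hr.pos ζ hζ hy (End.eigenspace g c) hWinv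
  -- bound each term
  have hterm : ∀ i ∈ Finset.range r, i ≠ 0 →
      r * finrank F ↥(End.eigenspace y (ζ ^ i) ⊓ End.eigenspace g c) ≤ B := by
    intro i hi hi0
    have hir : i < r := Finset.mem_range.mp hi
    have hprim : IsPrimitiveRoot (ζ ^ i) r :=
      hζ.pow_of_coprime i
        ((hr.coprime_iff_not_dvd.mpr (Nat.not_dvd_of_pos_of_lt (Nat.pos_of_ne_zero hi0) hir)).symm)
    have hord : orderOf ((ζ ^ i)⁻¹) = r := by
      exact (hprim.inv).eq_orderOf.symm
    have hUinv : ∀ v ∈ End.eigenspace y (ζ ^ i), u v ∈ End.eigenspace y (ζ ^ i) := by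
      intro v hv
      rw [End.mem_eigenspace_iff] at hv ⊢
      rw [← huy, hv, map_smul]
    have hrel : ∀ v ∈ End.eigenspace y (ζ ^ i), g (u v) = (ζ ^ i)⁻¹ • u (g v) := by
      intro v hv
      rw [End.mem_eigenspace_iff] at hv
      rw [hug, hv, map_smul, map_smul, smul_smul, inv_mul_cancel₀ (pow_ne_zero i hζ0), one_smul]
    have h2 := cyc_le g u hg hu (End.eigenspace y (ζ ^ i)) hUinv ((ζ ^ i)⁻¹) r hord hrel c
    rw [inf_comm]
    exact h2.trans (hB i)
  have hterm0 : finrank F ↥(End.eigenspace y (ζ ^ 0) ⊓ End.eigenspace g c) ≤ B :=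
    (Submodule.finrank_mono inf_le_left).trans (hB 0)
  -- sum up
  have hsplit : ∑ i ∈ Finset.range r, finrank F ↥(End.eigenspace y (ζ ^ i) ⊓ End.eigenspace g c) =
      finrank F ↥(End.eigenspace y (ζ ^ 0) ⊓ End.eigenspace g c) +
      ∑ i ∈ (Finset.range r).erase 0, finrank F ↥(End.eigenspace y (ζ ^ i) ⊓ End.eigenspace g c) := by
    exact (Finset.add_sum_erase (Finset.range r)
      (fun i => finrank F ↥(End.eigenspace y (ζ ^ i) ⊓ End.eigenspace g c))
      (Finset.mem_range.mpr hr.pos)).symm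
  have hrest : r * ∑ i ∈ (Finset.range r).erase 0,
      finrank F ↥(End.eigenspace y (ζ ^ i) ⊓ End.eigenspace g c) ≤ (r - 1) * B := by
    rw [Finset.mul_sum]
    have : ∑ i ∈ (Finset.range r).erase 0,
        r * finrank F ↥(End.eigenspace y (ζ ^ i) ⊓ End.eigenspace g c) ≤
        ∑ _i ∈ (Finset.range r).erase 0, B := by
      apply Finset.sum_le_sum
      intro i hi
      exact hterm i (Finset.mem_of_mem_erase hi) (Finset.ne_of_mem_erase hi)
    rw [Finset.sum_const, Finset.card_erase_of_mem (Finset.mem_range.mpr hr.pos),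
      Finset.card_range, smul_eq_mul] at this
    exact this
  calc r * finrank F ↥(End.eigenspace g c)
      ≤ r * ∑ i ∈ Finset.range r, finrank F ↥(End.eigenspace y (ζ ^ i) ⊓ End.eigenspace g c) :=
        Nat.mul_le_mul_left r h1
    _ = r * finrank F ↥(End.eigenspace y (ζ ^ 0) ⊓ End.eigenspace g c) +
        r * ∑ i ∈ (Finset.range r).erase 0,
          finrank F ↥(End.eigenspace y (ζ ^ i) ⊓ End.eigenspace g c) := by rw [hsplit, mul_add]
    _ ≤ r * B + (r - 1) * B := add_le_add (Nat.mul_le_mul_left r hterm0) hrest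
    _ = (r - 1) * B + r * B := add_comm _ _

/-- B1b: `u` conjugates `y` to `ζ • y` (twisted case). -/
theorem count_twisted (g y u : End F V) (hg : Function.Injective g) (hu : Function.Injective u)
    (r : ℕ) (hr : r.Prime) (ζ : F) (hζ : IsPrimitiveRoot ζ r) (hy : y ^ r = 1)
    (hyg : ∀ v, y (g v) = g (y v)) (huy : ∀ v, u (y v) = ζ • y (u v))
    (hug : ∀ v, u (g v) = g (u (y v))) (c : F) :
    finrank F ↥(End.eigenspace g c) ≤ 2 * finrank F ↥(End.eigenspace y 1) := by
  classical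
  have hζ0 : ζ ≠ 0 := hζ.ne_zero hr.ne_zero
  by_cases hc0 : c = 0
  · subst hc0
    have h0 : End.eigenspace g 0 = ⊥ := by
      rw [End.eigenspace_zero]; exact LinearMap.ker_eq_bot.mpr hg
    rw [h0, finrank_bot]; exact Nat.zero_le _
  -- one step
  have hstep : ∀ (lam : F) (i : ℕ),
      finrank F ↥(End.eigenspace g lam ⊓ End.eigenspace y (ζ ^ (i + 1))) ≤
      finrank F ↥(End.eigenspace g (lam * (ζ⁻¹) ^ (i + 1)) ⊓ End.eigenspace y (ζ ^ i)) := by
    intro lam i
    rw [← finrank_map_inj u hu]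
    apply Submodule.finrank_mono
    intro w hw
    obtain ⟨v, hv, rfl⟩ := Submodule.mem_map.mp hw
    obtain ⟨hv1, hv2⟩ := Submodule.mem_inf.mp hv
    rw [End.mem_eigenspace_iff] at hv1 hv2
    refine Submodule.mem_inf.mpr ⟨?_, ?_⟩
    · rw [End.mem_eigenspace_iff]
      have h1 := hug v
      rw [hv1, hv2] at h1
      simp only [map_smul] at h1
      have h2 : g (u v) = (ζ ^ (i + 1))⁻¹ • (lam • u v) := by
        rw [h1, smul_smul, inv_mul_cancel₀ (pow_ne_zero _ hζ0), one_smul]
      rw [h2, smul_smul, inv_pow, mul_comm]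
    · rw [End.mem_eigenspace_iff]
      have h1 := huy v
      rw [hv2, map_smul] at h1
      have h2 : y (u v) = ζ⁻¹ • (ζ ^ (i + 1) • u v) := by
        rw [h1, smul_smul, inv_mul_cancel₀ hζ0, one_smul]
      rw [h2, smul_smul, pow_succ, mul_comm (ζ ^ i) ζ, ← mul_assoc, inv_mul_cancel₀ hζ0, one_mul]
  -- the chain down to level 0
  have hchain : ∀ (i : ℕ) (lam : F),
      finrank F ↥(End.eigenspace g lam ⊓ End.eigenspace y (ζ ^ i)) ≤
      finrank F ↥(End.eigenspace g (lam * (ζ⁻¹) ^ (∑ j ∈ Finset.range (i + 1), j)) ⊓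
        End.eigenspace y 1) := by
    intro i
    induction i with
    | zero =>
      intro lam
      rw [Finset.sum_range_one, pow_zero, pow_zero, mul_one]
    | succ i ih =>
      intro lam
      refine (hstep lam i).trans ?_
      have e : lam * (ζ⁻¹) ^ (∑ j ∈ Finset.range (i + 1 + 1), j) =
          lam * (ζ⁻¹) ^ (i + 1) * (ζ⁻¹) ^ (∑ j ∈ Finset.range (i + 1), j) := by
        rw [Finset.sum_range_succ _ (i + 1), pow_add]; ring
      rw [e]
      exact ih _
  -- fibres of the index map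
  have htri : ∀ a : ℕ, ((∑ j ∈ Finset.range (a + 1), j : ℕ) : ℤ) * 2 = ((a : ℤ) + 1) * a := by
    intro a
    have := Finset.sum_range_id_mul_two (a + 1)
    rw [Nat.add_sub_cancel] at this
    exact_mod_cast this
  have hfib : ∀ a b : ℕ, a < r → b < r →
      c * (ζ⁻¹) ^ (∑ j ∈ Finset.range (a + 1), j) = c * (ζ⁻¹) ^ (∑ j ∈ Finset.range (b + 1), j) →
      a = b ∨ a = r - 1 - b := by
    intro a b ha hb hab
    have h1 := mul_left_cancel₀ hc0 hab
    rw [inv_pow, inv_pow, inv_inj] at h1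
    set ta := ∑ j ∈ Finset.range (a + 1), j with hta
    set tb := ∑ j ∈ Finset.range (b + 1), j with htb
    have h2 : ζ ^ ((ta : ℤ) - (tb : ℤ)) = 1 := by
      rw [zpow_sub₀ hζ0, zpow_natCast, zpow_natCast, h1, div_self (pow_ne_zero _ hζ0)]
    have h3 : (r : ℤ) ∣ (ta : ℤ) - (tb : ℤ) := (hζ.zpow_eq_one_iff_dvd _).mp h2
    have h4 : (r : ℤ) ∣ ((a : ℤ) - b) * ((a : ℤ) + b + 1) := by
      have e : ((a : ℤ) - b) * ((a : ℤ) + b + 1) = ((ta : ℤ) - (tb : ℤ)) * 2 := by
        have ea := htri a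
        have eb := htri b
        rw [← hta] at ea
        rw [← htb] at eb
        rw [sub_mul (ta : ℤ) (tb : ℤ) 2, ea, eb]; ring
      rw [e]
      exact Dvd.dvd.mul_right h3 2
    rcases Int.Prime.dvd_mul' hr h4 with h5 | h5
    · left
      have h6 : ((a : ℤ) - b) = 0 := by
        apply Int.eq_zero_of_abs_lt_dvd h5
        rw [abs_lt]; constructor <;> omega
      omega
    · right
      obtain ⟨k, hk⟩ := h5
      have hk0 : 0 < k := by
        by_contra hneg
        have : (r : ℤ) * k ≤ 0 := mul_nonpos_of_nonneg_of_nonpos (by positivity) (by omega)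
        omega
      have hk2 : k < 2 := by
        by_contra hneg
        have : (r : ℤ) * 2 ≤ (r : ℤ) * k := mul_le_mul_of_nonneg_left (by omega) (by positivity)
        omega
      have hk1 : k = 1 := by omega
      subst hk1
      omega
  -- assemble
  have hWinv : ∀ v ∈ End.eigenspace g c, y v ∈ End.eigenspace g c := by
    intro v hv
    rw [End.mem_eigenspace_iff] at hv ⊢
    rw [← hyg, hv, map_smul]
  have h1 := le_sum_inf_eigen y r hr.pos ζ hζ hy (End.eigenspace g c) hWinv
  set φ : ℕ → F := fun i => c * (ζ⁻¹) ^ (∑ j ∈ Finset.range (i + 1), j) with hφ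
  set f : F → ℕ := fun b => finrank F ↥(End.eigenspace g b ⊓ End.eigenspace y 1) with hf
  have h2 : ∑ i ∈ Finset.range r, finrank F ↥(End.eigenspace y (ζ ^ i) ⊓ End.eigenspace g c) ≤
      ∑ i ∈ Finset.range r, f (φ i) := by
    apply Finset.sum_le_sum
    intro i _
    rw [inf_comm]
    exact hchain i c
  have h3 : ∑ i ∈ Finset.range r, f (φ i) ≤ 2 * ∑ b ∈ (Finset.range r).image φ, f b := by
    rw [Finset.sum_comp f φ, Finset.mul_sum]
    apply Finset.sum_le_sum
    intro b hb
    rw [smul_eq_mul]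
    apply Nat.mul_le_mul_right
    obtain ⟨i₀, hi₀, rfl⟩ := Finset.mem_image.mp hb
    have hsub : (Finset.range r).filter (fun a => φ a = φ i₀) ⊆ {i₀, r - 1 - i₀} := by
      intro a ha
      rw [Finset.mem_filter, Finset.mem_range] at ha
      rw [Finset.mem_insert, Finset.mem_singleton]
      exact hfib a i₀ ha.1 (Finset.mem_range.mp hi₀) ha.2
    exact (Finset.card_le_card hsub).trans Finset.card_le_two
  have h4 : ∑ b ∈ (Finset.range r).image φ, f b ≤ finrank F ↥(End.eigenspace y 1) :=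
    sum_finrank_eigen_inf_le g (End.eigenspace y 1) _
  calc finrank F ↥(End.eigenspace g c)
      ≤ ∑ i ∈ Finset.range r, finrank F ↥(End.eigenspace y (ζ ^ i) ⊓ End.eigenspace g c) := h1
    _ ≤ ∑ i ∈ Finset.range r, f (φ i) := h2
    _ ≤ 2 * ∑ b ∈ (Finset.range r).image φ, f b := h3
    _ ≤ 2 * finrank F ↥(End.eigenspace y 1) := Nat.mul_le_mul_left 2 h4

end Cfsg.Agent.Lib.Helper9.Xsp
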