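import Cfsg.Agent.Lib.Helper9.XspCount
import Cfsg.Agent.Lib.Lead.XspNil
import Cfsg.Agent.Lib.Lead.XspM1
import Cfsg.Prelude.Def_GeometricClasses

/-!
Group-level glue for S5877: the configuration `Cfg`, eigenspace bounds for non-scalar elements of `Q`,
the commutator trick, and the two main methods.
-/

set_option autoImplicit false

namespace Cfsg.Agent.Lib.Helper9.Xsp

open Module Cfsg.Geo Cfsg.Agent.Lib.Carve.Xsp
open scoped MatrixGroups

variable {n : ℕ} {F : Type*} [Field F]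

/-- the linear map attached to an invertible matrix -/
noncomputable def Lm (x : GL (Fin n) F) : End F (Fin n → F) :=
  Matrix.toLin' (x : Matrix (Fin n) (Fin n) F)

theorem Lm_mul_apply (x y : GL (Fin n) F) (v : Fin n → F) : Lm (x * y) v = Lm x (Lm y v) := by
  unfold Lm
  rw [Units.val_mul, Matrix.toLin'_mul]
  rfl

theorem Lm_one_apply (v : Fin n → F) : Lm (1 : GL (Fin n) F) v = v := by
  unfold Lm
  rw [Units.val_one, Matrix.toLin'_one]
  rfl

theorem Lm_inv_apply (x : GL (Fin n) F) (v : Fin n → F) : Lm x⁻¹ (Lm x v) = v := by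
  rw [← Lm_mul_apply, inv_mul_cancel, Lm_one_apply]

theorem Lm_apply_inv (x : GL (Fin n) F) (v : Fin n → F) : Lm x (Lm x⁻¹ v) = v := by
  rw [← Lm_mul_apply, mul_inv_cancel, Lm_one_apply]

theorem Lm_injective (x : GL (Fin n) F) : Function.Injective (Lm x) := by
  intro v w h
  have := congrArg (Lm x⁻¹) h
  rwa [Lm_inv_apply, Lm_inv_apply] at this

theorem Lm_pow_apply (x : GL (Fin n) F) (k : ℕ) (v : Fin n → F) : Lm (x ^ k) v = (Lm x ^ k) v := by
  induction k generalizing v with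
  | zero => rw [pow_zero, pow_zero, Lm_one_apply, Module.End.one_apply]
  | succ k ih => rw [pow_succ, Lm_mul_apply, ih, pow_succ, Module.End.mul_apply]

theorem Lm_pow_eq_one (x : GL (Fin n) F) (k : ℕ) (hx : x ^ k = 1) : Lm x ^ k = 1 := by
  apply LinearMap.ext
  intro v
  rw [← Lm_pow_apply, hx, Lm_one_apply, Module.End.one_apply]

theorem Lm_of_scalar (z : GL (Fin n) F) (c : F) (hz : (z : Matrix (Fin n) (Fin n) F) = c • 1)
    (v : Fin n → F) : Lm z v = c • v := by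
  unfold Lm
  rw [hz, Matrix.toLin'_apply, Matrix.smul_mulVec, Matrix.one_mulVec]

theorem scalars_central (z : GL (Fin n) F) (hz : z ∈ scalars (Fin n) F) (h : GL (Fin n) F) :
    h * z = z * h := by
  obtain ⟨c, hc⟩ := (mem_scalars_iff z).mp hz
  apply Units.ext
  rw [Units.val_mul, Units.val_mul, hc, Matrix.mul_smul, Matrix.mul_one, Matrix.smul_mul,
    Matrix.one_mul]

theorem scalars_le_center : scalars (Fin n) F ≤ Subgroup.center (GL (Fin n) F) := by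
  intro z hz
  rw [Subgroup.mem_center_iff]
  intro h
  exact scalars_central z hz h

theorem smul_one_eq_one_iff [NeZero n] (c : F) :
    (c • (1 : Matrix (Fin n) (Fin n) F) = 1) ↔ c = 1 := by
  constructor
  · intro h
    have := congrFun (congrFun h 0) 0
    simpa using this
  · rintro rfl
    rw [one_smul]

theorem mem_scalars_of_eq_smul [NeZero n] (h : GL (Fin n) F) (c : F)
    (hc : (h : Matrix (Fin n) (Fin n) F) = c • 1) : h ∈ scalars (Fin n) F := by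
  have hc0 : c ≠ 0 := by
    intro h0
    have h1 : (h : Matrix (Fin n) (Fin n) F) *
        ((h⁻¹ : GL (Fin n) F) : Matrix (Fin n) (Fin n) F) = 1 := by
      rw [← Units.val_mul, mul_inv_cancel, Units.val_one]
    rw [hc, h0, zero_smul, zero_mul] at h1
    have := congrFun (congrFun h1 0) 0
    simp at this
  exact (mem_scalars_iff h).mpr ⟨Units.mk0 c hc0, by rw [Units.val_mk0]; exact hc⟩

/-! ### general group facts -/

theorem conj_mem {G : Type*} [Group G] {Q : Subgroup G} (g : G)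
    (hgN : g ∈ Subgroup.normalizer (Q : Set G)) (x : G) (hx : x ∈ Q) (j : ℕ) :
    (g ^ j)⁻¹ * x * g ^ j ∈ Q := by
  have h1 : (g ^ j)⁻¹ ∈ Subgroup.normalizer (Q : Set G) := inv_mem (pow_mem hgN j)
  have h2 := (Subgroup.mem_normalizer_iff.mp h1 x).mp hx
  rwa [inv_inv] at h2

theorem comm_g_mem {G : Type*} [Group G] {Q : Subgroup G} (g : G)
    (hgN : g ∈ Subgroup.normalizer (Q : Set G)) (x : G) (hx : x ∈ Q) (j : ℕ) :
    x⁻¹ * (g ^ j)⁻¹ * x * g ^ j ∈ Q := by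
  have := Q.mul_mem (Q.inv_mem hx) (conj_mem g hgN x hx j)
  simpa [mul_assoc] using this

theorem comm_g_mem_one {G : Type*} [Group G] {Q : Subgroup G} (g : G)
    (hgN : g ∈ Subgroup.normalizer (Q : Set G)) (x : G) (hx : x ∈ Q) :
    x⁻¹ * g⁻¹ * x * g ∈ Q := by
  have := comm_g_mem g hgN x hx 1
  rwa [pow_one] at this

theorem pow_eq_one_of_conj {G : Type*} [Group G] (g u y : G) (r : ℕ) (hgr : g ^ r = 1)
    (hy : y = u⁻¹ * g⁻¹ * u * g) (hc : y * g = g * y) : y ^ r = 1 := by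
  have hug : u * g = g * u * y := by rw [hy]; group
  have key : ∀ k : ℕ, u * g ^ k = g ^ k * u * y ^ k := by
    intro k
    induction k with
    | zero => simp
    | succ k ih =>
      have hck : y ^ k * g = g * y ^ k := (Commute.pow_left (show Commute y g from hc) k).eq
      calc u * g ^ (k + 1) = u * g ^ k * g := by rw [pow_succ, mul_assoc]
        _ = g ^ k * u * y ^ k * g := by rw [ih]
        _ = g ^ k * u * (y ^ k * g) := by rw [mul_assoc]
        _ = g ^ k * u * (g * y ^ k) := by rw [hck]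
        _ = g ^ k * (u * g) * y ^ k := by simp only [mul_assoc]
        _ = g ^ k * (g * u * y) * y ^ k := by rw [hug]
        _ = g ^ (k + 1) * u * y ^ (k + 1) := by
          rw [pow_succ, pow_succ']; simp only [mul_assoc]
  have h1 := key r
  rw [hgr, one_mul, mul_one] at h1
  have h2 : u * y ^ r = u * 1 := by rw [mul_one]; exact h1.symm
  exact mul_left_cancel h2

/-! ### the configuration -/

/-- Facts about `Q = R ⊔ scalars` used downstream. -/
structure Cfg (r : ℕ) (R Q : Subgroup (GL (Fin n) F)) : Prop where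
  prime : r.Prime
  R_le : R ≤ Q
  scal_le : scalars (Fin n) F ≤ Q
  comm_mem : ∀ a ∈ Q, ∀ b ∈ Q, a * b * a⁻¹ * b⁻¹ ∈ scalars (Fin n) F
  comm_pow : ∀ a ∈ Q, ∀ b ∈ Q, (a * b * a⁻¹ * b⁻¹) ^ r = 1
  commutantR : ∀ h : GL (Fin n) F, (∀ x ∈ R, h * x = x * h) → h ∈ scalars (Fin n) F
  pgrp : IsPGroup r (Q.map (QuotientGroup.mk' (scalars (Fin n) F)))

theorem cfg_of_hyps [NeZero n] {r : ℕ} (R : Subgroup (GL (Fin n) F)) (hr : r.Prime)
    (hR : IsPGroup r R) (hZ : Nat.card (Subgroup.center R) = r)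
    (hext : commutator R = Subgroup.center R)
    (hirr : ActsAbsolutelyIrreducibly (matrixSet R)) : Cfg r R (R ⊔ scalars (Fin n) F) := by
  have hcomt : ∀ h : GL (Fin n) F, (∀ x ∈ R, h * x = x * h) → h ∈ scalars (Fin n) F := by
    intro h hh
    obtain ⟨c, hc⟩ := hirr.2 (h : Matrix (Fin n) (Fin n) F) (by
      rintro s ⟨x, hx, rfl⟩
      have := congrArg (fun u : GL (Fin n) F => (u : Matrix (Fin n) (Fin n) F)) (hh x hx)
      simpa [Units.val_mul] using this)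
    exact mem_scalars_of_eq_smul h c hc
  have hdec : ∀ a ∈ R ⊔ scalars (Fin n) F, ∃ a₁ ∈ R, ∃ z ∈ scalars (Fin n) F, a = a₁ * z := by
    intro a ha
    have h1 : a ∈ ((R ⊔ scalars (Fin n) F : Subgroup (GL (Fin n) F)) : Set (GL (Fin n) F)) := ha
    rw [Subgroup.mul_normal] at h1
    obtain ⟨a₁, ha₁, z, hz, rfl⟩ := Set.mem_mul.mp h1
    exact ⟨a₁, ha₁, z, hz, rfl⟩
  have hR2 : ∀ a ∈ R, ∀ b ∈ R, a * b * a⁻¹ * b⁻¹ ∈ scalars (Fin n) F ∧
      (a * b * a⁻¹ * b⁻¹) ^ r = 1 := by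
    intro a ha b hb
    have hw : ((⟨a, ha⟩ : R) * ⟨b, hb⟩ * (⟨a, ha⟩ : R)⁻¹ * (⟨b, hb⟩ : R)⁻¹) ∈
        Subgroup.center R := by
      rw [← hext, commutator_def]
      exact Subgroup.commutator_mem_commutator (Subgroup.mem_top _) (Subgroup.mem_top _)
    constructor
    · apply hcomt
      intro x hx
      have h1 := (Subgroup.mem_center_iff.mp hw) ⟨x, hx⟩
      have h2 := congrArg (Subtype.val) h1
      simpa using h2.symm
    · have h1 : (⟨_, hw⟩ : Subgroup.center R) ^ r = 1 := by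
        rw [← hZ]; exact pow_card_eq_one'
      have h2 := congrArg (fun u : Subgroup.center R => ((u : R) : GL (Fin n) F)) h1
      simpa using h2
  have hcomm_eq : ∀ (a₁ b₁ z₁ z₂ : GL (Fin n) F), z₁ ∈ scalars (Fin n) F →
      z₂ ∈ scalars (Fin n) F →
      (a₁ * z₁) * (b₁ * z₂) * (a₁ * z₁)⁻¹ * (b₁ * z₂)⁻¹ = a₁ * b₁ * a₁⁻¹ * b₁⁻¹ := by
    intro a₁ b₁ z₁ z₂ hz₁ hz₂
    have e1 : ∀ h, z₁ * h * z₁⁻¹ = h := fun h => by
      rw [← scalars_central z₁ hz₁ h, mul_inv_cancel_right]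
    have e2 : ∀ h, z₂ * h * z₂⁻¹ = h := fun h => by
      rw [← scalars_central z₂ hz₂ h, mul_inv_cancel_right]
    calc (a₁ * z₁) * (b₁ * z₂) * (a₁ * z₁)⁻¹ * (b₁ * z₂)⁻¹
        = a₁ * (z₁ * (b₁ * z₂) * z₁⁻¹) * a₁⁻¹ * z₂⁻¹ * b₁⁻¹ := by group
      _ = a₁ * (b₁ * z₂) * a₁⁻¹ * z₂⁻¹ * b₁⁻¹ := by rw [e1]
      _ = a₁ * b₁ * (z₂ * a₁⁻¹ * z₂⁻¹) * b₁⁻¹ := by group
      _ = a₁ * b₁ * a₁⁻¹ * b₁⁻¹ := by rw [e2]
  refine ⟨hr, le_sup_left, le_sup_right, ?_, ?_, hcomt, ?_⟩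
  · intro a ha b hb
    obtain ⟨a₁, ha₁, z₁, hz₁, rfl⟩ := hdec a ha
    obtain ⟨b₁, hb₁, z₂, hz₂, rfl⟩ := hdec b hb
    rw [hcomm_eq a₁ b₁ z₁ z₂ hz₁ hz₂]
    exact (hR2 a₁ ha₁ b₁ hb₁).1
  · intro a ha b hb
    obtain ⟨a₁, ha₁, z₁, hz₁, rfl⟩ := hdec a ha
    obtain ⟨b₁, hb₁, z₂, hz₂, rfl⟩ := hdec b hb
    rw [hcomm_eq a₁ b₁ z₁ z₂ hz₁ hz₂]
    exact (hR2 a₁ ha₁ b₁ hb₁).2
  · rw [Subgroup.map_sup, QuotientGroup.map_mk'_self, sup_bot_eq]
    exact hR.map _

section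
variable [NeZero n] {r : ℕ} {R Q : Subgroup (GL (Fin n) F)}

theorem comm_rel (hC : Cfg r R Q) (a b : GL (Fin n) F) (ha : a ∈ Q) (hb : b ∈ Q) :
    ∃ c : F, c ^ r = 1 ∧ (c = 1 ↔ a * b = b * a) ∧
      ((a * b * a⁻¹ * b⁻¹ : GL (Fin n) F) : Matrix (Fin n) (Fin n) F) = c • 1 ∧
      ∀ v, Lm a (Lm b v) = c • Lm b (Lm a v) := by
  obtain ⟨c, hc⟩ := (mem_scalars_iff _).mp (hC.comm_mem a ha b hb)
  have hab : a * b = (a * b * a⁻¹ * b⁻¹) * (b * a) := by group
  refine ⟨(c : F), ?_, ?_, hc, ?_⟩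
  · have h1 := congrArg (fun u : GL (Fin n) F => (u : Matrix (Fin n) (Fin n) F))
      (hC.comm_pow a ha b hb)
    simp only [Units.val_pow_eq_pow_val, Units.val_one] at h1
    rw [hc, smul_pow, one_pow] at h1
    exact (smul_one_eq_one_iff _).mp h1
  · constructor
    · intro h1
      have h2 : a * b * a⁻¹ * b⁻¹ = 1 := by
        apply Units.ext; rw [hc, h1, one_smul, Units.val_one]
      calc a * b = (a * b * a⁻¹ * b⁻¹) * (b * a) := hab
        _ = b * a := by rw [h2, one_mul]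
    · intro h1
      have h2 : a * b * a⁻¹ * b⁻¹ = 1 := by rw [h1]; group
      rw [h2, Units.val_one] at hc
      exact (smul_one_eq_one_iff _).mp hc.symm
  · intro v
    calc Lm a (Lm b v) = Lm (a * b) v := (Lm_mul_apply a b v).symm
      _ = Lm ((a * b * a⁻¹ * b⁻¹) * (b * a)) v := by rw [← hab]
      _ = Lm (a * b * a⁻¹ * b⁻¹) (Lm b (Lm a v)) := by
        rw [Lm_mul_apply (a * b * a⁻¹ * b⁻¹) (b * a), Lm_mul_apply b a]
      _ = (c : F) • Lm b (Lm a v) := Lm_of_scalar _ _ hc _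

theorem exists_noncomm (hC : Cfg r R Q) (y : GL (Fin n) F) (hy : y ∈ Q)
    (hys : y ∉ scalars (Fin n) F) :
    ∃ x ∈ R, ∃ c : F, orderOf c = r ∧
      ((y * x * y⁻¹ * x⁻¹ : GL (Fin n) F) : Matrix (Fin n) (Fin n) F) = c • 1 ∧
      ∀ v, Lm y (Lm x v) = c • Lm x (Lm y v) := by
  haveI : Fact r.Prime := ⟨hC.prime⟩
  have h1 : ¬ ∀ x ∈ R, y * x = x * y := fun h => hys (hC.commutantR y h)
  push Not at h1
  obtain ⟨x, hx, hxy⟩ := h1
  obtain ⟨c, hcr, hc1, hmat, hrel⟩ := comm_rel hC y x hy (hC.R_le hx)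
  have hc1' : c ≠ 1 := fun h => hxy (hc1.mp h)
  exact ⟨x, hx, c, orderOf_eq_prime hcr hc1', hmat, hrel⟩

theorem exists_prim (hC : Cfg r R Q) (y : GL (Fin n) F) (hy : y ∈ Q)
    (hys : y ∉ scalars (Fin n) F) : ∃ ζ : F, IsPrimitiveRoot ζ r := by
  obtain ⟨x, -, c, hord, -, -⟩ := exists_noncomm hC y hy hys
  exact ⟨c, IsPrimitiveRoot.iff_orderOf.mpr hord⟩

/-- L1 -/
theorem eig_le (hC : Cfg r R Q) (y : GL (Fin n) F) (hy : y ∈ Q)
    (hys : y ∉ scalars (Fin n) F) (μ : F) :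
    r * finrank F ↥(End.eigenspace (Lm y) μ) ≤ n := by
  obtain ⟨x, -, c, hord, -, hrel⟩ := exists_noncomm hC y hy hys
  have := cyc_le (Lm y) (Lm x) (Lm_injective y) (Lm_injective x) ⊤
    (fun _ _ => Submodule.mem_top) c r hord (fun v _ => hrel v) μ
  rw [inf_top_eq, finrank_top, Module.finrank_fin_fun] at this
  exact this

/-- S5 (for all `r`): `r ∣ n`. -/
theorem r_dvd (hC : Cfg r R Q) (y : GL (Fin n) F) (hy : y ∈ Q)
    (hys : y ∉ scalars (Fin n) F) : r ∣ n := by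
  obtain ⟨x, -, c, hord, hmat, -⟩ := exists_noncomm hC y hy hys
  have h1 : Matrix.GeneralLinearGroup.det (y * x * y⁻¹ * x⁻¹) = 1 := by
    rw [map_mul, map_mul, map_mul, map_inv, map_inv,
      mul_comm (Matrix.GeneralLinearGroup.det y), mul_inv_cancel_right, mul_inv_cancel]
  have h2 : Matrix.det ((y * x * y⁻¹ * x⁻¹ : GL (Fin n) F) : Matrix (Fin n) (Fin n) F) = 1 := by
    rw [← Matrix.GeneralLinearGroup.val_det_apply, h1, Units.val_one]
  rw [hmat, Matrix.det_smul, Matrix.det_one, mul_one, Fintype.card_fin] at h2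
  rw [← hord]
  exact orderOf_dvd_of_pow_eq_one h2

end

/-! ### the commutator trick -/

theorem fixed_of_mem (g x : GL (Fin n) F) (c : F) (v : Fin n → F) (hv : Lm g v = c • v)
    (hxv : Lm g (Lm x v) = c • Lm x v) (j : ℕ) :
    Lm (x⁻¹ * (g ^ j)⁻¹ * x * g ^ j) v = v := by
  have e0 : g ^ j * ((g ^ j)⁻¹ * x * g ^ j) = x * g ^ j := by group
  have hrel : ∀ w, (Lm g ^ j) (Lm ((g ^ j)⁻¹ * x * g ^ j) w) = Lm x ((Lm g ^ j) w) := by
    intro w
    rw [← Lm_pow_apply, ← Lm_pow_apply, ← Lm_mul_apply, ← Lm_mul_apply, e0]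
  have h1 := conj_apply_eq (Lm g) (Lm x) (Lm ((g ^ j)⁻¹ * x * g ^ j)) j (Lm_injective g) hrel c v
    hv hxv
  have e : x⁻¹ * (g ^ j)⁻¹ * x * g ^ j = x⁻¹ * ((g ^ j)⁻¹ * x * g ^ j) := by group
  rw [e, Lm_mul_apply, h1, Lm_inv_apply]

theorem fix_le (g x : GL (Fin n) F) (c : F) :
    2 * finrank F ↥(End.eigenspace (Lm g) c) ≤
      n + finrank F ↥(End.eigenspace (Lm (x⁻¹ * g⁻¹ * x * g)) 1) := by
  have h1 := two_mul_le' (End.eigenspace (Lm g) c) (Lm x⁻¹) (Lm_injective _)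
  rw [Module.finrank_fin_fun] at h1
  have h2 : End.eigenspace (Lm g) c ⊓ (End.eigenspace (Lm g) c).map (Lm x⁻¹) ≤
      End.eigenspace (Lm (x⁻¹ * g⁻¹ * x * g)) 1 := by
    intro v hv
    obtain ⟨hv1, hv2⟩ := Submodule.mem_inf.mp hv
    obtain ⟨w, hw, hwv⟩ := Submodule.mem_map.mp hv2
    rw [End.mem_eigenspace_iff] at hv1 hw ⊢
    have hxv : Lm x v = w := by rw [← hwv, Lm_apply_inv]
    have := fixed_of_mem g x c v hv1 (by rw [hxv]; exact hw) 1
    rw [pow_one] at this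
    rw [this, one_smul]
  have h3 := Submodule.finrank_mono h2
  omega

section
variable [NeZero n] {r : ℕ} {R Q : Subgroup (GL (Fin n) F)}

theorem commute_of_big (hC : Cfg r R Q) (g : GL (Fin n) F)
    (hgN : g ∈ Subgroup.normalizer (Q : Set (GL (Fin n) F))) (c : F)
    (hbig : n < 2 * finrank F ↥(End.eigenspace (Lm g) c)) (x : GL (Fin n) F) (hx : x ∈ Q)
    (i j : ℕ) :
    Commute (x⁻¹ * (g ^ i)⁻¹ * x * g ^ i) (x⁻¹ * (g ^ j)⁻¹ * x * g ^ j) := by
  have h1 := two_mul_le' (End.eigenspace (Lm g) c) (Lm x⁻¹) (Lm_injective _)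
  rw [Module.finrank_fin_fun] at h1
  have hpos : 0 < finrank F
      ↥(End.eigenspace (Lm g) c ⊓ (End.eigenspace (Lm g) c).map (Lm x⁻¹)) := by omega
  obtain ⟨⟨v, hvm⟩, hv0⟩ := Module.finrank_pos_iff_exists_ne_zero.mp hpos
  have hv0' : v ≠ 0 := fun h => hv0 (Subtype.ext h)
  obtain ⟨hv1, hv2⟩ := Submodule.mem_inf.mp hvm
  obtain ⟨w, hw, hwv⟩ := Submodule.mem_map.mp hv2
  rw [End.mem_eigenspace_iff] at hv1 hw
  have hxv : Lm x v = w := by rw [← hwv, Lm_apply_inv]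
  have hxv' : Lm g (Lm x v) = c • Lm x v := by rw [hxv]; exact hw
  have hfi := fixed_of_mem g x c v hv1 hxv' i
  have hfj := fixed_of_mem g x c v hv1 hxv' j
  obtain ⟨c', -, hc1, -, hrel⟩ :=
    comm_rel hC _ _ (comm_g_mem g hgN x hx i) (comm_g_mem g hgN x hx j)
  by_contra hne
  have hc' : c' ≠ 1 := fun h => hne (hc1.mp h)
  exact hv0' (eq_zero_of_fixed _ _ c' hc' hrel v hfi hfj)

/-- Method 1. -/
theorem method1 (hC : Cfg r R Q) (g : GL (Fin n) F)
    (hgN : g ∈ Subgroup.normalizer (Q : Set (GL (Fin n) F))) (ϖ : ℕ) (hgw : g ^ ϖ = 1)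
    (hodd : Odd ϖ) (hcop : Nat.Coprime ϖ r) (c : F) (x : GL (Fin n) F) (hx : x ∈ Q)
    (hxs : x⁻¹ * g⁻¹ * x * g ∉ scalars (Fin n) F) :
    2 * finrank F ↥(End.eigenspace (Lm g) c) ≤ n := by
  by_contra hbig
  push Not at hbig
  exact hxs (all_comm_central (scalars (Fin n) F) scalars_le_center Q r ϖ hcop hodd hC.comm_mem
    hC.comm_pow (fun x _ h => hC.commutantR x (fun y hy => h y (hC.R_le hy))) g hgN hgw
    (fun x hx i j => commute_of_big hC g hgN c hbig x hx i j) x hx)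

/-- Plan B. -/
theorem planB [Finite (GL (Fin n) F)] (hC : Cfg r R Q) (g : GL (Fin n) F)
    (hgN : g ∈ Subgroup.normalizer (Q : Set (GL (Fin n) F))) (hgr : g ^ r = 1) (hr4 : 4 ≤ r)
    (c : F) (x : GL (Fin n) F) (hx : x ∈ Q) (hxs : x⁻¹ * g⁻¹ * x * g ∉ scalars (Fin n) F) :
    2 * finrank F ↥(End.eigenspace (Lm g) c) ≤ n := by
  haveI : Fact r.Prime := ⟨hC.prime⟩
  obtain ⟨u, hu, hys, hz'⟩ :=
    exists_depth_two (scalars (Fin n) F) Q r hC.prime hC.pgrp g hgN hgr x hx hxs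
  obtain ⟨y, hy⟩ : ∃ y, y = u⁻¹ * g⁻¹ * u * g := ⟨_, rfl⟩
  rw [← hy] at hys hz'
  have hyQ : y ∈ Q := by rw [hy]; exact comm_g_mem_one g hgN u hu
  obtain ⟨lam, hlam⟩ := (mem_scalars_iff _).mp hz'
  have hyg0 : y * g = g * y * (y⁻¹ * g⁻¹ * y * g) := by group
  have R1 : ∀ v, Lm y (Lm g v) = (lam : F) • Lm g (Lm y v) := by
    intro v
    calc Lm y (Lm g v) = Lm (y * g) v := (Lm_mul_apply _ _ _).symm
      _ = Lm (g * y * (y⁻¹ * g⁻¹ * y * g)) v := by rw [← hyg0]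
      _ = Lm g (Lm y (Lm (y⁻¹ * g⁻¹ * y * g) v)) := by
        rw [Lm_mul_apply (g * y) (y⁻¹ * g⁻¹ * y * g), Lm_mul_apply g y]
      _ = (lam : F) • Lm g (Lm y v) := by rw [Lm_of_scalar _ _ hlam, map_smul, map_smul]
  have hgpow : Lm g ^ r = 1 := Lm_pow_eq_one g r hgr
  by_cases hl1 : (lam : F) = 1
  · have hz1 : y⁻¹ * g⁻¹ * y * g = 1 := by
      apply Units.ext; rw [hlam, hl1, one_smul, Units.val_one]
    have hcomm : y * g = g * y := by
      calc y * g = g * y * (y⁻¹ * g⁻¹ * y * g) := hyg0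
        _ = g * y := by rw [hz1, mul_one]
    have hyg : ∀ v, Lm y (Lm g v) = Lm g (Lm y v) := by
      intro v; rw [R1, hl1, one_smul]
    have hug0 : u * g = g * u * y := by rw [hy]; group
    have hug : ∀ v, Lm u (Lm g v) = Lm g (Lm u (Lm y v)) := by
      intro v
      calc Lm u (Lm g v) = Lm (u * g) v := (Lm_mul_apply _ _ _).symm
        _ = Lm (g * u * y) v := by rw [hug0]
        _ = Lm g (Lm u (Lm y v)) := by rw [Lm_mul_apply (g * u) y, Lm_mul_apply g u]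
    have hyr : y ^ r = 1 := pow_eq_one_of_conj g u y r hgr hy hcomm
    have hypow : Lm y ^ r = 1 := Lm_pow_eq_one y r hyr
    obtain ⟨mu, hmur, hmu1, -, hrel⟩ := comm_rel hC u y hu hyQ
    have heig := eig_le hC y hyQ hys
    by_cases hm1 : mu = 1
    · obtain ⟨ζ, hζ⟩ := exists_prim hC y hyQ hys
      have huy : ∀ v, Lm u (Lm y v) = Lm y (Lm u v) := by
        intro v; rw [hrel, hm1, one_smul]
      have hB : ∀ i, finrank F ↥(End.eigenspace (Lm y) (ζ ^ i)) ≤ n / r := by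
        intro i
        rw [Nat.le_div_iff_mul_le hC.prime.pos, mul_comm]
        exact heig _
      have h1 := count_commuting (Lm g) (Lm y) (Lm u) (Lm_injective g) (Lm_injective u) r
        hC.prime ζ hζ hypow hyg huy hug (n / r) hB c
      have h2 : r * (n / r) ≤ n := Nat.mul_div_le n r
      obtain ⟨s, rfl⟩ : ∃ s, r = s + 4 := ⟨r - 4, by omega⟩
      have e3 : s + 4 - 1 = s + 3 := by omega
      rw [e3] at h1
      by_contra hcon
      push Not at hcon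
      have h3 : (s + 4) * (n / (s + 4)) + 1 ≤ 2 * finrank F ↥(End.eigenspace (Lm g) c) := by
        omega
      have h4 := Nat.mul_le_mul_left (s + 4) h3
      nlinarith [h4, h1, Nat.zero_le (s * s * (n / (s + 4))), Nat.zero_le (s * (n / (s + 4)))]
    · have hζ : IsPrimitiveRoot mu r := IsPrimitiveRoot.iff_orderOf.mpr (orderOf_eq_prime hmur hm1)
      have h1 := count_twisted (Lm g) (Lm y) (Lm u) (Lm_injective g) (Lm_injective u) r
        hC.prime mu hζ hypow hyg hrel hug c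
      have h2 := heig 1
      calc 2 * finrank F ↥(End.eigenspace (Lm g) c)
          ≤ 4 * finrank F ↥(End.eigenspace (Lm y) 1) := by omega
        _ ≤ r * finrank F ↥(End.eigenspace (Lm y) 1) := Nat.mul_le_mul_right _ hr4
        _ ≤ n := h2
  · obtain ⟨v₀, hv₀⟩ := exists_ne (0 : Fin n → F)
    have hlr : (lam : F) ^ r = 1 :=
      pow_eq_one_of_rel (Lm y) (Lm g) (Lm_injective y) lam R1 r hgpow v₀ hv₀
    have hrel : ∀ v, Lm g (Lm y v) = (lam : F)⁻¹ • Lm y (Lm g v) := by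
      intro v; rw [R1, smul_smul, inv_mul_cancel₀ (Units.ne_zero lam), one_smul]
    have hord : orderOf ((lam : F)⁻¹) = r := by
      apply orderOf_eq_prime
      · rw [inv_pow, hlr, inv_one]
      · intro h; exact hl1 (inv_eq_one.mp h)
    have h1 := cyc_le (Lm g) (Lm y) (Lm_injective g) (Lm_injective y) ⊤
      (fun _ _ => Submodule.mem_top) _ r hord (fun v _ => hrel v) c
    rw [inf_top_eq, finrank_top, Module.finrank_fin_fun] at h1
    calc 2 * finrank F ↥(End.eigenspace (Lm g) c)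
        ≤ r * finrank F ↥(End.eigenspace (Lm g) c) := Nat.mul_le_mul_right _ (by omega)
      _ ≤ n := h1

end

end Cfsg.Agent.Lib.Helper9.Xsp
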