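import Mathlib

/-!
Linear algebra lemmas for S5877 (eigenspaces of elements normalising an extraspecial group).
-/

namespace Cfsg.Agent.Lib.Helper9.Xsp

open Module

variable {F : Type*} [Field F] {V : Type*} [AddCommGroup V] [Module F V] [FiniteDimensional F V]

theorem two_mul_le (W : Submodule F V) (h : V ≃ₗ[F] V) :
    2 * finrank F W ≤ finrank F V + finrank F ↥(W ⊓ W.map (h : V →ₗ[F] V)) := by
  have h1 := Submodule.finrank_sup_add_finrank_inf_eq W (W.map (h : V →ₗ[F] V))
  have h2 : finrank F ↥(W.map (h : V →ₗ[F] V)) = finrank F W := LinearEquiv.finrank_map_eq h W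
  have h3 : finrank F ↥(W ⊔ W.map (h : V →ₗ[F] V)) ≤ finrank F V := Submodule.finrank_le _
  omega

theorem finrank_map_inj (h : End F V) (hh : Function.Injective h) (A : Submodule F V) :
    finrank F ↥(A.map h) = finrank F A :=
  (LinearEquiv.finrank_eq (Submodule.equivMapOfInjective h hh A)).symm

theorem finrank_biSup_le {ι : Type*} (S : Finset ι) (A : ι → Submodule F V) :
    finrank F ↥(⨆ i ∈ S, A i) ≤ ∑ i ∈ S, finrank F ↥(A i) := by
  classical
  induction S using Finset.induction_on with
  | empty => simp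
  | insert a S ha ih =>
    rw [Finset.sum_insert ha, Finset.iSup_insert]
    have := Submodule.finrank_add_le_finrank_add_finrank (A a) (⨆ i ∈ S, A i)
    omega

theorem sum_finrank_eigen_inf_le (f : End F V) (U : Submodule F V) (S : Finset F) :
    ∑ μ ∈ S, finrank F ↥(End.eigenspace f μ ⊓ U) ≤ finrank F U := by
  classical
  have hind : iSupIndep (fun μ : F => End.eigenspace f μ ⊓ U) :=
    (End.eigenspaces_iSupIndep f).mono (fun μ => inf_le_left)
  have key : ∀ S : Finset F, finrank F ↥(⨆ μ ∈ S, (End.eigenspace f μ ⊓ U)) =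
      ∑ μ ∈ S, finrank F ↥(End.eigenspace f μ ⊓ U) := by
    intro S
    induction S using Finset.induction_on with
    | empty => simp
    | insert a S ha ih =>
      rw [Finset.sum_insert ha, Finset.iSup_insert]
      have hdisj : Disjoint (End.eigenspace f a ⊓ U) (⨆ μ ∈ S, End.eigenspace f μ ⊓ U) := by
        have := hind.disjoint_biSup (x := a) (y := (S : Set F)) (by simpa using ha)
        simpa using this
      have h1 := Submodule.finrank_sup_add_finrank_inf_eq (End.eigenspace f a ⊓ U)
        (⨆ μ ∈ S, End.eigenspace f μ ⊓ U)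
      rw [hdisj.eq_bot] at h1
      simp only [finrank_bot, add_zero] at h1
      rw [h1, ih]
  rw [← key S]
  apply Submodule.finrank_mono
  exact iSup₂_le (fun μ _ => inf_le_right)

theorem eq_zero_of_fixed (a b : End F V) (lam : F) (hl : lam ≠ 1)
    (hab : ∀ v, a (b v) = lam • b (a v)) (v : V) (ha : a v = v) (hb : b v = v) : v = 0 := by
  have h := hab v
  rw [hb, ha, hb] at h
  have h2 : (1 - lam) • v = 0 := by rw [sub_smul, one_smul, ← h, sub_self]
  rcases smul_eq_zero.mp h2 with h3 | h3
  · exact absurd (sub_eq_zero.mp h3).symm hl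
  · exact h3

theorem pow_apply_eigen (g : End F V) (c : F) (w : V) (hw : g w = c • w) (j : ℕ) :
    (g ^ j) w = c ^ j • w := by
  induction j with
  | zero => simp
  | succ k ih =>
    rw [pow_succ, Module.End.mul_apply, hw, map_smul, ih, smul_smul, pow_succ, mul_comm]

theorem pow_injective (g : End F V) (hg : Function.Injective g) (j : ℕ) :
    Function.Injective (g ^ j) := by
  have : ⇑(g ^ j) = (⇑g)^[j] := by
    ext v
    exact Module.End.pow_apply g j v
  rw [this]
  exact hg.iterate j

theorem conj_apply_eq (g h h' : End F V) (j : ℕ) (hg : Function.Injective g)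
    (hrel : ∀ v, (g ^ j) (h' v) = h ((g ^ j) v)) (c : F) (v : V) (hv : g v = c • v)
    (hhv : g (h v) = c • h v) : h' v = h v := by
  apply pow_injective g hg j
  rw [hrel, pow_apply_eigen g c v hv, map_smul, pow_apply_eigen g c (h v) hhv]

theorem map_eigen_inf_le (f h : End F V) (U : Submodule F V) (hU : ∀ v ∈ U, h v ∈ U) (lam : F)
    (hrel : ∀ v ∈ U, f (h v) = lam • h (f v)) (μ : F) :
    (End.eigenspace f μ ⊓ U).map h ≤ End.eigenspace f (lam * μ) ⊓ U := by
  intro w hw
  obtain ⟨v, hv, rfl⟩ := Submodule.mem_map.mp hw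
  obtain ⟨hv1, hv2⟩ := Submodule.mem_inf.mp hv
  refine Submodule.mem_inf.mpr ⟨?_, hU v hv2⟩
  rw [End.mem_eigenspace_iff] at hv1 ⊢
  rw [hrel v hv2, hv1, map_smul, smul_smul]

/-- CYC: if `h` conjugates `f` to `lam • f` on the `h`-invariant subspace `U`, `lam` of order `r`, then every
eigenspace of `f` meets `U` in dimension at most `dim U / r`. -/
theorem cyc_le (f h : End F V) (hf : Function.Injective f) (hh : Function.Injective h)
    (U : Submodule F V) (hU : ∀ v ∈ U, h v ∈ U) (lam : F) (r : ℕ) (hlam : orderOf lam = r)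
    (hrel : ∀ v ∈ U, f (h v) = lam • h (f v)) (μ : F) :
    r * finrank F ↥(End.eigenspace f μ ⊓ U) ≤ finrank F U := by
  classical
  by_cases hμ : μ = 0
  · subst hμ
    have h0 : End.eigenspace f 0 = ⊥ := by
      rw [End.eigenspace_zero]; exact LinearMap.ker_eq_bot.mpr hf
    rw [h0, bot_inf_eq, finrank_bot, mul_zero]; exact Nat.zero_le _
  set a : ℕ → ℕ := fun k => finrank F ↥(End.eigenspace f (lam ^ k * μ) ⊓ U) with ha
  have hstep : ∀ k, a k ≤ a (k + 1) := by
    intro k
    have h1 := map_eigen_inf_le f h U hU lam hrel (lam ^ k * μ)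
    have h2 := Submodule.finrank_mono h1
    rw [finrank_map_inj h hh] at h2
    have e1 : lam * (lam ^ k * μ) = lam ^ (k + 1) * μ := by ring
    rw [e1] at h2
    exact h2
  have hmono : ∀ m k, a k ≤ a (k + m) := by
    intro m
    induction m with
    | zero => intro k; simp
    | succ m ih => intro k; exact (ih k).trans (by simpa [add_assoc] using hstep (k + m))
  have hper : a r = a 0 := by
    have hl1 : lam ^ r = 1 := by rw [← hlam]; exact pow_orderOf_eq_one lam
    show finrank F ↥(End.eigenspace f (lam ^ r * μ) ⊓ U) =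
      finrank F ↥(End.eigenspace f (lam ^ 0 * μ) ⊓ U)
    rw [hl1, pow_zero]
  have hconst : ∀ k, k ≤ r → a k = a 0 := by
    intro k hk
    have h1 := hmono k 0
    have h2 := hmono (r - k) k
    rw [Nat.add_sub_cancel' hk] at h2
    simp only [zero_add] at h1
    omega
  have hsum := sum_finrank_eigen_inf_le f U ((Finset.range r).image (fun k => lam ^ k * μ))
  rw [Finset.sum_image] at hsum
  · have hs : ∑ k ∈ Finset.range r, finrank F ↥(End.eigenspace f (lam ^ k * μ) ⊓ U) = r * a 0 := by
      rw [Finset.sum_congr rfl (fun k hk => hconst k (le_of_lt (Finset.mem_range.mp hk)))]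
      simp
    rw [hs] at hsum
    have hfin : a 0 = finrank F ↥(End.eigenspace f μ ⊓ U) := by
      show finrank F ↥(End.eigenspace f (lam ^ 0 * μ) ⊓ U) = _
      rw [pow_zero, one_mul]
    rw [hfin] at hsum
    exact hsum
  · intro k hk k' hk' hkk'
    have h3 : lam ^ k = lam ^ k' := mul_right_cancel₀ hμ hkk'
    have hk1 : k ∈ Set.Iio (orderOf lam) := by simpa [hlam] using hk
    have hk2 : k' ∈ Set.Iio (orderOf lam) := by simpa [hlam] using hk'
    exact pow_injOn_Iio_orderOf hk1 hk2 h3

/-- LA7: an endomorphism with `y ^ r = 1` (and a primitive `r`-th root of unity in `F`) is diagonalisable on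
every invariant subspace. -/
theorem le_sum_inf_eigen (y : End F V) (r : ℕ) (hr : 0 < r) (ζ : F) (hζ : IsPrimitiveRoot ζ r)
    (hy : y ^ r = 1) (W : Submodule F V) (hW : ∀ v ∈ W, y v ∈ W) :
    finrank F W ≤ ∑ i ∈ Finset.range r, finrank F ↥(End.eigenspace y (ζ ^ i) ⊓ W) := by
  classical
  haveI : NeZero r := ⟨hr.ne'⟩
  have hr0 : (r : F) ≠ 0 := (hζ.neZero' (R := F)).ne
  have hζr : ζ ^ r = 1 := hζ.pow_eq_one
  have hζ0 : ζ ≠ 0 := by
    intro h; rw [h, zero_pow hr.ne'] at hζr; exact zero_ne_one hζr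
  -- invariance under powers
  have hWpow : ∀ (k : ℕ) (v : V), v ∈ W → (y ^ k) v ∈ W := by
    intro k
    induction k with
    | zero => intro v hv; simpa using hv
    | succ k ih => intro v hv; rw [pow_succ, Module.End.mul_apply]; exact ih _ (hW v hv)
  let π : ℕ → V → V := fun i v => (r : F)⁻¹ • ∑ k ∈ Finset.range r, (ζ⁻¹) ^ (i * k) • (y ^ k) v
  have hπW : ∀ i v, v ∈ W → π i v ∈ W := by
    intro i v hv
    exact W.smul_mem _ (W.sum_mem (fun k _ => W.smul_mem _ (hWpow k v hv)))
  have hπE : ∀ i v, π i v ∈ End.eigenspace y (ζ ^ i) := by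
    intro i v
    rw [End.mem_eigenspace_iff]
    simp only [π, map_smul, map_sum]
    rw [smul_comm]
    congr 1
    -- y (y^k v) = y^(k+1) v
    have e1 : ∀ k, y ((y ^ k) v) = (y ^ (k + 1)) v := by
      intro k; rw [pow_succ', Module.End.mul_apply]
    simp only [e1]
    -- shift the sum
    have e2 : ∑ k ∈ Finset.range r, (ζ⁻¹) ^ (i * k) • (y ^ (k + 1)) v =
        ∑ k ∈ Finset.range r, (ζ ^ i * (ζ⁻¹) ^ (i * (k + 1))) • (y ^ (k + 1)) v := by
      apply Finset.sum_congr rfl
      intro k _
      congr 1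
      rw [mul_add, mul_one, pow_add, ← mul_assoc, mul_comm (ζ ^ i), mul_assoc, ← mul_pow,
        mul_inv_cancel₀ hζ0, one_pow, mul_one]
    rw [e2, Finset.smul_sum]
    have e3 : ∑ k ∈ Finset.range r, (ζ ^ i * (ζ⁻¹) ^ (i * (k + 1))) • (y ^ (k + 1)) v =
        ∑ k ∈ Finset.range r, ζ ^ i • ((ζ⁻¹) ^ (i * (k + 1)) • (y ^ (k + 1)) v) := by
      apply Finset.sum_congr rfl
      intro k _
      rw [smul_smul]
    rw [e3]
    set G : ℕ → V := fun k => ζ ^ i • ((ζ⁻¹) ^ (i * k) • (y ^ k) v) with hG
    have h1 : ∑ k ∈ Finset.range (r + 1), G k = ∑ k ∈ Finset.range r, G (k + 1) + G 0 :=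
      Finset.sum_range_succ' G r
    have h2 : ∑ k ∈ Finset.range (r + 1), G k = ∑ k ∈ Finset.range r, G k + G r :=
      Finset.sum_range_succ G r
    have h3 : G r = G 0 := by
      simp only [hG, hy, mul_zero, pow_zero, pow_mul', inv_pow, hζr, inv_one, one_pow]
    have h4 : ∑ k ∈ Finset.range r, G (k + 1) = ∑ k ∈ Finset.range r, G k := by
      rw [h3] at h2
      exact add_right_cancel (h1.symm.trans h2)
    exact h4
  -- the π i sum to the identity
  have hsumπ : ∀ v, ∑ i ∈ Finset.range r, π i v = v := by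
    intro v
    simp only [π]
    rw [← Finset.smul_sum, Finset.sum_comm]
    have e1 : ∀ k ∈ Finset.range r, ∑ i ∈ Finset.range r, (ζ⁻¹) ^ (i * k) • (y ^ k) v =
        (if k = 0 then (r : F) else 0) • (y ^ k) v := by
      intro k hk
      rw [← Finset.sum_smul]
      congr 1
      split_ifs with hk0
      · subst hk0; simp
      · have hkr : k < r := Finset.mem_range.mp hk
        have hμ1 : (ζ⁻¹) ^ k ≠ 1 := by
          rw [inv_pow]
          intro h
          exact hζ.pow_ne_one_of_pos_of_lt hk0 hkr (inv_eq_one.mp h)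
        have hμr : ((ζ⁻¹) ^ k) ^ r = 1 := by
          rw [← pow_mul, mul_comm, pow_mul, inv_pow, hζr, inv_one, one_pow]
        have hgs := geom_sum_mul ((ζ⁻¹) ^ k) r
        rw [hμr, sub_self] at hgs
        have h0 : ∑ i ∈ Finset.range r, ((ζ⁻¹) ^ k) ^ i = 0 := by
          rcases mul_eq_zero.mp hgs with h | h
          · exact h
          · exact absurd (sub_eq_zero.mp h) hμ1
        rw [← h0]
        apply Finset.sum_congr rfl
        intro i _
        rw [← pow_mul, mul_comm]
    rw [Finset.sum_congr rfl e1]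
    rw [Finset.sum_eq_single 0]
    · simp only [if_true, pow_zero, Module.End.one_apply]
      rw [smul_smul, inv_mul_cancel₀ hr0, one_smul]
    · intro k _ hk0
      simp [hk0]
    · intro h
      exact absurd (Finset.mem_range.mpr hr) h
  have hle : W ≤ ⨆ i ∈ Finset.range r, (End.eigenspace y (ζ ^ i) ⊓ W) := by
    intro v hv
    rw [← hsumπ v]
    apply Submodule.sum_mem
    intro i hi
    have hmem : π i v ∈ End.eigenspace y (ζ ^ i) ⊓ W :=
      Submodule.mem_inf.mpr ⟨hπE i v, hπW i v hv⟩
    exact Submodule.mem_iSup_of_mem i (Submodule.mem_iSup_of_mem hi hmem)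
  exact (Submodule.finrank_mono hle).trans (finrank_biSup_le _ _)

theorem two_mul_le' (W : Submodule F V) (h : End F V) (hh : Function.Injective h) :
    2 * finrank F W ≤ finrank F V + finrank F ↥(W ⊓ W.map h) := by
  have h1 := Submodule.finrank_sup_add_finrank_inf_eq W (W.map h)
  have h2 := finrank_map_inj h hh W
  have h3 : finrank F ↥(W ⊔ W.map h) ≤ finrank F V := Submodule.finrank_le _
  omega

theorem rel_pow (a b : End F V) (lam : F) (hab : ∀ v, a (b v) = lam • b (a v)) (k : ℕ) (v : V) :
    a ((b ^ k) v) = lam ^ k • (b ^ k) (a v) := by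
  induction k generalizing v with
  | zero => simp
  | succ k ih =>
    rw [pow_succ, Module.End.mul_apply, ih, hab, map_smul, Module.End.mul_apply, smul_smul, pow_succ]

theorem pow_eq_one_of_rel (a b : End F V) (ha : Function.Injective a) (lam : F)
    (hab : ∀ v, a (b v) = lam • b (a v)) (k : ℕ) (hb : b ^ k = 1) (v : V) (hv : v ≠ 0) :
    lam ^ k = 1 := by
  have h := rel_pow a b lam hab k v
  rw [hb, Module.End.one_apply, Module.End.one_apply] at h
  have h2 : (1 - lam ^ k) • a v = 0 := by rw [sub_smul, one_smul, ← h, sub_self]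
  rcases smul_eq_zero.mp h2 with h3 | h3
  · exact (sub_eq_zero.mp h3).symm
  · exact absurd (ha (h3.trans (map_zero a).symm)) hv

end Cfsg.Agent.Lib.Helper9.Xsp
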