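import Cfsg.Agent.Lib.Helper9.XspGrp

/-!
Assembly for S5877.
-/

set_option autoImplicit false

namespace Cfsg.Agent.Lib.Helper9.Xsp

open Module Cfsg.Geo
open scoped MatrixGroups

theorem main_bounds {F : Type*} [Field F] [Fintype F] {n r ϖ : ℕ}
    (R : Subgroup (GL (Fin n) F)) (hr : r.Prime) (hR : IsPGroup r R)
    (hZ : Nat.card (Subgroup.center R) = r) (hext : commutator R = Subgroup.center R)
    (hirr : ActsAbsolutelyIrreducibly (matrixSet R)) (g : GL (Fin n) F)
    (hg : g ∈ subgroupNormalizer (R ⊔ scalars (Fin n) F)) (hϖ : ϖ.Prime) (hord : orderOf g = ϖ)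
    (hns : g ∉ scalars (Fin n) F) (c : F) :
    (ϖ = 2 → 4 * finrank F ↥(End.eigenspace (Lm g) c) ≤ 3 * n) ∧
    (ϖ = 3 → 3 * finrank F ↥(End.eigenspace (Lm g) c) ≤ 2 * n) ∧
    (3 < ϖ → 2 * finrank F ↥(End.eigenspace (Lm g) c) ≤ n) ∧
    (ϖ = 3 → ¬ 3 ∣ n → 2 * finrank F ↥(End.eigenspace (Lm g) c) ≤ n) := by
  haveI : NeZero n := ⟨by
    rintro rfl
    apply hns
    rw [mem_scalars_iff]
    exact ⟨1, Subsingleton.elim _ _⟩⟩
  have hC := cfg_of_hyps R hr hR hZ hext hirr
  obtain ⟨Q, hQ⟩ : ∃ Q, Q = R ⊔ scalars (Fin n) F := ⟨_, rfl⟩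
  rw [← hQ] at hC
  have hgN : g ∈ Subgroup.normalizer (Q : Set (GL (Fin n) F)) := by rw [hQ]; exact hg
  have hgw : g ^ ϖ = 1 := by rw [← hord]; exact pow_orderOf_eq_one g
  obtain ⟨e, he⟩ : ∃ e, e = finrank F ↥(End.eigenspace (Lm g) c) := ⟨_, rfl⟩
  rw [← he]
  have hfrom : 2 * e ≤ n → ((ϖ = 2 → 4 * e ≤ 3 * n) ∧ (ϖ = 3 → 3 * e ≤ 2 * n) ∧
      (3 < ϖ → 2 * e ≤ n) ∧ (ϖ = 3 → ¬ 3 ∣ n → 2 * e ≤ n)) := by
    intro h
    exact ⟨fun _ => by omega, fun _ => by omega, fun _ => h, fun _ _ => h⟩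
  by_cases hI : ∀ x ∈ Q, x⁻¹ * g⁻¹ * x * g ∈ scalars (Fin n) F
  · apply hfrom
    have h1 : ¬ ∀ x ∈ R, g * x = x * g := fun h => hns (hC.commutantR g h)
    push Not at h1
    obtain ⟨x, hx, hxg⟩ := h1
    have hy1 : x⁻¹ * g⁻¹ * x * g ≠ 1 := by
      intro h
      apply hxg
      have h2 : x * g = g * x * (x⁻¹ * g⁻¹ * x * g) := by group
      rw [h, mul_one] at h2
      exact h2.symm
    have hys := hI x (hC.R_le hx)
    obtain ⟨lam, hlam⟩ := (mem_scalars_iff _).mp hys
    have hl1 : (lam : F) ≠ 1 := by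
      intro h
      apply hy1
      apply Units.ext
      rw [hlam, h, one_smul, Units.val_one]
    have hbot : End.eigenspace (Lm (x⁻¹ * g⁻¹ * x * g)) 1 = ⊥ := by
      rw [eq_bot_iff]
      intro v hv
      rw [End.mem_eigenspace_iff, Lm_of_scalar _ _ hlam, one_smul] at hv
      have h3 : ((lam : F) - 1) • v = 0 := by rw [sub_smul, hv, one_smul, sub_self]
      rcases smul_eq_zero.mp h3 with h | h
      · exact absurd (sub_eq_zero.mp h) hl1
      · exact (Submodule.mem_bot F).mpr h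
    have h4 := fix_le g x c
    rw [hbot, finrank_bot, ← he] at h4
    omega
  · push Not at hI
    obtain ⟨x, hx, hxs⟩ := hI
    have hyQ : x⁻¹ * g⁻¹ * x * g ∈ Q := comm_g_mem_one g hgN x hx
    have habc : 2 * r * e ≤ (r + 1) * n := by
      have h1 := fix_le g x c
      rw [← he] at h1
      have h2 := eig_le hC _ hyQ hxs 1
      have h3 := Nat.mul_le_mul_left r h1
      nlinarith
    have hr2 := hr.two_le
    have hrn := r_dvd hC _ hyQ hxs
    refine ⟨?_, ?_, ?_, ?_⟩
    · intro _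
      by_contra hcon
      push Not at hcon
      have h1 : 3 * n + 1 ≤ 4 * e := hcon
      nlinarith [Nat.mul_le_mul_left r h1, Nat.mul_le_mul_right n hr2, habc]
    · intro h3
      by_cases hr3 : 3 ≤ r
      · by_contra hcon
        push Not at hcon
        have h1 : 2 * n + 1 ≤ 3 * e := hcon
        nlinarith [Nat.mul_le_mul_left r h1, Nat.mul_le_mul_right n hr3, habc]
      · have hr2' : r = 2 := by omega
        subst h3
        subst hr2'
        have := method1 hC g hgN 3 hgw (by decide) (by decide) c x hx hxs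
        rw [← he] at this
        omega
    · intro h3
      by_cases hwr : ϖ = r
      · subst hwr
        have := planB hC g hgN hgw (by omega) c x hx hxs
        rw [← he] at this
        exact this
      · have := method1 hC g hgN ϖ hgw (hϖ.odd_of_ne_two (by omega))
          ((Nat.coprime_primes hϖ hr).mpr hwr) c x hx hxs
        rw [← he] at this
        exact this
    · intro h3 hn3
      have hr3 : r ≠ 3 := by
        rintro rfl
        exact hn3 hrn
      subst h3
      have := method1 hC g hgN 3 hgw (by decide)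
        ((Nat.coprime_primes (by norm_num) hr).mpr (Ne.symm hr3)) c x hx hxs
      rw [← he] at this
      exact this

end Cfsg.Agent.Lib.Helper9.Xsp
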