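import Mathlib
import Cfsg.Agent.Lib.Lead.Yoshida7

set_option autoImplicit false

/-!
# Evaluation of the transfer of a cocycle at an element of minimal order (Yoshida's argument for abstract `P`-sets)
-/

namespace Cfsg.Agent.H9YF

open MulAction Function Cfsg.Agent.Lib.Lead.Yoshida

universe u

section coc
variable {P R Y : Type*} [Group P] [Group R] [MulAction P Y]

/-- A cocycle of the `P`-set `Y` with values in `R`. -/
def IsCoc (c : P → Y → R) : Prop := ∀ (s s' : P) (y : Y), c (s' * s) y = c s y * c s' (s • y)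

variable {c : P → Y → R}

theorem IsCoc.one (hc : IsCoc c) (y : Y) : c 1 y = 1 := by
  have h := hc 1 1 y
  rw [mul_one, one_smul] at h
  have h2 : c 1 y * 1 = c 1 y * c 1 y := by rw [mul_one]; exact h
  exact (mul_left_cancel h2).symm

theorem IsCoc.pow_fixed (hc : IsCoc c) {s : P} {y : Y} (h : s • y = y) (m : ℕ) :
    c (s ^ m) y = (c s y) ^ m := by
  induction m with
  | zero => rw [pow_zero, pow_zero, hc.one]
  | succ m ih =>
    have h2 : s ^ m • y = y := by
      have h3 : s ∈ stabilizer P y := h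
      exact (stabilizer P y).pow_mem h3 m
    rw [pow_succ', hc, ih, h2, pow_succ]

theorem IsCoc.orderOf_dvd (hc : IsCoc c) {s : P} {y : Y} (h : s • y = y) :
    orderOf (c s y) ∣ orderOf s := by
  apply orderOf_dvd_of_pow_eq_one
  rw [← hc.pow_fixed h, pow_orderOf_eq_one, hc.one]

variable {A : Type*} [CommGroup A]

theorem IsCoc.map_pow (hc : IsCoc c) (χ : R →* A) (s : P) (y : Y) (m : ℕ) :
    χ (c (s ^ m) y) = ∏ i ∈ Finset.range m, χ (c s (s ^ i • y)) := by
  induction m with
  | zero => rw [pow_zero, hc.one, map_one, Finset.prod_range_zero]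
  | succ m ih => rw [pow_succ', hc, map_mul, ih, Finset.prod_range_succ]

/-- The homomorphism on the stabilizer of a point defined by a cocycle. -/
def IsCoc.nu (hc : IsCoc c) (χ : R →* A) (y₀ : Y) : stabilizer P y₀ →* A where
  toFun d := χ (c (d : P) y₀)
  map_one' := by rw [Subgroup.coe_one, hc.one, map_one]
  map_mul' a b := by
    have hb : (b : P) • y₀ = y₀ := b.2
    rw [Subgroup.coe_mul, hc, hb, map_mul, mul_comm]

theorem IsCoc.nu_apply (hc : IsCoc c) (χ : R →* A) (y₀ : Y) (d : stabilizer P y₀) :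
    hc.nu χ y₀ d = χ (c (d : P) y₀) := rfl

theorem IsCoc.conj (hc : IsCoc c) (χ : R →* A) (y₀ : Y) (u x : P) (h : x • (u • y₀) = u • y₀) :
    χ (c x (u • y₀)) = χ (c (u⁻¹ * x * u) y₀) := by
  have h1 : c (u⁻¹ * x * u) y₀ = c u y₀ * c x (u • y₀) * c u⁻¹ (u • y₀) := by
    rw [mul_assoc, hc, hc, mul_smul, h]
  have h2 : c u y₀ * c u⁻¹ (u • y₀) = 1 := by rw [← hc, inv_mul_cancel, hc.one]
  rw [h1, map_mul, map_mul, mul_right_comm, ← map_mul, h2, map_one, one_mul]

end coc

section main
variable {P : Type u} {R Y : Type*} [Group P] [Finite P] [Group R] [MulAction P Y] [Fintype Y]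
  {p : ℕ} [hp : Fact p.Prime] {c : P → Y → R}

/-- The product over the points of a nontrivial `P`-orbit fixed by `x` vanishes. -/
theorem prod_orbit_eq_one (hP : IsPGroup p P) (hNV : NormVanish p P) (hc : IsCoc c)
    (χ : R →* Multiplicative (ZMod p)) (x : P) (hmin : ∀ r : R, orderOf r < orderOf x → χ r = 1)
    (y₀ : Y) (hy₀ : y₀ ∉ MulAction.fixedPoints P Y)
    [DecidablePred (fun a : Y => a ∈ orbit P y₀ ∧ x • a = a)] :
    ∏ a ∈ Finset.univ.filter (fun a : Y => a ∈ orbit P y₀ ∧ x • a = a), χ (c x a) = 1 := by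
  classical
  letI : Fintype (P ⧸ stabilizer P y₀) := Fintype.ofFinite _
  have hD : stabilizer P y₀ ≠ ⊤ := by
    intro h
    apply hy₀
    intro u
    have : u ∈ stabilizer P y₀ := by rw [h]; exact Subgroup.mem_top u
    exact this
  have hx' : ∀ (y : P) (hy : y ∈ stabilizer P y₀), orderOf y < orderOf x →
      hc.nu χ y₀ ⟨y, hy⟩ = 1 := by
    intro y hy hlt
    rw [IsCoc.nu_apply]
    apply hmin
    exact lt_of_le_of_lt (Nat.le_of_dvd (orderOf_pos y) (hc.orderOf_dvd hy)) hlt
  have hC := prod_ext1_eq_one hP hNV (stabilizer P y₀) hD (hc.nu χ y₀) x hx'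
  rw [← hC]
  have hff : Finset.univ.filter (fun a : Y => a ∈ orbit P y₀ ∧ x • a = a) =
      (Finset.univ.filter (fun a : Y => a ∈ orbit P y₀)).filter (fun a => x • a = a) := by
    ext a
    simp only [Finset.mem_filter, Finset.mem_univ, true_and]
  rw [hff, Finset.prod_filter]
  letI : Fintype (orbit P y₀) := Fintype.ofFinite _
  rw [Finset.prod_subtype (p := fun a : Y => a ∈ orbit P y₀)
    (Finset.univ.filter (fun a : Y => a ∈ orbit P y₀))
    (by intro a; simp) (fun a => if x • a = a then χ (c x a) else 1)]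
  rw [← Equiv.prod_comp (orbitEquivQuotientStabilizer P y₀).symm]
  refine Finset.prod_congr rfl (fun q _ => ?_)
  have h1 : (((orbitEquivQuotientStabilizer P y₀).symm q : orbit P y₀) : Y) = q.out • y₀ := by
    conv_lhs => rw [← QuotientGroup.out_eq' q]
    rw [orbitEquivQuotientStabilizer_symm_apply]
  rw [h1]
  by_cases hfix : x • (q.out • y₀) = q.out • y₀
  · have hmem : q.out⁻¹ * x * q.out ∈ stabilizer P y₀ := by
      show (q.out⁻¹ * x * q.out) • y₀ = y₀
      rw [mul_smul, mul_smul, hfix, inv_smul_smul]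
    rw [if_pos hfix, ext1_of_mem _ _ hmem, IsCoc.nu_apply]
    exact hc.conj χ y₀ q.out x hfix
  · have hnot : q.out⁻¹ * x * q.out ∉ stabilizer P y₀ := by
      intro hmem
      apply hfix
      have h2 : (q.out⁻¹ * x * q.out) • y₀ = y₀ := hmem
      rw [mul_smul, mul_smul] at h2
      have h3 : q.out • (q.out⁻¹ • x • q.out • y₀) = q.out • y₀ := congrArg (q.out • ·) h2
      rwa [smul_inv_smul] at h3
    rw [if_neg hfix, ext1_of_not_mem _ _ hnot]

/-- **Evaluation at an element of minimal order**: only the fixed points of `P` contribute. -/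
theorem prod_eq_prod_fixedPoints (hP : IsPGroup p P) (hNV : NormVanish p P) (hc : IsCoc c)
    (χ : R →* Multiplicative (ZMod p)) (x : P) (hmin : ∀ r : R, orderOf r < orderOf x → χ r = 1)
    [DecidablePred (fun y : Y => y ∈ MulAction.fixedPoints P Y)] :
    ∏ y : Y, χ (c x y) = ∏ y ∈ Finset.univ.filter (fun y : Y => y ∈ MulAction.fixedPoints P Y), χ (c x y) := by
  classical
  have step1 : ∏ y : Y, χ (c x y) = ∏ y ∈ Finset.univ.filter (fun y : Y => x • y = y), χ (c x y) := by
    rw [← Finset.prod_filter_mul_prod_filter_not Finset.univ (fun y : Y => x • y = y)]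
    suffices h : ∏ y ∈ Finset.univ.filter (fun y : Y => ¬ x • y = y), χ (c x y) = 1 by
      rw [h, mul_one]
    apply Finset.prod_cancels_of_partition_cancels (orbitRel (Subgroup.zpowers x) Y)
    intro y₀ hy₀
    rw [Finset.mem_filter] at hy₀
    have hne : x • y₀ ≠ y₀ := hy₀.2
    obtain ⟨m, hm⟩ : ∃ m, m = minimalPeriod (x • ·) y₀ := ⟨_, rfl⟩
    have hmdvd : m ∣ orderOf x := by
      rw [hm, ← MulAction.period_eq_minimalPeriod]
      exact MulAction.period_dvd_orderOf x y₀
    have hmpos : 0 < m := Nat.pos_of_dvd_of_pos hmdvd (orderOf_pos x)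
    have hset : (Finset.univ.filter (fun y : Y => ¬ x • y = y)).filter
        (fun a => (orbitRel (Subgroup.zpowers x) Y) a y₀) =
        (Finset.range m).image (fun i => x ^ i • y₀) := by
      ext a
      simp only [Finset.mem_filter, Finset.mem_univ, true_and, Finset.mem_image, Finset.mem_range]
      constructor
      · rintro ⟨_, ha⟩
        have ha' : a ∈ orbit (Subgroup.zpowers x) y₀ := ha
        obtain ⟨⟨g, hg⟩, rfl⟩ := ha'
        obtain ⟨k, rfl⟩ := Subgroup.mem_zpowers_iff.mp hg
        have hmZ : (0 : ℤ) < (m : ℤ) := by exact_mod_cast hmpos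
        refine ⟨(k % (m : ℤ)).toNat, ?_, ?_⟩
        · have h1 := Int.emod_lt_of_pos k hmZ
          have h2 := Int.emod_nonneg k hmZ.ne'
          omega
        · show x ^ _ • y₀ = (x ^ k) • y₀
          rw [← zpow_natCast, Int.toNat_of_nonneg (Int.emod_nonneg k hmZ.ne'), hm,
            MulAction.zpow_smul_mod_minimalPeriod]
      · rintro ⟨i, _, rfl⟩
        refine ⟨?_, ?_⟩
        · intro h
          apply hne
          have h3 : x ^ i • (x • y₀) = x ^ i • y₀ := by
            rw [← mul_smul, ← pow_succ, pow_succ', mul_smul]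
            exact h
          exact smul_left_cancel _ h3
        · exact ⟨⟨x ^ i, Subgroup.pow_mem _ (Subgroup.mem_zpowers x) i⟩, rfl⟩
    rw [hset, Finset.prod_image]
    · rw [← hc.map_pow χ x y₀ m]
      apply hmin
      have hfix : x ^ m • y₀ = y₀ := by
        rw [hm]
        exact MulAction.pow_smul_eq_iff_minimalPeriod_dvd.mpr dvd_rfl
      have hlt := orderOf_pow_minimalPeriod_lt x y₀ hne
      rw [← hm] at hlt
      exact lt_of_le_of_lt (Nat.le_of_dvd (orderOf_pos _) (hc.orderOf_dvd hfix)) hlt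
    · intro i hi j hj hij
      have hi' : i ∈ Set.Iio (minimalPeriod (x • ·) y₀) := by
        rw [← hm]; exact Finset.mem_range.mp hi
      have hj' : j ∈ Set.Iio (minimalPeriod (x • ·) y₀) := by
        rw [← hm]; exact Finset.mem_range.mp hj
      apply Function.iterate_injOn_Iio_minimalPeriod hi' hj'
      simp only [smul_iterate]
      exact hij
  rw [step1, ← Finset.prod_filter_mul_prod_filter_not
    (Finset.univ.filter (fun y : Y => x • y = y)) (fun y => y ∈ MulAction.fixedPoints P Y)]
  have hA : (Finset.univ.filter (fun y : Y => x • y = y)).filter (fun y => y ∈ MulAction.fixedPoints P Y) =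
      Finset.univ.filter (fun y => y ∈ MulAction.fixedPoints P Y) := by
    ext y
    simp only [Finset.mem_filter, Finset.mem_univ, true_and]
    exact ⟨fun h => h.2, fun h => ⟨h x, h⟩⟩
  rw [hA]
  suffices h : ∏ y ∈ (Finset.univ.filter (fun y : Y => x • y = y)).filter
      (fun y => ¬ y ∈ MulAction.fixedPoints P Y), χ (c x y) = 1 by
    rw [h, mul_one]
  apply Finset.prod_cancels_of_partition_cancels (orbitRel P Y)
  intro y₀ hy₀
  rw [Finset.mem_filter, Finset.mem_filter] at hy₀
  have hset : ((Finset.univ.filter (fun y : Y => x • y = y)).filter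
      (fun y => ¬ y ∈ MulAction.fixedPoints P Y)).filter (fun a => (orbitRel P Y) a y₀) =
      Finset.univ.filter (fun a : Y => a ∈ orbit P y₀ ∧ x • a = a) := by
    ext a
    simp only [Finset.mem_filter, Finset.mem_univ, true_and]
    constructor
    · rintro ⟨⟨h1, _⟩, h3⟩
      exact ⟨h3, h1⟩
    · rintro ⟨h3, h1⟩
      refine ⟨⟨h1, ?_⟩, h3⟩
      intro ha
      apply hy₀.2
      obtain ⟨u, rfl⟩ := h3
      intro v
      have h4 := ha (u * v * u⁻¹)
      rw [mul_smul, mul_smul, inv_smul_smul] at h4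
      exact smul_left_cancel u h4
  rw [hset]
  exact prod_orbit_eq_one hP hNV hc χ x hmin y₀ hy₀.2

end main

end Cfsg.Agent.H9YF
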