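import Mathlib
import Cfsg.Prelude
import Cfsg.Agent.Lib.Helper8.CB10
import Cfsg.Agent.Lib.Helper9.YF1

set_option autoImplicit false

/-!
# The transfer of a characteristic biset at an element of minimal order
-/

namespace Cfsg.Agent.H9YF

open MulAction Cfsg Cfsg.FusionSystem Cfsg.Agent.Lib.Helper9 Cfsg.Agent.Lib.Helper8.BM
  Cfsg.Agent.Lib.Helper8.CB Cfsg.Agent.Lib.Lead.Yoshida

universe u

variable {Ω : Type u} [Group Ω] {S : Subgroup Ω}

/-- The action of `S` on the orbits of the right action, through the left action. -/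
instance orbS (X : Type*) [MulAction (S × S) X] : MulAction S (Orb (rightHom S X)) where
  smul s y := barMap (rightHom S X) (leftHom S X s) y
  one_smul y := by
    show barMap (rightHom S X) (leftHom S X 1) y = y
    rw [map_one, barMap_one]
  mul_smul s s' y := by
    show barMap _ (leftHom S X (s * s')) y = barMap _ (leftHom S X s) (barMap _ (leftHom S X s') y)
    rw [map_mul, barMap_mul]

theorem orbS_smul {X : Type*} [MulAction (S × S) X] (s : S) (y : Orb (rightHom S X)) :
    s • y = barMap (rightHom S X) (leftHom S X s) y := rfl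

/-- The transfer cocycle. -/
theorem isCoc_tc (F : FusionSystem S) {X : Type*} [MulAction (S × S) X]
    (hstab : ∀ x : X, stabilizer (S × S) x ∈ graphs F) :
    IsCoc (fun (s : S) (y : Orb (rightHom S X)) => tc (rightHom S X) (leftHom S X s) y) := by
  intro s s' y
  show tc _ (leftHom S X (s' * s)) y =
    tc _ (leftHom S X s) y * tc _ (leftHom S X s') (barMap _ (leftHom S X s) y)
  rw [map_mul]
  exact tc_mul (rightHom S X) (rightHom_free F hstab) _ _ y

/-- Invariance of a homomorphism under the maps of the system defined on the whole of `S`. -/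
def NInv (F : FusionSystem S) {A : Type*} [CommGroup A] (χ : S →* A) : Prop :=
  ∀ (P : Subgroup Ω) (φ : P →* Ω) (hφ : φ ∈ F.Hom P), S ≤ P → ∀ a : P,
    χ ⟨φ a, (F.le_of_mem hφ).2 a⟩ = χ ⟨a, (F.le_of_mem hφ).1 a.2⟩

/-- The transfer cocycle at a fixed point of `S`. -/
theorem tc_fixed (F : FusionSystem S) {X : Type*} [MulAction (S × S) X]
    (hstab : ∀ x : X, stabilizer (S × S) x ∈ graphs F) {A : Type*} [CommGroup A] (χ : S →* A)
    (hinv : NInv F χ) (y : Orb (rightHom S X)) (hy : y ∈ MulAction.fixedPoints S (Orb (rightHom S X)))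
    (s : S) : χ (tc (rightHom S X) (leftHom S X s) y) = (χ s)⁻¹ := by
  obtain ⟨P, φ, hφ, hK⟩ := hstab (sec (rightHom S X) y)
  have hall : ∀ s' : S, ∃ w : P, (w : Ω) = (s' : Ω) ∧
      φ w = (((tc (rightHom S X) (leftHom S X s') y)⁻¹ : S) : Ω) := by
    intro s'
    have h1 := apply_sec (rightHom S X) (leftHom S X s') y
    have h2 : barMap (rightHom S X) (leftHom S X s') y = y := hy s'
    rw [h2, leftHom_apply, rightHom_apply] at h1
    have h3 : ((s', (tc (rightHom S X) (leftHom S X s') y)⁻¹) : S × S) ∈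
        stabilizer (S × S) (sec (rightHom S X) y) := by
      show ((s', (tc (rightHom S X) (leftHom S X s') y)⁻¹) : S × S) • sec (rightHom S X) y =
        sec (rightHom S X) y
      have h4 : ((s', (tc (rightHom S X) (leftHom S X s') y)⁻¹) : S × S) =
          ((1, (tc (rightHom S X) (leftHom S X s') y)⁻¹) : S × S) * ((s', 1) : S × S) := by
        simp
      rw [h4, mul_smul, h1, ← mul_smul]
      simp only [Prod.mk_mul_mk, one_mul, inv_mul_cancel]
      exact one_smul _ _
    rw [hK] at h3
    obtain ⟨w, hw1, hw2⟩ := (mem_gr _ _ _).mp h3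
    exact ⟨w, hw1, hw2⟩
  have hSP : S ≤ P := by
    intro a ha
    obtain ⟨w, hw1, -⟩ := hall ⟨a, ha⟩
    have : (w : Ω) = a := hw1
    rw [← this]
    exact w.2
  obtain ⟨w, hw1, hw2⟩ := hall s
  have h5 := hinv P φ hφ hSP w
  have h6 : (⟨φ w, (F.le_of_mem hφ).2 w⟩ : S) = (tc (rightHom S X) (leftHom S X s) y)⁻¹ :=
    Subtype.ext hw2
  have h7 : (⟨w, (F.le_of_mem hφ).1 w.2⟩ : S) = s := Subtype.ext hw1
  rw [h6, h7, map_inv] at h5
  rw [← h5, inv_inv]

/-- **Non-vanishing of the transfer**: if all norms of `S` vanish, the transfer of a nontrivial character of order `p`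
invariant under `Aut_F(S)` is nontrivial. -/
theorem exists_bisetTransfer_ne_one [Finite S] (p : ℕ) [hp : Fact p.Prime] (hS : IsPGroup p S)
    (hNV : NormVanish p S) (F : FusionSystem S) {X : Type*} [Finite X] [MulAction (S × S) X]
    (hstab : ∀ x : X, stabilizer (S × S) x ∈ graphs F) (k : ℕ) (hk : Nat.card X = k * Nat.card S)
    (hpk : ¬ p ∣ k) (χ : S →* Multiplicative (ZMod p)) (hχ : ∃ y, χ y ≠ 1) (hinv : NInv F χ) :
    ∃ x : S, bisetTransfer F hstab χ x ≠ 1 := by
  classical
  obtain ⟨x, hx, hmin'⟩ := WellFounded.has_min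
    (InvImage.wf (fun y : S => orderOf y) Nat.lt_wfRel.wf) {y : S | χ y ≠ 1} hχ
  have hmin : ∀ y : S, orderOf y < orderOf x → χ y = 1 := by
    intro y hy
    by_contra h
    exact hmin' y h hy
  refine ⟨x, ?_⟩
  letI : Fintype (Orb (rightHom S X)) := Fintype.ofFinite _
  have h1 : bisetTransfer F hstab χ x =
      ∏ y : Orb (rightHom S X), χ (tc (rightHom S X) (leftHom S X x) y) := by
    unfold bisetTransfer
    rw [MonoidHom.comp_apply, tr_apply]
    unfold trFun
    apply Finset.prod_congr _ (fun _ _ => rfl)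
    ext y
    simp
  rw [h1, prod_eq_prod_fixedPoints hS hNV (isCoc_tc F hstab) χ x hmin]
  have hfix : ∀ y ∈ Finset.univ.filter
      (fun y : Orb (rightHom S X) => y ∈ MulAction.fixedPoints S (Orb (rightHom S X))),
      χ (tc (rightHom S X) (leftHom S X x) y) = (χ x)⁻¹ := by
    intro y hy
    rw [Finset.mem_filter] at hy
    exact tc_fixed F hstab χ hinv y hy.2 x
  rw [Finset.prod_eq_pow_card hfix]
  intro hpow
  have hord : orderOf (χ x)⁻¹ = p := by
    apply orderOf_eq_prime
    · have := pow_card_eq_one' (G := Multiplicative (ZMod p)) (x := (χ x)⁻¹)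
      rwa [card_mult_zmod] at this
    · intro h
      exact hx (inv_eq_one.mp h)
  have hdvd : p ∣ (Finset.univ.filter
      (fun y : Orb (rightHom S X) => y ∈ MulAction.fixedPoints S (Orb (rightHom S X)))).card := by
    have := orderOf_dvd_of_pow_eq_one hpow
    rwa [hord] at this
  have hmod := hS.card_modEq_card_fixedPoints (Orb (rightHom S X))
  have hcard : Nat.card (MulAction.fixedPoints S (Orb (rightHom S X))) = (Finset.univ.filter
      (fun y : Orb (rightHom S X) => y ∈ MulAction.fixedPoints S (Orb (rightHom S X)))).card := by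
    rw [Nat.card_eq_fintype_card, Fintype.card_subtype]
  have hcard2 : Nat.card (Orb (rightHom S X)) = k := by
    have h2 := card_orb_mul (rightHom S X) (rightHom_free F hstab)
    rw [hk] at h2
    exact Nat.eq_of_mul_eq_mul_right Nat.card_pos h2
  rw [hcard, hcard2] at hmod
  apply hpk
  rw [Nat.dvd_iff_mod_eq_zero, hmod, ← Nat.dvd_iff_mod_eq_zero]
  exact hdvd

end Cfsg.Agent.H9YF
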