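import Mathlib
import Cfsg.Prelude
import Cfsg.Agent.Lib.Helper8.CB10
import Cfsg.Agent.Lib.Helper9.YF2
import Cfsg.Agent.Lib.Lead.Yoshida8
import Cfsg.Agent.Lib.Lead.Yoshida9

set_option autoImplicit false

/-!
# Yoshida's theorem for fusion systems: if all norms of `S` vanish, `N_F(S)` controls transfer
-/

namespace Cfsg.Agent.H9YF

open MulAction Cfsg Cfsg.FusionSystem Cfsg.Agent.Lib.Helper9 Cfsg.Agent.Lib.Helper8.BM
  Cfsg.Agent.Lib.Helper8.CB Cfsg.Agent.Lib.Lead.Yoshida
open scoped commutatorElement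

universe u

variable {Ω : Type u} [Group Ω] {S : Subgroup Ω}

/-- The focal subgroup lies in `S`. -/
theorem focal_le (F : FusionSystem S) : F.focalSubgroup ≤ S := by
  unfold FusionSystem.focalSubgroup
  rw [Subgroup.closure_le]
  rintro _ ⟨P, φ, x, hφ, rfl⟩
  have h := F.le_of_mem hφ
  exact S.mul_mem (S.inv_mem (h.1 x.2)) (h.2 x)

/-- Every map of the system defined on `S` belongs to `N_F(S)`. -/
theorem top_mem_normalizerHom [Finite S] (F : FusionSystem S) (φ : S →* Ω) (hφ : φ ∈ F.Hom S) :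
    φ ∈ F.normalizerHom S S := by
  have hval : ∀ x : S, φ x ∈ S := (F.le_of_mem hφ).2
  have hinj : Function.Injective (φ.codRestrict S hval) := by
    intro a b hab
    apply F.injective_of_mem hφ
    exact congrArg Subtype.val hab
  have hsurj : Function.Surjective (φ.codRestrict S hval) := Finite.injective_iff_surjective.mp hinj
  refine ⟨hφ, le_inf le_rfl Subgroup.le_normalizer, ?_, ?_⟩
  · intro x
    exact ⟨hval x, Subgroup.le_normalizer (hval x)⟩
  · have hsup : S ⊔ S = S := sup_idem _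
    have key : ∀ (P₀ : Subgroup Ω) (h : P₀ = S), ∃ ψ ∈ F.Hom P₀, ∀ x : P₀, ψ x = φ ⟨x, (le_of_eq h) x.2⟩ := by
      intro P₀ h
      subst h
      exact ⟨φ, hφ, fun x => rfl⟩
    obtain ⟨ψ, hψ, Hψ⟩ := key (S ⊔ S) hsup
    refine ⟨ψ, hψ, fun x => ?_, ?_⟩
    · rw [Hψ]
      rfl
    · ext y
      constructor
      · rintro ⟨x, -, rfl⟩
        rw [Hψ]
        exact hval _
      · intro hy
        obtain ⟨a, ha⟩ := hsurj ⟨y, hy⟩
        have ha' : φ a = y := congrArg Subtype.val ha
        refine ⟨⟨a, le_sup_left (a := S) (b := S) a.2⟩, ?_, ?_⟩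
        · show (a : Ω) ∈ S
          exact a.2
        · rw [Hψ]
          exact ha'

/-- The transfer is functorial in the target. -/
theorem bisetTransfer_comp (F : FusionSystem S) {X : Type*} [Finite X] [MulAction (S × S) X]
    (hstab : ∀ x : X, stabilizer (S × S) x ∈ graphs F) {A B : Type*} [CommGroup A] [CommGroup B]
    (f : A →* B) (π : S →* A) (s : S) :
    bisetTransfer F hstab (f.comp π) s = f (bisetTransfer F hstab π s) := by
  classical
  unfold bisetTransfer
  rw [MonoidHom.comp_apply, MonoidHom.comp_apply, tr_apply, tr_apply]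
  unfold trFun
  rw [map_prod]
  rfl

/-- **Yoshida's theorem (focal subgroup form)**: if all norms of `S` vanish, the focal subgroups of `F` and of
`N_F(S)` agree. -/
theorem focal_eq_of_normVanish [Finite S] (p : ℕ) [hp : Fact p.Prime] (hS : IsPGroup p S)
    (F : FusionSystem S) (hF : F.IsSaturated p) (N : FusionSystem (normalizerIn S S))
    (hN : F.IsNormalizerSystem S N) (hNV : NormVanish p S) :
    N.focalSubgroup = F.focalSubgroup := by
  classical
  obtain ⟨X, hXfin, hXact, hstab, hst, k, hk, hpk⟩ := exists_char_biset p hS F hF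
  have hNF : N.focalSubgroup ≤ F.focalSubgroup := by
    conv_lhs => unfold FusionSystem.focalSubgroup
    rw [Subgroup.closure_le]
    rintro _ ⟨P, φ, x, hφ, rfl⟩
    rw [hN P] at hφ
    exact Subgroup.subset_closure ⟨P, φ, x, hφ.1, rfl⟩
  apply le_antisymm hNF
  obtain ⟨B, hB⟩ : ∃ B : Subgroup S, B = N.focalSubgroup.subgroupOf S := ⟨_, rfl⟩
  have hSN : S ≤ normalizerIn S S := le_inf le_rfl Subgroup.le_normalizer
  have hcomm : commutator S ≤ B := by
    rw [commutator_eq_closure, Subgroup.closure_le]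
    rintro _ ⟨a, b, rfl⟩
    rw [SetLike.mem_coe, hB, Subgroup.mem_subgroupOf]
    have hc : conjHom (normalizerIn S S) (b : Ω) ∈ N.Hom (normalizerIn S S) :=
      N.conj_mem le_rfl (hSN b.2)
    have hgen : ((⟨(a : Ω)⁻¹, hSN (S.inv_mem a.2)⟩ : normalizerIn S S) : Ω)⁻¹ *
        conjHom (normalizerIn S S) (b : Ω) ⟨(a : Ω)⁻¹, hSN (S.inv_mem a.2)⟩ ∈ N.focalSubgroup :=
      Subgroup.subset_closure ⟨_, _, _, hc, rfl⟩
    have heq : ((⁅a, b⁆ : S) : Ω) = ((⟨(a : Ω)⁻¹, hSN (S.inv_mem a.2)⟩ : normalizerIn S S) : Ω)⁻¹ *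
        conjHom (normalizerIn S S) (b : Ω) ⟨(a : Ω)⁻¹, hSN (S.inv_mem a.2)⟩ := by
      rw [commutatorElement_def]
      simp only [conjHom, MonoidHom.coe_comp, Function.comp_apply, Subgroup.coe_subtype,
        MulEquiv.coe_toMonoidHom, MulAut.conj_apply, Subgroup.coe_mul, Subgroup.coe_inv, inv_inv]
      group
    rw [heq]
    exact hgen
  haveI hBn : B.Normal := by
    refine ⟨fun z hz u => ?_⟩
    have h1 : u * z * u⁻¹ = ⁅u, z⁆ * z := by rw [commutatorElement_def]; group
    rw [h1]
    refine B.mul_mem (hcomm ?_) hz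
    rw [commutator_def]
    exact Subgroup.commutator_mem_commutator (Subgroup.mem_top u) (Subgroup.mem_top z)
  letI : CommGroup (S ⧸ B) := commGroupQuot B hcomm
  have hQp : IsPGroup p (S ⧸ B) := hS.to_quotient B
  obtain ⟨V, hV⟩ : ∃ V : S →* S ⧸ B, V = bisetTransfer F hstab (QuotientGroup.mk' B) := ⟨_, rfl⟩
  have hVF : ∀ (P : Subgroup Ω) (φ : P →* Ω) (hφ : φ ∈ F.Hom P) (a : P),
      V ⟨φ a, (F.le_of_mem hφ).2 a⟩ = V ⟨a, (F.le_of_mem hφ).1 a.2⟩ := by
    intro P φ hφ a
    rw [hV]
    exact bisetTransfer_map F hstab hst _ hφ a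
  -- the focal subgroup lies in the kernel
  have hFker : F.focalSubgroup ≤ V.ker.map S.subtype := by
    conv_lhs => unfold FusionSystem.focalSubgroup
    rw [Subgroup.closure_le]
    rintro _ ⟨P, φ, x, hφ, rfl⟩
    refine ⟨(⟨x, (F.le_of_mem hφ).1 x.2⟩ : S)⁻¹ * ⟨φ x, (F.le_of_mem hφ).2 x⟩, ?_, rfl⟩
    rw [SetLike.mem_coe, MonoidHom.mem_ker, map_mul, map_inv, hVF P φ hφ x, inv_mul_cancel]
  have hBker : B ≤ V.ker := by
    intro b hb
    rw [hB, Subgroup.mem_subgroupOf] at hb
    obtain ⟨b', hb', hbb⟩ := hFker (hNF hb)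
    have : b' = b := Subtype.ext hbb
    rw [← this]
    exact hb'
  -- surjectivity
  have hsurj : Function.Surjective V := by
    rw [← MonoidHom.range_eq_top]
    by_contra hR
    obtain ⟨K, hKn, hKidx, hRK⟩ := exists_normal_index_p_ge hQp _ hR
    have hcardK : Nat.card ((S ⧸ B) ⧸ K) = p := by
      rw [← Subgroup.index_eq_card, hKidx]
    let e := mulEquivOfPrimeCardEq hcardK (card_mult_zmod (p := p))
    let f : (S ⧸ B) →* Multiplicative (ZMod p) := e.toMonoidHom.comp (QuotientGroup.mk' K)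
    have hfK : ∀ a, a ∈ K → f a = 1 := by
      intro a ha
      change e (QuotientGroup.mk' K a) = 1
      have h0 : QuotientGroup.mk' K a = 1 := (QuotientGroup.eq_one_iff a).mpr ha
      rw [h0, map_one]
    have hfne : ∃ a, f a ≠ 1 := by
      by_contra hall
      push Not at hall
      have hKtop : K = ⊤ := by
        rw [eq_top_iff]
        intro a _
        have h1 : e (QuotientGroup.mk' K a) = 1 := hall a
        have h2 : QuotientGroup.mk' K a = 1 := by
          rw [← e.map_one] at h1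
          exact e.injective h1
        exact (QuotientGroup.eq_one_iff a).mp h2
      rw [hKtop, Subgroup.index_top] at hKidx
      exact hp.out.one_lt.ne hKidx
    let χ : S →* Multiplicative (ZMod p) := f.comp (QuotientGroup.mk' B)
    have hχ : ∃ y, χ y ≠ 1 := by
      obtain ⟨a, ha⟩ := hfne
      obtain ⟨y, rfl⟩ := QuotientGroup.mk'_surjective _ a
      exact ⟨y, ha⟩
    have hinv : NInv F χ := by
      intro P φ hφ hSP a
      have hPS : P = S := le_antisymm (F.le_of_mem hφ).1 hSP
      subst hPS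
      have hmem : φ ∈ N.Hom P := by
        rw [hN P]
        exact top_mem_normalizerHom F φ hφ
      have hgen : (a : Ω)⁻¹ * φ a ∈ N.focalSubgroup := by
        have hPN : P ≤ normalizerIn P P := (N.le_of_mem hmem).1
        exact Subgroup.subset_closure ⟨P, φ, a, hmem, rfl⟩
      change f (QuotientGroup.mk' B _) = f (QuotientGroup.mk' B _)
      congr 1
      symm
      apply QuotientGroup.eq.mpr
      rw [hB, Subgroup.mem_subgroupOf]
      exact hgen
    obtain ⟨x, hx⟩ := exists_bisetTransfer_ne_one p hS hNV F hstab k hk hpk χ hχ hinv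
    apply hx
    change bisetTransfer F hstab (f.comp (QuotientGroup.mk' B)) x = 1
    rw [bisetTransfer_comp]
    apply hfK
    apply hRK
    rw [hV]
    exact ⟨x, rfl⟩
  -- conclusion by counting
  have hker : V.ker = B := by
    symm
    apply Subgroup.eq_of_le_of_card_ge hBker
    have h1 := Subgroup.card_mul_index V.ker
    have h2 := Subgroup.card_mul_index B
    rw [Subgroup.index_ker, MonoidHom.range_eq_top.mpr hsurj, Subgroup.card_top] at h1
    rw [Subgroup.index_eq_card] at h2
    rw [← h2] at h1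
    have hpos : 0 < Nat.card (S ⧸ B) := Nat.card_pos
    exact (Nat.eq_of_mul_eq_mul_right hpos h1).le
  intro z hz
  obtain ⟨z', hz', hzz⟩ := hFker hz
  rw [SetLike.mem_coe, hker, hB, Subgroup.mem_subgroupOf] at hz'
  rw [← hzz]
  exact hz'

end Cfsg.Agent.H9YF
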