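import Mathlib
import Cfsg.Prelude.Def_FusionSystem
import Cfsg.Prelude.Def_FusionComponents
import Cfsg.Prelude.Def_PLocal
import Cfsg.Agent.Lib.Helper9.ZJG2
import Cfsg.Agent.Lib.Helper9.ZJG3

set_option autoImplicit false

/-!
# Glauberman–Thompson relative to a strongly closed subgroup (part 1): strongly closed subgroups in normalizer and
factor systems; invariance of `Z(J(D))`
-/

namespace Cfsg.Agent.H9ZJ

open Cfsg Cfsg.FusionSystem Cfsg.Agent.Lib.Helper9 Cfsg.Agent.Lib.Lead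

universe u

variable {Ω : Type u} [Group Ω] {S : Subgroup Ω}

/-- In a finite `p`-group `S`, if `D` is normal in `S` and `D ∩ N_S(Q) ≤ Q` then `D ≤ Q`. -/
theorem le_of_inf_normalizerIn_le [Finite S] (p : ℕ) [Fact p.Prime] (hS : IsPGroup p S) {D Q : Subgroup Ω}
    (hDS : D ≤ S) (hQS : Q ≤ S) (hDn : S ≤ Subgroup.normalizer (D : Set Ω))
    (h : D ⊓ normalizerIn S Q ≤ Q) : D ≤ Q := by
  by_contra hDQ
  have hle : Q ⊔ D ≤ S := sup_le hQS hDS
  haveI : Finite ↥(Q ⊔ D) := fs_finite_of_le hle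
  have hp' : IsPGroup p ↥(Q ⊔ D) := hS.to_le hle
  have hlt : Q < Q ⊔ D := by
    refine lt_of_le_of_ne le_sup_left ?_
    intro heq
    apply hDQ
    rw [heq]
    exact le_sup_right
  have h1 := fs_lt_normalizerIn p hp' hlt
  obtain ⟨y, hyN, hyQ⟩ := SetLike.exists_of_lt h1
  have hy : y ∈ ((Q ⊔ D : Subgroup Ω) : Set Ω) := hyN.1
  rw [Subgroup.coe_mul_of_left_le_normalizer_right Q D (hQS.trans hDn)] at hy
  obtain ⟨q, hq, d, hd, rfl⟩ := hy
  apply hyQ
  have hdN : d ∈ normalizerIn S Q := by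
    refine ⟨hDS hd, ?_⟩
    have h2 : d = q⁻¹ * (q * d) := by group
    rw [h2]
    exact Subgroup.mul_mem _ (Subgroup.inv_mem _ (Subgroup.le_normalizer hq)) hyN.2
  exact Q.mul_mem hq (h ⟨hd, hdN⟩)

/-- A strongly closed subgroup intersected with `N_S(Q)` is strongly closed in the normalizer system. -/
theorem stronglyClosed_inf_normalizerSystem (F : FusionSystem S) {D Q : Subgroup Ω} (hD : F.StronglyClosed D)
    (E : FusionSystem (normalizerIn S Q)) (hE : F.IsNormalizerSystem Q E) :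
    E.StronglyClosed (D ⊓ normalizerIn S Q) := by
  refine ⟨inf_le_right, fun R hR φ hφ x => ?_⟩
  have hφF : φ ∈ F.Hom R := by rw [hE] at hφ; exact hφ.1
  exact ⟨hD.2 R (hR.trans inf_le_left) φ hφF x, (E.le_of_mem hφ).2 x⟩

variable {Ω' : Type*} [Group Ω'] {S' : Subgroup Ω'}

/-- The image of a strongly closed subgroup is strongly closed in the factor system. -/
theorem stronglyClosed_imageAlong (F : FusionSystem S) {S₀ D : Subgroup Ω} (hD : F.StronglyClosed D)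
    (θ : S →* Ω') (E : FusionSystem S') (hE : F.IsFactorSystem S₀ θ E) :
    E.StronglyClosed (imageAlong θ D) := by
  obtain ⟨-, -, hrange, hHom⟩ := hE
  refine ⟨?_, fun R' hR' φ' hφ' x' => ?_⟩
  · rintro _ ⟨s, -, rfl⟩
    rw [← hrange]
    exact ⟨s, rfl⟩
  · obtain ⟨-, φ, hφ, hind⟩ := (hHom R' φ').mp hφ'
    obtain ⟨s, hs, hsx⟩ := hR' x'.2
    have hsD : (s : Ω) ∈ D := Subgroup.mem_subgroupOf.mp hs
    have hsP : (s : Ω) ∈ preimageAlong θ R' := by
      rw [mem_preimageAlong_iff]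
      exact ⟨s.2, by rw [Subtype.coe_eta, hsx]; exact x'.2⟩
    obtain ⟨hP, hφS, hP', he⟩ := hind
    have h1 := he ⟨s, hsP⟩
    have h2 : (⟨θ ⟨((⟨s, hsP⟩ : preimageAlong θ R') : Ω), hP hsP⟩, hP' ⟨s, hsP⟩⟩ : R') = x' := by
      apply Subtype.ext
      exact hsx
    rw [h2] at h1
    rw [h1]
    refine ⟨⟨φ ⟨s, hsP⟩, hφS _⟩, ?_, rfl⟩
    exact Subgroup.mem_subgroupOf.mpr (fs_stronglyClosed_mem F hD hφ ⟨s, hsP⟩ hsD)

/-- An automorphism of `P` preserving `D ≤ P` preserves `Z(J(D))`. -/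
theorem zj_aut_invariant {P D : Subgroup Ω} (hDP : D ≤ P) [Finite D] (α : MulAut P)
    (h : ∀ x : P, (x : Ω) ∈ D → ((α x : P) : Ω) ∈ D) (x : P) (hx : (x : Ω) ∈ centerThompsonAOf D) :
    ((α x : P) : Ω) ∈ centerThompsonAOf D := by
  obtain ⟨D₀, hD₀⟩ : ∃ D₀ : Subgroup P, D₀ = D.subgroupOf P := ⟨_, rfl⟩
  have e0 : D₀.map P.subtype = D := by
    rw [hD₀, Subgroup.map_subgroupOf_eq_of_le hDP]
  obtain ⟨f, hf⟩ : ∃ f : P →* Ω, f = P.subtype.comp α.toMonoidHom := ⟨_, rfl⟩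
  have hfinj : Function.Injective f := by
    rw [hf]
    exact P.subtype_injective.comp α.injective
  have e1 : D₀.map f = D := by
    have hle : D₀.map f ≤ D := by
      rintro _ ⟨y, hy, rfl⟩
      rw [hf]
      exact h y (by rw [hD₀] at hy; exact Subgroup.mem_subgroupOf.mp hy)
    apply Subgroup.eq_of_le_of_card_ge hle
    rw [Nat.card_congr (D₀.equivMapOfInjective f hfinj).symm.toEquiv]
    rw [← e0]
    rw [Nat.card_congr (D₀.equivMapOfInjective P.subtype P.subtype_injective).symm.toEquiv]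
  have z0 := Cfsg.Agent.Lib.Helper4.ThreeStep.centerThompsonAOf_map P.subtype P.subtype_injective D₀
  have z1 := Cfsg.Agent.Lib.Helper4.ThreeStep.centerThompsonAOf_map f hfinj D₀
  rw [e0] at z0
  rw [e1] at z1
  rw [z0] at hx
  obtain ⟨x₀, hx₀, hxx⟩ := hx
  have hxe : x₀ = x := Subtype.ext hxx
  rw [z1]
  refine ⟨x, hxe ▸ hx₀, ?_⟩
  rw [hf]
  rfl

end Cfsg.Agent.H9ZJ
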