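import Mathlib
import Cfsg.Prelude.Def_FusionSystem
import Cfsg.Prelude.Def_FusionComponents
import Cfsg.Prelude.Def_PLocal
import Cfsg.Agent.Lib.Helper9.ZJD1
import Cfsg.Agent.Lib.Helper9.KL9
import Cfsg.Agent.Lib.Lead.GT13
import Cfsg.Agent.S5077
import Cfsg.Agent.Lib.Helper9.Solv4

set_option autoImplicit false

/-!
# Glauberman–Thompson relative to a strongly closed subgroup (part 2): the two inputs of the induction
-/

namespace Cfsg.Agent.H9ZJ

open Cfsg Cfsg.FusionSystem Cfsg.Agent.Lib.Helper9 Cfsg.Agent.Lib.Lead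

universe u

variable {Ω : Type u} [Group Ω] {S : Subgroup Ω}

/-- The hypothesis carried through the induction. -/
def RelZJ (p : ℕ) {Ω : Type u} [Group Ω] {S : Subgroup Ω} (F : FusionSystem S) : Prop :=
  ∃ D : Subgroup Ω, F.StronglyClosed D ∧ ¬ Bad p F (centerThompsonAOf D)

/-- A strongly closed subgroup with `Z(J(D))` not bad is not contained in a bad subgroup. -/
theorem not_le_of_bad [Finite S] (p : ℕ) [Fact p.Prime] (F : FusionSystem S) {D Q : Subgroup Ω}
    (hD : F.StronglyClosed D) (hnb : ¬ Bad p F (centerThompsonAOf D)) (hbad : Bad p F Q) : ¬ D ≤ Q := by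
  intro hDQ
  apply hnb
  obtain ⟨P, hQP, hPN, α, hα, hαQ, hα1, hαc⟩ := hbad
  have hPS : P ≤ S := hPN.trans inf_le_left
  have hDn : S ≤ Subgroup.normalizer (D : Set Ω) := fs_stronglyClosed_le_normalizer F hD
  haveI : Finite D := fs_finite_of_le hD.1
  refine ⟨P, (zj_top_le D).trans (hDQ.trans hQP), ?_, α, hα, ?_, hα1, hαc⟩
  · intro x hx
    exact ⟨hPS hx, normalizer_le_normalizer_zj' D (hDn (hPS hx))⟩
  · have hαF := (mem_autGroup_iff F hPS α).mp hα
    exact zj_aut_invariant (hDQ.trans hQP) α (fun x hx => fs_stronglyClosed_mem F hD hαF x hx)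

theorem relZJ_factor [Finite S] (p : ℕ) [hp : Fact p.Prime] (hS : IsPGroup p S) (F : FusionSystem S)
    (hF : F.IsSaturated p) (hΦ : RelZJ p F) (Q : Subgroup Ω) (hQ : IsMaxBad p F Q)
    (E : FusionSystem (normalizerIn S Q)) (hE : F.IsNormalizerSystem Q E)
    [hn : (Q.subgroupOf (normalizerIn S Q)).Normal]
    (E' : FusionSystem (⊤ : Subgroup (normalizerIn S Q ⧸ Q.subgroupOf (normalizerIn S Q))))
    (hE' : E.IsFactorSystem Q (QuotientGroup.mk' (Q.subgroupOf (normalizerIn S Q))) E') : RelZJ p E' := by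
  obtain ⟨D, hD, hnb⟩ := hΦ
  have hDQ : ¬ D ≤ Q := not_le_of_bad p F hD hnb hQ.2.2.1
  have hQS : Q ≤ S := hQ.1.1
  have hRS : normalizerIn S Q ≤ S := fs_normalizerIn_le S Q
  haveI : Finite (normalizerIn S Q) := fs_finite_of_le hRS
  have hRp : IsPGroup p (normalizerIn S Q) := hS.to_le hRS
  have hDn : S ≤ Subgroup.normalizer (D : Set Ω) := fs_stronglyClosed_le_normalizer F hD
  have hDT := stronglyClosed_inf_normalizerSystem F hD E hE
  have hD' := stronglyClosed_imageAlong E hDT _ E' hE'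
  obtain ⟨D', hD'def⟩ : ∃ D' : Subgroup (normalizerIn S Q ⧸ Q.subgroupOf (normalizerIn S Q)),
    D' = imageAlong (QuotientGroup.mk' (Q.subgroupOf (normalizerIn S Q))) (D ⊓ normalizerIn S Q) := ⟨_, rfl⟩
  rw [← hD'def] at hD'
  refine ⟨D', hD', ?_⟩
  have hker : ∀ s : normalizerIn S Q, QuotientGroup.mk' (Q.subgroupOf (normalizerIn S Q)) s = 1 ↔ (s : Ω) ∈ Q :=
    hE'.2.1
  have hD'ne : D' ≠ ⊥ := by
    intro hbot
    apply hDQ
    apply le_of_inf_normalizerIn_le p hS hD.1 hQS hDn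
    intro d hd
    have h1 : QuotientGroup.mk' (Q.subgroupOf (normalizerIn S Q)) ⟨d, hd.2⟩ ∈ D' := by
      rw [hD'def]
      exact ⟨⟨d, hd.2⟩, Subgroup.mem_subgroupOf.mpr hd, rfl⟩
    rw [hbot, Subgroup.mem_bot] at h1
    exact (hker ⟨d, hd.2⟩).mp h1
  have hXp : IsPGroup p (normalizerIn S Q ⧸ Q.subgroupOf (normalizerIn S Q)) := hRp.to_quotient _
  haveI hDTn : ((D ⊓ normalizerIn S Q).subgroupOf (normalizerIn S Q)).Normal :=
    subgroupOf_normal_of_stronglyClosed E hDT
  haveI hD'n : D'.Normal := by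
    rw [hD'def]
    exact Subgroup.Normal.map hDTn _ (QuotientGroup.mk'_surjective _)
  have hZne : centerThompsonAOf D' ≠ ⊥ :=
    Cfsg.Agent.Lib.Helper4.ThreeStep.zj_ne_bot (p := p) (hXp.to_subgroup D') hD'ne
  haveI hZn : (centerThompsonAOf D').Normal := by
    have h1 := normalizer_le_normalizer_zj' D'
    rw [Subgroup.normalizer_eq_top_iff.mpr hD'n] at h1
    exact Subgroup.normalizer_eq_top_iff.mp (top_le_iff.mp h1)
  exact factor_not_bad p hS F hF hQ E hE E' hE' (centerThompsonAOf D') hZne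

end Cfsg.Agent.H9ZJ
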