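import Mathlib
import Cfsg.Prelude.Def_FusionSystem
import Cfsg.Prelude.Def_FusionComponents
import Cfsg.Prelude.Def_PLocal
import Cfsg.Agent.Lib.Helper9.ZJD2

set_option autoImplicit false

/-!
# Glauberman–Thompson relative to a strongly closed subgroup (part 3): the constrained case
-/

namespace Cfsg.Agent.H9ZJ

open Cfsg Cfsg.FusionSystem Cfsg.Agent.Lib.Helper9 Cfsg.Agent.Lib.Lead

universe u

variable {Ω : Type u} [Group Ω] {S : Subgroup Ω}

theorem normalizer_inf_le {G : Type*} [Group G] (A B : Subgroup G) :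
    Subgroup.normalizer (A : Set G) ⊓ Subgroup.normalizer (B : Set G) ≤
      Subgroup.normalizer ((A ⊓ B : Subgroup G) : Set G) := by
  rintro x ⟨hA', hB'⟩
  have hA : x ∈ Subgroup.normalizer (A : Set G) := hA'
  have hB : x ∈ Subgroup.normalizer (B : Set G) := hB'
  rw [Subgroup.mem_normalizer_iff] at hA hB ⊢
  intro h
  rw [Subgroup.mem_inf, Subgroup.mem_inf, hA h, hB h]

/-- strongly closed subgroups of a realized system are strongly closed in the realizing group. -/
theorem sclosed_of_stronglyClosed [Finite S] {L : Type u} [Group L] (F : FusionSystem S) (ι : S →* L)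
    (hι : F.IsRealizedBy ι) {D : Subgroup Ω} (hD : F.StronglyClosed D) :
    ZJ.SClosed ((D.subgroupOf S).map ι) ι.range := by
  refine ⟨?_, ?_⟩
  · rintro _ ⟨s, -, rfl⟩; exact ⟨s, rfl⟩
  · rintro _ ⟨d₀, hd₀, rfl⟩ g hg
    have hdD : (d₀ : Ω) ∈ D := Subgroup.mem_subgroupOf.mp hd₀
    have hR : Subgroup.zpowers (d₀ : Ω) ≤ S := (Subgroup.zpowers_le).mpr d₀.2
    have hRD : Subgroup.zpowers (d₀ : Ω) ≤ D := (Subgroup.zpowers_le).mpr hdD
    have hval : ∀ y : Subgroup.zpowers (d₀ : Ω), g * ι ⟨y, hR y.2⟩ * g⁻¹ ∈ ι.range := by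
      intro y
      obtain ⟨k, hk⟩ := Subgroup.mem_zpowers_iff.mp y.2
      have e1 : (⟨y, hR y.2⟩ : S) = d₀ ^ k := by
        apply Subtype.ext
        rw [Subgroup.coe_zpow]
        exact hk.symm
      rw [e1, map_zpow, ← conj_zpow]
      exact Subgroup.zpow_mem _ hg k
    have hφ := liftConj_mem_hom hι hR g hval
    have h1 := hD.2 _ hRD _ hφ ⟨d₀, Subgroup.mem_zpowers _⟩
    have h2 := ι_liftConj ι hι.1 hR g hval ⟨d₀, Subgroup.mem_zpowers _⟩
      (liftConj_mem ι hι.1 hR g hval _)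
    refine ⟨⟨_, liftConj_mem ι hι.1 hR g hval ⟨d₀, Subgroup.mem_zpowers _⟩⟩, Subgroup.mem_subgroupOf.mpr h1, ?_⟩
    rw [h2]

/-- `Z(J(D))` of a subgroup of `S`, read inside `S` and through an injective homomorphism. -/
theorem zj_subgroupOf_map {L : Type u} [Group L] (ι : S →* L) (hinj : Function.Injective ι) {D : Subgroup Ω}
    (hDS : D ≤ S) :
    ((centerThompsonAOf D).subgroupOf S).map ι = centerThompsonAOf ((D.subgroupOf S).map ι) := by
  have z0 := Cfsg.Agent.Lib.Helper4.ThreeStep.centerThompsonAOf_map S.subtype S.subtype_injective (D.subgroupOf S)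
  rw [Subgroup.map_subgroupOf_eq_of_le hDS] at z0
  have e2 : (centerThompsonAOf D).subgroupOf S = centerThompsonAOf (D.subgroupOf S) := by
    rw [z0]
    exact Subgroup.comap_map_eq_self_of_injective S.subtype_injective _
  rw [e2]
  exact (Cfsg.Agent.Lib.Helper4.ThreeStep.centerThompsonAOf_map ι hinj (D.subgroupOf S)).symm

theorem relZJ_constrained [Finite S] (p : ℕ) [hp : Fact p.Prime] (hp2 : p ≠ 2) (hS : IsPGroup p S)
    (F : FusionSystem S) (hF : F.IsSaturated p) (hΦ : RelZJ p F) (Q : Subgroup Ω) (hQ : IsMaxBad p F Q)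
    (hcent : centralizerIn S Q ≤ Q) : False := by
  obtain ⟨D, hD, hnb⟩ := hΦ
  have hDQ : ¬ D ≤ Q := not_le_of_bad p F hD hnb hQ.2.2.1
  have hQS : Q ≤ S := hQ.1.1
  have hRS : normalizerIn S Q ≤ S := fs_normalizerIn_le S Q
  haveI : Finite (normalizerIn S Q) := fs_finite_of_le hRS
  have hRp : IsPGroup p (normalizerIn S Q) := hS.to_le hRS
  have hDn : S ≤ Subgroup.normalizer (D : Set Ω) := fs_stronglyClosed_le_normalizer F hD
  obtain ⟨E, hE⟩ := Cfsg.Agent.S5096.result F Q hQS
  have hQfc : F.IsFullyCentralized Q := (((Cfsg.Agent.S5077.result p hS F).mp hF).1 Q hQ.1).1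
  have hQc : F.IsCentric Q := fs_centric_of_fullyCentralized_of_le F hQfc hcent
  obtain ⟨-, -, G, hG, ι, hfin, hι, ⟨TG, hTG⟩, -⟩ :=
    Cfsg.Agent.H9KL.exists_model_of_fn_centric p hS F hF hQ.1 hQc E hE
  haveI := hfin
  obtain ⟨P, hQP, hPN, α, hα, hαQ, hα1, hαc⟩ := hQ.2.2.1
  have hαE := mem_normalizer_autGroup F E hE hQP hPN α hα hαQ
  have hnpl := not_plocalCentral_of_aut p hRp E ι hι hPN α hαE hα1 hαc
  have hDT := stronglyClosed_inf_normalizerSystem F hD E hE
  have hSC := sclosed_of_stronglyClosed E ι hι hDT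
  rw [← hTG] at hSC
  have hnot : ¬ HasNormalPComplement p ↥(Subgroup.normalizer
      ((((centerThompsonAOf (D ⊓ normalizerIn S Q)).subgroupOf (normalizerIn S Q)).map ι : Subgroup G) : Set G)) := by
    intro hpn
    apply hnpl
    rw [zj_subgroupOf_map ι hι.1 inf_le_right, ZJ.centerThompsonAOf_eq] at hpn
    have hpn' := GT.pnilp_iff.mpr hpn
    have key := GT.glauberman_thompson hp2 0 (dvd_zero p) TG _ hSC hpn'
    exact hasNormalPComplement_iff_plocalCentral.mp (GT.pnilp_iff.mp key)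
  have hXS : centerThompsonAOf (D ⊓ normalizerIn S Q) ≤ normalizerIn S Q :=
    (zj_top_le _).trans inf_le_right
  have hXn : normalizerIn S Q ≤ Subgroup.normalizer (centerThompsonAOf (D ⊓ normalizerIn S Q) : Set Ω) :=
    (fs_stronglyClosed_le_normalizer E hDT).trans (normalizer_le_normalizer_zj' _)
  have hbadE := bad_of_realized_normalizer p hRp E ι hι TG hTG hXS hXn hnot
  have hEF : ∀ P : Subgroup Ω, E.Hom P ⊆ F.Hom P := by
    intro P φ hφ
    rw [hE] at hφ
    exact hφ.1
  have hbadF : Bad p F (centerThompsonAOf (D ⊓ normalizerIn S Q)) := bad_of_le hRS E F hEF hbadE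
  by_cases hRS' : normalizerIn S Q = S
  · rw [hRS', inf_eq_left.mpr hD.1] at hbadF
    exact hnb hbadF
  · have hlt : normalizerIn S Q < S := lt_of_le_of_ne hRS hRS'
    have h1 := fs_lt_normalizerIn p hS hlt
    have h2 : normalizerIn S (normalizerIn S Q) ≤
        normalizerIn S (centerThompsonAOf (D ⊓ normalizerIn S Q)) := by
      intro x hx
      refine ⟨hx.1, normalizer_le_normalizer_zj' _ (normalizer_inf_le _ _ ⟨hDn hx.1, hx.2⟩)⟩
    have hDTne : D ⊓ normalizerIn S Q ≠ ⊥ := by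
      intro hbot
      apply hDQ
      apply le_of_inf_normalizerIn_le p hS hD.1 hQS hDn
      rw [hbot]
      exact bot_le
    haveI : Finite ↥(D ⊓ normalizerIn S Q) := fs_finite_of_le (inf_le_right.trans hRS)
    have hZne : centerThompsonAOf (D ⊓ normalizerIn S Q) ≠ ⊥ :=
      zj_ne_bot' (hS.to_le (inf_le_right.trans hRS)) hDTne
    haveI : Finite (normalizerIn S (centerThompsonAOf (D ⊓ normalizerIn S Q))) :=
      fs_finite_of_le (fs_normalizerIn_le S _)
    refine hQ.not_bad_of_lt hS hF (Or.inl ?_) hZne hbadF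
    have h3 : normalizerIn S Q < normalizerIn S (centerThompsonAOf (D ⊓ normalizerIn S Q)) :=
      lt_of_lt_of_le h1 h2
    by_contra hcl
    push Not at hcl
    exact h3.ne (Subgroup.eq_of_le_of_card_ge h3.le hcl)

end Cfsg.Agent.H9ZJ
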