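import Mathlib
import Cfsg.Prelude.Def_FusionSystem
import Cfsg.Prelude.Def_PLocal
import Cfsg.Agent.Lib.Helper9.ZX1
import Cfsg.Agent.Lib.Helper9.FusionBasic

set_option autoImplicit false

/-!
# Generation by `C_F(℧ᵏ(Z(S)))` and `N_F(W(S))` (part 1): definitions and monotonicity
-/

namespace Cfsg.Agent.H9ZW

open Cfsg Cfsg.FusionSystem Cfsg.Agent.Lib.Helper9

universe u

section basic

variable {Ω : Type*} [Group Ω] {S : Subgroup Ω}

/-- `℧ᵏ(Z(S))`: the subgroup generated by the `p ^ k`-th powers of the central elements of `S`. -/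
def agemoZ (p k : ℕ) (S : Subgroup Ω) : Subgroup Ω :=
  Cfsg.powerClosure p k (S ⊓ Subgroup.centralizer (S : Set Ω))

theorem pow_mem_agemoZ (p k : ℕ) {S : Subgroup Ω} {x : Ω} (hx : x ∈ S)
    (hc : ∀ y ∈ S, y * x = x * y) : x ^ (p ^ k) ∈ agemoZ p k S := by
  apply Subgroup.subset_closure
  refine ⟨x, ⟨hx, ?_⟩, rfl⟩
  show x ∈ Subgroup.centralizer (S : Set Ω)
  rw [Subgroup.mem_centralizer_iff]
  intro y hy
  exact hc y hy

theorem agemoZ_le_iff (p k : ℕ) (S K : Subgroup Ω) :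
    agemoZ p k S ≤ K ↔ ∀ x ∈ S, (∀ y ∈ S, y * x = x * y) → x ^ (p ^ k) ∈ K := by
  constructor
  · intro h x hx hc
    exact h (pow_mem_agemoZ p k hx hc)
  · intro h
    unfold agemoZ Cfsg.powerClosure
    rw [Subgroup.closure_le]
    rintro _ ⟨x, ⟨hxS, hxC⟩, rfl⟩
    apply h x hxS
    intro y hy
    have hxC' : x ∈ Subgroup.centralizer (S : Set Ω) := hxC
    exact (Subgroup.mem_centralizer_iff.mp hxC') y hy

theorem agemoZ_le_center (p k : ℕ) (S : Subgroup Ω) :
    agemoZ p k S ≤ S ⊓ Subgroup.centralizer (S : Set Ω) := by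
  rw [agemoZ_le_iff]
  intro x hx hc
  refine Subgroup.pow_mem _ (Subgroup.mem_inf.mpr ⟨hx, ?_⟩) _
  rw [Subgroup.mem_centralizer_iff]
  exact hc

theorem agemoZ_le (p k : ℕ) (S : Subgroup Ω) : agemoZ p k S ≤ S :=
  (agemoZ_le_center p k S).trans inf_le_left

theorem agemoZ_commute (p k : ℕ) {S : Subgroup Ω} {v s : Ω} (hv : v ∈ agemoZ p k S) (hs : s ∈ S) :
    s * v = v * s := by
  have h := (agemoZ_le_center p k S hv).2
  have h' : v ∈ Subgroup.centralizer (S : Set Ω) := h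
  exact (Subgroup.mem_centralizer_iff.mp h') s hs

/-- `℧ᵏ(Z(S)) ≤ ℧ᵏ(Z(T))` if `Z(S) ≤ Z(T)`. -/
theorem agemoZ_mono (p k : ℕ) {S T : Subgroup Ω}
    (h : S ⊓ Subgroup.centralizer (S : Set Ω) ≤ T ⊓ Subgroup.centralizer (T : Set Ω)) :
    agemoZ p k S ≤ agemoZ p k T := by
  unfold agemoZ Cfsg.powerClosure
  apply Subgroup.closure_mono
  rintro _ ⟨x, hx, rfl⟩
  exact ⟨x, h hx, rfl⟩

/-- `Z(S) ≤ Z(N_S(Q))`. -/
theorem center_le_center_normalizerIn (S Q : Subgroup Ω) (hQ : Q ≤ S) :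
    S ⊓ Subgroup.centralizer (S : Set Ω) ≤
      normalizerIn S Q ⊓ Subgroup.centralizer ((normalizerIn S Q : Subgroup Ω) : Set Ω) := by
  rintro x ⟨hxS, hxC⟩
  have hxC' : x ∈ Subgroup.centralizer (S : Set Ω) := hxC
  rw [Subgroup.mem_centralizer_iff] at hxC'
  refine ⟨⟨hxS, ?_⟩, ?_⟩
  · show x ∈ Subgroup.normalizer (Q : Set Ω)
    rw [Subgroup.mem_normalizer_iff]
    intro q
    constructor
    · intro hq
      have h1 := hxC' q (hQ hq)
      have e : x * q * x⁻¹ = q := by rw [← h1]; group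
      rw [e]; exact hq
    · intro hq
      have h1 := hxC' _ (hQ hq)
      have e : q = x⁻¹ * (x * q * x⁻¹) * x := by group
      have e2 : x⁻¹ * (x * q * x⁻¹) * x = x * q * x⁻¹ := by
        rw [mul_assoc, h1]; group
      rw [e, e2]; exact hq
  · show x ∈ Subgroup.centralizer ((normalizerIn S Q : Subgroup Ω) : Set Ω)
    rw [Subgroup.mem_centralizer_iff]
    intro y hy
    exact hxC' y hy.1

/-- The class bound passes to homomorphic images. -/
theorem lcs_range_eq_bot {Ω' : Type*} [Group Ω'] {S : Subgroup Ω} (θ : S →* Ω') {c : ℕ}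
    (h : S.lowerCentralSeries c = ⊥) : (θ.range).lowerCentralSeries c = ⊥ := by
  have h1 : (⊤ : Subgroup S).lowerCentralSeries c = ⊥ := by
    have h2 := Subgroup.top_subtype_lowerCentralSeries S c
    rw [h] at h2
    exact (Subgroup.map_eq_bot_iff_of_injective _ S.subtype_injective).mp h2
  rw [MonoidHom.range_eq_map, ← Subgroup.map_lowerCentralSeries, h1, Subgroup.map_bot]

/-- The class bound passes to subgroups. -/
theorem lcs_eq_bot_of_le {S T : Subgroup Ω} (hTS : T ≤ S) {c : ℕ}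
    (h : S.lowerCentralSeries c = ⊥) : T.lowerCentralSeries c = ⊥ := by
  rw [eq_bot_iff, ← h]
  exact Subgroup.lowerCentralSeries_mono c hTS

/-- Monotonicity of the maps of the centralizer system, in the system and (contravariantly) in the subgroup. -/
theorem centralizerHom_mono {T : Subgroup Ω} (hTS : T ≤ S) (E : FusionSystem T) (F : FusionSystem S)
    (hle : ∀ P : Subgroup Ω, E.Hom P ⊆ F.Hom P) {Y₁ Y₂ : Subgroup Ω} (hY : Y₁ ≤ Y₂) (P : Subgroup Ω) :
    E.centralizerHom Y₂ P ⊆ F.centralizerHom Y₁ P := by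
  rintro φ ⟨hφ, hP, hval, ψ, hψ, hψP, hψY⟩
  have hCC : centralizerIn T Y₂ ≤ centralizerIn S Y₁ := fun x hx =>
    ⟨hTS hx.1, Subgroup.centralizer_le (SetLike.coe_subset_coe.mpr hY) hx.2⟩
  have hle' : P ⊔ Y₁ ≤ P ⊔ Y₂ := sup_le_sup_left hY P
  refine ⟨hle P hφ, hP.trans hCC, fun x => hCC (hval x), ψ.comp (Subgroup.inclusion hle'),
    fs_restrict_mem F (hle _ hψ) hle', ?_, ?_⟩
  · intro x
    exact hψP x
  · intro x
    exact hψY ⟨x, hY x.2⟩

end basic

section hyp

variable {Ω : Type u} [Group Ω] {S : Subgroup Ω}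

/-- The hypothesis on `E`: it contains the maps of `C_F(℧ᵏ(Z(S)))` and of `N_F(W(S))`. -/
def GenHyp (p : ℕ) (W : ∀ (Q : Type u) [Group Q], Subgroup Q) (k : ℕ) (F E : FusionSystem S) : Prop :=
  (∀ P : Subgroup Ω, F.centralizerHom (agemoZ p k S) P ⊆ E.Hom P) ∧
    (∀ P : Subgroup Ω, F.normalizerHom (Wof W S) P ⊆ E.Hom P)

theorem GenHyp.mono {p k : ℕ} {W : ∀ (Q : Type u) [Group Q], Subgroup Q} {F F' E : FusionSystem S}
    (h : GenHyp p W k F E) (hle : ∀ P : Subgroup Ω, F'.Hom P ⊆ F.Hom P) : GenHyp p W k F' E :=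
  ⟨fun P φ hφ => h.1 P (centralizerHom_mono le_rfl F' F hle le_rfl P hφ),
    fun P φ hφ => h.2 P (normalizerHom_mono le_rfl F' F hle _ P hφ)⟩

/-- The maps of `E'` (a system over `T ≤ S`) lying in `E`. -/
def interSystem {T : Subgroup Ω} (hTS : T ≤ S) (E' : FusionSystem T) (E : FusionSystem S) :
    FusionSystem T where
  Hom P := {φ | φ ∈ E'.Hom P ∧ φ ∈ E.Hom P}
  le_of_mem h := E'.le_of_mem h.1
  injective_of_mem h := E'.injective_of_mem h.1
  conj_mem := fun hP hg => ⟨E'.conj_mem hP hg, E.conj_mem (hP.trans hTS) (hTS hg)⟩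
  comp_mem := fun hφ hψ h => ⟨E'.comp_mem hφ.1 hψ.1 h, E.comp_mem hφ.2 hψ.2 h⟩
  inv_mem := by
    intro P φ hφ
    obtain ⟨ψ, hψ, H⟩ := E'.inv_mem hφ.1
    obtain ⟨ψ₂, hψ₂, H₂⟩ := E.inv_mem hφ.2
    have e : ψ = ψ₂ := by
      ext ⟨_, x, rfl⟩
      rw [H x, H₂ x]
    refine ⟨ψ, ⟨hψ, ?_⟩, H⟩
    rw [e]
    exact hψ₂

theorem interSystem_hom {T : Subgroup Ω} (hTS : T ≤ S) (E' : FusionSystem T) (E : FusionSystem S)
    (P : Subgroup Ω) : (interSystem hTS E' E).Hom P = {φ | φ ∈ E'.Hom P ∧ φ ∈ E.Hom P} := rfl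

/-- The statement proved by induction on `n = |S|` (for `p`-groups `S` with `γ_{c+1}(S) = 1`). -/
def GenStatement (p : ℕ) (W : ∀ (Q : Type u) [Group Q], Subgroup Q) (k c n : ℕ) : Prop :=
  ∀ {Ω : Type u} [Group Ω] {S : Subgroup Ω} [Finite S], IsPGroup p S → S.lowerCentralSeries c = ⊥ →
    ∀ F : FusionSystem S, F.IsSaturated p → Nat.card S = n → ∀ E : FusionSystem S, GenHyp p W k F E →
      ∀ P : Subgroup Ω, F.Hom P ⊆ E.Hom P

/-- The group-local statement: in a group `G` of characteristic `p` with Sylow `p`-subgroup `P` (with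
`γ_{c+1}(P) = 1`), a family of conjugation maps between subgroups of `P` closed under restriction and composition and
containing the conjugations by the elements centralizing `℧ᵏ(Z(P))` and by the elements normalizing `W(P)` contains
all of them. -/
def LocalGen (p : ℕ) (W : ∀ (Q : Type u) [Group Q], Subgroup Q) (k c : ℕ) : Prop :=
  ∀ (G : Type u) [Group G] [Finite G] (P : Sylow p G),
    Subgroup.centralizer ((Cfsg.pCore p G : Subgroup G) : Set G) ≤ Cfsg.pCore p G →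
    (P : Subgroup G).lowerCentralSeries c = ⊥ →
    ∀ C : Subgroup G → G → Prop,
      (∀ (R R' : Subgroup G) (g : G), R' ≤ R → C R g → C R' g) →
      (∀ (R : Subgroup G) (g h : G), R ≤ (P : Subgroup G) →
        R.map (MulAut.conj g).toMonoidHom ≤ (P : Subgroup G) → C R g →
          C (R.map (MulAut.conj g).toMonoidHom) h → C R (h * g)) →
      (∀ (R : Subgroup G) (g : G), R ≤ (P : Subgroup G) →
        R.map (MulAut.conj g).toMonoidHom ≤ (P : Subgroup G) →
          (∀ x, x ∈ (P : Subgroup G) → (∀ y, y ∈ (P : Subgroup G) → y * x = x * y) →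
            g * x ^ (p ^ k) = x ^ (p ^ k) * g) → C R g) →
      (∀ (R : Subgroup G) (g : G), R ≤ (P : Subgroup G) →
        R.map (MulAut.conj g).toMonoidHom ≤ (P : Subgroup G) →
          g ∈ Subgroup.normalizer ((((W ↥(P : Subgroup G)).map (P : Subgroup G).subtype : Subgroup G)) : Set G) →
            C R g) →
      ∀ (R : Subgroup G) (g : G), R ≤ (P : Subgroup G) →
        R.map (MulAut.conj g).toMonoidHom ≤ (P : Subgroup G) → C R g

end hyp

end Cfsg.Agent.H9ZW
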