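import Mathlib
import Cfsg.Prelude.Def_FusionSystem
import Cfsg.Prelude.Def_FusionReduction
import Cfsg.Agent.Lib.Helper9.ZV1
import Cfsg.Agent.Lib.Helper9.ZX6
import Cfsg.Agent.Lib.Helper9.ZW7

set_option autoImplicit false

/-!
# Generation by `C_F(℧ᵏ(Z(S)))` and `N_F(W(S))` (part 2): maps normalizing a normal subgroup of `S`; the
decomposition `φ = δ ∘ Γ`
-/

namespace Cfsg.Agent.H9ZW

open Cfsg Cfsg.FusionSystem Cfsg.Agent.Lib.Helper9 Cfsg.Agent.H9KL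

universe u

/-- The maps of `F` carrying a normal subgroup `Y` of `S` onto itself lie in `E`, if this holds for all saturated
systems in which `Y` is normal. -/
theorem normalizer_gen {Ω : Type u} [Group Ω] {S : Subgroup Ω} [Finite S] (p : ℕ) [Fact p.Prime]
    {W : ∀ (Q : Type u) [Group Q], Subgroup Q} {k : ℕ}
    (hS : IsPGroup p S) (F : FusionSystem S) (hF : F.IsSaturated p) {Y : Subgroup Ω} (hYS : Y ≤ S)
    (hSY : S ≤ Subgroup.normalizer (Y : Set Ω)) (E : FusionSystem S) (hE : GenHyp p W k F E)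
    (hstep : ∀ F' : FusionSystem S, F'.IsSaturated p → F'.IsNormal Y → GenHyp p W k F' E →
      ∀ P : Subgroup Ω, F'.Hom P ⊆ E.Hom P) :
    ∀ (P : Subgroup Ω) (ψ : P →* Ω), Y ≤ P → ψ ∈ F.Hom P → (Y.subgroupOf P).map ψ = Y → ψ ∈ E.Hom P := by
  have hNY : normalizerIn S Y = S := le_antisymm inf_le_left (le_inf le_rfl hSY)
  obtain ⟨N, hN⟩ := Cfsg.Agent.S5096.result F Y hYS
  have hNsat := normalizerSystem_saturated p hS F hF (fullyNormalized_of_le_normalizer F hYS hSY) N hN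
  have hNn := normalizerSystem_isNormal F hYS N hN
  obtain ⟨N', hN', hsat', hn'⟩ := exists_cast' hNY N
    (fun T N => N.IsSaturated p ∧ N.IsNormal Y) ⟨hNsat, hNn⟩
  have hN'hom : ∀ P : Subgroup Ω, N'.Hom P = F.normalizerHom Y P := fun P => (hN' P).trans (hN P)
  have hle : ∀ P : Subgroup Ω, N'.Hom P ⊆ F.Hom P := by
    intro P φ hφ
    rw [hN'hom] at hφ
    exact hφ.1
  have hsub := hstep N' hsat' hn' (hE.mono hle)
  intro P ψ hYP hψ hmap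
  apply hsub P
  rw [hN'hom]
  exact mem_normalizerHom_of_map_eq F hYP hψ (by rw [hNY]; exact (F.le_of_mem hψ).1) hmap

variable {Ω : Type*} [Group Ω] {S : Subgroup Ω}

/-- If `Q` is normal in the saturated system `F`, the maps normalizing `Q C_S(Q)` lie in `E` and the maps which are
the identity on `Q` lie in `E`, then all maps lie in `E`. -/
theorem gen_of_decomp [Finite S] (p : ℕ) [Fact p.Prime] (hS : IsPGroup p S) (F : FusionSystem S)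
    (hF : F.IsSaturated p) {Q : Subgroup Ω} (hQ : F.IsNormal Q) (E : FusionSystem S)
    (h1 : ∀ (P : Subgroup Ω) (ψ : P →* Ω), Q ⊔ centralizerIn S Q ≤ P → ψ ∈ F.Hom P →
      ((Q ⊔ centralizerIn S Q).subgroupOf P).map ψ = Q ⊔ centralizerIn S Q → ψ ∈ E.Hom P)
    (h2 : ∀ (P : Subgroup Ω) (δ : P →* Ω) (hQP : Q ≤ P), δ ∈ F.Hom P →
      (∀ q : Q, δ (Subgroup.inclusion hQP q) = (q : Ω)) → δ ∈ E.Hom P) :
    ∀ P : Subgroup Ω, F.Hom P ⊆ E.Hom P := by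
  intro P₀ φ₀ hφ₀
  obtain ⟨φ, hφ, hφP₀, -⟩ := hQ.2 P₀ φ₀ hφ₀
  have hQP : Q ≤ P₀ ⊔ Q := le_sup_right
  have hQsc := fs_stronglyClosed_of_isNormal F hQ
  suffices H : φ ∈ E.Hom (P₀ ⊔ Q) by
    have h3 := fs_restrict_mem E H (le_sup_left : P₀ ≤ P₀ ⊔ Q)
    have h4 : φ.comp (Subgroup.inclusion (le_sup_left : P₀ ≤ P₀ ⊔ Q)) = φ₀ := by
      ext x
      exact hφP₀ x
    rwa [h4] at h3
  obtain ⟨Γ, hΓ, hΓQ, hΓR⟩ := exists_Gamma p hS F hF hQ hQP hφ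
  have hR1M : Q ⊔ centralizerIn S Q ≤ (P₀ ⊔ Q) ⊔ centralizerIn S Q :=
    sup_le (hQP.trans le_sup_left) le_sup_right
  have hΓE := h1 _ Γ hR1M hΓ hΓR
  obtain ⟨ΓP, hΓPdef⟩ : ∃ ΓP : ↥(P₀ ⊔ Q) →* Ω,
      ΓP = Γ.comp (Subgroup.inclusion (le_sup_left : P₀ ⊔ Q ≤ (P₀ ⊔ Q) ⊔ centralizerIn S Q)) := ⟨_, rfl⟩
  have hΓP : ΓP ∈ F.Hom (P₀ ⊔ Q) := by rw [hΓPdef]; exact fs_restrict_mem F hΓ le_sup_left
  have hΓPE : ΓP ∈ E.Hom (P₀ ⊔ Q) := by rw [hΓPdef]; exact fs_restrict_mem E hΓE le_sup_left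
  have hΓPQ : ∀ x : ↥(P₀ ⊔ Q), (x : Ω) ∈ Q → ΓP x = φ x := by
    intro x hx
    rw [hΓPdef]
    have := hΓQ ⟨x, hx⟩
    exact this
  obtain ⟨ι, hι, Hι⟩ := F.inv_mem hΓP
  have hιP : ∀ y : ΓP.range, ι y ∈ P₀ ⊔ Q := by
    rintro ⟨_, x, rfl⟩
    rw [Hι x]
    exact x.2
  have hδ : φ.comp (ι.codRestrict (P₀ ⊔ Q) hιP) ∈ F.Hom ΓP.range := F.comp_mem hι hφ hιP
  have Hδ : ∀ x : ↥(P₀ ⊔ Q), (φ.comp (ι.codRestrict (P₀ ⊔ Q) hιP)) ⟨ΓP x, ⟨x, rfl⟩⟩ = φ x := by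
    intro x
    show φ ⟨ι ⟨ΓP x, _⟩, _⟩ = φ x
    congr 1
    exact Subtype.ext (Hι x)
  have hsurjQ : ∀ q : Q, ∃ x : ↥(P₀ ⊔ Q), (x : Ω) ∈ Q ∧ φ x = q ∧ ΓP x = q := by
    intro q
    obtain ⟨x, hxQ, hxq⟩ := fs_stronglyClosed_surj F hQsc hφ hQP q.2
    exact ⟨x, hxQ, hxq, (hΓPQ x hxQ).trans hxq⟩
  have hQP' : Q ≤ ΓP.range := by
    intro q hq
    obtain ⟨x, -, -, hx⟩ := hsurjQ ⟨q, hq⟩
    exact ⟨x, hx⟩
  have hid : ∀ q : Q, (φ.comp (ι.codRestrict (P₀ ⊔ Q) hιP)) (Subgroup.inclusion hQP' q) = (q : Ω) := by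
    intro q
    obtain ⟨x, -, hxφ, hxΓ⟩ := hsurjQ q
    have e : Subgroup.inclusion hQP' q = ⟨ΓP x, ⟨x, rfl⟩⟩ := Subtype.ext hxΓ.symm
    rw [e, Hδ x, hxφ]
  have hδE := h2 _ _ hQP' hδ hid
  have h5 := E.comp_mem hΓPE hδE (fun x => ⟨x, rfl⟩)
  have h6 : (φ.comp (ι.codRestrict (P₀ ⊔ Q) hιP)).comp (ΓP.codRestrict ΓP.range (fun x => ⟨x, rfl⟩)) = φ := by
    ext x
    exact Hδ x
  rwa [h6] at h5

end Cfsg.Agent.H9ZW
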