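import Mathlib
import Cfsg.Prelude.Def_FusionSystem
import Cfsg.Prelude.Def_FusionReduction
import Cfsg.Agent.Lib.Helper9.ZV1
import Cfsg.Agent.Lib.Helper9.ZX3

set_option autoImplicit false

/-!
# Generation by `C_F(℧ᵏ(Z(S)))` and `N_F(W(S))` (part 3): the constrained case, through the model
-/

namespace Cfsg.Agent.H9ZW

open Cfsg Cfsg.FusionSystem Cfsg.Agent.Lib.Helper9 Cfsg.Agent.H9KL

universe u

variable {p k c : ℕ} {W : ∀ (Q : Type u) [Group Q], Subgroup Q}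

theorem gen_centric [hp : Fact p.Prime] (hW : IsGF p PUnit.{1} W) (hL : LocalGen p W k c) {Ω : Type u}
    [Group Ω] {S : Subgroup Ω} [Finite S] (hS : IsPGroup p S) (hcl : S.lowerCentralSeries c = ⊥)
    (F : FusionSystem S) (hF : F.IsSaturated p)
    {Q : Subgroup Ω} (hQ : F.IsNormal Q) (hc : centralizerIn S Q ≤ Q) (E : FusionSystem S)
    (hE : GenHyp p W k F E) : ∀ P : Subgroup Ω, F.Hom P ⊆ E.Hom P := by
  have hQS := hQ.1
  have hQsc := fs_stronglyClosed_of_isNormal F hQ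
  have hSQ := fs_stronglyClosed_le_normalizer F hQsc
  have hfn := fullyNormalized_of_le_normalizer F hQS hSQ
  have hQc : F.IsCentric Q := fs_centric_of_fullyCentralized_of_le F (fs_sylow_axiom p hS F hF hfn).1 hc
  obtain ⟨G, instG, ι, hmodel⟩ := Cfsg.Agent.S5090.result p hS F ⟨hF, Q, hQ, hQc⟩
  obtain ⟨hfin, hreal, ⟨T, hT⟩, hcent⟩ := hmodel
  haveI := hfin
  have hinj := hreal.1
  have hX₀S : Wof W S ≤ S := Wof_le W S
  have hSN : S ≤ Subgroup.normalizer ((Wof W S : Subgroup Ω) : Set Ω) :=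
    (Subgroup.le_normalizer).trans (normalizer_le_normalizer_Wof hW hS)
  have hNX : normalizerIn S (Wof W S) = S := le_antisymm inf_le_left (le_inf le_rfl hSN)
  have hXeq : Wof W (T : Subgroup G) = Wof W ι.range := Wof_congr W hT
  -- the family of admissible conjugation maps
  obtain ⟨C, hCdef⟩ : ∃ C : Subgroup G → G → Prop, C = fun R g =>
      ∀ (P₀ : Subgroup Ω) (hP₀ : P₀ ≤ S) (φ : P₀ →* Ω) (hφS : ∀ x : P₀, φ x ∈ S),
        (∀ x : P₀, ι ⟨x, hP₀ x.2⟩ ∈ R) → (∀ x : P₀, ι ⟨φ x, hφS x⟩ = g * ι ⟨x, hP₀ x.2⟩ * g⁻¹) →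
          φ ∈ E.Hom P₀ := ⟨_, rfl⟩
  have hrestr : ∀ (R R' : Subgroup G) (g : G), R' ≤ R → C R g → C R' g := by
    intro R R' g hle hC
    rw [hCdef] at hC ⊢
    intro P₀ hP₀ φ hφS hR' Hg
    exact hC P₀ hP₀ φ hφS (fun x => hle (hR' x)) Hg
  have hcomp : ∀ (R : Subgroup G) (g h : G), R ≤ (T : Subgroup G) →
      R.map (MulAut.conj g).toMonoidHom ≤ (T : Subgroup G) → C R g →
        C (R.map (MulAut.conj g).toMonoidHom) h → C R (h * g) := by
    intro R g h _ hgRT h1 h2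
    rw [hCdef] at h1 h2 ⊢
    intro P₀ hP₀ φ hφS hR Hφ
    have hh : ∀ x : P₀, g * ι ⟨x, hP₀ x.2⟩ * g⁻¹ ∈ ι.range := by
      intro x
      rw [← hT]
      exact hgRT ⟨ι ⟨x, hP₀ x.2⟩, hR x, rfl⟩
    have hφ₁S := liftConj_mem ι hinj hP₀ g hh
    have Hφ₁ : ∀ x : P₀, ι ⟨liftConj ι hinj hP₀ g hh x, hφ₁S x⟩ = g * ι ⟨x, hP₀ x.2⟩ * g⁻¹ :=
      fun x => ι_liftConj ι hinj hP₀ g hh x (hφ₁S x)
    have hφ₁E : liftConj ι hinj hP₀ g hh ∈ E.Hom P₀ := h1 P₀ hP₀ _ hφ₁S hR Hφ₁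
    have hP₁S : (liftConj ι hinj hP₀ g hh).range ≤ S := by
      rintro _ ⟨x, rfl⟩
      exact hφ₁S x
    have hy : ∀ y : (liftConj ι hinj hP₀ g hh).range, ∃ x : P₀,
        ι ⟨y, hP₁S y.2⟩ = g * ι ⟨x, hP₀ x.2⟩ * g⁻¹ := by
      rintro ⟨_, x, rfl⟩
      exact ⟨x, Hφ₁ x⟩
    have hh₂ : ∀ y : (liftConj ι hinj hP₀ g hh).range, h * ι ⟨y, hP₁S y.2⟩ * h⁻¹ ∈ ι.range := by
      intro y
      obtain ⟨x, hx⟩ := hy y
      refine ⟨⟨φ x, hφS x⟩, ?_⟩
      rw [Hφ x, hx]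
      group
    have hφ₂S := liftConj_mem ι hinj hP₁S h hh₂
    have Hφ₂ : ∀ y : (liftConj ι hinj hP₀ g hh).range,
        ι ⟨liftConj ι hinj hP₁S h hh₂ y, hφ₂S y⟩ = h * ι ⟨y, hP₁S y.2⟩ * h⁻¹ :=
      fun y => ι_liftConj ι hinj hP₁S h hh₂ y (hφ₂S y)
    have hφ₂E : liftConj ι hinj hP₁S h hh₂ ∈ E.Hom (liftConj ι hinj hP₀ g hh).range := by
      apply h2 _ hP₁S _ hφ₂S _ Hφ₂
      intro y
      obtain ⟨x, hx⟩ := hy y
      rw [hx]
      exact ⟨ι ⟨x, hP₀ x.2⟩, hR x, rfl⟩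
    have h3 := E.comp_mem hφ₁E hφ₂E (fun x => ⟨x, rfl⟩)
    have h4 : (liftConj ι hinj hP₁S h hh₂).comp
        ((liftConj ι hinj hP₀ g hh).codRestrict (liftConj ι hinj hP₀ g hh).range (fun x => ⟨x, rfl⟩)) = φ := by
      ext x
      have h5 := Hφ₂ ⟨liftConj ι hinj hP₀ g hh x, ⟨x, rfl⟩⟩
      have h6 : ι ⟨liftConj ι hinj hP₁S h hh₂ ⟨liftConj ι hinj hP₀ g hh x, ⟨x, rfl⟩⟩, hφ₂S _⟩ =
          ι ⟨φ x, hφS x⟩ := by
        rw [h5, Hφ x]
        have h7 : ι ⟨((⟨liftConj ι hinj hP₀ g hh x, ⟨x, rfl⟩⟩ : (liftConj ι hinj hP₀ g hh).range) : Ω),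
            hP₁S ⟨x, rfl⟩⟩ = g * ι ⟨x, hP₀ x.2⟩ * g⁻¹ := Hφ₁ x
        rw [h7]
        group
      exact congrArg (fun z : S => (z : Ω)) (hinj h6)
    rwa [h4] at h3
  -- the elements centralizing the `p`-th powers of the central elements of `T`
  have ha : ∀ (R : Subgroup G) (g : G), R ≤ (T : Subgroup G) →
      R.map (MulAut.conj g).toMonoidHom ≤ (T : Subgroup G) →
        (∀ x, x ∈ (T : Subgroup G) → (∀ y, y ∈ (T : Subgroup G) → y * x = x * y) →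
          g * x ^ (p ^ k) = x ^ (p ^ k) * g) → C R g := by
    intro R g _ _ hcen
    rw [hCdef]
    intro P₀ hP₀ φ hφS _ Hφ
    apply hE.1 P₀
    have hφF : φ ∈ F.Hom P₀ := (hreal.2 P₀ hP₀ φ hφS).mpr ⟨g, Hφ⟩
    have hVle : agemoZ p k S ≤ S := agemoZ_le p k S
    have hVS : P₀ ⊔ agemoZ p k S ≤ S := sup_le hP₀ hVle
    have hSC : S ≤ centralizerIn S (agemoZ p k S) := by
      intro s hs
      refine ⟨hs, ?_⟩
      show s ∈ Subgroup.centralizer ((agemoZ p k S : Subgroup Ω) : Set Ω)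
      rw [Subgroup.mem_centralizer_iff]
      intro v hv
      exact (agemoZ_commute p k hv hs).symm
    -- `g` commutes with the image of `℧¹(Z(S))`
    have hK : agemoZ p k S ≤ preimageAlong ι (Subgroup.centralizer ({g} : Set G)) := by
      rw [agemoZ_le_iff]
      intro x hx hxc
      rw [mem_preimageAlong_iff]
      refine ⟨S.pow_mem hx (p ^ k), ?_⟩
      rw [Subgroup.mem_centralizer_iff]
      intro g' hg'
      rw [Set.mem_singleton_iff] at hg'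
      subst hg'
      have e : (⟨x ^ (p ^ k), S.pow_mem hx (p ^ k)⟩ : S) = (⟨x, hx⟩ : S) ^ (p ^ k) := rfl
      rw [e, map_pow]
      apply hcen
      · rw [hT]; exact ⟨_, rfl⟩
      · intro y hy
        rw [hT] at hy
        obtain ⟨s, rfl⟩ := hy
        rw [← map_mul, ← map_mul]
        congr 1
        exact Subtype.ext (hxc s s.2)
    have hgv : ∀ (v : Ω) (hv : v ∈ agemoZ p k S), g * ι ⟨v, hVle hv⟩ * g⁻¹ = ι ⟨v, hVle hv⟩ := by
      intro v hv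
      obtain ⟨hvS, hvc⟩ := (mem_preimageAlong_iff ι _ v).mp (hK hv)
      rw [Subgroup.mem_centralizer_iff] at hvc
      have := hvc g (Set.mem_singleton g)
      rw [this]
      group
    have hh : ∀ x : ↥(P₀ ⊔ agemoZ p k S), g * ι ⟨x, hVS x.2⟩ * g⁻¹ ∈ ι.range := by
      have := sup_forall_mem (P := P₀) (Q := agemoZ p k S)
        ((MulAut.conj g).toMonoidHom.comp (ι.comp (Subgroup.inclusion hVS))) ι.range ?_ ?_
      · exact this
      · intro x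
        show g * ι ⟨x, _⟩ * g⁻¹ ∈ ι.range
        exact ⟨⟨φ x, hφS x⟩, Hφ x⟩
      · intro x
        show g * ι ⟨x, _⟩ * g⁻¹ ∈ ι.range
        exact ⟨⟨x, hVle x.2⟩, (hgv x x.2).symm⟩
    have hψ := liftConj_mem_hom hreal hVS g hh
    have hψS := liftConj_mem ι hinj hVS g hh
    refine ⟨hφF, hP₀.trans hSC, fun x => hSC (hφS x), liftConj ι hinj hVS g hh, hψ, ?_, ?_⟩
    · intro x
      have h1 := ι_liftConj ι hinj hVS g hh (Subgroup.inclusion le_sup_left x) (hψS _)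
      have h2 : ι ⟨liftConj ι hinj hVS g hh (Subgroup.inclusion le_sup_left x), hψS _⟩ = ι ⟨φ x, hφS x⟩ := by
        rw [h1, Hφ x]
        rfl
      exact congrArg (fun z : S => (z : Ω)) (hinj h2)
    · intro v
      have h1 := ι_liftConj ι hinj hVS g hh (Subgroup.inclusion le_sup_right v) (hψS _)
      have h2 : ι ⟨liftConj ι hinj hVS g hh (Subgroup.inclusion le_sup_right v), hψS _⟩ =
          ι ⟨v, hVle v.2⟩ := by
        rw [h1]
        exact hgv v v.2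
      exact congrArg (fun z : S => (z : Ω)) (hinj h2)
  -- the elements normalizing `W(T)`
  have hb : ∀ (R : Subgroup G) (g : G), R ≤ (T : Subgroup G) →
      R.map (MulAut.conj g).toMonoidHom ≤ (T : Subgroup G) →
        g ∈ Subgroup.normalizer ((((W ↥(T : Subgroup G)).map (T : Subgroup G).subtype : Subgroup G)) : Set G) →
          C R g := by
    intro R g _ _ hg
    rw [hCdef]
    intro P₀ hP₀ φ hφS _ Hφ
    have hVS : P₀ ⊔ Wof W S ≤ S := sup_le hP₀ hX₀S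
    have hgW : ∀ w ∈ Wof W ι.range, g * w * g⁻¹ ∈ Wof W ι.range := by
      intro w hw
      rw [← hXeq] at hw ⊢
      exact (Subgroup.mem_normalizer_iff.mp hg w).mp hw
    have hh : ∀ x : ↥(P₀ ⊔ Wof W S), g * ι ⟨x, hVS x.2⟩ * g⁻¹ ∈ ι.range := by
      have := sup_forall_mem (P := P₀) (Q := Wof W S)
        ((MulAut.conj g).toMonoidHom.comp (ι.comp (Subgroup.inclusion hVS))) ι.range ?_ ?_
      · exact this
      · intro x
        show g * ι ⟨x, _⟩ * g⁻¹ ∈ ι.range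
        exact ⟨⟨φ x, hφS x⟩, Hφ x⟩
      · intro x
        show g * ι ⟨x, _⟩ * g⁻¹ ∈ ι.range
        have hx1 : ι ⟨x, hX₀S x.2⟩ ∈ Wof W ι.range := (Wof_range_iff hW hS ι hinj ⟨x, hX₀S x.2⟩).mpr x.2
        exact Wof_le W _ (hgW _ hx1)
    have hψ := liftConj_mem_hom hreal hVS g hh
    have hψS := liftConj_mem ι hinj hVS g hh
    have hψN : liftConj ι hinj hVS g hh ∈ F.normalizerHom (Wof W S) (P₀ ⊔ Wof W S) := by
      haveI : Finite ↥(Wof W S) := fs_finite_of_le hX₀S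
      refine mem_normalizerHom_of_map_eq F le_sup_right hψ (by rw [hNX]; exact hVS) ?_
      apply map_eq_of_le_of_injective le_sup_right _ (F.injective_of_mem hψ) _ le_rfl
      rintro _ ⟨x, hx, rfl⟩
      have hx' : (x : Ω) ∈ Wof W S := hx
      have hx1 : ι ⟨x, hVS x.2⟩ ∈ Wof W ι.range := (Wof_range_iff hW hS ι hinj ⟨x, hVS x.2⟩).mpr hx'
      have hx2 := hgW _ hx1
      rw [← ι_liftConj ι hinj hVS g hh x (hψS x)] at hx2
      exact (Wof_range_iff hW hS ι hinj ⟨_, hψS x⟩).mp hx2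
    have hψE := hE.2 _ hψN
    have h1 := fs_restrict_mem E hψE (le_sup_left : P₀ ≤ P₀ ⊔ Wof W S)
    have h2 : (liftConj ι hinj hVS g hh).comp (Subgroup.inclusion (le_sup_left : P₀ ≤ P₀ ⊔ Wof W S)) = φ := by
      ext x
      have h3 := ι_liftConj ι hinj hVS g hh (Subgroup.inclusion le_sup_left x) (hψS _)
      have h4 : ι ⟨liftConj ι hinj hVS g hh (Subgroup.inclusion le_sup_left x), hψS _⟩ = ι ⟨φ x, hφS x⟩ := by
        rw [h3, Hφ x]
        rfl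
      exact congrArg (fun z : S => (z : Ω)) (hinj h4)
    rwa [h2] at h1
  have hclT : (T : Subgroup G).lowerCentralSeries c = ⊥ := by
    rw [hT]
    exact lcs_range_eq_bot ι hcl
  have key := hL G T hcent hclT C hrestr hcomp ha hb
  -- conclusion
  intro P φ hφ
  obtain ⟨hPS, hφS⟩ := F.le_of_mem hφ
  obtain ⟨g, Hg⟩ := (hreal.2 P hPS φ hφS).mp hφ
  have h1 : (P.subgroupOf S).map ι ≤ (T : Subgroup G) := by
    rw [hT]
    rintro _ ⟨x, -, rfl⟩
    exact ⟨x, rfl⟩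
  have h2 : ((P.subgroupOf S).map ι).map (MulAut.conj g).toMonoidHom ≤ (T : Subgroup G) := by
    rw [hT]
    rintro _ ⟨_, ⟨x, hx, rfl⟩, rfl⟩
    have hx' : (x : Ω) ∈ P := hx
    refine ⟨⟨φ ⟨x, hx'⟩, hφS _⟩, ?_⟩
    rw [Hg ⟨x, hx'⟩]
    rfl
  have h3 := key _ g h1 h2
  rw [hCdef] at h3
  exact h3 P hPS φ hφS (fun x => ⟨⟨x, hPS x.2⟩, x.2, rfl⟩) Hg

end Cfsg.Agent.H9ZW
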