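import Mathlib
import Cfsg.Prelude.Def_FusionSystem
import Cfsg.Prelude.Def_FusionReduction
import Cfsg.Prelude.Def_FusionComponents
import Cfsg.Agent.Lib.Helper9.ZV1
import Cfsg.Agent.Lib.Helper9.ZW5
import Cfsg.Agent.Lib.Helper9.KL7
import Cfsg.Agent.Lib.Helper9.KL19
import Cfsg.Agent.Lib.Helper9.PCore
import Cfsg.Agent.Lib.Helper9.FusionFactor
import Cfsg.Agent.Lib.Helper9.FusionMorph1
import Cfsg.Agent.Lib.Helper9.FusionAut

set_option autoImplicit false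

/-!
# Generation by `C_F(℧¹(Z(S)))` and `N_F(W(S))` (part 4): lifting from a factor system
-/

namespace Cfsg.Agent.H9ZW

open Cfsg Cfsg.FusionSystem Cfsg.Agent.Lib.Helper9 Cfsg.Agent.H9KL

variable {Ω : Type*} [Group Ω] {S : Subgroup Ω}

/-- A map of the factor system `D/Q` which extends to a map normalizing a nontrivial normal subgroup `Y'` of `S/Q`
lies in the factor system of the maps of `D` lying in `E`, provided the maps of `D` normalizing a normal subgroup of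
`S` larger than `Q` lie in `E`. -/
theorem factor_lift_normalizing [Finite S] {Ω' : Type*} [Group Ω'] {S' : Subgroup Ω'}
    (D E : FusionSystem S) {Q : Subgroup Ω} (θ : S →* Ω') (D' : FusionSystem S')
    (hD' : D.IsFactorSystem Q θ D') (hsurj : D.IsSurjectiveMorphism D' θ)
    (DE : FusionSystem S)
    (hDE : ∀ (P : Subgroup Ω) (φ : P →* Ω), φ ∈ DE.Hom P ↔ φ ∈ D.Hom P ∧ φ ∈ E.Hom P)
    (Eb : FusionSystem S') (hEb : DE.IsFactorSystem Q θ Eb)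
    (hnorm : ∀ Y : Subgroup Ω, Y ≤ S → S ≤ Subgroup.normalizer (Y : Set Ω) → Nat.card Q < Nat.card Y →
      ∀ (P : Subgroup Ω) (ψ : P →* Ω), Y ≤ P → ψ ∈ D.Hom P → (Y.subgroupOf P).map ψ = Y → ψ ∈ E.Hom P)
    {Y' : Subgroup Ω'} (hY'S : Y' ≤ S') (hY'n : ∀ a ∈ S', ∀ y ∈ Y', a * y * a⁻¹ ∈ Y') (hY'ne : Y' ≠ ⊥)
    {P' : Subgroup Ω'} (hP'S : P' ≤ S') {ψ' : ↥(P' ⊔ Y') →* Ω'} (hψ' : ψ' ∈ D'.Hom (P' ⊔ Y'))
    (hψ'Y : (Y'.subgroupOf (P' ⊔ Y')).map ψ' = Y') {φ' : P' →* Ω'}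
    (hφ' : ∀ x : P', ψ' (Subgroup.inclusion le_sup_left x) = φ' x) : φ' ∈ Eb.Hom P' := by
  have hQS := hD'.1
  have hker := hD'.2.1
  have hrange := hD'.2.2.1
  obtain ⟨μ, hμ, hind⟩ := hsurj.2.2 (P' ⊔ Y') (sup_le hP'S hY'S) ψ' hψ'
  have hμS := (D.le_of_mem hμ).2
  have key : ∀ (x : ↥(preimageAlong θ (P' ⊔ Y'))) (hxS : (x : Ω) ∈ S)
      (hx' : θ ⟨x, hxS⟩ ∈ P' ⊔ Y'), ψ' ⟨θ ⟨x, hxS⟩, hx'⟩ = θ ⟨μ x, hμS x⟩ :=
    fun x hxS hx' => inducedAlong_apply hind x hxS hx' (hμS x)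
  have hTS : preimageAlong θ Y' ≤ S := preimageAlong_le θ _
  have hQT : Q ≤ preimageAlong θ Y' := ker_le_preimageAlong _ _ hQS hker
  haveI : Finite ↥(preimageAlong θ Y') := fs_finite_of_le hTS
  have hθS : ∀ s : S, θ s ∈ S' := fun s => hrange ▸ ⟨s, rfl⟩
  have hST : S ≤ Subgroup.normalizer ((preimageAlong θ Y' : Subgroup Ω) : Set Ω) := by
    apply le_normalizer_of_forall_conj_mem
    intro s hs t ht
    obtain ⟨htS, ht'⟩ := (mem_preimageAlong_iff θ _ t).mp ht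
    rw [mem_preimageAlong_iff]
    refine ⟨S.mul_mem (S.mul_mem hs htS) (S.inv_mem hs), ?_⟩
    have e : (⟨s * t * s⁻¹, S.mul_mem (S.mul_mem hs htS) (S.inv_mem hs)⟩ : S) =
        ⟨s, hs⟩ * ⟨t, htS⟩ * (⟨s, hs⟩ : S)⁻¹ := rfl
    rw [e, map_mul, map_mul, map_inv]
    exact hY'n _ (hθS _) _ ht'
  have hlt : Nat.card Q < Nat.card ↥(preimageAlong θ Y') := by
    by_contra hlt
    push Not at hlt
    have heq : Q = preimageAlong θ Y' := Subgroup.eq_of_le_of_card_ge hQT hlt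
    apply hY'ne
    rw [eq_bot_iff]
    intro y hy
    have hyS : y ∈ θ.range := by rw [hrange]; exact hY'S hy
    obtain ⟨s, rfl⟩ := hyS
    have hs : (s : Ω) ∈ preimageAlong θ Y' := by
      rw [mem_preimageAlong_iff]
      exact ⟨s.2, hy⟩
    rw [← heq] at hs
    rw [Subgroup.mem_bot]
    exact (hker s).mpr hs
  have hTM : preimageAlong θ Y' ≤ preimageAlong θ (P' ⊔ Y') := by
    intro t ht
    obtain ⟨htS, ht'⟩ := (mem_preimageAlong_iff θ _ t).mp ht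
    exact (mem_preimageAlong_iff θ _ t).mpr ⟨htS, (le_sup_right : Y' ≤ P' ⊔ Y') ht'⟩
  have hμT : ((preimageAlong θ Y').subgroupOf (preimageAlong θ (P' ⊔ Y'))).map μ = preimageAlong θ Y' := by
    apply map_eq_of_le_of_injective hTM _ (D.injective_of_mem hμ) _ le_rfl
    rintro _ ⟨x, hx, rfl⟩
    have hxT : (x : Ω) ∈ preimageAlong θ Y' := hx
    obtain ⟨hxS, hx''⟩ := (mem_preimageAlong_iff θ _ _).mp hxT
    rw [mem_preimageAlong_iff]
    refine ⟨hμS x, ?_⟩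
    rw [← key x hxS ((le_sup_right : Y' ≤ P' ⊔ Y') hx'')]
    have h1 : ψ' ⟨θ ⟨x, hxS⟩, (le_sup_right : Y' ≤ P' ⊔ Y') hx''⟩ ∈ (Y'.subgroupOf (P' ⊔ Y')).map ψ' :=
      ⟨_, hx'', rfl⟩
    rw [hψ'Y] at h1
    exact h1
  have hμE := hnorm _ hTS hST hlt _ μ hTM hμ hμT
  have hPM : preimageAlong θ P' ≤ preimageAlong θ (P' ⊔ Y') := by
    intro t ht
    obtain ⟨htS, ht'⟩ := (mem_preimageAlong_iff θ _ t).mp ht
    exact (mem_preimageAlong_iff θ _ t).mpr ⟨htS, (le_sup_left : P' ≤ P' ⊔ Y') ht'⟩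
  have hμP : μ.comp (Subgroup.inclusion hPM) ∈ DE.Hom (preimageAlong θ P') :=
    (hDE _ _).mpr ⟨fs_restrict_mem D hμ hPM, fs_restrict_mem E hμE hPM⟩
  rw [hEb.2.2.2 P' φ']
  refine ⟨hP'S, _, hμP, preimageAlong_le θ P', fun x => hμS _,
    fun x => apply_mem_of_mem_preimageAlong θ P' x, fun x => ?_⟩
  rw [← hφ']
  exact key (Subgroup.inclusion hPM x) _ _

end Cfsg.Agent.H9ZW
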