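import Mathlib
import Cfsg.Prelude.Def_FusionSystem
import Cfsg.Prelude.Def_FusionReduction
import Cfsg.Prelude.Def_FusionComponents
import Cfsg.Agent.Lib.Helper9.ZV4
import Cfsg.Agent.Lib.Helper9.FusionAG1
import Cfsg.Agent.Lib.Helper9.FusionAut2
import Cfsg.Agent.Lib.Helper9.FusionSat2
import Cfsg.Agent.Lib.Helper9.FusionStrongly

set_option autoImplicit false

/-!
# Generation by `C_F(℧¹(Z(S)))` and `N_F(W(S))` (part 5): descending from a factor system
-/

namespace Cfsg.Agent.H9ZW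

open Cfsg Cfsg.FusionSystem Cfsg.Agent.Lib.Helper9 Cfsg.Agent.H9KL

variable {Ω : Type*} [Group Ω] {S : Subgroup Ω}

/-- An automorphism in `Aut_D(A)` of a fully normalized subgroup `A ≥ Q` acting trivially modulo the strongly closed
subgroup `Q`, on which `D` induces a `p`-group, is induced by an element of `S`. -/
theorem mem_autInducedBy_of_trivial_mod [Finite S] (p : ℕ) [hp : Fact p.Prime] (hS : IsPGroup p S)
    (D : FusionSystem S) (hDsat : D.IsSaturated p) {A Q : Subgroup Ω} (hQ : D.StronglyClosed Q) (hQA : Q ≤ A)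
    (hQp : IsPGroup p (D.autGroup Q)) (hAfn : D.IsFullyNormalized A) (χ : MulAut A) (hχ : χ ∈ D.autGroup A)
    (htriv : ∀ a : A, (a : Ω)⁻¹ * ((χ a : A) : Ω) ∈ Q) : χ ∈ autInducedBy S A := by
  have hAS := hAfn.1
  obtain ⟨-, -, R₀, hR₀⟩ := fs_sylow_axiom p hS D hDsat hAfn
  have h1 : trivMod D A Q ≤ Cfsg.pCore p (D.autGroup A) :=
    le_pCore (trivMod_normal D hQ hAS) (trivMod_isPGroup p hS D hQ hQA hAS hQp)
  have h2 : (⟨χ, hχ⟩ : D.autGroup A) ∈ (R₀ : Subgroup (D.autGroup A)) := pCore_le_sylow R₀ (h1 htriv)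
  rw [hR₀, Subgroup.mem_subgroupOf] at h2
  exact h2

/-- If the factor system `D/Q` lies in the factor system of `D ∩ E`, then `D` lies in `E` (for `Q` normal in the
saturated system `D` with `Aut_D(Q)` a `p`-group). -/
theorem gen_of_factor [Finite S] (p : ℕ) [hp : Fact p.Prime] (hS : IsPGroup p S) {Ω' : Type*} [Group Ω']
    {S' : Subgroup Ω'} (D E : FusionSystem S) (hDsat : D.IsSaturated p) {Q : Subgroup Ω} (hQ : D.IsNormal Q)
    (hQp : IsPGroup p (D.autGroup Q)) (θ : S →* Ω') (D' : FusionSystem S')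
    (hD' : D.IsFactorSystem Q θ D') (hsurj : D.IsSurjectiveMorphism D' θ) (DE : FusionSystem S)
    (hDE : ∀ (P : Subgroup Ω) (φ : P →* Ω), φ ∈ DE.Hom P ↔ φ ∈ D.Hom P ∧ φ ∈ E.Hom P)
    (Eb : FusionSystem S') (hEb : DE.IsFactorSystem Q θ Eb)
    (hsub : ∀ P' : Subgroup Ω', D'.Hom P' ⊆ Eb.Hom P') : ∀ P : Subgroup Ω, D.Hom P ⊆ E.Hom P := by
  have hQS := hQ.1
  have hker := hD'.2.1
  have hQsc := fs_stronglyClosed_of_isNormal D hQ
  have key := fs_le_of_autGroup_le p hS D E hDsat ?_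
  · intro P φ hφ
    exact key _ P φ hφ rfl
  intro R hRfn hbig α hα
  have hRS := hRfn.1
  haveI : Finite R := fs_finite_of_le hRS
  rw [mem_autGroup_iff E hRS]
  have hαD := (mem_autGroup_iff D hRS α).mp hα
  by_cases hQR : Q ≤ R
  · obtain ⟨φ', hφ', H⟩ := morph_push D D' θ hsurj.1 hαD
    have hφ'Eb := hsub _ hφ'
    obtain ⟨-, ν, hν, hind⟩ := (hEb.2.2.2 _ φ').mp hφ'Eb
    have hRR₂ : R ≤ preimageAlong θ (imageAlong θ R) := by
      intro x hx
      rw [mem_preimageAlong_iff]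
      exact ⟨hRS hx, apply_mem_imageAlong θ (hRS hx) hx⟩
    obtain ⟨hνD, hνE⟩ := (hDE _ _).mp hν
    have hνRD := fs_restrict_mem D hνD hRR₂
    have hνRE := fs_restrict_mem E hνE hRR₂
    have hνS := (D.le_of_mem hνD).2
    -- congruence modulo `Q`
    have hcong : ∀ x : R, (ν (Subgroup.inclusion hRR₂ x))⁻¹ * ((α x : R) : Ω) ∈ Q := by
      intro x
      have hxS := hRS x.2
      have hx1 : θ ⟨x, hxS⟩ ∈ imageAlong θ R := apply_mem_imageAlong θ hxS x.2
      have h1 := H x hxS hx1 (hRS (α x).2)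
      have h2 : φ' ⟨θ ⟨x, hxS⟩, hx1⟩ = θ ⟨ν (Subgroup.inclusion hRR₂ x), hνS _⟩ :=
        inducedAlong_apply hind (Subgroup.inclusion hRR₂ x) hxS hx1 (hνS _)
      have h3 : θ ((⟨ν (Subgroup.inclusion hRR₂ x), hνS _⟩ : S)⁻¹ * ⟨((α x : R) : Ω), hRS (α x).2⟩) = 1 := by
        rw [map_mul, map_inv, ← h2, h1]
        exact inv_mul_cancel _
      exact (hker _).mp h3
    have hνval : ∀ x : R, (ν.comp (Subgroup.inclusion hRR₂)) x ∈ R := by
      intro x
      have h1 := Q.inv_mem (hcong x)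
      have e : (ν.comp (Subgroup.inclusion hRR₂)) x =
          ((α x : R) : Ω) * ((ν (Subgroup.inclusion hRR₂ x))⁻¹ * ((α x : R) : Ω))⁻¹ := by
        show ν (Subgroup.inclusion hRR₂ x) = _
        group
      rw [e]
      exact R.mul_mem (α x).2 (hQR h1)
    obtain ⟨νA, hνA, hνAeq⟩ := fs_hom_to_aut D hνRD hνval
    -- `χ = νA⁻¹ α` is trivial modulo `Q`
    have hχD : νA⁻¹ * α ∈ D.autGroup R := (D.autGroup R).mul_mem ((D.autGroup R).inv_mem hνA) hα
    have htriv : ∀ a : R, (a : Ω)⁻¹ * (((νA⁻¹ * α) a : R) : Ω) ∈ Q := by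
      intro a
      obtain ⟨b, hb⟩ : ∃ b : R, b = (νA⁻¹ * α) a := ⟨_, rfl⟩
      rw [← hb]
      have hb' : νA b = α a := by
        rw [hb, MulAut.mul_apply, MulAut.apply_inv_self]
      have h1 := hcong b
      have h2 : ν (Subgroup.inclusion hRR₂ b) = ((α a : R) : Ω) := by
        rw [← hb']
        exact (hνAeq b).symm
      rw [h2] at h1
      have h3 : (R.subtype.comp α.toMonoidHom) (a⁻¹ * b) ∈ Q := by
        have e : (R.subtype.comp α.toMonoidHom) (a⁻¹ * b) = ((α a : R) : Ω)⁻¹ * ((α b : R) : Ω) := by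
          show ((α (a⁻¹ * b) : R) : Ω) = _
          rw [map_mul, map_inv]
          rfl
        rw [e]
        exact h1
      exact (fs_stronglyClosed_mem_iff D hQsc hαD hQR (a⁻¹ * b)).mp h3
    have hχS := mem_autInducedBy_of_trivial_mod p hS D hDsat hQsc hQR hQp hRfn _ hχD htriv
    rw [mem_autInducedBy_iff] at hχS
    obtain ⟨g, hg, Hg⟩ := hχS
    have hcg : conjHom R g ∈ E.Hom R := E.conj_mem hRS hg
    have hcgR : ∀ x : R, conjHom R g x ∈ R := by
      intro x
      have : conjHom R g x = g * (x : Ω) * g⁻¹ := rfl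
      rw [this, ← Hg x]
      exact ((νA⁻¹ * α) x).2
    have h5 := E.comp_mem hcg hνRE hcgR
    have h6 : (ν.comp (Subgroup.inclusion hRR₂)).comp ((conjHom R g).codRestrict R hcgR) =
        R.subtype.comp α.toMonoidHom := by
      ext x
      have e1 : ((conjHom R g).codRestrict R hcgR) x = (νA⁻¹ * α) x := by
        apply Subtype.ext
        show g * (x : Ω) * g⁻¹ = _
        rw [← Hg x]
      show (ν.comp (Subgroup.inclusion hRR₂)) (((conjHom R g).codRestrict R hcgR) x) = ((α x : R) : Ω)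
      rw [e1, ← hνAeq]
      rw [MulAut.mul_apply, MulAut.apply_inv_self]
    rwa [h6] at h5
  · obtain ⟨ψ, hψ, hψP, -⟩ := hQ.2 R _ hαD
    have hRQS : R ⊔ Q ≤ S := sup_le hRS hQS
    have hlt : R < R ⊔ Q := by
      refine lt_of_le_of_ne le_sup_left ?_
      intro heq
      apply hQR
      rw [heq]
      exact le_sup_right
    have hψE := hbig _ hRQS (fs_card_lt_of_lt hlt hRQS) hψ
    have h1 := fs_restrict_mem E hψE (le_sup_left : R ≤ R ⊔ Q)
    have h2 : ψ.comp (Subgroup.inclusion (le_sup_left : R ≤ R ⊔ Q)) = R.subtype.comp α.toMonoidHom := by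
      ext x
      exact hψP x
    rwa [h2] at h1

end Cfsg.Agent.H9ZW
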