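import Mathlib
import Cfsg.Prelude.Def_FusionSystem
import Cfsg.Prelude.Def_FusionReduction
import Cfsg.Prelude.Def_FusionComponents
import Cfsg.Agent.Lib.Helper9.ZV2
import Cfsg.Agent.Lib.Helper9.ZV5
import Cfsg.Agent.Lib.Helper9.ZW8
import Cfsg.Agent.S5132
import Cfsg.Agent.S5133
import Cfsg.Agent.S5134

set_option autoImplicit false

/-!
# Generation by `C_F(℧ᵏ(Z(S)))` and `N_F(W(S))` (part 6): the system `S C_F(Q)`, through the factor system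
-/

namespace Cfsg.Agent.H9ZW

open Cfsg Cfsg.FusionSystem Cfsg.Agent.Lib.Helper9 Cfsg.Agent.H9KL

universe u

variable {p k c : ℕ} {W : ∀ (Q : Type u) [Group Q], Subgroup Q}

/-- The case of a system `D` with `Q` normal and `Aut_D(Q)` a `p`-group, when `℧ᵏ(Z(S/Q))` is not trivial. -/
theorem gen_SC [hp : Fact p.Prime] (hW : IsGF p PUnit.{1} W) {Ω : Type u} [Group Ω] {S : Subgroup Ω}
    [Finite S] (hS : IsPGroup p S) (hcl : S.lowerCentralSeries c = ⊥)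
    (ih : ∀ j < Nat.card S, GenStatement p W k c j)
    (D : FusionSystem S) (hD : D.IsSaturated p) {Q : Subgroup Ω} (hQ : D.IsNormal Q) (hQne : Q ≠ ⊥)
    (hQS' : Q ≠ S) (hQp : IsPGroup p (D.autGroup Q)) (E : FusionSystem S) (hE : GenHyp p W k D E)
    (hA : ∃ x ∈ S, (∀ s ∈ S, s * x * s⁻¹ * x⁻¹ ∈ Q) ∧ x ^ (p ^ k) ∉ Q)
    (hstep : ∀ F' : FusionSystem S, F'.IsSaturated p → ∀ Y : Subgroup Ω, F'.IsNormal Y →
      Nat.card Q < Nat.card Y → GenHyp p W k F' E → ∀ P : Subgroup Ω, F'.Hom P ⊆ E.Hom P) :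
    ∀ P : Subgroup Ω, D.Hom P ⊆ E.Hom P := by
  have hQS := hQ.1
  have hQsc := fs_stronglyClosed_of_isNormal D hQ
  have hSQ := fs_stronglyClosed_le_normalizer D hQsc
  haveI hn' : (Q.subgroupOf S).Normal := (Subgroup.normal_subgroupOf_iff_le_normalizer hQS).mpr hSQ
  obtain ⟨DE, hDEdef⟩ : ∃ DE : FusionSystem S, DE = interSystem le_rfl D E := ⟨_, rfl⟩
  have hDE : ∀ (P : Subgroup Ω) (φ : P →* Ω), φ ∈ DE.Hom P ↔ φ ∈ D.Hom P ∧ φ ∈ E.Hom P := by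
    intro P φ
    rw [hDEdef]
    exact Iff.rfl
  have hQscDE : DE.StronglyClosed Q :=
    ⟨hQS, fun R hR φ hφ x => hQsc.2 R hR φ ((hDE _ _).mp hφ).1 x⟩
  obtain ⟨D', hD'⟩ := Cfsg.Agent.S5132.result p hS D Q hQsc
  obtain ⟨Eb, hEb⟩ := Cfsg.Agent.S5132.result p hS DE Q hQscDE
  have hsurj := Cfsg.Agent.S5134.result p hS D hD Q hQsc _ D' hD'
  have hD'sat := Cfsg.Agent.S5133.result p hS D hD D' _ hsurj
  have hXp : IsPGroup p (⊤ : Subgroup (S ⧸ Q.subgroupOf S)) := (hS.to_quotient _).to_subgroup ⊤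
  have hcard := card_quotient_lt hQS hQne
  obtain ⟨θ, hθdef⟩ : ∃ θ : S →* S ⧸ Q.subgroupOf S, θ = QuotientGroup.mk' (Q.subgroupOf S) := ⟨_, rfl⟩
  rw [← hθdef] at hD' hEb hsurj
  have hker : ∀ s : S, θ s = 1 ↔ (s : Ω) ∈ Q := hD'.2.1
  have hθsurj : Function.Surjective θ := by
    rw [hθdef]
    exact QuotientGroup.mk'_surjective _
  have hnorm : ∀ Y : Subgroup Ω, Y ≤ S → S ≤ Subgroup.normalizer (Y : Set Ω) → Nat.card Q < Nat.card Y →
      ∀ (P : Subgroup Ω) (ψ : P →* Ω), Y ≤ P → ψ ∈ D.Hom P → (Y.subgroupOf P).map ψ = Y → ψ ∈ E.Hom P :=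
    fun Y hYS hSY hlt => normalizer_gen p hS D hD hYS hSY E hE
      (fun F' hF' hY hG => hstep F' hF' Y hY hlt hG)
  -- the subgroup `℧ᵏ(Z(S/Q))`
  have hVn : ∀ a ∈ (⊤ : Subgroup (S ⧸ Q.subgroupOf S)),
      ∀ y ∈ agemoZ p k (⊤ : Subgroup (S ⧸ Q.subgroupOf S)), a * y * a⁻¹ ∈
        agemoZ p k (⊤ : Subgroup (S ⧸ Q.subgroupOf S)) := by
    intro a ha y hy
    have h1 := agemoZ_commute p k hy ha
    have e : a * y * a⁻¹ = y := by rw [h1]; group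
    rw [e]
    exact hy
  have hVne : agemoZ p k (⊤ : Subgroup (S ⧸ Q.subgroupOf S)) ≠ ⊥ := by
    obtain ⟨x, hxS, hxc, hxp⟩ := hA
    intro hbot
    apply hxp
    have h1 : θ ⟨x, hxS⟩ ^ (p ^ k) ∈ agemoZ p k (⊤ : Subgroup (S ⧸ Q.subgroupOf S)) := by
      apply pow_mem_agemoZ p k (Subgroup.mem_top _)
      intro y _
      obtain ⟨s, rfl⟩ := hθsurj y
      have h2 : θ (s * ⟨x, hxS⟩ * s⁻¹ * (⟨x, hxS⟩ : S)⁻¹) = 1 := (hker _).mpr (hxc s s.2)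
      rw [map_mul, map_mul, map_mul, map_inv, map_inv] at h2
      calc θ s * θ ⟨x, hxS⟩ = (θ s * θ ⟨x, hxS⟩ * (θ s)⁻¹ * (θ ⟨x, hxS⟩)⁻¹) * θ ⟨x, hxS⟩ * θ s := by group
        _ = θ ⟨x, hxS⟩ * θ s := by rw [h2, one_mul]
    rw [hbot, Subgroup.mem_bot, ← map_pow] at h1
    exact (hker _).mp h1
  -- the subgroup `W(S/Q)`
  have hWn : ∀ a ∈ (⊤ : Subgroup (S ⧸ Q.subgroupOf S)),
      ∀ y ∈ Wof W (⊤ : Subgroup (S ⧸ Q.subgroupOf S)), a * y * a⁻¹ ∈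
        Wof W (⊤ : Subgroup (S ⧸ Q.subgroupOf S)) := by
    have h1 := normalizer_le_normalizer_Wof hW hXp
    intro a _ y hy
    have ha : a ∈ Subgroup.normalizer (((⊤ : Subgroup (S ⧸ Q.subgroupOf S)) : Subgroup _) : Set _) :=
      Subgroup.le_normalizer (Subgroup.mem_top a)
    exact (Subgroup.mem_normalizer_iff.mp (h1 ha) y).mp hy
  have hWne : Wof W (⊤ : Subgroup (S ⧸ Q.subgroupOf S)) ≠ ⊥ := by
    have htop : (⊤ : Subgroup (S ⧸ Q.subgroupOf S)) ≠ ⊥ := by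
      intro h
      apply hQS'
      apply le_antisymm hQS
      intro s hs
      have h1 : θ ⟨s, hs⟩ ∈ (⊤ : Subgroup (S ⧸ Q.subgroupOf S)) := Subgroup.mem_top _
      rw [h, Subgroup.mem_bot] at h1
      exact (hker ⟨s, hs⟩).mp h1
    exact Wof_ne_bot hW hXp htop
  have hGen' : GenHyp p W k D' Eb := by
    constructor
    · rintro P' φ' ⟨-, -, -, ψ', hψ', hψ'P, hψ'V⟩
      refine factor_lift_normalizing D E θ D' hD' hsurj DE hDE Eb hEb hnorm le_top hVn hVne le_top hψ' ?_ hψ'P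
      ext y
      constructor
      · rintro ⟨x, hx, rfl⟩
        have hx' : (x : S ⧸ Q.subgroupOf S) ∈ agemoZ p k (⊤ : Subgroup (S ⧸ Q.subgroupOf S)) := hx
        have e : x = Subgroup.inclusion le_sup_right ⟨(x : S ⧸ Q.subgroupOf S), hx'⟩ := rfl
        rw [e, hψ'V]
        exact hx'
      · intro hy
        exact ⟨Subgroup.inclusion le_sup_right ⟨y, hy⟩, hy, hψ'V ⟨y, hy⟩⟩
    · rintro P' φ' ⟨-, -, -, ψ', hψ', hψ'P, hψ'W⟩
      exact factor_lift_normalizing D E θ D' hD' hsurj DE hDE Eb hEb hnorm (Wof_le W _) hWn hWne le_top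
        hψ' hψ'W hψ'P
  have hclX : (⊤ : Subgroup (S ⧸ Q.subgroupOf S)).lowerCentralSeries c = ⊥ := by
    have h1 := lcs_range_eq_bot θ hcl
    rwa [MonoidHom.range_eq_top.mpr hθsurj] at h1
  have hsub := ih _ hcard hXp hclX D' hD'sat rfl Eb hGen'
  exact gen_of_factor p hS D E hD hQ hQp θ D' hD' hsurj DE hDE Eb hEb hsub

end Cfsg.Agent.H9ZW
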