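import Mathlib
import Cfsg.Prelude.Def_FusionSystem
import Cfsg.Prelude.Def_FusionReduction
import Cfsg.Agent.Lib.Helper9.ZV2
import Cfsg.Agent.Lib.Helper9.ZV3
import Cfsg.Agent.Lib.Helper9.ZV6
import Cfsg.Agent.Lib.Helper9.ZW3
import Cfsg.Agent.Lib.Helper9.ZW7

set_option autoImplicit false

/-!
# Generation by `C_F(℧ᵏ(Z(S)))` and `N_F(W(S))` (part 7): systems with a nontrivial normal subgroup
-/

namespace Cfsg.Agent.H9ZW

open Cfsg Cfsg.FusionSystem Cfsg.Agent.Lib.Helper9 Cfsg.Agent.H9KL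

universe u

theorem le_centralizerIn_agemoZ {Ω : Type*} [Group Ω] (p k : ℕ) (S : Subgroup Ω) :
    S ≤ centralizerIn S (agemoZ p k S) := by
  intro s hs
  refine ⟨hs, ?_⟩
  show s ∈ Subgroup.centralizer ((agemoZ p k S : Subgroup Ω) : Set Ω)
  rw [Subgroup.mem_centralizer_iff]
  intro v hv
  exact (agemoZ_commute p k hv hs).symm

variable {p k c : ℕ} {W : ∀ (Q : Type u) [Group Q], Subgroup Q}

/-- The non-centric case. -/
theorem gen_nonCentric [hp : Fact p.Prime] (hW : IsGF p PUnit.{1} W) {Ω : Type u} [Group Ω] {S : Subgroup Ω}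
    [Finite S] (hS : IsPGroup p S) (hcl : S.lowerCentralSeries c = ⊥)
    (ih : ∀ j < Nat.card S, GenStatement p W k c j)
    (F : FusionSystem S) (hF : F.IsSaturated p) {Q : Subgroup Ω} (hQ : F.IsNormal Q) (hQne : Q ≠ ⊥)
    (hnc : ¬ centralizerIn S Q ≤ Q) (E : FusionSystem S) (hE : GenHyp p W k F E)
    (hstep : ∀ F' : FusionSystem S, F'.IsSaturated p → ∀ Y : Subgroup Ω, F'.IsNormal Y →
      Nat.card Q < Nat.card Y → GenHyp p W k F' E → ∀ P : Subgroup Ω, F'.Hom P ⊆ E.Hom P) :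
    ∀ P : Subgroup Ω, F.Hom P ⊆ E.Hom P := by
  have hQS := hQ.1
  have hQsc := fs_stronglyClosed_of_isNormal F hQ
  have hSQ := fs_stronglyClosed_le_normalizer F hQsc
  have hQS' : Q ≠ S := by
    intro h
    apply hnc
    intro c hc
    rw [h]
    exact hc.1
  -- the maps normalizing `Q C_S(Q)`
  have hR1S : Q ⊔ centralizerIn S Q ≤ S := sup_le hQS inf_le_left
  have hSR1 := le_normalizer_sup_centralizerIn hSQ
  have hA1 := normalizer_gen p hS F hF hR1S hSR1 E hE
    (fun F' hF' hY hG => hstep F' hF' _ hY (card_lt_sup_centralizerIn hQS hnc) hG)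
  apply gen_of_decomp p hS F hF hQ E hA1
  intro P δ hQP hδ hid
  by_cases hA : ∃ x ∈ S, (∀ s ∈ S, s * x * s⁻¹ * x⁻¹ ∈ Q) ∧ x ^ (p ^ k) ∉ Q
  · -- the system `S C_F(Q)`
    obtain ⟨D, hD⟩ := exists_SC_system F Q hQS hSQ
    have hDsat := SC_saturated p hS F hF hQS hSQ D hD
    have hDle := SC_le F D hD
    have hQD := SC_isNormal F hQS hSQ D hD
    have hQpD : IsPGroup p (D.autGroup Q) :=
      (isPGroup_autInducedBy p hS Q).to_le (SC_autGroup_le F hQS D hD)
    have hDE := gen_SC hW hS hcl ih D hDsat hQD hQne hQS' hQpD E (hE.mono hDle) hA hstep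
    exact hDE P (SC_mem_of_id F hSQ D hD hQP hδ hid)
  · -- `℧ᵏ(Z(S)) ≤ Q`
    push Not at hA
    have hVQ : agemoZ p k S ≤ Q := by
      rw [agemoZ_le_iff]
      intro x hx hc
      apply hA x hx
      intro s hs
      rw [hc s hs]
      have e : x * s * s⁻¹ * x⁻¹ = 1 := by group
      rw [e]
      exact Q.one_mem
    have hPS : P ≤ S := (F.le_of_mem hδ).1
    have hδS := (F.le_of_mem hδ).2
    have hle : P ⊔ agemoZ p k S ≤ P := sup_le le_rfl (hVQ.trans hQP)
    apply hE.1 P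
    refine ⟨hδ, hPS.trans (le_centralizerIn_agemoZ p k S), fun x => le_centralizerIn_agemoZ p k S (hδS x),
      δ.comp (Subgroup.inclusion hle), fs_restrict_mem F hδ hle, fun x => rfl, fun v => ?_⟩
    exact hid ⟨v, hVQ v.2⟩

/-- Systems with a nontrivial normal subgroup: downward induction on the order of the normal subgroup. -/
theorem gen_normal [hp : Fact p.Prime] (hW : IsGF p PUnit.{1} W) (hL : LocalGen p W k c) {Ω : Type u}
    [Group Ω] {S : Subgroup Ω} [Finite S] (hS : IsPGroup p S) (hcl : S.lowerCentralSeries c = ⊥)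
    (ih : ∀ j < Nat.card S, GenStatement p W k c j) (E : FusionSystem S) :
    ∀ (j : ℕ) (F : FusionSystem S), F.IsSaturated p → ∀ Q : Subgroup Ω, F.IsNormal Q → Q ≠ ⊥ →
      Nat.card S - Nat.card Q = j → GenHyp p W k F E → ∀ P : Subgroup Ω, F.Hom P ⊆ E.Hom P := by
  intro j
  induction j using Nat.strong_induction_on with
  | _ j ihj =>
  intro F hF Q hQ hQne hj hE
  have hQS := hQ.1
  haveI : Finite Q := fs_finite_of_le hQS
  by_cases hc : centralizerIn S Q ≤ Q
  · exact gen_centric hW hL hS hcl F hF hQ hc E hE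
  · apply gen_nonCentric hW hS hcl ih F hF hQ hQne hc E hE
    intro F' hF' Y hY hlt hE'
    have hYS := hY.1
    haveI : Finite Y := fs_finite_of_le hYS
    have hYne : Y ≠ ⊥ := by
      intro h
      rw [h, Subgroup.card_bot] at hlt
      have : 0 < Nat.card Q := Nat.card_pos
      omega
    have hcY : Nat.card Y ≤ Nat.card S := Subgroup.card_le_of_le hYS
    have hcQ : Nat.card Q ≤ Nat.card S := Subgroup.card_le_of_le hQS
    exact ihj (Nat.card S - Nat.card Y) (by omega) F' hF' Y hY hYne rfl hE'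

end Cfsg.Agent.H9ZW
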