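import Mathlib
import Cfsg.Prelude.Def_FusionSystem
import Cfsg.Prelude.Def_FusionReduction
import Cfsg.Agent.Lib.Helper9.ZV7
import Cfsg.Agent.Lib.Helper9.ZX2
import Cfsg.Agent.Lib.Helper9.ZW12
import Cfsg.Agent.Lib.Helper9.ZW14
import Cfsg.Agent.Lib.Helper9.FusionAG1
import Cfsg.Agent.Lib.Helper9.FusionAG2
import Cfsg.Agent.Lib.Helper9.KL7
import Cfsg.Agent.S5096

set_option autoImplicit false

/-!
# Generation by `C_F(℧ᵏ(Z(S)))` and `N_F(W(S))` (part 8): the main induction
-/

namespace Cfsg.Agent.H9ZW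

open Cfsg Cfsg.FusionSystem Cfsg.Agent.Lib.Helper9 Cfsg.Agent.H9KL

universe u

variable {p k c : ℕ} {W : ∀ (Q : Type u) [Group Q], Subgroup Q}

/-- A fully normalized maximal member of `𝔅` leads to a contradiction. -/
theorem false_of_max_gen [hp : Fact p.Prime] (hW : IsGF p PUnit.{1} W) (hL : LocalGen p W k c) {Ω : Type u}
    [Group Ω] {S : Subgroup Ω} [Finite S] (hS : IsPGroup p S) (hcl : S.lowerCentralSeries c = ⊥)
    (ih : ∀ j < Nat.card S, GenStatement p W k c j)
    (F : FusionSystem S) (hF : F.IsSaturated p) (E : FusionSystem S) (hE : GenHyp p W k F E)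
    {Q : Subgroup Ω} (hQB : InB F E 0 Q) (hQfn : F.IsFullyNormalized Q)
    (hmax : ∀ Q' : Subgroup Ω, InB F E 0 Q' → mu S Q' ≤ mu S Q) : False := by
  have hQS : Q ≤ S := hQfn.1
  obtain ⟨hQne, P, φ, -, hQP, hPT, hφ, hφQ, hφ₀⟩ := hQB
  have hTS : normalizerIn S Q ≤ S := inf_le_left
  haveI : Finite ↥(normalizerIn S Q) := fs_finite_of_le hTS
  have hTp : IsPGroup p ↥(normalizerIn S Q) := hS.to_le hTS
  obtain ⟨N, hN⟩ := Cfsg.Agent.S5096.result F Q hQS
  have hNsat := normalizerSystem_saturated p hS F hF hQfn N hN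
  have hQn := normalizerSystem_isNormal F hQS N hN
  have hφN : φ ∈ N.Hom P := by
    rw [hN]
    exact mem_normalizerHom_of_map_eq F hQP hφ hPT hφQ
  have hNle : ∀ P : Subgroup Ω, N.Hom P ⊆ F.Hom P := by
    intro P ψ hψ
    rw [hN] at hψ
    exact hψ.1
  by_cases hT : normalizerIn S Q = S
  · obtain ⟨N', hN', hsat', hQn'⟩ := exists_cast' hT N
      (fun T N => N.IsSaturated p ∧ N.IsNormal Q) ⟨hNsat, hQn⟩
    have hN'le : ∀ P : Subgroup Ω, N'.Hom P ⊆ F.Hom P := by
      intro P ψ hψ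
      rw [hN'] at hψ
      exact hNle P hψ
    have hsub := gen_normal hW hL hS hcl ih E _ N' hsat' Q hQn' hQne rfl (hE.mono hN'le)
    apply hφ₀
    apply hsub P
    rw [hN']
    exact hφN
  · have hcardT : Nat.card ↥(normalizerIn S Q) < Nat.card S := by
      by_contra hle
      push Not at hle
      exact hT (Subgroup.eq_of_le_of_card_ge hTS hle)
    obtain ⟨ET, hETdef⟩ : ∃ ET : FusionSystem (normalizerIn S Q), ET = interSystem hTS N E := ⟨_, rfl⟩
    have hET : ∀ (P : Subgroup Ω) (φ : P →* Ω), φ ∈ ET.Hom P ↔ φ ∈ N.Hom P ∧ φ ∈ E.Hom P := by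
      intro P φ
      rw [hETdef]
      exact Iff.rfl
    have hnsub : ¬ GenHyp p W k N ET := by
      intro hG
      have h1 := ih _ hcardT hTp (lcs_eq_bot_of_le hTS hcl) N hNsat rfl ET hG P hφN
      exact hφ₀ ((hET _ _).mp h1).2
    have h1 : ∀ P' : Subgroup Ω, N.centralizerHom (agemoZ p k (normalizerIn S Q)) P' ⊆ ET.Hom P' := by
      intro P' ψ hψ
      rw [hET]
      exact ⟨hψ.1, hE.1 P' (centralizerHom_mono hTS N F hNle
        (agemoZ_mono p k (center_le_center_normalizerIn S Q hQS)) P' hψ)⟩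
    have h2 : ¬ ∀ P' : Subgroup Ω, N.normalizerHom (Wof W (normalizerIn S Q)) P' ⊆ ET.Hom P' :=
      fun h => hnsub ⟨h1, h⟩
    push Not at h2
    obtain ⟨P', h2⟩ := h2
    rw [Set.not_subset] at h2
    obtain ⟨ψ, hψN, hψET⟩ := h2
    obtain ⟨hψE', hP'N, hvalN, ψ₁, hψ₁, hψ₁P, hψ₁W⟩ := hψN
    have hψ₁F : ψ₁ ∈ F.Hom (P' ⊔ Wof W (normalizerIn S Q)) := hNle _ hψ₁
    have hψ₁₀ : ψ₁ ∉ E.Hom (P' ⊔ Wof W (normalizerIn S Q)) := by
      intro h
      apply hψET
      rw [hET]
      refine ⟨hψE', ?_⟩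
      have h3 := fs_restrict_mem E h (le_sup_left : P' ≤ P' ⊔ Wof W (normalizerIn S Q))
      have h4 : ψ₁.comp (Subgroup.inclusion (le_sup_left : P' ≤ P' ⊔ Wof W (normalizerIn S Q))) = ψ := by
        ext x
        exact hψ₁P x
      rwa [h4] at h3
    have hXT : Wof W (normalizerIn S Q) ≤ normalizerIn S Q := Wof_le W _
    have hQT : Q ≤ normalizerIn S Q := hQP.trans hPT
    have hTne : normalizerIn S Q ≠ ⊥ := by
      intro h
      apply hQne
      rw [eq_bot_iff, ← h]
      exact hQT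
    have hXne : Wof W (normalizerIn S Q) ≠ ⊥ := Wof_ne_bot hW hTp hTne
    have hNN : Subgroup.normalizer ((normalizerIn S Q : Subgroup Ω) : Set Ω) ≤
        Subgroup.normalizer ((Wof W (normalizerIn S Q) : Subgroup Ω) : Set Ω) :=
      normalizer_le_normalizer_Wof hW hTp
    have hP'NS : P' ≤ normalizerIn S (Wof W (normalizerIn S Q)) :=
      fun x hx => ⟨hTS (hP'N hx).1, (hP'N hx).2⟩
    have hXNS : Wof W (normalizerIn S Q) ≤ normalizerIn S (Wof W (normalizerIn S Q)) :=
      fun x hx => ⟨hTS (hXT hx), Subgroup.le_normalizer hx⟩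
    have hPXN : P' ⊔ Wof W (normalizerIn S Q) ≤ normalizerIn S (Wof W (normalizerIn S Q)) :=
      sup_le hP'NS hXNS
    have hXB : InB F E 0 (Wof W (normalizerIn S Q)) :=
      ⟨hXne, _, ψ₁, Nat.zero_le _, le_sup_right, hPXN, hψ₁F, hψ₁W, hψ₁₀⟩
    have hmu := hmax _ hXB
    have hlt : normalizerIn S Q < S := lt_of_le_of_ne hTS hT
    have h1' := fs_lt_normalizerIn p hS hlt
    have h2' : normalizerIn S (normalizerIn S Q) ≤ normalizerIn S (Wof W (normalizerIn S Q)) :=
      fun x hx => ⟨hx.1, hNN hx.2⟩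
    have h3 : normalizerIn S Q < normalizerIn S (Wof W (normalizerIn S Q)) := lt_of_lt_of_le h1' h2'
    haveI : Finite ↥(normalizerIn S (Wof W (normalizerIn S Q))) := fs_finite_of_le inf_le_left
    have h4 : Nat.card ↥(normalizerIn S Q) < Nat.card ↥(normalizerIn S (Wof W (normalizerIn S Q))) := by
      by_contra hle
      push Not at hle
      have := Subgroup.eq_of_le_of_card_ge h3.le hle
      exact absurd this h3.ne
    have h5 : Nat.card Q ≤ Nat.card S := fs_card_le_of_le hQS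
    unfold mu at hmu
    have h6 : (Nat.card ↥(normalizerIn S Q) + 1) * (Nat.card S + 1) ≤
        Nat.card ↥(normalizerIn S (Wof W (normalizerIn S Q))) * (Nat.card S + 1) :=
      Nat.mul_le_mul_right _ h4
    have h7 : (Nat.card ↥(normalizerIn S Q) + 1) * (Nat.card S + 1)
        = Nat.card ↥(normalizerIn S Q) * (Nat.card S + 1) + (Nat.card S + 1) := by ring
    omega

/-- The automizer step. -/
theorem gen_main_aut [hp : Fact p.Prime] (hW : IsGF p PUnit.{1} W) (hL : LocalGen p W k c) {Ω : Type u}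
    [Group Ω] {S : Subgroup Ω} [Finite S] (hS : IsPGroup p S) (hcl : S.lowerCentralSeries c = ⊥)
    (ih : ∀ j < Nat.card S, GenStatement p W k c j)
    (F : FusionSystem S) (hF : F.IsSaturated p) (E : FusionSystem S) (hE : GenHyp p W k F E)
    (R : Subgroup Ω) (hRfn : F.IsFullyNormalized R)
    (hbig : ∀ Q : Subgroup Ω, Q ≤ S → Nat.card R < Nat.card Q → F.Hom Q ⊆ E.Hom Q) :
    F.autGroup R ≤ E.autGroup R := by
  intro α₀ hα₀'
  have hRS : R ≤ S := hRfn.1
  haveI : Finite R := fs_finite_of_le hRS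
  have hα₀ := (mem_autGroup_iff F hRS α₀).mp hα₀'
  rw [mem_autGroup_iff _ hRS]
  by_contra hne
  have hmapR : (R.subgroupOf R).map (R.subtype.comp α₀.toMonoidHom) = R := by
    ext y
    constructor
    · rintro ⟨x, -, rfl⟩
      exact (α₀ x).2
    · intro hy
      exact ⟨α₀.symm ⟨y, hy⟩, by simp [Subgroup.mem_subgroupOf], by simp⟩
  by_cases hRS' : R = S
  · subst hRS'
    apply hne
    apply hE.2 R
    have hX₀R : Wof W R ≤ R := Wof_le W R
    have hRN : R ≤ Subgroup.normalizer ((Wof W R : Subgroup Ω) : Set Ω) :=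
      (Subgroup.le_normalizer).trans (normalizer_le_normalizer_Wof hW hS)
    haveI : Finite ↥(Wof W R) := fs_finite_of_le hX₀R
    refine mem_normalizerHom_of_map_eq F hX₀R hα₀ (fun x hx => ⟨hx, hRN hx⟩) ?_
    apply map_eq_of_le_of_injective hX₀R _ (F.injective_of_mem hα₀) _ le_rfl
    rintro _ ⟨x, hx, rfl⟩
    have hx' : (x : Ω) ∈ Wof W R := hx
    exact (Wof_equiv hW hS (α₀ : R ≃* R) x).mpr hx'
  · have hlt : R < S := lt_of_le_of_ne hRS hRS'
    have h1 := fs_lt_normalizerIn p hS hlt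
    haveI : Finite ↥(normalizerIn S R) := fs_finite_of_le inf_le_left
    have hmR : Nat.card R < Nat.card ↥(normalizerIn S R) := by
      by_contra hle
      push Not at hle
      exact absurd (Subgroup.eq_of_le_of_card_ge h1.le hle) h1.ne
    have hRne : R ≠ ⊥ := by
      intro hbot
      apply hne
      have h2 : R.subtype.comp α₀.toMonoidHom = R.subtype := by
        ext x
        have hx : x = 1 := by
          apply Subtype.ext
          have h3 : (x : Ω) ∈ (⊥ : Subgroup Ω) := hbot.le x.2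
          exact Subgroup.mem_bot.mp h3
        rw [hx]
        simp
      rw [h2]
      exact fs_subtype_mem _ hRS
    have hRB : InB F E 0 R :=
      ⟨hRne, R, _, Nat.zero_le _, le_rfl, fun x hx => ⟨hRS hx, Subgroup.le_normalizer hx⟩, hα₀, hmapR, hne⟩
    obtain ⟨Q, hQB, hQfn, -, hmax⟩ := exists_max_fn' p hS F _ hF (Nat.card R) hbig hRB hmR
    exact false_of_max_gen hW hL hS hcl ih F hF E hE hQB hQfn hmax

/-- **Generation by `C_F(℧ᵏ(Z(S)))` and `N_F(W(S))`**: a fusion system over `S` containing the maps of both contains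
all maps of the saturated system `F`. -/
theorem Gen_main [hp : Fact p.Prime] (hW : IsGF p PUnit.{1} W) (hL : LocalGen p W k c) :
    ∀ n : ℕ, GenStatement p W k c n := by
  intro n
  induction n using Nat.strong_induction_on with
  | _ n ih =>
  intro Ω _ S _ hS hcl F hF hn E hE
  subst hn
  have key := fs_le_of_autGroup_le p hS F E hF
    (fun R hRfn hbig => gen_main_aut hW hL hS hcl ih F hF E hE R hRfn hbig)
  intro P φ hφ
  exact key _ P φ hφ rfl

end Cfsg.Agent.H9ZW
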