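import Mathlib
import Cfsg.Prelude.Def_FusionSystem
import Cfsg.Prelude.Def_PLocal
import Cfsg.Agent.Lib.Helper9.ZV8
import Cfsg.Agent.Lib.Lead.ZJFun
import Cfsg.Agent.Lib.Lead.QuadJ
import Cfsg.Agent.Lib.Lead.LocalGen
import Cfsg.Agent.Lib.Lead.LocalGenClass

set_option autoImplicit false

/-!
# Generation by `C_F(℧ᵏ(Z(S)))` and `N_F(W(S))` (part 9): the two instances `W = J` (`k = 1`) and `W = ` identity
(class at most `k (p - 1) + 1`)
-/

namespace Cfsg.Agent.H9ZW

open Cfsg Cfsg.FusionSystem Cfsg.Agent.Lib.Helper9 Cfsg.Agent.Lib.Lead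

universe u

variable {p : ℕ} [hp : Fact p.Prime]

/-- The functor `J` is a positive characteristic functor. -/
theorem isGF_WJ : IsGF p PUnit.{1} (QuadJ.WJ.{u}) :=
  isGF_punit
    (fun Q _ _ _ hne => by
      haveI := hne
      exact ZJFun.thompsonSubgroupA_ne_bot)
    QuadJ.hW2_WJ

/-- The group-local statement for `W = J`, with `p`-th powers, for every class bound. -/
theorem localGen_WJ (c : ℕ) : LocalGen p (QuadJ.WJ.{u}) 1 c := by
  intro G _ _ P hcent _ C hrestr hcomp ha hb
  apply LocalGen.local_gen_thompsonA G P hcent C hrestr hcomp _ hb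
  intro R g hR hgR hcen
  apply ha R g hR hgR
  intro x hx hxc
  rw [pow_one]
  exact hcen x hx hxc

/-- The identity functor. -/
def Wtop : ∀ (Q : Type u) [Group Q], Subgroup Q := fun Q _ => ⊤

theorem Wof_Wtop {Ω : Type u} [Group Ω] (S : Subgroup Ω) : Wof Wtop S = S := by
  unfold Wof Wtop
  rw [← MonoidHom.range_eq_map, Subgroup.range_subtype]

theorem isGF_Wtop : IsGF p PUnit.{1} (Wtop.{u}) :=
  isGF_punit
    (fun Q _ _ _ hne => by
      haveI := hne
      exact top_ne_bot)
    (fun Q R _ _ _ _ φ => by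
      unfold Wtop
      exact Subgroup.map_top_of_surjective _ φ.surjective)

/-- The group-local statement for the identity functor, with `p ^ k`-th powers and class at most `k (p - 1) + 1`. -/
theorem localGen_Wtop (k : ℕ) : LocalGen p (Wtop.{u}) k (k * (p - 1) + 1) := by
  intro G _ _ P hcent hcl C _ hcomp ha hb
  apply LocalGen.local_gen_class (k * (p - 1) + 1) k le_rfl G P hcent hcl C hcomp ha
  intro R g hR hgR hg
  apply hb R g hR hgR
  have e : ((Wtop ↥(P : Subgroup G)).map (P : Subgroup G).subtype : Subgroup G) = (P : Subgroup G) := by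
    unfold Wtop
    rw [← MonoidHom.range_eq_map, Subgroup.range_subtype]
  rw [e]
  exact hg

end Cfsg.Agent.H9ZW
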