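import Mathlib
import Cfsg.Prelude.Def_FusionSystem
import Cfsg.Prelude.Def_PLocal
import Cfsg.Agent.Lib.Helper9.ZV9
import Cfsg.Agent.Lib.Helper9.KL7
import Cfsg.Agent.Lib.Helper9.KL19
import Cfsg.Agent.Lib.Helper9.ZW14
import Cfsg.Agent.S5096

set_option autoImplicit false

/-!
# `℧ⁿ(Z(S))` is normal in a saturated fusion system over a `p`-group `S` of class at most `n (p - 1) + 1`
-/

namespace Cfsg.Agent.H9ZW

open Cfsg Cfsg.FusionSystem Cfsg.Agent.Lib.Helper9 Cfsg.Agent.H9KL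

universe u

/-- A map whose source contains `S` and which carries `S` onto `S` carries `℧ᵏ(Z(S))` into itself. -/
theorem agemoZ_map_mem {Ω : Type*} [Group Ω] {S : Subgroup Ω} (p k : ℕ) {M : Subgroup Ω} (ψ : M →* Ω)
    (hSM : S ≤ M) (hψS : (S.subgroupOf M).map ψ = S) (x : M) (hx : (x : Ω) ∈ agemoZ p k S) :
    ψ x ∈ agemoZ p k S := by
  have hK : agemoZ p k S ≤ ((agemoZ p k S).comap ψ).map M.subtype := by
    rw [agemoZ_le_iff]
    intro z hz hzc
    refine ⟨⟨z ^ (p ^ k), M.pow_mem (hSM hz) _⟩, ?_, rfl⟩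
    show ψ ⟨z ^ (p ^ k), _⟩ ∈ agemoZ p k S
    have e : (⟨z ^ (p ^ k), M.pow_mem (hSM hz) _⟩ : M) = (⟨z, hSM hz⟩ : M) ^ (p ^ k) := rfl
    rw [e, map_pow]
    have h1 : ψ ⟨z, hSM hz⟩ ∈ S := by
      rw [← hψS]
      exact ⟨⟨z, hSM hz⟩, hz, rfl⟩
    apply pow_mem_agemoZ p k h1
    intro y hy
    rw [← hψS] at hy
    obtain ⟨y', hy', rfl⟩ := hy
    have hy'S : (y' : Ω) ∈ S := hy'
    rw [← map_mul, ← map_mul]
    congr 1
    exact Subtype.ext (hzc _ hy'S)
  obtain ⟨y, hy, hyx⟩ := hK hx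
  have e : y = x := Subtype.ext hyx
  rw [← e]
  exact hy

variable {p : ℕ}

theorem agemoZ_isNormal [hp : Fact p.Prime] {Ω : Type u} [Group Ω] {S : Subgroup Ω} [Finite S]
    (hS : IsPGroup p S) (F : FusionSystem S) (hF : F.IsSaturated p) (n : ℕ)
    (hcl : S.lowerCentralSeries (n * (p - 1) + 1) = ⊥) : F.IsNormal (agemoZ p n S) := by
  have hUS : agemoZ p n S ≤ S := agemoZ_le p n S
  haveI : Finite ↥(agemoZ p n S) := fs_finite_of_le hUS
  have hSU : S ≤ Subgroup.normalizer ((agemoZ p n S : Subgroup Ω) : Set Ω) := by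
    apply le_normalizer_of_forall_conj_mem
    intro s hs u hu
    have h1 := agemoZ_commute p n hu hs
    have e : s * u * s⁻¹ = u := by rw [h1]; group
    rw [e]
    exact hu
  have hNU : normalizerIn S (agemoZ p n S) = S := le_antisymm inf_le_left (le_inf le_rfl hSU)
  obtain ⟨N, hN⟩ := Cfsg.Agent.S5096.result F _ hUS
  obtain ⟨N', hN', -⟩ := exists_cast' hNU N (fun _ _ => True) trivial
  have hN'hom : ∀ P : Subgroup Ω, N'.Hom P = F.normalizerHom (agemoZ p n S) P :=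
    fun P => (hN' P).trans (hN P)
  have hGen : GenHyp p Wtop n F N' := by
    constructor
    · intro P φ hφ
      rw [hN'hom]
      obtain ⟨hφF, hP, hval, ψ, hψ, hψP, hψU⟩ := hφ
      have hCN : centralizerIn S (agemoZ p n S) ≤ normalizerIn S (agemoZ p n S) := by
        rw [hNU]
        exact inf_le_left
      refine ⟨hφF, hP.trans hCN, fun x => hCN (hval x), ψ, hψ, hψP, ?_⟩
      ext y
      constructor
      · rintro ⟨x, hx, rfl⟩
        have hx' : (x : Ω) ∈ agemoZ p n S := hx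
        have e : x = Subgroup.inclusion le_sup_right ⟨(x : Ω), hx'⟩ := rfl
        rw [e, hψU]
        exact hx'
      · intro hy
        exact ⟨Subgroup.inclusion le_sup_right ⟨y, hy⟩, hy, hψU ⟨y, hy⟩⟩
    · intro P φ hφ
      rw [hN'hom]
      rw [Wof_Wtop] at hφ
      obtain ⟨hφF, hP, hval, ψ, hψ, hψP, hψS⟩ := hφ
      have hPS : P ≤ S := (F.le_of_mem hφF).1
      have hle : P ⊔ agemoZ p n S ≤ P ⊔ S := sup_le_sup_left hUS P
      have hψ' := fs_restrict_mem F hψ hle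
      refine ⟨hφF, by rw [hNU]; exact hPS, fun x => by rw [hNU]; exact (F.le_of_mem hφF).2 x,
        ψ.comp (Subgroup.inclusion hle), hψ', fun x => hψP x, ?_⟩
      apply map_eq_of_le_of_injective le_sup_right _ (F.injective_of_mem hψ') _ le_rfl
      rintro _ ⟨x, hx, rfl⟩
      have hx' : ((Subgroup.inclusion hle x : ↥(P ⊔ S)) : Ω) ∈ agemoZ p n S := hx
      exact agemoZ_map_mem p n ψ le_sup_right hψS _ hx'
  have hsub := Gen_main isGF_Wtop (localGen_Wtop n) (Nat.card S) hS hcl F hF rfl N' hGen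
  refine ⟨hUS, fun P φ hφ => ?_⟩
  have h1 := hsub P hφ
  rw [hN'hom] at h1
  obtain ⟨-, -, -, ψ, hψ, hψP, hψU⟩ := h1
  exact ⟨ψ, hψ, hψP, hψU⟩

end Cfsg.Agent.H9ZW
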